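import Mathlib

/-!
# Subcoalgebras over a field: hit actions and stability

Helper library of helper74.  For a coalgebra `C` over a field `K` and a functional `f : C → K`
we define the operators `Lf f = (f ⊗ id) ∘ Δ` and `Rf f = (id ⊗ f) ∘ Δ` and prove that a subspace
`D` is a subcoalgebra (`Δ D ⊆ im (D ⊗ D)`) iff it is stable under all `Lf f` and `Rf f`.
-/

namespace Groth.Agent.H74.Coalg

open TensorProduct Coalgebra

universe u v

section Field

variable {K : Type u} {C : Type v} [Field K] [AddCommGroup C] [Module K C] [Coalgebra K C]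

/-- left hit action `(f ⊗ id) ∘ Δ`. -/
noncomputable def Lf (f : C →ₗ[K] K) : C →ₗ[K] C :=
  (TensorProduct.lid K C).toLinearMap ∘ₗ LinearMap.rTensor C f ∘ₗ comul

/-- right hit action `(id ⊗ f) ∘ Δ`. -/
noncomputable def Rf (f : C →ₗ[K] K) : C →ₗ[K] C :=
  (TensorProduct.rid K C).toLinearMap ∘ₗ LinearMap.lTensor C f ∘ₗ comul

lemma Lf_apply (f : C →ₗ[K] K) (c : C) :
    Lf f c = TensorProduct.lid K C (LinearMap.rTensor C f (comul c)) := rfl

lemma Rf_apply (f : C →ₗ[K] K) (c : C) :
    Rf f c = TensorProduct.rid K C (LinearMap.lTensor C f (comul c)) := rfl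

/-- `D` is a subcoalgebra in the sense used by the frozen statements. -/
def IsSubcoalg (D : Submodule K C) : Prop :=
  ∀ b ∈ D, comul (R := K) b ∈ LinearMap.range (TensorProduct.map D.subtype D.subtype)

/-- `D` is stable under all left and right hit operators. -/
def IsStable (D : Submodule K C) : Prop :=
  ∀ f : C →ₗ[K] K, (∀ b ∈ D, Lf f b ∈ D) ∧ (∀ b ∈ D, Rf f b ∈ D)

omit [Coalgebra K C] in
lemma sep_right (s : C ⊗[K] C)
    (h : ∀ g : C →ₗ[K] K, TensorProduct.rid K C (LinearMap.lTensor C g s) = 0) : s = 0 := by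
  classical
  let b := Module.Free.chooseBasis K C
  apply (TensorProduct.equivFinsuppOfBasisRight (M := C) b).injective
  ext i
  rw [TensorProduct.equivFinsuppOfBasisRight_apply, h]
  simp

omit [Coalgebra K C] in
lemma sep_left (s : C ⊗[K] C)
    (h : ∀ g : C →ₗ[K] K, TensorProduct.lid K C (LinearMap.rTensor C g s) = 0) : s = 0 := by
  classical
  let b := Module.Free.chooseBasis K C
  apply (TensorProduct.equivFinsuppOfBasisLeft (N := C) b).injective
  ext i
  rw [TensorProduct.equivFinsuppOfBasisLeft_apply, h]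
  simp

lemma IsSubcoalg.isStable {D : Submodule K C} (hD : IsSubcoalg D) : IsStable D := by
  intro f
  constructor
  · intro b hb
    obtain ⟨t, ht⟩ := hD b hb
    rw [Lf_apply, ← ht]
    have : (TensorProduct.lid K C).toLinearMap ∘ₗ LinearMap.rTensor C f ∘ₗ
        TensorProduct.map D.subtype D.subtype =
        D.subtype ∘ₗ (TensorProduct.lid K D).toLinearMap ∘ₗ
          LinearMap.rTensor D (f ∘ₗ D.subtype) := by
      ext x y
      simp
    have h2 := LinearMap.congr_fun this t
    simp only [LinearMap.comp_apply, LinearEquiv.coe_coe] at h2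
    rw [h2]
    exact Submodule.coe_mem _
  · intro b hb
    obtain ⟨t, ht⟩ := hD b hb
    rw [Rf_apply, ← ht]
    have : (TensorProduct.rid K C).toLinearMap ∘ₗ LinearMap.lTensor C f ∘ₗ
        TensorProduct.map D.subtype D.subtype =
        D.subtype ∘ₗ (TensorProduct.rid K D).toLinearMap ∘ₗ
          LinearMap.lTensor D (f ∘ₗ D.subtype) := by
      ext x y
      simp
    have h2 := LinearMap.congr_fun this t
    simp only [LinearMap.comp_apply, LinearEquiv.coe_coe] at h2
    rw [h2]
    exact Submodule.coe_mem _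

lemma IsStable.isSubcoalg {D : Submodule K C} (hD : IsStable D) : IsSubcoalg D := by
  intro b hb
  obtain ⟨p, hp⟩ := LinearMap.exists_leftInverse_of_injective D.subtype (by simp)
  -- p : C →ₗ D with p ∘ ι = id
  set π : C →ₗ[K] C := D.subtype ∘ₗ p with hπ
  have hπD : ∀ d ∈ D, π d = d := by
    intro d hd
    have := LinearMap.congr_fun hp ⟨d, hd⟩
    simp only [LinearMap.comp_apply, Submodule.subtype_apply, LinearMap.id_apply] at this
    simp [hπ, this]
  obtain ⟨t, ht⟩ : ∃ t, t = comul (R := K) b := ⟨_, rfl⟩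
  have hL : ∀ g, TensorProduct.lid K C (LinearMap.rTensor C g t) ∈ D := fun g => by
    rw [ht]; exact (hD g).1 b hb
  have hR : ∀ g, TensorProduct.rid K C (LinearMap.lTensor C g t) ∈ D := fun g => by
    rw [ht]; exact (hD g).2 b hb
  have h1 : TensorProduct.map π LinearMap.id t = t := by
    rw [← sub_eq_zero]
    apply sep_right
    intro g
    have e1 : (TensorProduct.rid K C).toLinearMap ∘ₗ LinearMap.lTensor C g ∘ₗ
        TensorProduct.map π LinearMap.id = π ∘ₗ (TensorProduct.rid K C).toLinearMap ∘ₗ
          LinearMap.lTensor C g := by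
      ext x y
      simp
    have e2 := LinearMap.congr_fun e1 t
    simp only [LinearMap.comp_apply, LinearEquiv.coe_coe] at e2
    rw [map_sub, map_sub, e2, sub_eq_zero]
    exact hπD _ (hR g)
  have h2 : TensorProduct.map LinearMap.id π t = t := by
    rw [← sub_eq_zero]
    apply sep_left
    intro g
    have e1 : (TensorProduct.lid K C).toLinearMap ∘ₗ LinearMap.rTensor C g ∘ₗ
        TensorProduct.map LinearMap.id π = π ∘ₗ (TensorProduct.lid K C).toLinearMap ∘ₗ
          LinearMap.rTensor C g := by
      ext x y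
      simp
    have e2 := LinearMap.congr_fun e1 t
    simp only [LinearMap.comp_apply, LinearEquiv.coe_coe] at e2
    rw [map_sub, map_sub, e2, sub_eq_zero]
    exact hπD _ (hL g)
  refine ⟨TensorProduct.map p p t, ?_⟩
  have e3 : TensorProduct.map D.subtype D.subtype (TensorProduct.map p p t) =
      TensorProduct.map π π t := by
    rw [← LinearMap.comp_apply, ← TensorProduct.map_comp]
  have e4 : TensorProduct.map π π t = TensorProduct.map π LinearMap.id
      (TensorProduct.map LinearMap.id π t) := by
    rw [← LinearMap.comp_apply, ← TensorProduct.map_comp]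
    simp
  rw [e3, e4, h2, h1, ht]

lemma isSubcoalg_iff_isStable {D : Submodule K C} : IsSubcoalg D ↔ IsStable D :=
  ⟨IsSubcoalg.isStable, IsStable.isSubcoalg⟩

lemma IsStable.inf {D E : Submodule K C} (hD : IsStable D) (hE : IsStable E) :
    IsStable (D ⊓ E) := fun f =>
  ⟨fun b hb => ⟨(hD f).1 b hb.1, (hE f).1 b hb.2⟩, fun b hb => ⟨(hD f).2 b hb.1, (hE f).2 b hb.2⟩⟩

lemma isStable_bot : IsStable (⊥ : Submodule K C) := fun f =>
  ⟨fun b hb => by rw [Submodule.mem_bot] at hb; simp [hb],
   fun b hb => by rw [Submodule.mem_bot] at hb; simp [hb]⟩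

lemma isStable_top : IsStable (⊤ : Submodule K C) := fun _ =>
  ⟨fun _ _ => Submodule.mem_top, fun _ _ => Submodule.mem_top⟩

/-- On a nonzero subcoalgebra the counit does not vanish identically. -/
lemma IsSubcoalg.eq_zero_of_counit_eq_zero {D : Submodule K C} (hD : IsSubcoalg D)
    (h : ∀ d ∈ D, counit (R := K) d = 0) {b : C} (hb : b ∈ D) : b = 0 := by
  obtain ⟨t, ht⟩ := hD b hb
  have h1 : (TensorProduct.lid K C) (LinearMap.rTensor C counit (comul (R := K) b)) = b := by
    rw [Coalgebra.rTensor_counit_comul]; simp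
  rw [← h1, ← ht]
  have : (TensorProduct.lid K C).toLinearMap ∘ₗ LinearMap.rTensor C (counit (R := K)) ∘ₗ
      TensorProduct.map D.subtype D.subtype = 0 := by
    ext x y
    simp [h x.1 x.2]
  have h2 := LinearMap.congr_fun this t
  simpa using h2

end Field

end Groth.Agent.H74.Coalg
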