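import Mathlib
import Groth.Prelude.Def_HopfRep
import Groth.Prelude.Def_Hoch
import Groth.Agent.H74.Coalg

/-!
# Comodules over a coalgebra over a field as modules over the dual algebra

Helper library of helper74.  For a coalgebra `C` over a field `K`, a right `C`-comodule `V` becomes a
left module over the convolution algebra `Dual K C = WithConv (C →ₗ[K] K)` through
`f • v = (id ⊗ f)(ρ v)`.  Subcomodules are the submodules, comodule maps are the linear maps.
-/

namespace Groth.Agent.H74.Comod

open TensorProduct Coalgebra HopfRep WithConv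

universe u v w w'

section Basic

variable {K : Type u} [Field K] {C : Type v} [AddCommGroup C] [Module K C] [Coalgebra K C]
variable {V : Type w} [AddCommGroup V] [Module K V] [Comod K C V]
variable {W : Type w'} [AddCommGroup W] [Module K W] [Comod K C W]

/-- The dual (convolution) algebra of a coalgebra. -/
abbrev Dual (K : Type u) [Field K] (C : Type v) [AddCommGroup C] [Module K C] [Coalgebra K C] :=
  WithConv (C →ₗ[K] K)

/-- the action of a functional on a comodule: `v ↦ (id ⊗ f)(ρ v)` -/
noncomputable def act (f : C →ₗ[K] K) : V →ₗ[K] V :=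
  (TensorProduct.rid K V).toLinearMap ∘ₗ LinearMap.lTensor V f ∘ₗ Comod.coact (k := K) (A := C)

lemma act_apply (f : C →ₗ[K] K) (v : V) :
    act f v = TensorProduct.rid K V (LinearMap.lTensor V f (Comod.coact (k := K) (A := C) v)) := rfl

lemma act_add (f g : C →ₗ[K] K) : act (V := V) (f + g) = act f + act g := by
  ext v; simp [act_apply, LinearMap.lTensor_add]

lemma act_smul (a : K) (f : C →ₗ[K] K) : act (V := V) (a • f) = a • act f := by
  ext v; simp [act_apply, LinearMap.lTensor_smul]

lemma act_counit : act (V := V) (counit (R := K) (A := C)) = LinearMap.id := by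
  ext v
  have h := LinearMap.congr_fun (Comod.counit_comp (k := K) (A := C) (V := V)) v
  simp only [LinearMap.comp_apply, LinearMap.flip_apply, TensorProduct.mk_apply] at h
  rw [act_apply, h]
  simp

lemma act_mul_aux (f g : C →ₗ[K] K) (t : V ⊗[K] C) (c : C) :
    TensorProduct.rid K V (LinearMap.lTensor V (LinearMap.mul' K K ∘ₗ TensorProduct.map f g)
      (TensorProduct.assoc K V C C (t ⊗ₜ[K] c))) =
      g c • TensorProduct.rid K V (LinearMap.lTensor V f t) := by
  induction t with
  | zero => simp
  | tmul x a => simp [mul_smul, smul_comm (f a) (g c) x]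
  | add x y hx hy => simp only [TensorProduct.add_tmul, map_add, hx, hy, smul_add]

lemma act_mul (f g : Dual K C) :
    act (V := V) (f * g).ofConv = act f.ofConv ∘ₗ act g.ofConv := by
  ext v
  rw [LinearMap.convMul_def, ofConv_toConv, act_apply, LinearMap.comp_apply, act_apply (V := V) g.ofConv]
  have hco := LinearMap.congr_fun (Comod.coassoc (k := K) (A := C) (V := V)) v
  simp only [LinearMap.comp_apply, LinearEquiv.coe_coe] at hco
  rw [← LinearMap.comp_assoc, LinearMap.lTensor_comp, LinearMap.comp_apply, ← hco]
  -- now generalize `ρ v`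
  have key : ∀ s : V ⊗[K] C,
      TensorProduct.rid K V (LinearMap.lTensor V (LinearMap.mul' K K ∘ₗ TensorProduct.map f.ofConv g.ofConv)
        (TensorProduct.assoc K V C C (LinearMap.rTensor C (Comod.coact (k := K) (A := C)) s))) =
      act f.ofConv (TensorProduct.rid K V (LinearMap.lTensor V g.ofConv s)) := by
    intro s
    induction s with
    | zero => simp
    | tmul x a =>
      simp only [LinearMap.rTensor_tmul, LinearMap.lTensor_tmul, TensorProduct.rid_tmul, map_smul]
      rw [act_mul_aux, act_apply]
    | add x y hx hy => simp only [map_add, hx, hy]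
  exact key _

variable (K C V) in
/-- the action as an algebra homomorphism `Dual K C →ₐ[K] End_K V` -/
noncomputable def toEnd : Dual K C →ₐ[K] Module.End K V :=
  AlgHom.ofLinearMap
    { toFun := fun f => act f.ofConv
      map_add' := fun f g => act_add _ _
      map_smul' := fun a f => act_smul _ _ }
    act_counit
    (fun f g => act_mul f g)

variable (K C V) in
/-- the module structure on a comodule over the dual algebra (not an instance) -/
@[reducible] noncomputable def module : Module (Dual K C) V :=
  Module.compHom V (toEnd K C V : Dual K C →+* Module.End K V)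

omit [Coalgebra K C] [Comod K C V] in
/-- functionals on the right factor separate the elements of `V ⊗ C` -/
lemma sep (t : V ⊗[K] C)
    (h : ∀ f : C →ₗ[K] K, TensorProduct.rid K V (LinearMap.lTensor V f t) = 0) : t = 0 := by
  classical
  let b := Module.Free.chooseBasis K C
  apply (TensorProduct.equivFinsuppOfBasisRight (M := V) b).injective
  ext i
  rw [TensorProduct.equivFinsuppOfBasisRight_apply, h]
  simp

/-- A subspace is a subcomodule iff it is stable under the action of all functionals. -/
lemma isSubcomod_iff (U : Submodule K V) :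
    IsSubcomod (k := K) (A := C) U ↔ ∀ f : C →ₗ[K] K, ∀ u ∈ U, act f u ∈ U := by
  constructor
  · intro hU f u hu
    obtain ⟨t, ht⟩ := hU u hu
    rw [act_apply, ← ht]
    have : (TensorProduct.rid K V).toLinearMap ∘ₗ LinearMap.lTensor V f ∘ₗ
        LinearMap.rTensor C U.subtype =
        U.subtype ∘ₗ (TensorProduct.rid K U).toLinearMap ∘ₗ LinearMap.lTensor U f := by
      ext x y
      simp
    have h2 := LinearMap.congr_fun this t
    simp only [LinearMap.comp_apply, LinearEquiv.coe_coe] at h2
    rw [h2]
    exact Submodule.coe_mem _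
  · intro hU u hu
    obtain ⟨p, hp⟩ := LinearMap.exists_leftInverse_of_injective U.subtype (by simp)
    have hπU : ∀ d ∈ U, (U.subtype ∘ₗ p) d = d := by
      intro d hd
      have := LinearMap.congr_fun hp ⟨d, hd⟩
      simp only [LinearMap.comp_apply, Submodule.subtype_apply, LinearMap.id_apply] at this
      simp [this]
    refine ⟨LinearMap.rTensor C p (Comod.coact (k := K) (A := C) u), ?_⟩
    rw [← LinearMap.comp_apply, ← LinearMap.rTensor_comp, ← sub_eq_zero]
    apply sep
    intro g
    have e1 : (TensorProduct.rid K V).toLinearMap ∘ₗ LinearMap.lTensor V g ∘ₗ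
        LinearMap.rTensor C (U.subtype ∘ₗ p) = (U.subtype ∘ₗ p) ∘ₗ
          (TensorProduct.rid K V).toLinearMap ∘ₗ LinearMap.lTensor V g := by
      ext x y
      simp
    have e2 := LinearMap.congr_fun e1 (Comod.coact (k := K) (A := C) u)
    simp only [LinearMap.comp_apply, LinearEquiv.coe_coe] at e2
    rw [map_sub, map_sub, e2, sub_eq_zero]
    exact hπU _ (hU g u hu)

/-- A linear map is a comodule map iff it commutes with the action of all functionals. -/
lemma isComodHom_iff (φ : V →ₗ[K] W) :
    Hoch.IsComodHom C φ ↔ ∀ (f : C →ₗ[K] K) (v : V), φ (act f v) = act f (φ v) := by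
  have e1 : ∀ f : C →ₗ[K] K, (TensorProduct.rid K W).toLinearMap ∘ₗ LinearMap.lTensor W f ∘ₗ
      LinearMap.rTensor C φ = φ ∘ₗ (TensorProduct.rid K V).toLinearMap ∘ₗ LinearMap.lTensor V f := by
    intro f
    ext x y
    simp
  constructor
  · intro h f v
    have h1 := LinearMap.congr_fun h v
    simp only [LinearMap.comp_apply] at h1
    rw [act_apply, act_apply, h1]
    have e2 := LinearMap.congr_fun (e1 f) (Comod.coact (k := K) (A := C) v)
    simp only [LinearMap.comp_apply, LinearEquiv.coe_coe] at e2
    rw [e2]
  · intro h
    ext v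
    simp only [LinearMap.comp_apply]
    rw [← sub_eq_zero]
    apply sep
    intro f
    have e2 := LinearMap.congr_fun (e1 f) (Comod.coact (k := K) (A := C) v)
    simp only [LinearMap.comp_apply, LinearEquiv.coe_coe] at e2
    rw [map_sub, map_sub, e2, sub_eq_zero]
    have := h f v
    rw [act_apply, act_apply] at this
    exact this.symm

end Basic

section Dict

variable {K : Type u} [Field K] {C : Type v} [AddCommGroup C] [Module K C] [Coalgebra K C]
variable {V : Type w} [AddCommGroup V] [Module K V] [Comod K C V]
variable {W : Type w'} [AddCommGroup W] [Module K W] [Comod K C W]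

attribute [local instance] module

lemma smul_def (f : Dual K C) (v : V) : f • v = act f.ofConv v := rfl

instance isScalarTower : IsScalarTower K (Dual K C) V where
  smul_assoc a f v := by
    rw [smul_def, smul_def]
    change act (a • f.ofConv) v = _
    rw [act_smul]; rfl

/-- a subcomodule as a submodule over the dual algebra -/
def ofSubcomod (U : Submodule K V) (hU : IsSubcomod (k := K) (A := C) U) :
    Submodule (Dual K C) V where
  carrier := U
  add_mem' := U.add_mem
  zero_mem' := U.zero_mem
  smul_mem' := fun f u hu => (isSubcomod_iff U).1 hU f.ofConv u hu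

@[simp] lemma ofSubcomod_restrictScalars (U : Submodule K V)
    (hU : IsSubcomod (k := K) (A := C) U) : (ofSubcomod U hU).restrictScalars K = U := by
  ext x; rfl

lemma mem_ofSubcomod {U : Submodule K V} {hU : IsSubcomod (k := K) (A := C) U} {x : V} :
    x ∈ ofSubcomod U hU ↔ x ∈ U := Iff.rfl

lemma isSubcomod_restrictScalars (N : Submodule (Dual K C) V) :
    IsSubcomod (k := K) (A := C) (N.restrictScalars K) := by
  rw [isSubcomod_iff]
  intro f u hu
  exact N.smul_mem (toConv f) hu

/-- a comodule map as a linear map over the dual algebra -/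
def ofComodHom (φ : V →ₗ[K] W) (hφ : Hoch.IsComodHom C φ) : V →ₗ[Dual K C] W where
  toFun := φ
  map_add' := φ.map_add
  map_smul' := fun f v => (isComodHom_iff φ).1 hφ f.ofConv v

@[simp] lemma ofComodHom_apply (φ : V →ₗ[K] W) (hφ : Hoch.IsComodHom C φ) (v : V) :
    ofComodHom φ hφ v = φ v := rfl

lemma isComodHom_restrictScalars (ψ : V →ₗ[Dual K C] W) :
    Hoch.IsComodHom C (ψ.restrictScalars K) := by
  rw [isComodHom_iff]
  intro f v
  exact ψ.map_smul (toConv f) v

lemma isSimpleComod_iff : IsSimpleComod K C V ↔ IsSimpleModule (Dual K C) V := by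
  rw [isSimpleModule_iff, isSimpleOrder_iff]
  constructor
  · rintro ⟨hnt, h⟩
    refine ⟨?_, ?_⟩
    · exact (Submodule.nontrivial_iff (Dual K C)).2 hnt
    · intro N
      rcases h (N.restrictScalars K) (isSubcomod_restrictScalars N) with h1 | h1
      · left
        rw [Submodule.restrictScalars_eq_bot_iff] at h1
        exact h1
      · right
        rw [Submodule.restrictScalars_eq_top_iff] at h1
        exact h1
  · rintro ⟨hnt, h⟩
    refine ⟨(Submodule.nontrivial_iff (Dual K C)).1 hnt, ?_⟩
    intro U hU
    rcases h (ofSubcomod U hU) with h1 | h1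
    · left
      rw [← ofSubcomod_restrictScalars U hU, h1]; simp
    · right
      rw [← ofSubcomod_restrictScalars U hU, h1]; simp

end Dict

end Groth.Agent.H74.Comod
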