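import Mathlib
import Groth.Agent.H74.Comod

/-!
# The comodule structure on a subcomodule (over a field)
-/

namespace Groth.Agent.H74.Comod

open TensorProduct Coalgebra HopfRep WithConv

universe u v w w'

section Sub

variable {K : Type u} [Field K] {C : Type v} [AddCommGroup C] [Module K C] [Coalgebra K C]
variable {V : Type w} [AddCommGroup V] [Module K V] [Comod K C V]

omit [Coalgebra K C] [Comod K C V] in
lemma rTensor_subtype_injective (U : Submodule K V) (M : Type*) [AddCommGroup M] [Module K M] :
    Function.Injective (LinearMap.rTensor M U.subtype) :=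
  Module.Flat.rTensor_preserves_injective_linearMap _ U.injective_subtype

/-- the restricted coaction on a subcomodule -/
noncomputable def subCoact (U : Submodule K V) (hU : IsSubcomod (k := K) (A := C) U) :
    U →ₗ[K] U ⊗[K] C :=
  (LinearEquiv.ofInjective (LinearMap.rTensor C U.subtype)
    (rTensor_subtype_injective U C)).symm.toLinearMap ∘ₗ
    LinearMap.codRestrict (LinearMap.range (LinearMap.rTensor C U.subtype))
      (Comod.coact (k := K) (A := C) ∘ₗ U.subtype) (fun u => hU u u.2)

lemma rTensor_subCoact (U : Submodule K V) (hU : IsSubcomod (k := K) (A := C) U) (u : U) :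
    LinearMap.rTensor C U.subtype (subCoact U hU u) = Comod.coact (k := K) (A := C) (u : V) := by
  unfold subCoact
  simp only [LinearMap.comp_apply, LinearEquiv.coe_coe]
  have := LinearEquiv.apply_symm_apply (LinearEquiv.ofInjective (LinearMap.rTensor C U.subtype)
    (rTensor_subtype_injective U C)) (LinearMap.codRestrict
      (LinearMap.range (LinearMap.rTensor C U.subtype))
      (Comod.coact (k := K) (A := C) ∘ₗ U.subtype) (fun u => hU u u.2) u)
  have h2 := congrArg Subtype.val this
  simpa using h2

lemma rTensor_comp_subCoact (U : Submodule K V) (hU : IsSubcomod (k := K) (A := C) U) :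
    LinearMap.rTensor C U.subtype ∘ₗ subCoact U hU =
      Comod.coact (k := K) (A := C) ∘ₗ U.subtype := by
  ext u
  exact rTensor_subCoact U hU u

/-- the comodule structure on a subcomodule (not an instance) -/
@[reducible] noncomputable def subComod (U : Submodule K V)
    (hU : IsSubcomod (k := K) (A := C) U) : Comod K C U where
  coact := subCoact U hU
  coassoc := by
    apply LinearMap.ext
    intro u
    apply rTensor_subtype_injective U (C ⊗[K] C)
    have n1 : LinearMap.rTensor (C ⊗[K] C) U.subtype ∘ₗ (TensorProduct.assoc K U C C).toLinearMap =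
        (TensorProduct.assoc K V C C).toLinearMap ∘ₗ
          LinearMap.rTensor C (LinearMap.rTensor C U.subtype) := by
      ext x y z
      simp
    have n2 : LinearMap.rTensor (C ⊗[K] C) U.subtype ∘ₗ
        LinearMap.lTensor U (comul (R := K) (A := C)) =
        LinearMap.lTensor V (comul (R := K) (A := C)) ∘ₗ LinearMap.rTensor C U.subtype := by
      ext x y
      simp
    have hco := LinearMap.congr_fun (Comod.coassoc (k := K) (A := C) (V := V)) (u : V)
    simp only [LinearMap.comp_apply, LinearEquiv.coe_coe] at hco
    have l1 := LinearMap.congr_fun n1 (LinearMap.rTensor C (subCoact U hU) (subCoact U hU u))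
    have l2 := LinearMap.congr_fun n2 (subCoact U hU u)
    simp only [LinearMap.comp_apply, LinearEquiv.coe_coe] at l1 l2 ⊢
    rw [l1, l2, rTensor_subCoact, ← hco, ← LinearMap.comp_apply (LinearMap.rTensor C _),
      ← LinearMap.rTensor_comp, rTensor_comp_subCoact, LinearMap.rTensor_comp,
      LinearMap.comp_apply, rTensor_subCoact]
  counit_comp := by
    apply LinearMap.ext
    intro u
    apply rTensor_subtype_injective U K
    have n2 : LinearMap.rTensor K U.subtype ∘ₗ
        LinearMap.lTensor U (counit (R := K) (A := C)) =
        LinearMap.lTensor V (counit (R := K) (A := C)) ∘ₗ LinearMap.rTensor C U.subtype := by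
      ext x y
      simp
    have hco := LinearMap.congr_fun (Comod.counit_comp (k := K) (A := C) (V := V)) (u : V)
    simp only [LinearMap.comp_apply, LinearMap.flip_apply, TensorProduct.mk_apply] at hco
    have l2 := LinearMap.congr_fun n2 (subCoact U hU u)
    simp only [LinearMap.comp_apply] at l2 ⊢
    rw [l2, rTensor_subCoact, hco]
    simp

/-- the inclusion of a subcomodule is a comodule map -/
lemma isComodHom_subtype (U : Submodule K V) (hU : IsSubcomod (k := K) (A := C) U) :
    letI := subComod U hU
    Hoch.IsComodHom C U.subtype := by
  letI := subComod U hU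
  exact (rTensor_comp_subCoact U hU).symm

end Sub

end Groth.Agent.H74.Comod
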