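import Mathlib
import Groth.Agent.H74.Coalg
open TensorProduct Coalgebra Bialgebra HopfAlgebra WithConv

namespace Groth.Agent.H74.HopfTrace

universe u v

section TraceTmul

variable {K : Type u} {A : Type v} [Field K] [CommRing A] [Algebra K A] [Module.Finite K A]

lemma trace_tmul (x y : A) :
    Algebra.trace A (A ⊗[K] A) (x ⊗ₜ[K] y) = Algebra.trace K A y • x := by
  rw [Algebra.trace_apply]
  have : Algebra.lmul A (A ⊗[K] A) (x ⊗ₜ[K] y) = x • (Algebra.lmul K A y).baseChange A := by
    ext b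
    simp [Algebra.TensorProduct.tmul_mul_tmul, TensorProduct.smul_tmul']
  rw [this, map_smul, LinearMap.trace_baseChange, Algebra.trace_apply]
  simp [Algebra.smul_def, mul_comm]

lemma group_aux {G : Type*} [Group G] (a b : G) : (a * b)⁻¹ * a = b⁻¹ := by
  rw [mul_inv_rev, inv_mul_cancel_right]

end TraceTmul

variable {K : Type u} {A : Type v} [Field K] [CommRing A] [HopfAlgebra K A]

local notation "T" => A ⊗[K] A
local notation "i₁" => (Algebra.TensorProduct.includeLeft : A →ₐ[K] A ⊗[K] A)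
local notation "i₂" => (Algebra.TensorProduct.includeRight : A →ₐ[K] A ⊗[K] A)
local notation "S" => antipodeAlgHom K A
local notation "Δ" => comulAlgHom K A

lemma comul_eq : toConv i₁ * toConv i₂ = toConv Δ := by
  apply WithConv.ofConv_injective
  ext c
  simp [AlgHom.convMul_apply]

lemma inv_def (f : WithConv (A →ₐ[K] T)) : f⁻¹ = toConv (f.ofConv.comp S) := rfl

lemma antipode_antipode : (S).comp S = AlgHom.id K A := by
  have h1 : (toConv (AlgHom.id K A))⁻¹ = toConv S := by
    change toConv ((AlgHom.id K A).comp S) = _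
    simp
  have h2 : (toConv S)⁻¹ = toConv ((S).comp S) := rfl
  have := inv_inv (toConv (AlgHom.id K A))
  rw [h1, h2] at this
  exact WithConv.toConv_injective this

lemma antipode_antipode_apply (a : A) : antipode K (antipode K a) = a :=
  congrArg (fun f => f a) (antipode_antipode (K := K) (A := A))

/-- the shear map `x ⊗ y ↦ (x ⊗ 1) Δ(y)` as a `K`-algebra map -/
noncomputable def φK : T →ₐ[K] T := Algebra.TensorProduct.lift i₁ Δ (fun _ _ => Commute.all _ _)

/-- inverse shear map -/
noncomputable def ψK : T →ₐ[K] T :=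
  Algebra.TensorProduct.lift i₁ ((toConv i₁)⁻¹ * toConv i₂).ofConv (fun _ _ => Commute.all _ _)

lemma φK_comp_i₁ : (φK (K := K) (A := A)).comp i₁ = i₁ := by
  ext; simp [φK]

lemma φK_comp_i₂ : (φK (K := K) (A := A)).comp i₂ = Δ := by
  ext; simp [φK]

lemma ψK_comp_i₁ : (ψK (K := K) (A := A)).comp i₁ = i₁ := by
  ext; simp [ψK]

lemma ψK_comp_i₂ : (ψK (K := K) (A := A)).comp i₂ = ((toConv i₁)⁻¹ * toConv i₂).ofConv := by
  ext; simp [ψK]

lemma comp_inv (h : T →ₐ[K] T) (f : WithConv (A →ₐ[K] T)) :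
    h.comp (f⁻¹).ofConv = ((toConv (h.comp f.ofConv))⁻¹).ofConv := by
  rw [inv_def, inv_def]; rfl

lemma φK_ψK_i₂ : (φK (K := K) (A := A)).comp ((ψK (K := K) (A := A)).comp i₂) = i₂ := by
  rw [ψK_comp_i₂, AlgHom.comp_convMul_distrib, comp_inv]
  simp only [toConv_ofConv, φK_comp_i₁, φK_comp_i₂]
  rw [← comul_eq]
  exact congrArg WithConv.ofConv (inv_mul_cancel_left (toConv i₁) (toConv i₂))

lemma ψK_φK_i₂ : (ψK (K := K) (A := A)).comp ((φK (K := K) (A := A)).comp i₂) = i₂ := by
  rw [φK_comp_i₂]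
  have : Δ = (toConv i₁ * toConv i₂).ofConv := by rw [comul_eq]
  rw [this, AlgHom.comp_convMul_distrib]
  simp only [toConv_ofConv, ψK_comp_i₁, ψK_comp_i₂]
  exact congrArg WithConv.ofConv (mul_inv_cancel_left (toConv i₁) (toConv i₂))

lemma φK_comp_ψK : (φK (K := K) (A := A)).comp ψK = AlgHom.id K T := by
  apply Algebra.TensorProduct.ext
  · rw [AlgHom.comp_assoc, ψK_comp_i₁, φK_comp_i₁]; rfl
  · ext a
    exact congrArg (fun f => f a) (φK_ψK_i₂ (K := K) (A := A))

lemma ψK_comp_φK : (ψK (K := K) (A := A)).comp φK = AlgHom.id K T := by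
  apply Algebra.TensorProduct.ext
  · rw [AlgHom.comp_assoc, φK_comp_i₁, ψK_comp_i₁]; rfl
  · ext a
    exact congrArg (fun f => f a) (ψK_φK_i₂ (K := K) (A := A))

/-- the shear map as a `K`-algebra equivalence -/
noncomputable def eK : T ≃ₐ[K] T := AlgEquiv.ofAlgHom φK ψK φK_comp_ψK ψK_comp_φK

/-- the shear map as an `A`-algebra equivalence, `A` acting through the left factor -/
noncomputable def eA : T ≃ₐ[A] T :=
  { (eK (K := K) (A := A)) with
    commutes' := fun a => by
      change φK (algebraMap A T a) = algebraMap A T a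
      rw [Algebra.TensorProduct.algebraMap_apply]
      simp [φK] }

lemma eA_apply (z : T) : eA (K := K) (A := A) z = φK z := rfl

lemma trace_φK (z : T) : Algebra.trace A T (φK z) = Algebra.trace A T z := by
  rw [← eA_apply, Algebra.trace_eq_of_algEquiv]

section Finite

variable [Module.Finite K A]

/-- trace over the left factor as a `K`-linear map -/
noncomputable def τ : T →ₗ[K] A := (Algebra.trace A T).restrictScalars K

lemma τ_tmul (x y : A) : τ (K := K) (x ⊗ₜ[K] y) = Algebra.trace K A y • x := trace_tmul x y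

lemma τ_φK (z : T) : τ (K := K) (φK z) = τ z := trace_φK z

lemma id1 (f : A →ₗ[K] K) (c : A) (t : T) :
    f (τ (t * ((1 : A) ⊗ₜ[K] c))) =
      Algebra.trace K A (TensorProduct.lid K A (LinearMap.rTensor A f t) * c) := by
  induction t with
  | zero => simp
  | tmul x y =>
    simp [Algebra.TensorProduct.tmul_mul_tmul, τ_tmul, mul_comm]
  | add x y hx hy =>
    simp only [add_mul, map_add, hx, hy]

/-- `b ↦ ∑ b₍₂₎ ⊗ S b₍₁₎` -/
noncomputable def ξ : A →ₐ[K] T := ((toConv i₂)⁻¹ * toConv i₁).ofConv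

lemma ξ_apply (b : A) : ξ (K := K) b =
    Algebra.TensorProduct.lift ((i₂).comp S) i₁ (fun _ _ => Commute.all _ _) (comul b) := by
  change ((toConv i₂)⁻¹ * toConv i₁) b = _
  rw [AlgHom.convMul_apply]
  rfl

lemma id2 (f : A →ₗ[K] K) (a : A) (t : T) :
    f (τ (((1 : A) ⊗ₜ[K] a) *
      Algebra.TensorProduct.lift ((i₂).comp S) i₁ (fun _ _ => Commute.all _ _) t)) =
      Algebra.trace K A (a * antipode K (TensorProduct.rid K A (LinearMap.lTensor A f t))) := by
  induction t with
  | zero => simp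
  | tmul x y =>
    simp [Algebra.TensorProduct.tmul_mul_tmul, τ_tmul, mul_comm]
  | add x y hx hy =>
    simp only [mul_add, map_add, hx, hy]

lemma φK_ξ (b : A) : φK (ξ (K := K) b) = (1 : A) ⊗ₜ[K] antipode K b := by
  have h : (φK (K := K) (A := A)).comp ξ = (i₂).comp S := by
    unfold ξ
    rw [AlgHom.comp_convMul_distrib, comp_inv]
    simp only [toConv_ofConv, φK_comp_i₁, φK_comp_i₂]
    rw [← comul_eq]
    exact congrArg WithConv.ofConv (group_aux (toConv i₁) (toConv i₂))
  exact congrArg (fun g => g b) h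

open Groth.Agent.H74.Coalg in
theorem adjoint (f : A →ₗ[K] K) (a b : A) :
    Algebra.trace K A (Lf f a * antipode K b) = Algebra.trace K A (a * antipode K (Rf f b)) := by
  have h1 := id1 f (antipode K b) (comul a)
  have h2 := id2 f a (comul b)
  rw [← ξ_apply] at h2
  have key : comul a * ((1 : A) ⊗ₜ[K] antipode K b) = φK (((1 : A) ⊗ₜ[K] a) * ξ b) := by
    rw [map_mul, φK_ξ]
    congr 1
    have : ((1 : A) ⊗ₜ[K] (1 : A)) = (1 : T) := rfl
    simp [φK, this]
  rw [Lf_apply, Rf_apply, ← h1, ← h2, key, τ_φK]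

lemma trace_antipode (x : A) : Algebra.trace K A (antipode K x) = Algebra.trace K A x := by
  let e : A ≃ₐ[K] A := AlgEquiv.ofAlgHom S S antipode_antipode antipode_antipode
  exact Algebra.trace_eq_of_algEquiv e x

/-- the bilinear form `(a, b) ↦ Tr (a * S b)` -/
noncomputable def Bf : LinearMap.BilinForm K A :=
  (Algebra.traceForm K A).compl₂ (antipode K)

lemma Bf_apply (a b : A) : Bf (K := K) a b = Algebra.trace K A (a * antipode K b) := by
  simp [Bf, Algebra.traceForm_apply]

lemma Bf_symm (a b : A) : Bf (K := K) a b = Bf (K := K) b a := by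
  rw [Bf_apply, Bf_apply, ← trace_antipode (a * antipode K b), antipode_mul_distrib,
    antipode_antipode_apply, mul_comm]

lemma Bf_isRefl : (Bf (K := K) (A := A)).IsRefl := fun a b h => by rw [Bf_symm, h]

open Groth.Agent.H74.Coalg in
lemma Bf_adjoint (f : A →ₗ[K] K) (a b : A) : Bf (K := K) (Lf f a) b = Bf (K := K) a (Rf f b) := by
  rw [Bf_apply, Bf_apply, adjoint]

open Groth.Agent.H74.Coalg in
lemma isStable_orthogonal {D : Submodule K A} (hD : IsStable D) :
    IsStable ((Bf (K := K) (A := A)).orthogonal D) := by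
  intro f
  constructor
  · intro a ha n hn
    change Bf (K := K) n (Lf f a) = 0
    rw [Bf_symm, Bf_adjoint, Bf_symm]
    exact ha _ ((hD f).2 n hn)
  · intro a ha n hn
    change Bf (K := K) n (Rf f a) = 0
    rw [← Bf_adjoint]
    exact ha _ ((hD f).1 n hn)

end Finite

end Groth.Agent.H74.HopfTrace
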