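import Mathlib

/-!
# Exterior algebras and exterior powers commute with base change

For a commutative ring `A`, a commutative `A`-algebra `B` and an `A`-module `M`:
* `ExtPowBC.equivBaseChange A B M : ExteriorAlgebra B (B ⊗[A] M) ≃ₐ[B] B ⊗[A] ExteriorAlgebra A M`;
* `ExtPowBC.powBC B M p : B ⊗[A] ⋀[A]^p M →ₗ[B] ⋀[B]^p (B ⊗[A] M)` with
  `b ⊗ (m₁ ∧ … ∧ m_p) ↦ b • (1 ⊗ m₁) ∧ … ∧ (1 ⊗ m_p)`, and `powBC_bijective`.
-/

set_option autoImplicit false
set_option linter.unnecessarySimpa false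

open scoped TensorProduct

namespace Groth.Agent.H74.ExtPowBC

variable (A : Type*) (B : Type*) (M : Type*) [CommRing A] [CommRing B] [Algebra A B]
  [AddCommGroup M] [Module A M]

/-- The `A`-algebra map `⋀_A M → ⋀_B (B ⊗ M)`. -/
noncomputable def ofBaseChangeAux : ExteriorAlgebra A M →ₐ[A] ExteriorAlgebra B (B ⊗[A] M) :=
  ExteriorAlgebra.lift A
    ⟨(ExteriorAlgebra.ι B).restrictScalars A ∘ₗ TensorProduct.mk A B M 1, fun v => by simp⟩

@[simp] theorem ofBaseChangeAux_ι (v : M) :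
    ofBaseChangeAux A B M (ExteriorAlgebra.ι A v) = ExteriorAlgebra.ι B (1 ⊗ₜ[A] v) := by
  simp [ofBaseChangeAux]

/-- `B ⊗ ⋀_A M → ⋀_B (B ⊗ M)`. -/
noncomputable def ofBaseChange : B ⊗[A] ExteriorAlgebra A M →ₐ[B] ExteriorAlgebra B (B ⊗[A] M) :=
  Algebra.TensorProduct.lift (Algebra.ofId _ _) (ofBaseChangeAux A B M)
    fun _a _x => Algebra.commutes _ _

theorem ofBaseChange_tmul (z : B) (x : ExteriorAlgebra A M) :
    ofBaseChange A B M (z ⊗ₜ x) = z • ofBaseChangeAux A B M x := by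
  change algebraMap _ _ z * ofBaseChangeAux A B M x = _
  rw [Algebra.smul_def]

@[simp] theorem ofBaseChange_tmul_ι (z : B) (v : M) :
    ofBaseChange A B M (z ⊗ₜ ExteriorAlgebra.ι A v) = ExteriorAlgebra.ι B (z ⊗ₜ[A] v) := by
  rw [ofBaseChange_tmul, ofBaseChangeAux_ι, ← map_smul, TensorProduct.smul_tmul', smul_eq_mul,
    mul_one]

/-- The linear map `B ⊗ M → B ⊗ ⋀_A M`. -/
noncomputable def ιBC : B ⊗[A] M →ₗ[B] B ⊗[A] ExteriorAlgebra A M :=
  TensorProduct.AlgebraTensorModule.map (LinearMap.id : B →ₗ[B] B) (ExteriorAlgebra.ι A)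

@[simp] theorem ιBC_tmul (b : B) (m : M) : ιBC A B M (b ⊗ₜ m) = b ⊗ₜ ExteriorAlgebra.ι A m := rfl

theorem ιBC_anticomm (x y : B ⊗[A] M) : ιBC A B M x * ιBC A B M y + ιBC A B M y * ιBC A B M x = 0 := by
  induction x using TensorProduct.induction_on with
  | zero => simp
  | add x₁ x₂ h₁ h₂ =>
    rw [map_add, add_mul, mul_add, add_add_add_comm, h₁, h₂, add_zero]
  | tmul b m =>
    induction y using TensorProduct.induction_on with
    | zero => simp
    | add y₁ y₂ h₁ h₂ =>
      rw [map_add, add_mul, mul_add, add_add_add_comm, h₁, h₂, add_zero]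
    | tmul b' m' =>
      rw [ιBC_tmul, ιBC_tmul, Algebra.TensorProduct.tmul_mul_tmul,
        Algebra.TensorProduct.tmul_mul_tmul, mul_comm b' b, ← TensorProduct.tmul_add]
      have : ExteriorAlgebra.ι A m * ExteriorAlgebra.ι A m' +
          ExteriorAlgebra.ι A m' * ExteriorAlgebra.ι A m = 0 := by
        have := CliffordAlgebra.ι_mul_ι_add_swap (Q := (0 : QuadraticForm A M)) m m'
        simpa using this
      rw [this, TensorProduct.tmul_zero]

theorem ιBC_sq (x : B ⊗[A] M) : ιBC A B M x * ιBC A B M x = 0 := by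
  induction x using TensorProduct.induction_on with
  | zero => simp
  | tmul b m =>
    rw [ιBC_tmul, Algebra.TensorProduct.tmul_mul_tmul, ExteriorAlgebra.ι_sq_zero,
      TensorProduct.tmul_zero]
  | add x y hx hy =>
    rw [map_add, add_mul, mul_add, mul_add, hx, hy, zero_add, add_zero, ιBC_anticomm]

/-- `⋀_B (B ⊗ M) → B ⊗ ⋀_A M`. -/
noncomputable def toBaseChange : ExteriorAlgebra B (B ⊗[A] M) →ₐ[B] B ⊗[A] ExteriorAlgebra A M :=
  ExteriorAlgebra.lift B ⟨ιBC A B M, ιBC_sq A B M⟩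

@[simp] theorem toBaseChange_ι (x : B ⊗[A] M) :
    toBaseChange A B M (ExteriorAlgebra.ι B x) = ιBC A B M x := by
  simp [toBaseChange]

theorem toBaseChange_comp_ofBaseChange :
    (toBaseChange A B M).comp (ofBaseChange A B M) = AlgHom.id _ _ := by
  ext v
  simp

theorem ofBaseChange_comp_toBaseChange :
    (ofBaseChange A B M).comp (toBaseChange A B M) = AlgHom.id _ _ := by
  ext x
  simp

/-- The exterior algebra commutes with base change. -/
noncomputable def equivBaseChange :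
    ExteriorAlgebra B (B ⊗[A] M) ≃ₐ[B] B ⊗[A] ExteriorAlgebra A M :=
  AlgEquiv.ofAlgHom (toBaseChange A B M) (ofBaseChange A B M)
    (toBaseChange_comp_ofBaseChange A B M) (ofBaseChange_comp_toBaseChange A B M)

theorem ofBaseChange_injective : Function.Injective (ofBaseChange A B M) :=
  (equivBaseChange A B M).symm.injective


section Pow

open exteriorPower

variable (p : ℕ)

/-- The `A`-multilinear alternating map `M^p → ⋀[B]^p (B ⊗ M)`, `m ↦ (1 ⊗ m₁) ∧ … ∧ (1 ⊗ m_p)`. -/
noncomputable def altBC : M [⋀^Fin p]→ₗ[A] ↥(⋀[B]^p (B ⊗[A] M)) :=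
  ({ (exteriorPower.ιMulti B p (M := B ⊗[A] M)).toMultilinearMap.restrictScalars A with
      map_eq_zero_of_eq' := (exteriorPower.ιMulti B p (M := B ⊗[A] M)).map_eq_zero_of_eq' } :
    (B ⊗[A] M) [⋀^Fin p]→ₗ[A] ↥(⋀[B]^p (B ⊗[A] M))).compLinearMap (TensorProduct.mk A B M 1)

theorem altBC_apply (m : Fin p → M) :
    altBC A B M p m = ιMulti B p (fun i => (1 : B) ⊗ₜ[A] m i) := rfl

/-- `⋀[A]^p M → ⋀[B]^p (B ⊗ M)`, `A`-linear. -/
noncomputable def powBCAux : ↥(⋀[A]^p M) →ₗ[A] ↥(⋀[B]^p (B ⊗[A] M)) :=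
  alternatingMapLinearEquiv (altBC A B M p)

@[simp] theorem powBCAux_ιMulti (m : Fin p → M) :
    powBCAux A B M p (ιMulti A p m) = ιMulti B p (fun i => (1 : B) ⊗ₜ[A] m i) := by
  rw [powBCAux, alternatingMapLinearEquiv_apply_ιMulti, altBC_apply]

/-- The base change map `B ⊗ ⋀[A]^p M → ⋀[B]^p (B ⊗ M)`. -/
noncomputable def powBC : B ⊗[A] ↥(⋀[A]^p M) →ₗ[B] ↥(⋀[B]^p (B ⊗[A] M)) :=
  LinearMap.liftBaseChange B (powBCAux A B M p)

@[simp] theorem powBC_tmul (b : B) (x : ↥(⋀[A]^p M)) :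
    powBC A B M p (b ⊗ₜ x) = b • powBCAux A B M p x := by
  simp [powBC]

theorem powBC_tmul_ιMulti (b : B) (m : Fin p → M) :
    powBC A B M p (b ⊗ₜ ιMulti A p m) = b • ιMulti B p (fun i => (1 : B) ⊗ₜ[A] m i) := by
  rw [powBC_tmul, powBCAux_ιMulti]

theorem coe_powBCAux (x : ↥(⋀[A]^p M)) :
    (powBCAux A B M p x : ExteriorAlgebra B (B ⊗[A] M)) =
      ofBaseChangeAux A B M (x : ExteriorAlgebra A M) := by
  have h : ((Submodule.subtype (⋀[B]^p (B ⊗[A] M))).restrictScalars A) ∘ₗ powBCAux A B M p =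
      (ofBaseChangeAux A B M).toLinearMap ∘ₗ (Submodule.subtype (⋀[A]^p M)) := by
    apply exteriorPower.linearMap_ext
    ext m
    simp only [LinearMap.compAlternatingMap_apply, LinearMap.coe_comp, Function.comp_apply,
      powBCAux_ιMulti, LinearMap.coe_restrictScalars, Submodule.coe_subtype, ιMulti_apply_coe,
      AlgHom.toLinearMap_apply, ExteriorAlgebra.ιMulti_apply, map_list_prod, List.map_ofFn]
    congr 2
    funext i
    simp
  exact LinearMap.congr_fun h x

theorem coe_powBC (z : B ⊗[A] ↥(⋀[A]^p M)) :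
    (powBC A B M p z : ExteriorAlgebra B (B ⊗[A] M)) =
      ofBaseChange A B M (LinearMap.baseChange B (Submodule.subtype (⋀[A]^p M)) z) := by
  induction z using TensorProduct.induction_on with
  | zero => simp
  | add x y hx hy => simp only [map_add, Submodule.coe_add, hx, hy]
  | tmul b x =>
    rw [powBC_tmul, LinearMap.baseChange_tmul, ofBaseChange_tmul, Submodule.coe_smul,
      coe_powBCAux, Submodule.coe_subtype]

/-- The projection of the exterior algebra onto its degree `p` part. -/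
noncomputable def proj : ExteriorAlgebra A M →ₗ[A] ↥(⋀[A]^p M) :=
  (DirectSum.component A ℕ (fun i => ↥(⋀[A]^i M)) p) ∘ₗ
    (DirectSum.decomposeLinearEquiv (fun i : ℕ => ⋀[A]^i M)).toLinearMap

theorem proj_coe (x : ↥(⋀[A]^p M)) : proj A M p (x : ExteriorAlgebra A M) = x := by
  simp [proj]

theorem powBC_injective : Function.Injective (powBC A B M p) := by
  rw [injective_iff_map_eq_zero]
  intro z hz
  have h1 : ofBaseChange A B M (LinearMap.baseChange B (Submodule.subtype (⋀[A]^p M)) z) = 0 := by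
    rw [← coe_powBC, hz, Submodule.coe_zero]
  have h2 := ofBaseChange_injective A B M (h1.trans (map_zero _).symm)
  have h3 : LinearMap.baseChange B (proj A M p)
      (LinearMap.baseChange B (Submodule.subtype (⋀[A]^p M)) z) = z := by
    rw [← LinearMap.comp_apply, ← LinearMap.baseChange_comp]
    have : proj A M p ∘ₗ Submodule.subtype (⋀[A]^p M) = LinearMap.id := by
      refine LinearMap.ext fun x => ?_
      rw [LinearMap.comp_apply, Submodule.subtype_apply, proj_coe, LinearMap.id_apply]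
    rw [this, LinearMap.baseChange_id, LinearMap.id_apply]
  rw [← h3, h2, map_zero]

theorem span_one_tmul : Submodule.span B (Set.range fun m : M => (1 : B) ⊗ₜ[A] m) = ⊤ := by
  rw [eq_top_iff]
  rintro x -
  induction x using TensorProduct.induction_on with
  | zero => exact zero_mem _
  | add x y hx hy => exact add_mem hx hy
  | tmul b m =>
    have : b ⊗ₜ[A] m = b • ((1 : B) ⊗ₜ[A] m) := by
      rw [TensorProduct.smul_tmul', smul_eq_mul, mul_one]
    rw [this]
    exact Submodule.smul_mem _ _ (Submodule.subset_span ⟨m, rfl⟩)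

theorem powBC_surjective : Function.Surjective (powBC A B M p) := by
  rw [← LinearMap.range_eq_top, eq_top_iff,
    ← ιMulti_span_of_span B p (B ⊗[A] M) (span_one_tmul A B M), Submodule.span_le]
  rintro _ ⟨a, ha, rfl⟩
  have : ∀ i, ∃ m : M, (1 : B) ⊗ₜ[A] m = a i := fun i => ha ⟨i, rfl⟩
  choose m hm using this
  refine ⟨(1 : B) ⊗ₜ ιMulti A p m, ?_⟩
  rw [powBC_tmul_ιMulti, one_smul]
  congr 1
  funext i
  exact hm i

theorem powBC_bijective : Function.Bijective (powBC A B M p) :=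
  ⟨powBC_injective A B M p, powBC_surjective A B M p⟩

end Pow

end Groth.Agent.H74.ExtPowBC
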