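import Groth.Prelude.Def_DeRham
import Groth.Agent.H74.ExtPowBC
import Groth.Agent.H76.DeRham
import Mathlib

/-!
# Base change of the modules of differential forms

For a pushout square `B = S ⊗[R] A`: the `S`-linear bijection
`Phi : S ⊗[R] ⋀[A]^p Ω[A⁄R] → ⋀[B]^p Ω[B⁄S]`, with `Phi (s ⊗ x) = s • ψ p x` for any map of de Rham
complexes `ψ` (in the sense of `DeRham.IsCxMap`).
-/

set_option autoImplicit false

open scoped TensorProduct
open exteriorPower

namespace Groth.Agent.H74.DeRhamBC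

universe u

variable (R S A B : Type u) [CommRing R] [CommRing S] [CommRing A] [CommRing B]
    [Algebra R S] [Algebra R A] [Algebra R B] [Algebra A B] [Algebra S B]
    [IsScalarTower R A B] [IsScalarTower R S B] [Algebra.IsPushout R S A B] (p : ℕ)

/-- `B ⊗[A] ⋀[A]^p Ω[A⁄R] → ⋀[B]^p Ω[B⁄S]`, `B`-linear and bijective. -/
noncomputable def PhiB : B ⊗[A] ↥(⋀[A]^p (Ω[A⁄R])) →ₗ[B] ↥(⋀[B]^p (Ω[B⁄S])) :=
  exteriorPower.map p (KaehlerDifferential.tensorKaehlerEquiv R S A B).toLinearMap ∘ₗ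
    Groth.Agent.H74.ExtPowBC.powBC A B (Ω[A⁄R]) p

theorem map_equiv_bijective {M N : Type*} [AddCommGroup M] [Module B M] [AddCommGroup N]
    [Module B N] (te : M ≃ₗ[B] N) : Function.Bijective (exteriorPower.map p te.toLinearMap) := by
  have h1 : exteriorPower.map p te.symm.toLinearMap ∘ₗ exteriorPower.map p te.toLinearMap =
      LinearMap.id := by
    rw [← exteriorPower.map_comp]
    have : te.symm.toLinearMap ∘ₗ te.toLinearMap = LinearMap.id := by
      ext x; simp
    rw [this, exteriorPower.map_id]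
  have h2 : exteriorPower.map p te.toLinearMap ∘ₗ exteriorPower.map p te.symm.toLinearMap =
      LinearMap.id := by
    rw [← exteriorPower.map_comp]
    have : te.toLinearMap ∘ₗ te.symm.toLinearMap = LinearMap.id := by
      ext x; simp
    rw [this, exteriorPower.map_id]
  refine ⟨fun x y h => ?_, fun y => ⟨exteriorPower.map p te.symm.toLinearMap y, ?_⟩⟩
  · have := congrArg (exteriorPower.map p te.symm.toLinearMap) h
    rwa [← LinearMap.comp_apply, ← LinearMap.comp_apply, h1] at this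
  · rw [← LinearMap.comp_apply, h2, LinearMap.id_apply]

theorem PhiB_bijective : Function.Bijective (PhiB R S A B p) :=
  (map_equiv_bijective B p _).comp (Groth.Agent.H74.ExtPowBC.powBC_bijective A B (Ω[A⁄R]) p)

/-- `S ⊗[R] ⋀[A]^p Ω[A⁄R] → ⋀[B]^p Ω[B⁄S]`, `S`-linear and bijective. -/
noncomputable def Phi : S ⊗[R] ↥(⋀[A]^p (Ω[A⁄R])) →ₗ[S] ↥(⋀[B]^p (Ω[B⁄S])) :=
  ((PhiB R S A B p).restrictScalars S) ∘ₗ
    (Algebra.IsPushout.cancelBaseChange R S A B ↥(⋀[A]^p (Ω[A⁄R]))).symm.toLinearMap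

theorem Phi_bijective : Function.Bijective (Phi R S A B p) :=
  (PhiB_bijective R S A B p).comp
    (Algebra.IsPushout.cancelBaseChange R S A B ↥(⋀[A]^p (Ω[A⁄R]))).symm.bijective

variable {R S A B}

theorem Phi_tmul (ψ : ∀ p : ℕ, ↥(⋀[A]^p (Ω[A⁄R])) →+ ↥(⋀[B]^p (Ω[B⁄S])))
    (hψ : DeRham.IsCxMap (KaehlerDifferential.D R A) (KaehlerDifferential.D S B) (algebraMap A B) ψ)
    (s : S) (x : ↥(⋀[A]^p (Ω[A⁄R]))) : Phi R S A B p (s ⊗ₜ[R] x) = s • ψ p x := by
  have he1 : (Algebra.IsPushout.cancelBaseChange R S A B ↥(⋀[A]^p (Ω[A⁄R]))).symm (s ⊗ₜ[R] x) =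
      algebraMap S B s ⊗ₜ[A] x :=
    Algebra.IsPushout.cancelBaseChange_symm_tmul R S A B _ s x
  simp only [Phi, LinearMap.coe_comp, Function.comp_apply, LinearEquiv.coe_coe,
    LinearMap.coe_restrictScalars]
  rw [he1]
  refine Groth.Agent.H76.deRham_gen_induction R A p
    (fun x => PhiB R S A B p (algebraMap S B s ⊗ₜ[A] x) = s • ψ p x) ?_ ?_ ?_ x
  · simp
  · intro x y hx hy
    simp only [map_add, TensorProduct.tmul_add, smul_add, hx, hy]
  · intro b₀ b
    rw [hψ p b₀ b]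
    simp only [DeRham.gen, PhiB, LinearMap.coe_comp, Function.comp_apply]
    rw [Groth.Agent.H74.ExtPowBC.powBC_tmul, map_smul, map_smul,
      Groth.Agent.H74.ExtPowBC.powBCAux_ιMulti, ← algebraMap_smul B b₀, map_smul,
      exteriorPower.map_apply_ιMulti, algebraMap_smul B s]
    congr 3
    funext i
    simp only [Function.comp_apply, LinearEquiv.coe_coe]
    rw [KaehlerDifferential.tensorKaehlerEquiv_tmul_D, one_smul]

end Groth.Agent.H74.DeRhamBC
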