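import Mathlib

/-!
# Kernel of the map of exterior algebras induced by a surjective linear map

* `ExtKer.coe_map`: `exteriorPower.map q π` is the restriction of `ExteriorAlgebra.map π`.
* `ExtKer.mem_span_of_map_eq_zero`: for `π : M → M'` surjective and a set `G` spanning `ker π`,
  the kernel of `ExteriorAlgebra.map π` is contained in the two-sided ideal generated by `ι G`.
-/

set_option autoImplicit false

open ExteriorAlgebra

namespace Groth.Agent.H74.ExtKer

variable {A M M' : Type*} [CommRing A] [AddCommGroup M] [Module A M] [AddCommGroup M'] [Module A M']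

theorem coe_map (q : ℕ) (π : M →ₗ[A] M') (z : ↥(⋀[A]^q M)) :
    (exteriorPower.map q π z : ExteriorAlgebra A M') =
      ExteriorAlgebra.map π (z : ExteriorAlgebra A M) := by
  have h : (Submodule.subtype (⋀[A]^q M')) ∘ₗ exteriorPower.map q π =
      (ExteriorAlgebra.map π).toLinearMap ∘ₗ (Submodule.subtype (⋀[A]^q M)) := by
    apply exteriorPower.linearMap_ext
    ext m
    simp only [LinearMap.compAlternatingMap_apply, LinearMap.coe_comp, Function.comp_apply,
      exteriorPower.map_apply_ιMulti, Submodule.coe_subtype, exteriorPower.ιMulti_apply_coe,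
      AlgHom.toLinearMap_apply, ExteriorAlgebra.map_apply_ιMulti]
  exact LinearMap.congr_fun h z

theorem ι_mem_of_mem_span (G : Set M) {n : M} (hn : n ∈ Submodule.span A G) :
    ι A n ∈ TwoSidedIdeal.span (ι A '' G) := by
  induction hn using Submodule.span_induction with
  | mem x hx => exact TwoSidedIdeal.subset_span ⟨x, hx, rfl⟩
  | zero => rw [map_zero]; exact TwoSidedIdeal.zero_mem _
  | add x y _ _ hx hy => rw [map_add]; exact TwoSidedIdeal.add_mem _ hx hy
  | smul a x _ hx =>
    rw [map_smul, Algebra.smul_def]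
    exact TwoSidedIdeal.mul_mem_left _ _ _ hx

theorem mem_span_of_map_eq_zero (π : M →ₗ[A] M') (hπ : Function.Surjective π) (G : Set M)
    (hG : LinearMap.ker π ≤ Submodule.span A G) (x : ExteriorAlgebra A M)
    (hx : ExteriorAlgebra.map π x = 0) : x ∈ TwoSidedIdeal.span (ι A '' G) := by
  classical
  set J := TwoSidedIdeal.span (ι A '' G) with hJ
  let c := J.ringCon
  let mk : ExteriorAlgebra A M →ₐ[A] c.Quotient := c.mkₐ A
  have hmk : ∀ y, y ∈ J → mk y = 0 := by
    intro y hy
    have : (y : c.Quotient) = ((0 : ExteriorAlgebra A M) : c.Quotient) :=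
      (RingCon.eq c).2 ((TwoSidedIdeal.mem_iff J y).1 hy)
    exact this
  have hmk' : ∀ y, mk y = 0 → y ∈ J := by
    intro y hy
    have : (y : c.Quotient) = ((0 : ExteriorAlgebra A M) : c.Quotient) := hy
    exact (TwoSidedIdeal.mem_iff J y).2 ((RingCon.eq c).1 this)
  have hker : ∀ n, π n = 0 → mk (ι A n) = 0 := fun n hn =>
    hmk _ (ι_mem_of_mem_span G (hG hn))
  let σ := Function.surjInv hπ
  have hσ : ∀ m', π (σ m') = m' := Function.surjInv_eq hπ
  let ℓ : M' →ₗ[A] c.Quotient :=
    { toFun := fun m' => mk (ι A (σ m'))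
      map_add' := fun x y => by
        have := hker (σ (x + y) - σ x - σ y) (by simp [hσ])
        rw [map_sub, map_sub, map_sub, map_sub, sub_sub, sub_eq_zero] at this
        rw [this]
      map_smul' := fun a x => by
        have := hker (σ (a • x) - a • σ x) (by simp [hσ])
        rw [map_sub, map_sub, sub_eq_zero] at this
        rw [this, map_smul, map_smul, RingHom.id_apply] }
  have hℓ : ∀ m', ℓ m' * ℓ m' = 0 := fun m' => by
    change mk (ι A (σ m')) * mk (ι A (σ m')) = 0
    rw [← map_mul, ExteriorAlgebra.ι_sq_zero, map_zero]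
  let Gq : ExteriorAlgebra A M' →ₐ[A] c.Quotient := ExteriorAlgebra.lift A ⟨ℓ, hℓ⟩
  have hcomp : Gq.comp (ExteriorAlgebra.map π) = mk := by
    apply ExteriorAlgebra.hom_ext
    ext m
    simp only [LinearMap.coe_comp, Function.comp_apply, AlgHom.toLinearMap_apply,
      AlgHom.comp_apply, ExteriorAlgebra.map_apply_ι, Gq, ExteriorAlgebra.lift_ι_apply]
    change mk (ι A (σ (π m))) = mk (ι A m)
    have := hker (σ (π m) - m) (by simp [hσ])
    rwa [map_sub, map_sub, sub_eq_zero] at this
  apply hmk'
  rw [← hcomp, AlgHom.comp_apply, hx, map_zero]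

end Groth.Agent.H74.ExtKer
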