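import Groth.Prelude.Def_DeRham
import Groth.Agent.H39.DeRham
import Groth.Agent.H76.DeRham
import Groth.Agent.H74.ExtKer
import Mathlib

/-!
# De Rham differential and kernels of exterior powers of a quotient of the Kähler differentials
-/

set_option autoImplicit false

open KaehlerDifferential ExteriorAlgebra

namespace Groth.Agent.H74.DeRhamQuot

universe u
variable (R A : Type u) [CommRing R] [CommRing A] [Algebra R A]

local notation "E" => ExteriorAlgebra A (Ω[A⁄R])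

theorem dR_one : Groth.Agent.H39.dR R A (1 : E) = 0 := by
  have := Groth.Agent.H39.dR_algebraMap R A (1 : A)
  rw [map_one] at this
  rw [this, Derivation.map_one_eq_zero, map_zero]

theorem dR_ιMulti_D (p : ℕ) (b : Fin p → A) :
    Groth.Agent.H39.dR R A (ExteriorAlgebra.ιMulti A p (fun i => D R A (b i))) = 0 := by
  induction p with
  | zero => rw [ιMulti_zero_apply, dR_one]
  | succ p ih =>
    rw [ιMulti_succ_apply, Groth.Agent.H39.dR_mul, Groth.Agent.H39.dR_ι_D, zero_mul, add_zero]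
    have : Matrix.vecTail (fun i => D R A (b i)) = fun i => D R A (b i.succ) := rfl
    rw [this, ih, mul_zero]

variable {R A}

theorem coe_dA (dA : ∀ p : ℕ, ↥(⋀[A]^p (Ω[A⁄R])) →ₗ[R] ↥(⋀[A]^(p + 1) (Ω[A⁄R])))
    (hdA : DeRham.IsDiff (KaehlerDifferential.D R A) dA) (p : ℕ) (z : ↥(⋀[A]^p (Ω[A⁄R]))) :
    (dA p z : E) = Groth.Agent.H39.dR R A (z : E) := by
  refine Groth.Agent.H76.deRham_gen_induction R A p
    (fun z => (dA p z : E) = Groth.Agent.H39.dR R A (z : E)) ?_ ?_ ?_ z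
  · simp
  · intro x y hx hy
    simp only [map_add, Submodule.coe_add, hx, hy]
  · intro b₀ b
    rw [hdA.1 p b₀ b]
    simp only [DeRham.gen, exteriorPower.ιMulti_apply_coe, Submodule.coe_smul]
    rw [ιMulti_succ_apply, Algebra.smul_def, Groth.Agent.H39.dR_mul, dR_ιMulti_D, mul_zero,
      zero_add, Groth.Agent.H39.dR_algebraMap]
    rfl

theorem coe_oneEquiv_symm (ω : Ω[A⁄R]) :
    (((exteriorPower.oneEquiv A (Ω[A⁄R])).symm ω : ↥(⋀[A]^1 (Ω[A⁄R]))) : E) = ι A ω := by
  rw [exteriorPower.oneEquiv_symm_apply, exteriorPower.ιMulti_apply_coe, ιMulti_apply]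
  simp

variable {Ω' : Type u} [AddCommGroup Ω'] [Module A Ω']

theorem ker_stable (π : Ω[A⁄R] →ₗ[A] Ω') (hπ : Function.Surjective π)
    (dA : ∀ p : ℕ, ↥(⋀[A]^p (Ω[A⁄R])) →ₗ[R] ↥(⋀[A]^(p + 1) (Ω[A⁄R])))
    (hdA : DeRham.IsDiff (KaehlerDifferential.D R A) dA)
    (hker : LinearMap.ker π ≤ Submodule.span A {ω : Ω[A⁄R] | π ω = 0 ∧
      exteriorPower.map 2 π (dA 1 ((exteriorPower.oneEquiv A (Ω[A⁄R])).symm ω)) = 0})
    (p : ℕ) (z : ↥(⋀[A]^p (Ω[A⁄R]))) (hz : exteriorPower.map p π z = 0) :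
    exteriorPower.map (p + 1) π (dA p z) = 0 := by
  set G : Set (Ω[A⁄R]) := {ω : Ω[A⁄R] | π ω = 0 ∧
      exteriorPower.map 2 π (dA 1 ((exteriorPower.oneEquiv A (Ω[A⁄R])).symm ω)) = 0} with hG
  have h1 : (z : E) ∈ TwoSidedIdeal.span (ι A '' G) := by
    refine Groth.Agent.H74.ExtKer.mem_span_of_map_eq_zero π hπ G hker _ ?_
    rw [← Groth.Agent.H74.ExtKer.coe_map, hz, Submodule.coe_zero]
  have h2 : ∀ x : E, x ∈ TwoSidedIdeal.span (ι A '' G) →
      ExteriorAlgebra.map π (Groth.Agent.H39.dR R A x) = 0 := by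
    intro x hx
    rw [TwoSidedIdeal.mem_span_iff_mem_addSubgroup_closure] at hx
    induction hx using AddSubgroup.closure_induction with
    | mem x hx =>
      obtain ⟨_, ⟨a, -, _, ⟨ω, hω, rfl⟩, rfl⟩, b, -, rfl⟩ := hx
      have e1 : ExteriorAlgebra.map π (ι A ω) = 0 := by
        rw [ExteriorAlgebra.map_apply_ι, hω.1, map_zero]
      have e2 : ExteriorAlgebra.map π (Groth.Agent.H39.dR R A (ι A ω)) = 0 := by
        rw [← coe_oneEquiv_symm, ← coe_dA dA hdA, ← Groth.Agent.H74.ExtKer.coe_map, hω.2,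
          Submodule.coe_zero]
      have e3 : ExteriorAlgebra.map π (CliffordAlgebra.involute (ι A ω)) = 0 := by
        rw [CliffordAlgebra.involute_ι, map_neg, e1, neg_zero]
      simp only [Groth.Agent.H39.dR_mul, map_add, map_mul, e1, e2, e3, mul_zero, zero_mul,
        add_zero]
    | zero => rw [map_zero, map_zero]
    | add x y _ _ hx hy => rw [map_add, map_add, hx, hy, add_zero]
    | neg x _ hx => rw [map_neg, map_neg, hx, neg_zero]
  apply Subtype.ext
  rw [Groth.Agent.H74.ExtKer.coe_map, coe_dA dA hdA, h2 _ h1, Submodule.coe_zero]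

end Groth.Agent.H74.DeRhamQuot
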