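import Groth.Agent.H74.LieDer
import Groth.Agent.H74.DeRhamQuot
import Groth.Agent.H74.ExtPowBC
import Mathlib

/-!
# Homotopy invariance of de Rham cohomology: `A → A[X]` over a `ℚ`-algebra

* `Psi R A B` : the map of exterior algebras `⋀_A Ω[A⁄R] → ⋀_B Ω[B⁄R]` induced by `A → B`.
* `coe_cxMap` : any family `ψ` with `DeRham.IsCxMap` is `Psi` degreewise.
* `exists_proj` : for `B = A[X]`, the spectral projector of the Lie derivative along `X ∂/∂X`
  eventually maps every `i`-form into `Psi (⋀^i Ω[A⁄R])`.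
-/

set_option autoImplicit false

open Polynomial ExteriorAlgebra KaehlerDifferential

namespace Groth.Agent.H74.DeRhamPoly

universe u

section General

variable (R A B : Type u) [CommRing R] [CommRing A] [CommRing B] [Algebra R A] [Algebra R B]
  [Algebra A B] [IsScalarTower R A B]

/-- The map of exterior algebras of Kähler differentials induced by `A → B`. -/
noncomputable def Psi : ExteriorAlgebra A (Ω[A⁄R]) →ₐ[A] ExteriorAlgebra B (Ω[B⁄R]) :=
  ExteriorAlgebra.lift A
    ⟨((ι B).restrictScalars A) ∘ₗ (KaehlerDifferential.map R R A B), fun ω => by simp⟩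

theorem Psi_ι (ω : Ω[A⁄R]) : Psi R A B (ι A ω) = ι B (KaehlerDifferential.map R R A B ω) := by
  simp [Psi]

theorem Psi_ι_D (a : A) : Psi R A B (ι A (D R A a)) = ι B (D R B (algebraMap A B a)) := by
  rw [Psi_ι, KaehlerDifferential.map_D]

theorem Psi_algebraMap (a : A) :
    Psi R A B (algebraMap A _ a) = algebraMap B (ExteriorAlgebra B (Ω[B⁄R])) (algebraMap A B a) := by
  rw [AlgHom.commutes, IsScalarTower.algebraMap_apply A B (ExteriorAlgebra B (Ω[B⁄R]))]

variable {R A B}

theorem coe_cxMap (ψ : ∀ p : ℕ, ↥(⋀[A]^p (Ω[A⁄R])) →+ ↥(⋀[B]^p (Ω[B⁄R])))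
    (hψ : DeRham.IsCxMap (D R A) (D R B) (algebraMap A B) ψ) (p : ℕ) (x : ↥(⋀[A]^p (Ω[A⁄R]))) :
    ((ψ p x : ↥(⋀[B]^p (Ω[B⁄R]))) : ExteriorAlgebra B (Ω[B⁄R])) =
      Psi R A B (x : ExteriorAlgebra A (Ω[A⁄R])) := by
  refine Groth.Agent.H76.deRham_gen_induction R A p
    (fun x => ((ψ p x : ↥(⋀[B]^p (Ω[B⁄R]))) : ExteriorAlgebra B (Ω[B⁄R])) =
      Psi R A B (x : ExteriorAlgebra A (Ω[A⁄R]))) ?_ ?_ ?_ x
  · simp
  · intro x y hx hy
    simp only [map_add, Submodule.coe_add, hx, hy]
  · intro b₀ b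
    rw [hψ p b₀ b]
    simp only [DeRham.gen, Submodule.coe_smul, exteriorPower.ιMulti_apply_coe,
      ExteriorAlgebra.ιMulti_apply, map_smul, map_list_prod, List.map_ofFn]
    rw [algebraMap_smul]
    congr 3
    funext i
    simp only [Function.comp_apply]
    rw [Psi_ι_D]

end General

section Proj

variable (A : Type*) (M : Type*) [CommRing A] [AddCommGroup M] [Module A M]

theorem proj_of_mem_ne {q p : ℕ} (hqp : q ≠ p) {x : ExteriorAlgebra A M} (hx : x ∈ ⋀[A]^q M) :
    Groth.Agent.H74.ExtPowBC.proj A M p x = 0 := by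
  apply Subtype.ext
  simp only [Groth.Agent.H74.ExtPowBC.proj, LinearMap.coe_comp, Function.comp_apply,
    LinearEquiv.coe_coe, DirectSum.decomposeLinearEquiv_apply, Submodule.coe_zero]
  exact DirectSum.decompose_of_mem_ne (fun i : ℕ => ⋀[A]^i M) hx hqp

theorem proj_of_mem {p : ℕ} {x : ExteriorAlgebra A M} (hx : x ∈ ⋀[A]^p M) :
    (Groth.Agent.H74.ExtPowBC.proj A M p x : ExteriorAlgebra A M) = x := by
  have := Groth.Agent.H74.ExtPowBC.proj_coe A M p ⟨x, hx⟩
  exact congrArg Subtype.val this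

end Proj

section Poly

variable (R A : Type u) [CommRing R] [CommRing A] [Algebra R A]

local notation "EA" => ExteriorAlgebra A (Ω[A⁄R])
local notation "EB" => ExteriorAlgebra A[X] (Ω[A[X]⁄R])

/-- The Euler vector field `X ∂/∂X` on `A[X]`, as an `R`-derivation. -/
noncomputable def theta : Derivation R A[X] A[X] :=
  (X : A[X]) • (Polynomial.derivative'.restrictScalars R : Derivation R A[X] A[X])

theorem theta_apply (f : A[X]) : theta R A f = X * derivative f := rfl

theorem theta_C (a : A) : theta R A (C a) = 0 := by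
  rw [theta_apply, derivative_C, mul_zero]

theorem theta_X : theta R A X = X := by
  rw [theta_apply, derivative_X, mul_one]

theorem theta_monomial (n : ℕ) (a : A) : theta R A (monomial n a) = n • monomial n a := by
  rw [theta_apply, derivative_monomial]
  rcases Nat.eq_zero_or_pos n with h0 | hpos
  · subst h0; simp
  · obtain ⟨m, rfl⟩ : ∃ m, n = m + 1 := ⟨n - 1, by omega⟩
    rw [Nat.add_sub_cancel, X_mul_monomial, smul_monomial, nsmul_eq_mul, mul_comm]

/-- The Lie derivative along `X ∂/∂X`. -/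
noncomputable def L : EB →ₗ[R] EB := Groth.Agent.H74.LieDer.lie R A[X] (theta R A)

theorem mem_pow_zero_algebraMap {B : Type*} {M : Type*} [CommRing B] [AddCommGroup M] [Module B M]
    (b : B) : algebraMap B (ExteriorAlgebra B M) b ∈ ⋀[B]^0 M := by
  rw [ExteriorAlgebra.exteriorPower, pow_zero]
  exact Submodule.algebraMap_mem b

theorem mem_pow_one_ι {B : Type*} {M : Type*} [CommRing B] [AddCommGroup M] [Module B M]
    (m : M) : ι B m ∈ ⋀[B]^1 M := by
  rw [ExteriorAlgebra.exteriorPower, pow_one]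
  exact LinearMap.mem_range_self _ _

theorem mul_mem_pow_add {B : Type*} {M : Type*} [CommRing B] [AddCommGroup M] [Module B M]
    {i j : ℕ} {x y : ExteriorAlgebra B M} (hx : x ∈ ⋀[B]^i M) (hy : y ∈ ⋀[B]^j M) :
    x * y ∈ ⋀[B]^(i + j) M := by
  rw [ExteriorAlgebra.exteriorPower, pow_add]
  exact Submodule.mul_mem_mul hx hy

/-- The multiplicative monoid of bihomogeneous elements: of form-degree `i`, of weight `j` for the
Lie derivative, and coming from `A` if the weight is zero. -/
noncomputable def Sm : Submonoid EB where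
  carrier := {g | ∃ i j : ℕ, g ∈ ⋀[A[X]]^i (Ω[A[X]⁄R]) ∧ L R A g = j • g ∧
    (j = 0 → ∃ x : EA, x ∈ ⋀[A]^i (Ω[A⁄R]) ∧ g = Psi R A A[X] x)}
  one_mem' := by
    refine ⟨0, 0, ?_, ?_, fun _ => ⟨1, ?_, ?_⟩⟩
    · have := mem_pow_zero_algebraMap (M := Ω[A[X]⁄R]) (1 : A[X])
      rwa [map_one] at this
    · rw [zero_smul]; exact Groth.Agent.H74.LieDer.lie_one R A[X] _
    · have := mem_pow_zero_algebraMap (M := Ω[A⁄R]) (1 : A)
      rwa [map_one] at this
    · rw [map_one]
  mul_mem' := by
    rintro g g' ⟨i, j, hg, hL, h0⟩ ⟨i', j', hg', hL', h0'⟩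
    refine ⟨i + i', j + j', mul_mem_pow_add hg hg', ?_, fun hjj => ?_⟩
    · rw [L, Groth.Agent.H74.LieDer.lie_mul]
      change L R A g * g' + g * L R A g' = _
      rw [hL, hL', smul_mul_assoc, mul_smul_comm, add_smul]
    · obtain ⟨x, hx, rfl⟩ := h0 (by omega)
      obtain ⟨x', hx', rfl⟩ := h0' (by omega)
      exact ⟨x * x', mul_mem_pow_add hx hx', (map_mul _ _ _).symm⟩

theorem algebraMap_monomial_mem (n : ℕ) (a : A) :
    algebraMap A[X] EB (monomial n a) ∈ Sm R A := by
  refine ⟨0, n, mem_pow_zero_algebraMap _, ?_, fun hn => ⟨algebraMap A EA a,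
    mem_pow_zero_algebraMap _, ?_⟩⟩
  · rw [L, Groth.Agent.H74.LieDer.lie_algebraMap, theta_monomial, map_nsmul]
  · subst hn
    rw [Psi_algebraMap, Polynomial.algebraMap_apply, Algebra.algebraMap_self_apply, monomial_zero_left]

theorem ι_D_C_mem (a : A) : ι A[X] (D R A[X] (C a)) ∈ Sm R A := by
  refine ⟨1, 0, mem_pow_one_ι _, ?_, fun _ => ⟨ι A (D R A a), mem_pow_one_ι _, ?_⟩⟩
  · rw [L, Groth.Agent.H74.LieDer.lie_ι_D, theta_C, map_zero, map_zero, zero_smul]
  · rw [Psi_ι_D, Polynomial.algebraMap_apply, Algebra.algebraMap_self_apply]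

theorem ι_D_X_mem : ι A[X] (D R A[X] X) ∈ Sm R A := by
  refine ⟨1, 1, mem_pow_one_ι _, ?_, fun h => by omega⟩
  rw [L, Groth.Agent.H74.LieDer.lie_ι_D, theta_X, one_smul]

theorem algebraMap_mem_closure (f : A[X]) :
    algebraMap A[X] EB f ∈ Subring.closure (Sm R A : Set EB) := by
  induction f using Polynomial.induction_on' with
  | add p q hp hq => rw [map_add]; exact add_mem hp hq
  | monomial n a => exact Subring.subset_closure (algebraMap_monomial_mem R A n a)

theorem ι_D_mem_closure (f : A[X]) :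
    ι A[X] (D R A[X] f) ∈ Subring.closure (Sm R A : Set EB) := by
  induction f using Polynomial.induction_on with
  | C a => exact Subring.subset_closure (ι_D_C_mem R A a)
  | add p q hp hq => rw [map_add, map_add]; exact add_mem hp hq
  | monomial n a h =>
    rw [pow_succ, ← mul_assoc, Derivation.leibniz, map_add, map_smul, map_smul,
      Algebra.smul_def, Algebra.smul_def]
    exact add_mem (mul_mem (algebraMap_mem_closure R A _)
      (Subring.subset_closure (ι_D_X_mem R A))) (mul_mem (algebraMap_mem_closure R A _) h)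

theorem ι_mem_closure (ω : Ω[A[X]⁄R]) :
    ι A[X] ω ∈ Subring.closure (Sm R A : Set EB) := by
  induction Groth.Agent.H39.span_D_top R A[X] ω using Submodule.span_induction with
  | mem x hx =>
    obtain ⟨b, rfl⟩ := hx
    exact ι_D_mem_closure R A b
  | zero => rw [map_zero]; exact zero_mem _
  | add x y _ _ hx hy => rw [map_add]; exact add_mem hx hy
  | smul a x _ hx =>
    rw [map_smul, Algebra.smul_def]
    exact mul_mem (algebraMap_mem_closure R A a) hx

theorem mem_closure (Y : EB) : Y ∈ Subring.closure (Sm R A : Set EB) := by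
  induction Y using ExteriorAlgebra.induction with
  | algebraMap f => exact algebraMap_mem_closure R A f
  | ι ω => exact ι_mem_closure R A ω
  | mul a b ha hb => exact mul_mem ha hb
  | add a b ha hb => exact add_mem ha hb

theorem mem_addClosure (Y : EB) : Y ∈ AddSubgroup.closure (Sm R A : Set EB) := by
  have := (Subring.mem_closure_iff).1 (mem_closure R A Y)
  rwa [Submonoid.closure_eq] at this

variable [Algebra ℚ R]

open Groth.Agent.H74.LieDer in
/-- The spectral projectors of the Lie derivative eventually map an `i`-form to a form coming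
from `A`. -/
theorem exists_proj (i : ℕ) (Y : EB) (hY : Y ∈ ⋀[A[X]]^i (Ω[A[X]⁄R])) :
    ∃ N : ℕ, ∃ x : EA, x ∈ ⋀[A]^i (Ω[A⁄R]) ∧ ∀ M, N ≤ M → P (L R A) M Y = Psi R A A[X] x := by
  have key : ∀ Y : EB, ∃ N : ℕ, ∃ x : EA, x ∈ ⋀[A]^i (Ω[A⁄R]) ∧ ∀ M, N ≤ M →
      P (L R A) M (Groth.Agent.H74.ExtPowBC.proj A[X] (Ω[A[X]⁄R]) i Y : EB) =
        Psi R A A[X] x := by
    intro Y
    induction mem_addClosure R A Y using AddSubgroup.closure_induction with
    | mem g hg =>
      obtain ⟨i', j, hgi, hL, h0⟩ := hg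
      by_cases hii : i' = i
      · subst hii
        rw [proj_of_mem _ _ hgi]
        rcases Nat.eq_zero_or_pos j with hj | hj
        · obtain ⟨x, hx, rfl⟩ := h0 hj
          refine ⟨0, x, hx, fun M _ => P_of_eq_zero _ ?_ M⟩
          rw [hL, hj, zero_smul]
        · exact ⟨j, 0, zero_mem _, fun M hM => by rw [P_of_eigen _ hL hj hM, map_zero]⟩
      · rw [proj_of_mem_ne _ _ hii hgi]
        exact ⟨0, 0, zero_mem _, fun M _ => by rw [Submodule.coe_zero, map_zero, map_zero]⟩
    | zero =>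
      exact ⟨0, 0, zero_mem _, fun M _ => by rw [map_zero, Submodule.coe_zero, map_zero, map_zero]⟩
    | add x y _ _ hx hy =>
      obtain ⟨N, a, ha, h⟩ := hx
      obtain ⟨N', a', ha', h'⟩ := hy
      refine ⟨max N N', a + a', add_mem ha ha', fun M hM => ?_⟩
      rw [map_add, Submodule.coe_add, map_add, map_add,
        h M (le_trans (le_max_left _ _) hM), h' M (le_trans (le_max_right _ _) hM)]
    | neg x _ hx =>
      obtain ⟨N, a, ha, h⟩ := hx
      refine ⟨N, -a, neg_mem ha, fun M hM => ?_⟩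
      rw [map_neg, Submodule.coe_neg, map_neg, map_neg, h M hM]
  obtain ⟨N, x, hx, h⟩ := key Y
  rw [proj_of_mem _ _ hY] at h
  exact ⟨N, x, hx, h⟩

end Poly

end Groth.Agent.H74.DeRhamPoly
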