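import Groth.Agent.H74.Milnor

set_option autoImplicit false
universe u
open TensorProduct

namespace Groth.Agent.H74
namespace Milnor

variable {B' B A' A : Type u} [CommRing B'] [CommRing B] [CommRing A'] [CommRing A]
  [Algebra B' B] [Algebra B' A'] [Algebra B A] [Algebra A' A] [Algebra B' A]
  [IsScalarTower B' B A] [IsScalarTower B' A' A]

theorem subsingleton_of_tensor (hsq : EtMil.IsFibreSquare B' B A' A)
    (L' : Type u) [AddCommGroup L'] [Module B' L']
    [Subsingleton (B ⊗[B'] L')] [Subsingleton (A' ⊗[B'] L')] : Subsingleton L' := by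
  refine ⟨fun x y => ?_⟩
  have key : ∀ l : L', l = 0 := by
    intro l
    have h1 : ((1 : B) ⊗ₜ[B'] l : B ⊗[B'] L') = 0 := Subsingleton.elim _ _
    have hmem := mem_smul_top_of_tmul_eq_zero L' hsq l h1
    refine Submodule.smul_induction_on hmem ?_ ?_
    · intro j hj m _
      have h2 : ((1 : A') ⊗ₜ[B'] m : A' ⊗[B'] L') = 0 := Subsingleton.elim _ _
      exact smul_eq_zero_of_tmul_eq_zero L' hsq m h2 j hj
    · intro x y hx hy
      rw [hx, hy, add_zero]
  rw [key x, key y]

section general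

variable (R : Type u) (S : Type u) (M : Type u) [CommRing R] [CommRing S] [Algebra R S]
  [AddCommGroup M] [Module R M]

theorem span_one_tmul_eq_top :
    Submodule.span S (Set.range fun m : M => ((1 : S) ⊗ₜ[R] m : S ⊗[R] M)) = ⊤ := by
  rw [eq_top_iff]
  rintro x -
  induction x using TensorProduct.induction_on with
  | zero => exact Submodule.zero_mem _
  | tmul s m =>
    have : (s ⊗ₜ[R] m : S ⊗[R] M) = s • ((1 : S) ⊗ₜ[R] m) := by
      rw [TensorProduct.smul_tmul', smul_eq_mul, mul_one]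
    rw [this]
    exact Submodule.smul_mem _ _ (Submodule.subset_span ⟨m, rfl⟩)
  | add x y hx hy => exact Submodule.add_mem _ hx hy

theorem exists_finset_span_tmul [Module.Finite S (S ⊗[R] M)] :
    ∃ T : Finset M, Submodule.span S ((fun m : M => ((1 : S) ⊗ₜ[R] m : S ⊗[R] M)) '' (T : Set M)) = ⊤ := by
  classical
  obtain ⟨G, hG⟩ := (Module.finite_def.1 (inferInstance : Module.Finite S (S ⊗[R] M)))
  have h : ∀ g ∈ G, ∃ T : Finset M,
      g ∈ Submodule.span S ((fun m : M => ((1 : S) ⊗ₜ[R] m : S ⊗[R] M)) '' (T : Set M)) := by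
    intro g _
    have hg : g ∈ Submodule.span S (Set.range fun m : M => ((1 : S) ⊗ₜ[R] m : S ⊗[R] M)) := by
      rw [span_one_tmul_eq_top]; exact Submodule.mem_top
    obtain ⟨T', hT', hgT'⟩ := Submodule.mem_span_finite_of_mem_span hg
    choose f hf using fun (t : T') => hT' t.2
    refine ⟨Finset.univ.image f, ?_⟩
    refine Submodule.span_mono ?_ hgT'
    intro t ht
    refine ⟨f ⟨t, ht⟩, ?_, hf ⟨t, ht⟩⟩
    simp
  choose T hT using h
  refine ⟨G.attach.biUnion fun g => T g.1 g.2, ?_⟩
  rw [eq_top_iff, ← hG, Submodule.span_le]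
  intro g hg
  refine Submodule.span_mono ?_ (hT g hg)
  apply Set.image_mono
  intro m hm
  simp only [Finset.coe_biUnion, Set.mem_iUnion]
  exact ⟨⟨g, hg⟩, by simp, hm⟩

theorem subsingleton_tensor_quot (T : Set M)
    (hT : Submodule.span S ((fun m : M => ((1 : S) ⊗ₜ[R] m : S ⊗[R] M)) '' T) = ⊤) :
    Subsingleton (S ⊗[R] (M ⧸ Submodule.span R T)) := by
  have hsurj : Function.Surjective ((Submodule.span R T).mkQ.baseChange S) := by
    have := LinearMap.lTensor_surjective S (Submodule.mkQ_surjective (Submodule.span R T))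
    exact this
  have hzero : (Submodule.span R T).mkQ.baseChange S = 0 := by
    apply LinearMap.ext_on hT
    rintro _ ⟨m, hm, rfl⟩
    simp only [LinearMap.baseChange_tmul, LinearMap.zero_apply]
    have : (Submodule.span R T).mkQ m = 0 := by
      rw [Submodule.mkQ_apply, Submodule.Quotient.mk_eq_zero]
      exact Submodule.subset_span hm
    rw [this, TensorProduct.tmul_zero]
  refine ⟨fun x y => ?_⟩
  obtain ⟨x', rfl⟩ := hsurj x
  obtain ⟨y', rfl⟩ := hsurj y
  rw [hzero]; rfl

end general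

theorem finite_of_finite_tensor (hsq : EtMil.IsFibreSquare B' B A' A)
    (L' : Type u) [AddCommGroup L'] [Module B' L']
    [Module.Finite B (B ⊗[B'] L')] [Module.Finite A' (A' ⊗[B'] L')] : Module.Finite B' L' := by
  classical
  obtain ⟨T₁, hT₁⟩ := exists_finset_span_tmul B' B L'
  obtain ⟨T₂, hT₂⟩ := exists_finset_span_tmul B' A' L'
  have h1 : Submodule.span B ((fun m : L' => ((1 : B) ⊗ₜ[B'] m : B ⊗[B'] L')) '' ((T₁ ∪ T₂ : Finset L') : Set L')) = ⊤ := by
    rw [eq_top_iff, ← hT₁]
    apply Submodule.span_mono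
    apply Set.image_mono
    simp
  have h2 : Submodule.span A' ((fun m : L' => ((1 : A') ⊗ₜ[B'] m : A' ⊗[B'] L')) '' ((T₁ ∪ T₂ : Finset L') : Set L')) = ⊤ := by
    rw [eq_top_iff, ← hT₂]
    apply Submodule.span_mono
    apply Set.image_mono
    simp
  haveI := subsingleton_tensor_quot B' B L' _ h1
  haveI := subsingleton_tensor_quot B' A' L' _ h2
  have hQ := subsingleton_of_tensor hsq (L' ⧸ Submodule.span B' ((T₁ ∪ T₂ : Finset L') : Set L'))
  have htop : Submodule.span B' ((T₁ ∪ T₂ : Finset L') : Set L') = ⊤ :=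
    Submodule.Quotient.subsingleton_iff.1 hQ
  exact ⟨⟨T₁ ∪ T₂, htop⟩⟩

end Milnor
end Groth.Agent.H74
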