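import Mathlib

/-!
# Change of base point for an Albanese-type universal morphism (helper74)

Formal computation in the Hom-groups of a group object of a cartesian monoidal category.
-/

open CategoryTheory MonoidalCategory CartesianMonoidalCategory MonObj GrpObj

namespace Groth.Agent.H74.AlbBase

universe v u
variable {C : Type u} [Category.{v} C] [CartesianMonoidalCategory C]

theorem pt_comp_toUnit {X : C} (x : 𝟙_ C ⟶ X) : x ≫ toUnit X = 𝟙 (𝟙_ C) :=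
  toUnit_unique _ _

theorem one_eq_eta (A : C) [GrpObj A] : (1 : 𝟙_ C ⟶ A) = η[A] := by
  rw [Hom.one_def, toUnit_unique (toUnit (𝟙_ C)) (𝟙 _), Category.id_comp]

/-- value of a translated map at a point -/
theorem pt_comp_mul_const_inv {X A : C} [GrpObj A] (x y : 𝟙_ C ⟶ X) (f : X ⟶ A) :
    x ≫ (f * (toUnit X ≫ y ≫ f)⁻¹) = (x ≫ f) * (y ≫ f)⁻¹ := by
  rw [MonObj.comp_mul, GrpObj.comp_inv, ← Category.assoc, pt_comp_toUnit, Category.id_comp]

theorem base_point_self {X A : C} [GrpObj A] (x₁ : 𝟙_ C ⟶ X) (alb : X ⟶ A) :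
    x₁ ≫ (alb * (toUnit X ≫ x₁ ≫ alb)⁻¹) = η[A] := by
  rw [pt_comp_mul_const_inv, _root_.mul_inv_cancel, one_eq_eta]

/-- The universal property transported to a new base point, for a fixed target `B`. -/
theorem existsUnique_of_base_change {X A B : C} [GrpObj A] [GrpObj B]
    (x₀ x₁ : 𝟙_ C ⟶ X) (alb : X ⟶ A) (halb : x₀ ≫ alb = η[A])
    (huniv : ∀ g : X ⟶ B, x₀ ≫ g = η[B] → ∃! h : A ⟶ B, IsMonHom h ∧ alb ≫ h = g)
    (g : X ⟶ B) (hg : x₁ ≫ g = η[B]) :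
    ∃! h : A ⟶ B, IsMonHom h ∧ (alb * (toUnit X ≫ x₁ ≫ alb)⁻¹) ≫ h = g := by
  have halb1 : x₀ ≫ alb = 1 := by rw [halb, one_eq_eta]
  have hg1 : x₁ ≫ g = 1 := by rw [hg, one_eq_eta]
  set g₀ : X ⟶ B := g * (toUnit X ≫ x₀ ≫ g)⁻¹ with hg₀
  have hg₀pt : x₀ ≫ g₀ = η[B] := base_point_self x₀ g
  obtain ⟨h, ⟨hh, hcomp⟩, huniq⟩ := huniv g₀ hg₀pt
  haveI := hh
  have key : ∀ h' : A ⟶ B, IsMonHom h' →
      (alb * (toUnit X ≫ x₁ ≫ alb)⁻¹) ≫ h' =
        (alb ≫ h') * (toUnit X ≫ x₁ ≫ alb ≫ h')⁻¹ := by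
    intro h' hh'
    haveI := hh'
    rw [MonObj.mul_comp, GrpObj.inv_comp]
    simp only [Category.assoc]
  refine ⟨h, ⟨hh, ?_⟩, ?_⟩
  · rw [key h hh, hcomp]
    have h1 : x₁ ≫ g₀ = (x₀ ≫ g)⁻¹ := by
      rw [hg₀, pt_comp_mul_const_inv, hg1, _root_.one_mul]
    rw [h1, hg₀, GrpObj.comp_inv, _root_.inv_inv, ← Category.assoc, inv_mul_cancel_right]
  · intro h' ⟨hh', hcomp'⟩
    haveI := hh'
    apply huniq h'
    refine ⟨hh', ?_⟩
    have e := key h' hh'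
    rw [hcomp'] at e
    -- e : g = (alb ≫ h') * (toUnit X ≫ x₁ ≫ alb ≫ h')⁻¹
    have h2 : x₀ ≫ g = (x₁ ≫ alb ≫ h')⁻¹ := by
      rw [e, MonObj.comp_mul, GrpObj.comp_inv, ← Category.assoc x₀ (toUnit X), pt_comp_toUnit,
        Category.id_comp, ← Category.assoc x₀ alb, halb1, MonObj.one_comp, _root_.one_mul]
    rw [hg₀, h2, GrpObj.comp_inv, _root_.inv_inv]
    nth_rewrite 1 [e]
    rw [inv_mul_cancel_right]

end Groth.Agent.H74.AlbBase
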