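import Mathlib

/-!
# A block Leibniz identity (generalised Laplace expansion summed over all permutations) (helper74)
-/

open Equiv Finset Matrix

namespace Groth.Agent.H74.BlockLaplace

variable {k : Type*} [CommRing k] {p r : ℕ}

/-- Summing `sign π · (top-left minor) · (bottom-right minor)` of the column-permuted matrix over
all permutations gives `p! r!` times the determinant of the matrix with rows `ρ₁, ρ₂`. -/
theorem sum_sign_mul_det_mul_det (M : Matrix (Fin (p + r)) (Fin (p + r)) k)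
    (ρ₁ : Fin p → Fin (p + r)) (ρ₂ : Fin r → Fin (p + r)) :
    ∑ π : Perm (Fin (p + r)), (((Perm.sign π : ℤˣ) : ℤ) : k) *
        ((M.submatrix id π.symm).submatrix ρ₁ (Fin.castAdd r)).det *
        ((M.submatrix id π.symm).submatrix ρ₂ (Fin.natAdd p)).det =
      ((p.factorial * r.factorial : ℕ) : k) *
        (M.submatrix (Sum.elim ρ₁ ρ₂ ∘ finSumFinEquiv.symm) id).det := by
  classical
  set e : Fin p ⊕ Fin r ≃ Fin (p + r) := finSumFinEquiv with he
  set ρ : Fin p ⊕ Fin r → Fin (p + r) := Sum.elim ρ₁ ρ₂ with hρ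
  set N := M.submatrix (ρ ∘ e.symm) id with hN
  -- the determinant of `N` via its transpose
  have hdetN : N.det = ∑ σ : Perm (Fin (p + r)), (((Perm.sign σ : ℤˣ) : ℤ) : k) *
      ∏ i, M (ρ (e.symm i)) (σ i) := by
    rw [← det_transpose, det_apply']
    rfl
  -- expansion of the product of the two minors
  have h1 : ∀ π : Perm (Fin (p + r)), (((Perm.sign π : ℤˣ) : ℤ) : k) *
        ((M.submatrix id π.symm).submatrix ρ₁ (Fin.castAdd r)).det *
        ((M.submatrix id π.symm).submatrix ρ₂ (Fin.natAdd p)).det =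
      ∑ τ₁ : Perm (Fin p), ∑ τ₂ : Perm (Fin r),
        (((Perm.sign π : ℤˣ) : ℤ) : k) * (((Perm.sign τ₁ : ℤˣ) : ℤ) : k) * (((Perm.sign τ₂ : ℤˣ) : ℤ) : k) *
          ∏ j : Fin p ⊕ Fin r, M (ρ (sumCongr τ₁ τ₂ j)) (π.symm (e j)) := by
    intro π
    rw [det_apply', det_apply', mul_assoc, Finset.sum_mul_sum, Finset.mul_sum]
    refine Finset.sum_congr rfl fun τ₁ _ => ?_
    rw [Finset.mul_sum]
    refine Finset.sum_congr rfl fun τ₂ _ => ?_
    rw [Fintype.prod_sum_type]
    simp only [submatrix_apply, id_eq, sumCongr_apply, Sum.map_inl, Sum.map_inr, hρ, Sum.elim_inl,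
      Sum.elim_inr, he, finSumFinEquiv_apply_left, finSumFinEquiv_apply_right]
    ring
  simp_rw [h1]
  rw [Finset.sum_comm]
  have h2 : ∀ (τ₁ : Perm (Fin p)) (τ₂ : Perm (Fin r)),
      ∑ π : Perm (Fin (p + r)),
        (((Perm.sign π : ℤˣ) : ℤ) : k) * (((Perm.sign τ₁ : ℤˣ) : ℤ) : k) * (((Perm.sign τ₂ : ℤˣ) : ℤ) : k) *
          ∏ j : Fin p ⊕ Fin r, M (ρ (sumCongr τ₁ τ₂ j)) (π.symm (e j)) = N.det := by
    intro τ₁ τ₂
    set τ := sumCongr τ₁ τ₂ with hτ
    set τh : Perm (Fin (p + r)) := e.permCongr τ with hτh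
    rw [hdetN]
    -- reindex the sum over permutations
    rw [← Equiv.sum_comp ((Equiv.mulLeft τh).trans (Equiv.inv (Perm (Fin (p + r)))))
      (fun σ => (((Perm.sign σ : ℤˣ) : ℤ) : k) * ∏ i, M (ρ (e.symm i)) (σ i))]
    refine Finset.sum_congr rfl fun π _ => ?_
    simp only [Equiv.trans_apply, Equiv.coe_mulLeft, Equiv.inv_apply]
    have hsign : (((Perm.sign (τh * π)⁻¹ : ℤˣ) : ℤ) : k) =
        (((Perm.sign π : ℤˣ) : ℤ) : k) * (((Perm.sign τ₁ : ℤˣ) : ℤ) : k) * (((Perm.sign τ₂ : ℤˣ) : ℤ) : k) := by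
      rw [Perm.sign_inv, Perm.sign_mul, hτh, Perm.sign_permCongr, hτ, Perm.sign_sumCongr]
      push_cast
      ring
    rw [hsign]
    congr 1
    rw [← Equiv.prod_comp τ.symm, ← Equiv.prod_comp e.symm]
    refine Finset.prod_congr rfl fun i _ => ?_
    have : (τh * π)⁻¹ i = π.symm (e (τ.symm (e.symm i))) := by
      rw [_root_.mul_inv_rev, Perm.mul_apply, hτh]
      rfl
    rw [this, Equiv.apply_symm_apply]
  have h3 : ∀ τ₁ : Perm (Fin p), ∑ π : Perm (Fin (p + r)), ∑ τ₂ : Perm (Fin r),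
        (((Perm.sign π : ℤˣ) : ℤ) : k) * (((Perm.sign τ₁ : ℤˣ) : ℤ) : k) *
          (((Perm.sign τ₂ : ℤˣ) : ℤ) : k) *
          ∏ j : Fin p ⊕ Fin r, M (ρ (sumCongr τ₁ τ₂ j)) (π.symm (e j)) =
      ∑ _τ₂ : Perm (Fin r), N.det := by
    intro τ₁
    rw [Finset.sum_comm]
    exact Finset.sum_congr rfl fun τ₂ _ => h2 τ₁ τ₂
  simp_rw [h3]
  simp only [Finset.sum_const, Finset.card_univ, Fintype.card_perm, Fintype.card_fin, nsmul_eq_mul]
  push_cast
  ring


/-- On `Fin n`, the sign is the inversion-count sign `signAux`. -/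
theorem sign_eq_signAux {n : ℕ} (σ : Perm (Fin n)) : Perm.sign σ = Perm.signAux σ := by
  by_cases hn : 2 ≤ n
  · let s : Perm (Fin n) →* ℤˣ := MonoidHom.mk' Perm.signAux Perm.signAux_mul
    have hs : Function.Surjective s := by
      intro u
      rcases Int.units_eq_one_or u with h | h
      · exact ⟨1, by rw [h]; exact map_one s⟩
      · refine ⟨swap (⟨0, by omega⟩ : Fin n) ⟨1, by omega⟩, ?_⟩
        rw [h]
        exact Perm.signAux_swap (by simp [Fin.ext_iff])
    have := Perm.eq_sign_of_surjective_hom hs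
    rw [← this]
    rfl
  · have : Subsingleton (Fin n) := by
      rw [Fin.subsingleton_iff_le_one]; omega
    have h1 : σ = 1 := Subsingleton.elim _ _
    rw [h1, Perm.sign_one, Perm.signAux_one]


/-- The sign of the shuffle permutation listing `A` increasingly and then `Aᶜ` increasingly. -/
theorem sign_shuffle (A B : Finset (Fin (p + r))) (hA : A.card = p) (hB : B.card = r)
    (hBA : B = Aᶜ) (ρh : Perm (Fin (p + r)))
    (hρh : ∀ i, ρh i =
      Sum.elim (A.orderEmbOfFin hA) (B.orderEmbOfFin hB) (finSumFinEquiv.symm i)) :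
    ((Perm.sign ρh : ℤˣ) : ℤ) = (-1) ^ ((A ×ˢ Aᶜ).filter (fun ab => ab.2 < ab.1)).card := by
  classical
  have hl : ∀ s : Fin p, ρh (Fin.castAdd r s) = A.orderEmbOfFin hA s := by
    intro s
    rw [hρh, finSumFinEquiv_symm_apply_castAdd]; rfl
  have hr : ∀ t : Fin r, ρh (Fin.natAdd p t) = B.orderEmbOfFin hB t := by
    intro t
    rw [hρh, finSumFinEquiv_symm_apply_natAdd]; rfl
  have hmemA : ∀ s, A.orderEmbOfFin hA s ∈ A := fun s => Finset.orderEmbOfFin_mem A hA s
  have hmemB : ∀ t, B.orderEmbOfFin hB t ∈ Aᶜ := fun t => hBA ▸ Finset.orderEmbOfFin_mem B hB t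
  rw [sign_eq_signAux, Perm.signAux, Finset.prod_ite, Finset.prod_const_one, mul_one,
    Finset.prod_const]
  push_cast
  congr 1
  -- the bijection between inversions and pairs
  refine Finset.card_bij (fun x _ => (ρh x.2, ρh x.1)) ?_ ?_ ?_
  · intro x hx
    rw [Finset.mem_filter, Perm.mem_finPairsLT] at hx
    obtain ⟨hlt, hle⟩ := hx
    obtain ⟨x1, x2⟩ := x
    simp only at hlt hle ⊢
    rw [Finset.mem_filter, Finset.mem_product]
    induction x1 using Fin.addCases with
    | left s1 =>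
      induction x2 using Fin.addCases with
      | left s2 =>
        exfalso
        rw [hl, hl] at hle
        have h := (A.orderEmbOfFin hA).le_iff_le.mp hle
        simp only [Fin.lt_def, Fin.val_castAdd] at hlt
        exact absurd (Fin.le_def.mp h) (by omega)
      | right t2 =>
        exfalso
        simp only [Fin.lt_def, Fin.val_castAdd, Fin.val_natAdd] at hlt
        have := s1.isLt
        omega
    | right t1 =>
      induction x2 using Fin.addCases with
      | left s2 =>
        rw [hl, hr] at hle ⊢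
        refine ⟨⟨hmemA s2, hmemB t1⟩, lt_of_le_of_ne hle ?_⟩
        intro h
        have h1 := hmemB t1
        rw [Finset.mem_compl] at h1
        apply h1
        have h' : (B.orderEmbOfFin hB) t1 = (A.orderEmbOfFin hA) s2 := h
        rw [h']
        exact hmemA s2
      | right t2 =>
        exfalso
        rw [hr, hr] at hle
        have h := (B.orderEmbOfFin hB).le_iff_le.mp hle
        simp only [Fin.lt_def, Fin.val_natAdd] at hlt
        exact absurd (Fin.le_def.mp h) (by omega)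
  · intro x _ y _ h
    simp only [Prod.mk.injEq] at h
    obtain ⟨x1, x2⟩ := x
    obtain ⟨y1, y2⟩ := y
    simp only at h
    have h1 := ρh.injective h.1
    have h2 := ρh.injective h.2
    subst h1; subst h2; rfl
  · rintro ⟨a, b⟩ hab
    rw [Finset.mem_filter, Finset.mem_product] at hab
    obtain ⟨⟨ha, hb⟩, hlt⟩ := hab
    simp only at ha hb hlt
    have ha' : a ∈ Set.range (A.orderEmbOfFin hA) := by
      rw [Finset.range_orderEmbOfFin]; exact ha
    have hb' : b ∈ Set.range (B.orderEmbOfFin hB) := by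
      rw [Finset.range_orderEmbOfFin, hBA]; exact hb
    obtain ⟨s, rfl⟩ := ha'
    obtain ⟨t, rfl⟩ := hb'
    refine ⟨⟨Fin.natAdd p t, Fin.castAdd r s⟩, ?_, ?_⟩
    · rw [Finset.mem_filter, Perm.mem_finPairsLT]
      refine ⟨?_, ?_⟩
      · simp only [Fin.lt_def, Fin.val_castAdd, Fin.val_natAdd]
        have := s.isLt
        omega
      · simp only [hl, hr]
        exact hlt.le
    · simp only [hl, hr]

end Groth.Agent.H74.BlockLaplace
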