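import Groth.Agent.H74.CircCoprime

/-!
# The total blow-up graph of a labelled graph (helper74)

Multidegree at the new vertices, discrete second differences along the paths, and the
equivalence "ε surjective ↔ coboundary onto `⊕ ℤ/l_e`".
-/

open Finset

namespace Groth.Agent.H74.BlowUp

universe u
variable {V E : Type u} [Fintype V] [Fintype E] [DecidableEq V] [DecidableEq E]

open LabGraph DualGr Groth.Agent.H74.CircCoprime

omit [Fintype V] [Fintype E] [DecidableEq V] [DecidableEq E] in
theorem pathVert_zero (ends : E → V × V) (l : E → ℕ) (e : E) :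
    pathVert ends l e 0 = Sum.inl (ends e).1 := by
  simp [pathVert]

omit [Fintype V] [Fintype E] [DecidableEq V] [DecidableEq E] in
theorem pathVert_mid (ends : E → V × V) (l : E → ℕ) (e : E) (i : ℕ) (h0 : 0 < i) (hi : i < l e) :
    pathVert ends l e i = Sum.inr ⟨e, ⟨i - 1, by omega⟩⟩ := by
  simp [pathVert, h0.ne', hi]

omit [Fintype V] [Fintype E] [DecidableEq V] [DecidableEq E] in
theorem pathVert_top (ends : E → V × V) (l : E → ℕ) (e : E) (i : ℕ) (h0 : 0 < i) (hi : l e ≤ i) :
    pathVert ends l e i = Sum.inl (ends e).2 := by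
  simp [pathVert, h0.ne', not_lt.mpr hi]

omit [Fintype V] [Fintype E] [DecidableEq V] [DecidableEq E] in
theorem pathVert_eq_inr_iff (ends : E → V × V) (l : E → ℕ) (e' e : E) (k : ℕ)
    (j : Fin (l e - 1)) :
    pathVert ends l e' k = Sum.inr ⟨e, j⟩ ↔ e' = e ∧ k = j.val + 1 := by
  unfold pathVert
  split_ifs with h0 h
  · constructor
    · intro h; exact absurd h (by simp)
    · rintro ⟨-, h⟩; omega
  · constructor
    · intro heq
      have h1 := Sum.inr.inj heq
      have h2 : e' = e := congrArg Sigma.fst h1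
      subst h2
      have h3 := eq_of_heq (Sigma.mk.inj_iff.mp h1).2
      have h4 := congrArg Fin.val h3
      simp only at h4
      exact ⟨rfl, by omega⟩
    · rintro ⟨rfl, hk⟩
      congr 2
      apply Fin.ext
      simp only
      omega
  · constructor
    · intro h; exact absurd h (by simp)
    · rintro ⟨rfl, hk⟩
      have := j.2
      omega

omit [Fintype V] in
/-- The multidegree of the blow-up graph at a new vertex is the second difference along the
path. -/
theorem mdeg_bl_inr (ends : E → V × V) (l : E → ℕ) (ψ : BlVert V E l → ℤ) (e : E)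
    (j : Fin (l e - 1)) :
    mdeg (blEnds ends l) (fun _ => 1) ψ (Sum.inr ⟨e, j⟩) =
      (ψ (pathVert ends l e (j.val + 2)) - ψ (pathVert ends l e (j.val + 1))) +
      (ψ (pathVert ends l e j.val) - ψ (pathVert ends l e (j.val + 1))) := by
  classical
  have hj := j.2
  simp only [mdeg, blEnds, Nat.cast_one, Int.ediv_one, Finset.sum_add_distrib]
  congr 1
  · rw [Finset.sum_eq_single (⟨e, ⟨j.val + 1, by omega⟩⟩ : BlEdge E l)]
    · rw [if_pos ((pathVert_eq_inr_iff ends l e e _ j).mpr ⟨rfl, rfl⟩)]
    · rintro ⟨e', k⟩ _ hne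
      rw [if_neg]
      intro h
      obtain ⟨rfl, hk⟩ := (pathVert_eq_inr_iff ends l _ _ _ j).mp h
      apply hne
      congr 1
      exact Fin.ext hk
    · intro h; exact absurd (Finset.mem_univ _) h
  · rw [Finset.sum_eq_single (⟨e, ⟨j.val, by omega⟩⟩ : BlEdge E l)]
    · rw [if_pos ((pathVert_eq_inr_iff ends l e e _ j).mpr ⟨rfl, rfl⟩)]
    · rintro ⟨e', k⟩ _ hne
      rw [if_neg]
      intro h
      obtain ⟨rfl, hk⟩ := (pathVert_eq_inr_iff ends l _ _ _ j).mp h
      apply hne
      congr 1
      apply Fin.ext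
      simp only at hk ⊢
      omega
    · intro h; exact absurd (Finset.mem_univ _) h

/-- Summation by parts for second differences. -/
theorem sum_second_diff (s : ℕ → ℤ) (m : ℕ) :
    ∑ i ∈ Finset.range m, ((i : ℤ) + 1) * (s (i + 2) - 2 * s (i + 1) + s i) =
      ((m : ℤ) + 1) * (s (m + 1) - s m) - (s (m + 1) - s 0) := by
  induction m with
  | zero => simp
  | succ m ih =>
    rw [Finset.sum_range_succ, ih]
    push_cast
    ring

/-- First differences of the explicit solution of the path recurrence. -/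
theorem solution_diff (A d : ℤ) (B : ℕ → ℤ) (i : ℕ) :
    (A + ((i + 1 : ℕ) : ℤ) * d - ∑ k ∈ Finset.range (i + 1), (((i + 1 : ℕ) : ℤ) - k) * B k) -
      (A + (i : ℤ) * d - ∑ k ∈ Finset.range i, ((i : ℤ) - k) * B k) =
      d - ∑ k ∈ Finset.range (i + 1), B k := by
  rw [Finset.sum_range_succ, Finset.sum_range_succ]
  have : ∑ k ∈ Finset.range i, (((i + 1 : ℕ) : ℤ) - k) * B k =
      ∑ k ∈ Finset.range i, ((i : ℤ) - k) * B k + ∑ k ∈ Finset.range i, B k := by
    rw [← Finset.sum_add_distrib]
    refine Finset.sum_congr rfl fun k _ => ?_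
    push_cast; ring
  rw [this]
  push_cast
  ring


/-- Surjectivity of `ε`, unpacked. -/
def BlSurj (ends : E → V × V) (l : E → ℕ) : Prop :=
  ∀ β : BlVert V E l → ℤ, ∃ (ψ : BlVert V E l → ℤ) (α : V → ℤ),
    ∀ w : BlVert V E l,
      mdeg (blEnds ends l) (fun _ => 1) ψ w + β w = Sum.elim α (fun _ => (0 : ℤ)) w

omit [Fintype V] in
theorem cobSurj_of_blSurj (ends : E → V × V) (l : E → ℕ) (hl : ∀ e, 0 < l e)
    (h : BlSurj ends l) : CobSurj ends l := by
  classical
  intro x
  obtain ⟨ψ, α, hψ⟩ := h (Sum.elim (fun _ => 0) (fun p => if p.2.val = 0 then x p.1 else 0))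
  set φ : V → ℤ := fun v => ψ (Sum.inl v) with hφ
  have hdiv : ∀ e, (l e : ℤ) ∣ x e - (φ (ends e).2 - φ (ends e).1) := by
    intro e
    obtain ⟨m, hm⟩ : ∃ m, l e = m + 1 := ⟨l e - 1, by have := hl e; omega⟩
    set s : ℕ → ℤ := fun i => ψ (pathVert ends l e i) with hs
    have hsum := sum_second_diff s m
    have hterm : ∀ i ∈ Finset.range m,
        ((i : ℤ) + 1) * (s (i + 2) - 2 * s (i + 1) + s i) = if i = 0 then - x e else 0 := by
      intro i hi
      rw [Finset.mem_range] at hi
      have h1 := hψ (Sum.inr ⟨e, ⟨i, by omega⟩⟩)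
      rw [mdeg_bl_inr] at h1
      simp only [Sum.elim_inr] at h1
      by_cases hi0 : i = 0
      · subst hi0
        simp only [if_true, Nat.zero_add] at h1
        simp only [hs, if_pos rfl, Nat.zero_add]
        push_cast
        linarith
      · simp only [if_neg hi0] at h1 ⊢
        have : s (i + 2) - 2 * s (i + 1) + s i = 0 := by
          simp only [hs]; linarith
        rw [this, mul_zero]
    rw [Finset.sum_congr rfl hterm, Finset.sum_ite_eq'] at hsum
    have hs0 : s 0 = φ (ends e).1 := by
      simp only [hs, hφ, pathVert_zero]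
    have hsl : s (m + 1) = φ (ends e).2 := by
      simp only [hs, hφ]
      rw [pathVert_top ends l e (m + 1) (by omega) (by omega)]
    rw [hs0, hsl] at hsum
    by_cases hm0 : 0 ∈ Finset.range m
    · rw [if_pos hm0] at hsum
      refine ⟨s m - φ (ends e).2, ?_⟩
      rw [hm]
      push_cast
      linarith
    · have : m = 0 := by
        rw [Finset.mem_range] at hm0; omega
      rw [hm, this]
      simp
  choose y hy using hdiv
  refine ⟨φ, y, fun e => ?_⟩
  have := hy e
  linarith

omit [Fintype V] in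
theorem blSurj_of_cobSurj (ends : E → V × V) (l : E → ℕ) (hl : ∀ e, 0 < l e)
    (h : CobSurj ends l) : BlSurj ends l := by
  classical
  intro β
  set B : E → ℕ → ℤ := fun e k =>
    if h : 0 < k ∧ k < l e then β (Sum.inr ⟨e, ⟨k - 1, by omega⟩⟩) else 0 with hB
  obtain ⟨φ, y, hc⟩ := h (fun e => ∑ k ∈ Finset.range (l e), (k : ℤ) * B e k)
  set d : E → ℤ := fun e => ∑ k ∈ Finset.range (l e), B e k - y e with hd
  set S : E → ℕ → ℤ := fun e i =>
    φ (ends e).1 + (i : ℤ) * d e - ∑ k ∈ Finset.range i, ((i : ℤ) - k) * B e k with hS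
  set ψ : BlVert V E l → ℤ := Sum.elim φ (fun p => S p.1 (p.2.val + 1)) with hψ
  have hpath : ∀ e i, i ≤ l e → ψ (pathVert ends l e i) = S e i := by
    intro e i hi
    rcases Nat.eq_zero_or_pos i with rfl | h0
    · rw [pathVert_zero]
      simp [hψ, hS]
    · rcases lt_or_eq_of_le hi with hlt | rfl
      · rw [pathVert_mid ends l e i h0 hlt]
        simp only [hψ, Sum.elim_inr]
        rw [Nat.sub_add_cancel h0]
      · rw [pathVert_top ends l e _ h0 le_rfl]
        simp only [hψ, Sum.elim_inl, hS, hd]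
        have h1 : ∑ k ∈ Finset.range (l e), (((l e : ℕ) : ℤ) - k) * B e k =
            (l e : ℤ) * ∑ k ∈ Finset.range (l e), B e k -
              ∑ k ∈ Finset.range (l e), (k : ℤ) * B e k := by
          rw [Finset.mul_sum, ← Finset.sum_sub_distrib]
          refine Finset.sum_congr rfl fun k _ => ?_
          ring
        rw [h1]
        have := hc e
        linarith
  refine ⟨ψ, fun v => mdeg (blEnds ends l) (fun _ => 1) ψ (Sum.inl v) + β (Sum.inl v), ?_⟩
  rintro (v | ⟨e, j⟩)
  · simp only [Sum.elim_inl]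
  · have hj := j.2
    rw [mdeg_bl_inr, hpath e _ (by omega), hpath e _ (by omega), hpath e _ (by omega)]
    simp only [Sum.elim_inr]
    have h1 := solution_diff (φ (ends e).1) (d e) (B e) (j.val + 1)
    have h2 := solution_diff (φ (ends e).1) (d e) (B e) j.val
    have h3 : S e (j.val + 2) - S e (j.val + 1) =
        d e - ∑ k ∈ Finset.range (j.val + 1 + 1), B e k := h1
    have h4 : S e (j.val + 1) - S e j.val = d e - ∑ k ∈ Finset.range (j.val + 1), B e k := h2
    rw [Finset.sum_range_succ] at h3
    have h5 : B e (j.val + 1) = β (Sum.inr ⟨e, j⟩) := by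
      simp only [hB]
      rw [dif_pos ⟨by omega, by omega⟩]
      rfl
    rw [h5] at h3
    linarith

theorem blSurj_iff_circuitCoprime (ends : E → V × V) (l : E → ℕ) (hl : ∀ e, 0 < l e) :
    BlSurj ends l ↔ IsCircuitCoprime ends l := by
  rw [circuitCoprime_iff_cobSurj ends l hl]
  exact ⟨cobSurj_of_blSurj ends l hl, blSurj_of_cobSurj ends l hl⟩


omit [Fintype V] [Fintype E] [DecidableEq V] [DecidableEq E] in
theorem pathVert_eq_inl_iff (ends : E → V × V) (l : E → ℕ) (e : E) (k : ℕ) (hk : k < l e)
    (v : V) : pathVert ends l e k = Sum.inl v ↔ k = 0 ∧ (ends e).1 = v := by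
  unfold pathVert
  split_ifs with h0
  · simp [h0]
  · simp [h0]

omit [Fintype V] [Fintype E] [DecidableEq V] [DecidableEq E] in
theorem pathVert_succ_eq_inl_iff (ends : E → V × V) (l : E → ℕ) (e : E) (k : ℕ) (hk : k < l e)
    (v : V) : pathVert ends l e (k + 1) = Sum.inl v ↔ k + 1 = l e ∧ (ends e).2 = v := by
  unfold pathVert
  rw [dif_neg (Nat.succ_ne_zero k)]
  split_ifs with h
  · constructor
    · intro h'; exact absurd h' (by simp)
    · rintro ⟨h', -⟩; omega
  · constructor
    · intro h'
      exact ⟨by omega, Sum.inl.inj h'⟩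
    · rintro ⟨-, h'⟩; rw [h']

omit [Fintype V] in
/-- The multidegree of the blow-up graph at an old vertex. -/
theorem mdeg_bl_inl (ends : E → V × V) (l : E → ℕ) (hl : ∀ e, 0 < l e) (ψ : BlVert V E l → ℤ)
    (v : V) :
    mdeg (blEnds ends l) (fun _ => 1) ψ (Sum.inl v) =
      ∑ e : E, ((if (ends e).1 = v then
          ψ (pathVert ends l e 1) - ψ (pathVert ends l e 0) else 0) +
        (if (ends e).2 = v then
          ψ (pathVert ends l e (l e - 1)) - ψ (pathVert ends l e (l e)) else 0)) := by
  classical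
  simp only [mdeg, blEnds, Nat.cast_one, Int.ediv_one]
  rw [Fintype.sum_sigma]
  refine Finset.sum_congr rfl fun e _ => ?_
  have hle := hl e
  rw [Finset.sum_add_distrib]
  congr 1
  · rw [Finset.sum_eq_single (⟨0, hle⟩ : Fin (l e))]
    · by_cases hv : (ends e).1 = v
      · rw [if_pos hv, if_pos ((pathVert_eq_inl_iff ends l e 0 hle v).mpr ⟨rfl, hv⟩)]
      · rw [if_neg hv, if_neg]
        intro h
        exact hv ((pathVert_eq_inl_iff ends l e 0 hle v).mp h).2
    · intro k _ hk0
      rw [if_neg]
      intro h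
      apply hk0
      exact Fin.ext ((pathVert_eq_inl_iff ends l e k.val k.2 v).mp h).1
    · intro h; exact absurd (Finset.mem_univ _) h
  · rw [Finset.sum_eq_single (⟨l e - 1, by omega⟩ : Fin (l e))]
    · simp only
      have hk1 : l e - 1 + 1 = l e := by omega
      by_cases hv : (ends e).2 = v
      · rw [if_pos hv, if_pos ((pathVert_succ_eq_inl_iff ends l e (l e - 1) (by omega) v).mpr
          ⟨hk1, hv⟩), hk1]
      · rw [if_neg hv, if_neg]
        intro h
        exact hv ((pathVert_succ_eq_inl_iff ends l e (l e - 1) (by omega) v).mp h).2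
    · intro k _ hk0
      rw [if_neg]
      intro h
      apply hk0
      apply Fin.ext
      have := ((pathVert_succ_eq_inl_iff ends l e k.val k.2 v).mp h).1
      simp only
      omega
    · intro h; exact absurd (Finset.mem_univ _) h

omit [Fintype V] in
/-- Injectivity of `ε`. -/
theorem exists_cartier_of_bl (ends : E → V × V) (l : E → ℕ) (hl : ∀ e, 0 < l e)
    (α : V → ℤ) (ψ : BlVert V E l → ℤ)
    (hψ : ∀ w : BlVert V E l,
      mdeg (blEnds ends l) (fun _ => 1) ψ w = Sum.elim α (fun _ => (0 : ℤ)) w) :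
    ∃ φ : V → ℤ, IsCartier ends l φ ∧ ∀ v : V, mdeg ends l φ v = α v := by
  classical
  set φ : V → ℤ := fun v => ψ (Sum.inl v) with hφ
  -- along each path the first differences are constant
  have key : ∀ e, ∃ t : ℤ, φ (ends e).2 - φ (ends e).1 = (l e : ℤ) * t ∧
      ψ (pathVert ends l e 1) - ψ (pathVert ends l e 0) = t ∧
      ψ (pathVert ends l e (l e - 1)) - ψ (pathVert ends l e (l e)) = -t := by
    intro e
    obtain ⟨m, hm⟩ : ∃ m, l e = m + 1 := ⟨l e - 1, by have := hl e; omega⟩
    set s : ℕ → ℤ := fun i => ψ (pathVert ends l e i) with hs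
    have hrec : ∀ i, i < m → s (i + 2) - 2 * s (i + 1) + s i = 0 := by
      intro i hi
      have h1 := hψ (Sum.inr ⟨e, ⟨i, by omega⟩⟩)
      rw [mdeg_bl_inr] at h1
      simp only [Sum.elim_inr] at h1
      simp only [hs]
      linarith
    have hconst : ∀ i, i ≤ m → s (i + 1) - s i = s 1 - s 0 := by
      intro i
      induction i with
      | zero => intro _; rfl
      | succ i ih =>
        intro hi
        have := hrec i (by omega)
        have := ih (by omega)
        linarith
    have hsum := sum_second_diff s m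
    rw [Finset.sum_eq_zero (fun i hi => by
      rw [hrec i (Finset.mem_range.mp hi), mul_zero])] at hsum
    have hs0 : s 0 = φ (ends e).1 := by
      simp only [hs, hφ, pathVert_zero]
    have hsl : s (m + 1) = φ (ends e).2 := by
      simp only [hs, hφ]
      rw [pathVert_top ends l e (m + 1) (by omega) (by omega)]
    have hm' := hconst m le_rfl
    refine ⟨s 1 - s 0, ?_, rfl, ?_⟩
    · rw [← hs0, ← hsl, hm]
      push_cast
      rw [← hm']
      linarith
    · have h1 : l e - 1 = m := by omega
      rw [h1, hm]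
      show s m - s (m + 1) = -(s 1 - s 0)
      linarith
  choose t ht1 ht2 ht3 using key
  have hl' : ∀ e, (l e : ℤ) ≠ 0 := fun e => by
    have := hl e
    exact_mod_cast this.ne'
  refine ⟨φ, ?_, ?_⟩
  · intro e
    refine ⟨-t e, ?_⟩
    have := ht1 e
    linarith
  · intro v
    have h1 := hψ (Sum.inl v)
    rw [mdeg_bl_inl ends l hl] at h1
    simp only [Sum.elim_inl] at h1
    rw [← h1]
    simp only [mdeg]
    refine Finset.sum_congr rfl fun e _ => ?_
    have h2 : (φ (ends e).2 - φ (ends e).1) / (l e : ℤ) = t e := by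
      rw [ht1 e, Int.mul_ediv_cancel_left _ (hl' e)]
    have h3 : (φ (ends e).1 - φ (ends e).2) / (l e : ℤ) = - t e := by
      have : φ (ends e).1 - φ (ends e).2 = (l e : ℤ) * (- t e) := by
        have := ht1 e; linarith
      rw [this, Int.mul_ediv_cancel_left _ (hl' e)]
    rw [h2, h3, ht2 e, ht3 e]

end Groth.Agent.H74.BlowUp
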