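import Mathlib

/-!
# A Cauchy–Binet formula (helper74)

`det (N * diagonal w * Nᵀ) = ∑_S (∏_{e ∈ S} w e) * det(N_S)^2`, the sum over the subsets `S` of the
column index type with as many elements as there are rows.
-/

open Finset Matrix

namespace Groth.Agent.H74.CauchyBinet

variable {n E R : Type*} [Fintype n] [DecidableEq n] [Fintype E] [DecidableEq E] [CommRing R]

omit [DecidableEq E] in
/-- Expansion of `det (A * B)` over all functions from the row index to the inner index. -/
theorem det_mul_eq_sum_fun (A : Matrix n E R) (B : Matrix E n R) :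
    (A * B).det = ∑ g : n → E, (A.submatrix id g).det * ∏ i, B (g i) i := by
  simp_rw [det_apply', Matrix.mul_apply, Finset.prod_univ_sum, Fintype.piFinset_univ,
    Finset.mul_sum, Finset.sum_mul]
  rw [Finset.sum_comm]
  refine Finset.sum_congr rfl fun g _ => Finset.sum_congr rfl fun σ _ => ?_
  rw [Finset.prod_mul_distrib]
  simp only [submatrix_apply, id_eq]
  ring


/-- The contribution of the injective functions with image `S`. -/
theorem sum_image_eq (N : Matrix n E R) (w : E → R) (S : Finset E) (φ : n → E)
    (hφ : Function.Injective φ) (hS : Finset.univ.image φ = S) :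
    ∑ g ∈ (Finset.univ.filter fun g : n → E => Function.Injective g) with Finset.univ.image g = S,
        (N.submatrix id g).det * ∏ i, (w (g i) * N i (g i)) =
      (∏ e ∈ S, w e) * ((N.submatrix id φ).det) ^ 2 := by
  classical
  have hbij : ∑ g ∈ (Finset.univ.filter fun g : n → E => Function.Injective g) with
        Finset.univ.image g = S, (N.submatrix id g).det * ∏ i, (w (g i) * N i (g i)) =
      ∑ τ : Equiv.Perm n, (N.submatrix id (φ ∘ τ)).det * ∏ i, (w (φ (τ i)) * N i (φ (τ i))) := by
    symm
    refine Finset.sum_bij (fun τ _ => φ ∘ τ) ?_ ?_ ?_ ?_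
    · intro τ _
      simp only [Finset.mem_filter, Finset.mem_univ, true_and]
      refine ⟨hφ.comp τ.injective, ?_⟩
      rw [← hS]
      ext x
      simp only [Finset.mem_image, Finset.mem_univ, true_and, Function.comp_apply]
      constructor
      · rintro ⟨i, rfl⟩; exact ⟨τ i, rfl⟩
      · rintro ⟨i, rfl⟩; exact ⟨τ.symm i, by simp⟩
    · intro τ _ τ' _ h
      ext i
      exact hφ (congrFun h i)
    · intro g hg
      simp only [Finset.mem_filter, Finset.mem_univ, true_and] at hg
      obtain ⟨hginj, hgS⟩ := hg
      have hmem : ∀ i, ∃ j, φ j = g i := by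
        intro i
        have : g i ∈ Finset.univ.image φ := by
          rw [hS, ← hgS]; exact Finset.mem_image_of_mem _ (Finset.mem_univ _)
        obtain ⟨j, _, hj⟩ := Finset.mem_image.mp this
        exact ⟨j, hj⟩
      choose t ht using hmem
      have htinj : Function.Injective t := by
        intro i i' h
        apply hginj
        rw [← ht i, ← ht i', h]
      refine ⟨Equiv.ofBijective t (Finite.injective_iff_bijective.mp htinj), Finset.mem_univ _, ?_⟩
      funext i
      simp [ht]
    · intro τ _
      rfl
  rw [hbij]
  have h1 : ∀ τ : Equiv.Perm n, (N.submatrix id (φ ∘ τ)).det =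
      (Equiv.Perm.sign τ : ℤ) * (N.submatrix id φ).det := by
    intro τ
    rw [← det_permute' τ (N.submatrix id φ)]
    rfl
  have h2 : ∀ τ : Equiv.Perm n, ∏ i, (w (φ (τ i)) * N i (φ (τ i))) =
      (∏ e ∈ S, w e) * ∏ i, N i (φ (τ i)) := by
    intro τ
    rw [Finset.prod_mul_distrib, Equiv.prod_comp τ (fun i => w (φ i)), ← hS,
      Finset.prod_image (fun a _ b _ h => hφ h)]
  simp_rw [h1, h2]
  have h3 : (N.submatrix id φ).det = ∑ τ : Equiv.Perm n,
      ((Equiv.Perm.sign τ : ℤ) : R) * ∏ i, N i (φ (τ i)) := by
    rw [← det_transpose, det_apply']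
    rfl
  rw [sq]
  nth_rewrite 3 [h3]
  rw [Finset.mul_sum, Finset.mul_sum]
  refine Finset.sum_congr rfl fun τ _ => ?_
  ring

/-- **Cauchy–Binet** for `N * diagonal w * Nᵀ`. -/
theorem det_mul_diagonal_mul_transpose (N : Matrix n E R) (w : E → R)
    (φ : Finset E → (n → E))
    (hφ : ∀ S : Finset E, S.card = Fintype.card n →
      Function.Injective (φ S) ∧ Finset.univ.image (φ S) = S) :
    (N * Matrix.diagonal w * N.transpose).det =
      ∑ S ∈ Finset.powersetCard (Fintype.card n) (Finset.univ : Finset E),
        (∏ e ∈ S, w e) * ((N.submatrix id (φ S)).det) ^ 2 := by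
  classical
  rw [Matrix.mul_assoc, det_mul_eq_sum_fun]
  have hB : ∀ (g : n → E), ∏ i, (Matrix.diagonal w * N.transpose) (g i) i =
      ∏ i, (w (g i) * N i (g i)) := by
    intro g
    refine Finset.prod_congr rfl fun i _ => ?_
    rw [Matrix.diagonal_mul, Matrix.transpose_apply]
  simp_rw [hB]
  -- discard the non-injective functions
  have hinj : ∑ g : n → E, (N.submatrix id g).det * ∏ i, (w (g i) * N i (g i)) =
      ∑ g ∈ Finset.univ.filter (fun g : n → E => Function.Injective g),
        (N.submatrix id g).det * ∏ i, (w (g i) * N i (g i)) := by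
    symm
    refine Finset.sum_subset (Finset.filter_subset _ _) ?_
    intro g _ hg
    simp only [Finset.mem_filter, Finset.mem_univ, true_and] at hg
    simp only [Function.Injective, not_forall] at hg
    obtain ⟨i, j, hij, hne⟩ := hg
    rw [det_zero_of_column_eq hne (fun k => by simp [hij]), zero_mul]
  rw [hinj]
  rw [← Finset.sum_fiberwise_of_maps_to (g := fun g : n → E => Finset.univ.image g)
    (t := Finset.powersetCard (Fintype.card n) (Finset.univ : Finset E))]
  · refine Finset.sum_congr rfl fun S hS => ?_
    have hcard : S.card = Fintype.card n := (Finset.mem_powersetCard.mp hS).2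
    exact sum_image_eq N w S (φ S) (hφ S hcard).1 (hφ S hcard).2
  · intro g hg
    simp only [Finset.mem_filter, Finset.mem_univ, true_and] at hg
    rw [Finset.mem_powersetCard]
    exact ⟨Finset.subset_univ _, by rw [Finset.card_image_of_injective _ hg, Finset.card_univ]⟩

end Groth.Agent.H74.CauchyBinet
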