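import Mathlib
import Groth.Agent.H59.LinRed

/-!
# Twisting a comodule by a character; semi-invariants of a linearly reductive group

For a group-like element `c` of a commutative bialgebra `A` and a comodule `V`, `twComod c V hc` is
the comodule structure on `V` with coaction `v ↦ Σ v₀ ⊗ v₁ c`.  Its fixed vectors are the
eigenvectors of `V` for the inverse character.  For a linearly reductive group this gives
`exists_eigen_preimage`: a comodule map is surjective on eigenvectors (semi-invariants).
-/

set_option autoImplicit false
set_option linter.unusedSectionVars false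

open TensorProduct

namespace Groth.Agent.H74.CharTw

universe u

variable {k : Type u} [Field k] {A : Type u} [CommRing A] [Bialgebra k A]

section

variable (c : A) (V : Type u) [AddCommGroup V] [Module k V] [HopfRep.Comod k A V]

theorem map_mulRight (s : A ⊗[k] A) :
    TensorProduct.map (LinearMap.mulRight k c) (LinearMap.mulRight k c) s = s * (c ⊗ₜ[k] c) := by
  induction s using TensorProduct.induction_on with
  | zero => simp
  | add a b ha hb => simp only [map_add, ha, hb, add_mul]
  | tmul a b => simp

theorem assoc_tw (t : V ⊗[k] A) :
    TensorProduct.assoc k V A A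
      ((((LinearMap.mulRight k c).lTensor V ∘ₗ
        HopfRep.Comod.coact (k := k) (A := A) (V := V)).rTensor A)
        ((LinearMap.mulRight k c).lTensor V t)) =
      (TensorProduct.map (LinearMap.mulRight k c) (LinearMap.mulRight k c)).lTensor V
        (TensorProduct.assoc k V A A
          ((HopfRep.Comod.coact (k := k) (A := A) (V := V)).rTensor A t)) := by
  induction t using TensorProduct.induction_on with
  | zero => simp
  | add a b ha hb => simp only [map_add, ha, hb]
  | tmul v a =>
    simp only [LinearMap.lTensor_tmul, LinearMap.rTensor_tmul, LinearMap.comp_apply]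
    generalize HopfRep.Comod.coact (k := k) (A := A) v = s
    induction s using TensorProduct.induction_on with
    | zero => simp
    | add a b ha hb => simp only [map_add, ha, hb, TensorProduct.add_tmul]
    | tmul w b => simp

/-- the comodule structure twisted by the group-like element `c` -/
@[reducible] def twComod (hc : IsGroupLikeElem k c) : HopfRep.Comod k A V where
  coact := (LinearMap.mulRight k c).lTensor V ∘ₗ HopfRep.Comod.coact (k := k) (A := A) (V := V)
  coassoc := by
    apply LinearMap.ext
    intro v
    have h0 := LinearMap.congr_fun (HopfRep.Comod.coassoc (k := k) (A := A) (V := V)) v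
    simp only [LinearMap.comp_apply, LinearEquiv.coe_coe] at h0 ⊢
    refine (assoc_tw c V _).trans ?_
    rw [h0]
    generalize HopfRep.Comod.coact (k := k) (A := A) v = t
    induction t using TensorProduct.induction_on with
    | zero => simp
    | add a b ha hb => simp only [map_add, ha, hb]
    | tmul w b =>
      simp only [LinearMap.lTensor_tmul, LinearMap.mulRight_apply]
      rw [map_mulRight, Bialgebra.comul_mul, hc.comul_eq_tmul_self]
  counit_comp := by
    apply LinearMap.ext
    intro v
    have h0 := LinearMap.congr_fun (HopfRep.Comod.counit_comp (k := k) (A := A) (V := V)) v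
    simp only [LinearMap.comp_apply] at h0 ⊢
    refine Eq.trans ?_ h0
    generalize HopfRep.Comod.coact (k := k) (A := A) v = t
    induction t using TensorProduct.induction_on with
    | zero => simp
    | add a b ha hb => simp only [map_add, ha, hb]
    | tmul w b =>
      simp only [LinearMap.lTensor_tmul, LinearMap.mulRight_apply]
      rw [Bialgebra.counit_mul, hc.counit_eq_one, mul_one]

end

section Lift

variable {V W : Type u} [AddCommGroup V] [Module k V] [HopfRep.Comod k A V]
  [AddCommGroup W] [Module k W] [HopfRep.Comod k A W]

theorem lTensor_mulRight_mulRight (c d : A) (h : c * d = 1) (t : V ⊗[k] A) :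
    (LinearMap.mulRight k d).lTensor V ((LinearMap.mulRight k c).lTensor V t) = t := by
  induction t using TensorProduct.induction_on with
  | zero => simp
  | add a b ha hb => simp only [map_add, ha, hb]
  | tmul v a => simp [mul_assoc, h]

/-- **Semi-invariants lift** along comodule maps of a linearly reductive group: if `φ v0` is an
eigenvector for the character `χ` (with inverse `c`), some eigenvector `v` has `φ v = φ v0`. -/
theorem exists_eigen_preimage (hG : HopfRep.IsLinearlyReductive k A)
    (φ : V →ₗ[k] W) (hφ : Hoch.IsComodHom A φ) (χ c : A) (hc : IsGroupLikeElem k c)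
    (hcχ : c * χ = 1) (v0 : V)
    (hw : HopfRep.Comod.coact (k := k) (A := A) (φ v0) = φ v0 ⊗ₜ[k] χ) :
    ∃ v : V, HopfRep.Comod.coact (k := k) (A := A) v = v ⊗ₜ[k] χ ∧ φ v = φ v0 := by
  have hφ' : @Hoch.IsComodHom k _ A _ _ _ V _ _ (twComod c V hc) W _ _ (twComod c W hc) φ := by
    unfold Hoch.IsComodHom at hφ ⊢
    change ((LinearMap.mulRight k c).lTensor W ∘ₗ HopfRep.Comod.coact (k := k) (A := A)) ∘ₗ φ =
      φ.rTensor A ∘ₗ ((LinearMap.mulRight k c).lTensor V ∘ₗ HopfRep.Comod.coact (k := k) (A := A))
    rw [LinearMap.comp_assoc, hφ, ← LinearMap.comp_assoc, ← LinearMap.comp_assoc]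
    congr 1
    apply TensorProduct.ext'
    intro v a
    simp
  have hw' : φ v0 ∈ @HopfRep.fixedPts k A _ _ _ W _ _ (twComod c W hc) := by
    change (LinearMap.mulRight k c).lTensor W (HopfRep.Comod.coact (k := k) (A := A) (φ v0)) =
      φ v0 ⊗ₜ[k] (1 : A)
    rw [hw, LinearMap.lTensor_tmul, LinearMap.mulRight_apply, mul_comm, hcχ]
  obtain ⟨v, hv, hvv⟩ := @Groth.Agent.H59.LinRed.exists_fixed_preimage k _ A _ _ hG V _ _
    (twComod c V hc) W _ _ (twComod c W hc) φ hφ' v0 hw'
  refine ⟨v, ?_, hvv⟩
  have hv' : (LinearMap.mulRight k c).lTensor V (HopfRep.Comod.coact (k := k) (A := A) v) =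
      v ⊗ₜ[k] (1 : A) := hv
  have := congrArg ((LinearMap.mulRight k χ).lTensor V) hv'
  rw [lTensor_mulRight_mulRight c χ hcχ, LinearMap.lTensor_tmul, LinearMap.mulRight_apply,
    one_mul] at this
  exact this

end Lift

end Groth.Agent.H74.CharTw
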