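import Mathlib
import Groth.Prelude.Def_CoactBr

/-!
# Ring-valued points of a coaction: the right action of the convolution group

For a commutative Hopf algebra `A` over `R`, a comodule algebra `B` and a commutative `R`-algebra `R₁`
(all in one universe, as `Def_CoactBr`), the group `WithConv (A →ₐ[R] R₁)` acts on the right on
`B →ₐ[R] R₁` by `actR x g = (x ⊗ g) ∘ ρ`.  The laws `actR_one`, `actR_mul` are read off from the
prelude's scheme-level laws through `CoactBr.pt`.  We also give the orbit map `orb x : B → R₁ ⊗ A` and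
the translation automorphisms `transEquiv h` of `R₁ ⊗ A`, with `orb (actR x h) = transEquiv h ∘ orb x`.
-/

set_option autoImplicit false

open CategoryTheory MonoidalCategory CartesianMonoidalCategory MonObj AlgebraicGeometry TensorProduct
open WithConv

namespace Groth.Agent.H74.CoactPts

universe u

section Grp

variable {R A C : Type u} [CommRing R] [CommRing A] [HopfAlgebra R A] [CommRing C] [Algebra R C]

/-- Inverse of a point: composition with the antipode (Mathlib's instance asks the target to be a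
bialgebra; only an algebra structure is needed). -/
noncomputable scoped instance convInv' : Inv (WithConv <| A →ₐ[R] C) where
  inv f := toConv <| f.ofConv.comp (HopfAlgebra.antipodeAlgHom R A)

open Algebra Coalgebra Bialgebra HopfAlgebra in
noncomputable scoped instance convGroup' : Group (WithConv <| A →ₐ[R] C) where
  inv_mul_cancel f := by
    have H : (Algebra.TensorProduct.lmul' R).comp (Algebra.TensorProduct.map f.ofConv f.ofConv) =
      f.ofConv.comp (Algebra.TensorProduct.lmul' R) := by ext <;> simp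
    trans toConv <| ((Algebra.TensorProduct.lmul' R).comp
        (Algebra.TensorProduct.map f.ofConv f.ofConv)).comp
      ((Algebra.TensorProduct.map
      (HopfAlgebra.antipodeAlgHom R A) (.id _ _)).comp (comulAlgHom R A))
    · rw [AlgHom.comp_assoc, ← AlgHom.comp_assoc (Algebra.TensorProduct.map f.ofConv f.ofConv),
        ← Algebra.TensorProduct.map_comp]; rfl
    rw [H, AlgHom.comp_assoc, WithConv.ext_iff, ← AlgHom.toLinearMap_injective.eq_iff]
    change f.ofConv.toLinearMap.comp (toConv (antipode R (A := A)) * toConv LinearMap.id).ofConv =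
      ofConv (1 : WithConv <| A →ₗ[R] C)
    rw [LinearMap.antipode_mul_id]
    ext
    simp

theorem inv_ofConv (g : WithConv (A →ₐ[R] C)) :
    (g⁻¹).ofConv = g.ofConv.comp (HopfAlgebra.antipodeAlgHom R A) := rfl

end Grp

section Bialg

variable {R A : Type u} [CommRing R] [CommRing A] [Bialgebra R A]
variable {R₁ R₂ R₃ : Type u} [CommRing R₁] [Algebra R R₁] [CommRing R₂] [Algebra R R₂]
  [CommRing R₃] [Algebra R R₃]

/-- Functoriality of the monoid of points in the coefficient ring. -/
noncomputable def mapPt (ψ : R₁ →ₐ[R] R₂) : WithConv (A →ₐ[R] R₁) →* WithConv (A →ₐ[R] R₂) where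
  toFun g := toConv (ψ.comp g.ofConv)
  map_one' := by
    apply WithConv.ofConv_injective
    apply AlgHom.ext
    intro a
    simp [AlgHom.convOne_def]
  map_mul' g h := by
    apply WithConv.ofConv_injective
    exact AlgHom.comp_convMul_distrib ψ g h

@[simp] theorem mapPt_ofConv (ψ : R₁ →ₐ[R] R₂) (g : WithConv (A →ₐ[R] R₁)) :
    (mapPt ψ g).ofConv = ψ.comp g.ofConv := rfl

theorem mapPt_comp (ψ : R₁ →ₐ[R] R₂) (φ : R₂ →ₐ[R] R₃) (g : WithConv (A →ₐ[R] R₁)) :
    mapPt φ (mapPt ψ g) = mapPt (φ.comp ψ) g := rfl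

theorem mapPt_id (g : WithConv (A →ₐ[R] R₁)) : mapPt (AlgHom.id R R₁) g = g := rfl

theorem mapPt_injective (ψ : R₁ →ₐ[R] R₂) (hψ : Function.Injective ψ) :
    Function.Injective (mapPt (A := A) ψ) := by
  intro g h hgh
  apply WithConv.ofConv_injective
  apply AlgHom.ext
  intro a
  apply hψ
  have := congrArg (fun k : WithConv (A →ₐ[R] R₂) => k.ofConv a) hgh
  simpa using this

theorem pt_one : CoactBr.pt (1 : WithConv (A →ₐ[R] R₁)).ofConv = 1 :=
  (CoactBr.one_eq_pt (R := R) (A := A) (K := R₁)).symm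

theorem pt_mul (g h : WithConv (A →ₐ[R] R₁)) :
    CoactBr.pt (g * h).ofConv = CoactBr.pt g.ofConv * CoactBr.pt h.ofConv :=
  map_mul (Spec.mapMulEquiv (R := R) (S := A) (T := R₁)) g h

end Bialg

section Act

variable {R A B : Type u} [CommRing R] [CommRing A] [Bialgebra R A] [CommRing B] [Algebra R B]
  [HopfRep.Comod R A B] [GLin.IsCoactAlg R A B]
variable {R₁ R₂ : Type u} [CommRing R₁] [Algebra R R₁] [CommRing R₂] [Algebra R R₂]

/-- The right action of points of `Spec A` on points of `Spec B`: `x · g = (x ⊗ g) ∘ ρ`. -/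
noncomputable def actR (x : B →ₐ[R] R₁) (g : WithConv (A →ₐ[R] R₁)) : B →ₐ[R] R₁ :=
  (Algebra.TensorProduct.lift x g.ofConv fun _ _ => .all _ _).comp (GLin.coactAlgHom R A B)

theorem pt_actR (x : B →ₐ[R] R₁) (g : WithConv (A →ₐ[R] R₁)) :
    lift (CoactBr.pt x) (CoactBr.pt g.ofConv) ≫ CoactBr.ract R A B = CoactBr.pt (actR x g) :=
  CoactBr.lift_pt_ract x g.ofConv

theorem actR_one (x : B →ₐ[R] R₁) : actR x (1 : WithConv (A →ₐ[R] R₁)) = x := by
  apply CoactBr.pt_injective
  rw [← pt_actR, pt_one, CoactBr.lift_one_ract]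

theorem actR_mul (x : B →ₐ[R] R₁) (g h : WithConv (A →ₐ[R] R₁)) :
    actR (actR x g) h = actR x (g * h) := by
  apply CoactBr.pt_injective
  rw [← pt_actR, ← pt_actR, CoactBr.lift_ract_ract, ← pt_mul, pt_actR]

theorem comp_actR (ψ : R₁ →ₐ[R] R₂) (x : B →ₐ[R] R₁) (g : WithConv (A →ₐ[R] R₁)) :
    ψ.comp (actR x g) = actR (ψ.comp x) (mapPt ψ g) := by
  unfold actR
  rw [← AlgHom.comp_assoc]
  congr 1
  apply Algebra.TensorProduct.ext'
  intro b a
  simp

/-- The coaction is the universal translate: `ρ = inl · inr`. -/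
theorem coactAlgHom_eq_actR :
    GLin.coactAlgHom R A B =
      actR (Algebra.TensorProduct.includeLeft : B →ₐ[R] B ⊗[R] A)
        (toConv (Algebra.TensorProduct.includeRight : A →ₐ[R] B ⊗[R] A)) := by
  unfold actR
  have : (Algebra.TensorProduct.lift (Algebra.TensorProduct.includeLeft : B →ₐ[R] B ⊗[R] A)
      (Algebra.TensorProduct.includeRight : A →ₐ[R] B ⊗[R] A) fun _ _ => .all _ _) =
      AlgHom.id R (B ⊗[R] A) := by
    apply Algebra.TensorProduct.ext'
    intro b a
    simp
  change GLin.coactAlgHom R A B = (Algebra.TensorProduct.lift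
    (Algebra.TensorProduct.includeLeft : B →ₐ[R] B ⊗[R] A)
    (Algebra.TensorProduct.includeRight : A →ₐ[R] B ⊗[R] A) fun _ _ => .all _ _).comp _
  rw [this, AlgHom.id_comp]

/-- The retraction `B ⊗ A → B`, `b ⊗ a ↦ ε(a) b`, composed with the coaction is the identity. -/
theorem coact_injective : Function.Injective (GLin.coactAlgHom R A B) := by
  have h := actR_one (A := A) (AlgHom.id R B)
  intro b b' hbb'
  have := congrArg
    (Algebra.TensorProduct.lift (AlgHom.id R B) (1 : WithConv (A →ₐ[R] B)).ofConv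
      fun _ _ => .all _ _) hbb'
  have e : ∀ c : B, (Algebra.TensorProduct.lift (AlgHom.id R B) (1 : WithConv (A →ₐ[R] B)).ofConv
      fun _ _ => .all _ _) (GLin.coactAlgHom R A B c) = c := fun c => by
    have := congrArg (fun φ : B →ₐ[R] B => φ c) h
    simpa [actR] using this
  rwa [e, e] at this

end Act

section Orbit

variable {R A B : Type u} [CommRing R] [CommRing A] [HopfAlgebra R A] [CommRing B] [Algebra R B]
  [HopfRep.Comod R A B] [GLin.IsCoactAlg R A B]
variable {R₁ R₂ : Type u} [CommRing R₁] [Algebra R R₁] [CommRing R₂] [Algebra R R₂]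

variable (R A R₁) in
/-- The left inclusion `R₁ → R₁ ⊗ A` as an `R`-algebra map. -/
noncomputable abbrev inl : R₁ →ₐ[R] R₁ ⊗[R] A := Algebra.TensorProduct.includeLeft

variable (R A R₁) in
/-- The generic point `A → R₁ ⊗ A`. -/
noncomputable abbrev gen : WithConv (A →ₐ[R] R₁ ⊗[R] A) :=
  toConv (Algebra.TensorProduct.includeRight : A →ₐ[R] R₁ ⊗[R] A)

/-- The orbit map `B → R₁ ⊗ A` of a point `x : B → R₁`: `b ↦ Σ x(b₀) ⊗ b₁`. -/
noncomputable def orb (x : B →ₐ[R] R₁) : B →ₐ[R] R₁ ⊗[R] A :=
  actR ((inl R A R₁).comp x) (gen R A R₁)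

/-- The translate of the generic point by `h`. -/
noncomputable def tau (h : WithConv (A →ₐ[R] R₁)) : WithConv (A →ₐ[R] R₁ ⊗[R] A) :=
  mapPt (inl R A R₁) h * gen R A R₁

/-- Translation by the point `h`, as an `R₁`-algebra endomorphism of `R₁ ⊗ A`. -/
noncomputable def trans (h : WithConv (A →ₐ[R] R₁)) : R₁ ⊗[R] A →ₐ[R₁] R₁ ⊗[R] A :=
  Algebra.TensorProduct.lift (Algebra.ofId R₁ (R₁ ⊗[R] A)) (tau h).ofConv fun _ _ => .all _ _

theorem trans_comp_inl (h : WithConv (A →ₐ[R] R₁)) :
    ((trans h).restrictScalars R).comp (inl R A R₁) = inl R A R₁ := by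
  apply AlgHom.ext
  intro r
  simp [trans, Algebra.ofId_apply, Algebra.TensorProduct.algebraMap_apply]

theorem mapPt_trans_gen (h : WithConv (A →ₐ[R] R₁)) :
    mapPt ((trans h).restrictScalars R) (gen R A R₁) = tau h := by
  apply WithConv.ofConv_injective
  apply AlgHom.ext
  intro a
  simp [trans]

theorem trans_one : trans (1 : WithConv (A →ₐ[R] R₁)) = AlgHom.id R₁ (R₁ ⊗[R] A) := by
  apply Algebra.TensorProduct.ext'
  intro r a
  simp [trans, tau, Algebra.ofId_apply, Algebra.TensorProduct.algebraMap_apply]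

theorem trans_tmul (h : WithConv (A →ₐ[R] R₁)) (r : R₁) (a : A) :
    trans h (r ⊗ₜ[R] a) = r • (tau h).ofConv a := by
  simp [trans, Algebra.ofId_apply, Algebra.smul_def]

theorem trans_comp_trans (h h' : WithConv (A →ₐ[R] R₁)) :
    (trans h').comp (trans h) = trans (h * h') := by
  have h1 : mapPt ((trans h').restrictScalars R) (tau h) = tau (h * h') := by
    unfold tau
    rw [map_mul, mapPt_comp, trans_comp_inl, mapPt_trans_gen]
    unfold tau
    rw [← _root_.mul_assoc, ← map_mul]
  apply Algebra.TensorProduct.ext'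
  intro r a
  have h2 := congrArg (fun k : WithConv (A →ₐ[R] R₁ ⊗[R] A) => k.ofConv a) h1
  simp only [mapPt_ofConv, AlgHom.comp_apply, AlgHom.restrictScalars_apply] at h2
  rw [AlgHom.comp_apply, trans_tmul, map_smul, h2, trans_tmul]

/-- Translation by `h` as an automorphism. -/
noncomputable def transEquiv (h : WithConv (A →ₐ[R] R₁)) : (R₁ ⊗[R] A) ≃ₐ[R₁] (R₁ ⊗[R] A) :=
  AlgEquiv.ofAlgHom (trans h) (trans h⁻¹)
    (by rw [trans_comp_trans, inv_mul_cancel, trans_one])
    (by rw [trans_comp_trans, mul_inv_cancel, trans_one])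

@[simp] theorem transEquiv_apply (h : WithConv (A →ₐ[R] R₁)) (z : R₁ ⊗[R] A) :
    transEquiv h z = trans h z := rfl

/-- The orbit map of a translated point is the translated orbit map. -/
theorem orb_actR (x : B →ₐ[R] R₁) (h : WithConv (A →ₐ[R] R₁)) :
    orb (actR x h) = ((trans h).restrictScalars R).comp (orb x) := by
  unfold orb
  rw [comp_actR, comp_actR, actR_mul, mapPt_trans_gen, ← AlgHom.comp_assoc, trans_comp_inl]
  rfl

theorem orb_actR_apply (x : B →ₐ[R] R₁) (h : WithConv (A →ₐ[R] R₁)) (b : B) :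
    orb (actR x h) b = transEquiv h (orb x b) := by
  rw [orb_actR]
  rfl

/-- Naturality of the orbit map in the coefficient ring. -/
theorem map_comp_orb (ψ : R₁ →ₐ[R] R₂) (x : B →ₐ[R] R₁) :
    (Algebra.TensorProduct.map ψ (AlgHom.id R A)).comp (orb x) = orb (ψ.comp x) := by
  unfold orb
  rw [comp_actR]
  have h1 : (Algebra.TensorProduct.map ψ (AlgHom.id R A)).comp ((inl R A R₁).comp x) =
      (inl R A R₂).comp (ψ.comp x) := by
    apply AlgHom.ext
    intro b
    simp
  have h2 : mapPt (Algebra.TensorProduct.map ψ (AlgHom.id R A)) (gen R A R₁) = gen R A R₂ := by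
    apply WithConv.ofConv_injective
    apply AlgHom.ext
    intro a
    simp
  rw [h1, h2]

theorem map_orb_apply (ψ : R₁ →ₐ[R] R₂) (x : B →ₐ[R] R₁) (b : B) :
    Algebra.TensorProduct.map ψ (AlgHom.id R A) (orb x b) = orb (ψ.comp x) b := by
  rw [← map_comp_orb]
  rfl

/-- The orbit map of the tautological point of `B` is the coaction. -/
theorem orb_id : orb (AlgHom.id R B) = GLin.coactAlgHom R A B := by
  rw [coactAlgHom_eq_actR]
  rfl

variable (R A R₁) in
/-- The counit `R₁ ⊗ A → R₁` as an `R₁`-algebra map. -/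
noncomputable def epsL : R₁ ⊗[R] A →ₐ[R₁] R₁ :=
  Algebra.TensorProduct.lift (AlgHom.id R₁ R₁) (1 : WithConv (A →ₐ[R] R₁)).ofConv fun _ _ => .all _ _

/-- The counit applied to the orbit map gives back the point. -/
theorem epsL_comp_orb (x : B →ₐ[R] R₁) : ((epsL R A R₁).restrictScalars R).comp (orb x) = x := by
  unfold orb
  rw [comp_actR]
  have h1 : ((epsL R A R₁).restrictScalars R).comp ((inl R A R₁).comp x) = x := by
    apply AlgHom.ext
    intro b
    simp [epsL]
  have h2 : mapPt ((epsL R A R₁).restrictScalars R) (gen R A R₁) = 1 := by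
    apply WithConv.ofConv_injective
    apply AlgHom.ext
    intro a
    simp [epsL]
  rw [h1, h2, actR_one]

theorem epsL_orb_apply (x : B →ₐ[R] R₁) (b : B) : epsL R A R₁ (orb x b) = x b := by
  have := congrArg (fun φ : B →ₐ[R] R₁ => φ b) (epsL_comp_orb (A := A) x)
  exact this

/-- Evaluating the orbit map of `x` at a point `ĝ` of `R₁ ⊗ A` over `R₁` gives the translate. -/
theorem comp_orb_of_algHom (x : B →ₐ[R] R₁) (q : R₁ ⊗[R] A →ₐ[R₁] R₁) :
    (q.restrictScalars R).comp (orb x) = actR x (mapPt (q.restrictScalars R) (gen R A R₁)) := by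
  unfold orb
  rw [comp_actR]
  congr 1
  apply AlgHom.ext
  intro b
  have : (x b ⊗ₜ[R] (1 : A) : R₁ ⊗[R] A) = algebraMap R₁ (R₁ ⊗[R] A) (x b) := rfl
  simp only [AlgHom.comp_apply, AlgHom.restrictScalars_apply,
    Algebra.TensorProduct.includeLeft_apply]
  rw [this, AlgHom.commutes]
  rfl

end Orbit

end Groth.Agent.H74.CoactPts
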