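import Mathlib
import Groth.Agent.H74.OrbStmt

/-!
# Descent along the orbit map: characters trivial on the stabiliser

`φ = GLin.orbitHom k A x : R → A` the orbit map of a rational point `x`, `B₀ = φ.range` (a right
coideal subalgebra of `A`: the coordinate ring of the orbit closure).

* `psi1 x : A →ₐ[k] A ⊗[B₀] A`, `a ↦ Σ a₁ ⊗ S a₂`; it kills the stabiliser ideal
  (`psi1_eq_one_of_mem_stabIdeal`), hence a group-like `χ` with `χ - 1` in the stabiliser ideal
  satisfies `χ ⊗ 1 = 1 ⊗ χ` in `A ⊗[B₀] A` (`tmul_one_eq_one_tmul`);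
* `mem_range_of_tmul_one_eq`: faithfully flat descent of elements;
* `mem_range_orbitHom_of_faithfullyFlat`: if `A` is faithfully flat over `B₀`, such a `χ` is a
  function on the orbit: `χ ∈ B₀`.
-/

set_option autoImplicit false
set_option linter.unusedSectionVars false

open TensorProduct WithConv

namespace Groth.Agent.H74.CoidealDesc

open Groth.Agent.H74.CoactPts Groth.Agent.H74.OrbPts Groth.Agent.H74.OrbStmt

universe u

section Descent

variable {B A : Type*} [CommRing B] [CommRing A] [Algebra B A]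

/-- **Faithfully flat descent of elements**: an element `a` of a faithfully flat `B`-algebra `A`
with `a ⊗ 1 = 1 ⊗ a` in `A ⊗[B] A` comes from `B`. -/
theorem mem_range_of_tmul_one_eq [Module.FaithfullyFlat B A] (a : A)
    (h : a ⊗ₜ[B] (1 : A) = (1 : A) ⊗ₜ[B] a) : a ∈ (algebraMap B A).range := by
  let N : Submodule B A := LinearMap.range (Algebra.linearMap B A)
  let q : A →ₗ[B] A ⧸ N := N.mkQ
  have hq1 : q 1 = 0 := by
    rw [Submodule.mkQ_apply, Submodule.Quotient.mk_eq_zero]
    exact ⟨1, by simp⟩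
  have h1 : (1 : A) ⊗ₜ[B] q a = 0 := by
    have := congrArg (LinearMap.lTensor A q) h
    rw [LinearMap.lTensor_tmul, LinearMap.lTensor_tmul, hq1, TensorProduct.tmul_zero] at this
    exact this.symm
  have h2 : q a = 0 := by
    apply Module.FaithfullyFlat.tensorProduct_mk_injective (A := B) (B := A) (A ⧸ N)
    rw [TensorProduct.mk_apply, h1, map_zero]
  rw [Submodule.mkQ_apply, Submodule.Quotient.mk_eq_zero] at h2
  obtain ⟨b, hb⟩ := h2
  exact ⟨b, hb⟩

end Descent

section Psi

variable {k : Type u} [Field k]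
variable {A : Type u} [CommRing A] [HopfAlgebra k A]
variable {R : Type u} [CommRing R] [Algebra k R] [HopfRep.Comod k A R] [GLin.IsCoactAlg k A R]

/-- the map `a ↦ Σ a₁ ⊗ S a₂` to `A ⊗[B₀] A`, where `B₀` is the image of the orbit map of `x` -/
noncomputable def psi1 (x : R →ₐ[k] k) :
    A →ₐ[k] A ⊗[(GLin.orbitHom k A x).range] A :=
  (Algebra.TensorProduct.mapOfCompatibleSMul (GLin.orbitHom k A x).range k k A A).comp
    ((Algebra.TensorProduct.map (AlgHom.id k A) (HopfAlgebra.antipodeAlgHom k A)).comp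
      (Bialgebra.comulAlgHom k A))

theorem comul_orbitHom (x : R →ₐ[k] k) (r : R) :
    Coalgebra.comul (R := k) (GLin.orbitHom k A x r) =
      Algebra.TensorProduct.map (GLin.orbitHom k A x) (AlgHom.id k A)
        (HopfRep.Comod.coact (k := k) (A := A) r) := by
  have h := LinearMap.congr_fun (Groth.Agent.H59.Orbit.theta_isComodHom (A := A) x) r
  simp only [LinearMap.comp_apply] at h
  rw [orbitHom_eq_theta]
  refine h.trans ?_
  generalize HopfRep.Comod.coact (k := k) (A := A) r = t
  induction t using TensorProduct.induction_on with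
  | zero => simp
  | add a b ha hb => simp only [map_add, ha, hb]
  | tmul r a => simp [orbitHom_eq_theta]

theorem psi1_orbitHom (x : R →ₐ[k] k) (r : R) :
    psi1 x (GLin.orbitHom k A x r) = algebraMap k _ (x r) := by
  -- `N t = Σ φ(r) S(c)`
  have key : ∀ t : R ⊗[k] A,
      (Algebra.TensorProduct.mapOfCompatibleSMul (GLin.orbitHom k A x).range k k A A)
        ((Algebra.TensorProduct.map (AlgHom.id k A) (HopfAlgebra.antipodeAlgHom k A))
          (Algebra.TensorProduct.map (GLin.orbitHom k A x) (AlgHom.id k A) t)) =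
      (1 : A) ⊗ₜ[(GLin.orbitHom k A x).range]
        (LinearMap.mul' k A ((HopfAlgebra.antipode k).lTensor A
          (Algebra.TensorProduct.map (GLin.orbitHom k A x) (AlgHom.id k A) t))) := by
    intro t
    induction t using TensorProduct.induction_on with
    | zero => simp
    | add a b ha hb => simp only [map_add, ha, hb, TensorProduct.tmul_add]
    | tmul r c =>
      simp only [Algebra.TensorProduct.map_tmul, AlgHom.coe_id, id_eq,
        Algebra.TensorProduct.mapOfCompatibleSMul_tmul, LinearMap.lTensor_tmul,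
        LinearMap.mul'_apply]
      have : GLin.orbitHom k A x r ⊗ₜ[(GLin.orbitHom k A x).range]
          (HopfAlgebra.antipodeAlgHom k A c) =
          ((⟨GLin.orbitHom k A x r, ⟨r, rfl⟩⟩ : (GLin.orbitHom k A x).range) • (1 : A))
            ⊗ₜ[(GLin.orbitHom k A x).range] (HopfAlgebra.antipodeAlgHom k A c) := by
        congr 1
        rw [Subalgebra.smul_def, smul_eq_mul, mul_one]
      rw [this, TensorProduct.smul_tmul, Subalgebra.smul_def, smul_eq_mul]
      rfl
  unfold psi1
  simp only [AlgHom.comp_apply]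
  change (Algebra.TensorProduct.mapOfCompatibleSMul (GLin.orbitHom k A x).range k k A A)
    ((Algebra.TensorProduct.map (AlgHom.id k A) (HopfAlgebra.antipodeAlgHom k A))
      (Coalgebra.comul (R := k) (GLin.orbitHom k A x r))) = _
  rw [comul_orbitHom, key, ← comul_orbitHom, HopfAlgebra.mul_antipode_lTensor_comul_apply,
    orbitHom_eq_theta, Groth.Agent.H59.Orbit.counit_theta, Algebra.algebraMap_eq_smul_one,
    Algebra.algebraMap_eq_smul_one, TensorProduct.tmul_smul]
  rfl

/-- `psi1` is `1` on `1 + stabIdeal` -/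
theorem psi1_eq_zero_of_mem_stabIdeal (x : R →ₐ[k] k) (a : A) (ha : a ∈ GLin.stabIdeal k A x) :
    psi1 x a = 0 := by
  have hle : GLin.stabIdeal k A x ≤ RingHom.ker (psi1 x) := by
    unfold GLin.stabIdeal
    rw [Ideal.map_le_iff_le_comap]
    intro r hr
    rw [Ideal.mem_comap, RingHom.mem_ker]
    change psi1 x (GLin.orbitHom k A x r) = 0
    rw [psi1_orbitHom, RingHom.mem_ker.mp hr, map_zero]
  exact RingHom.mem_ker.mp (hle ha)

theorem psi1_groupLike (x : R →ₐ[k] k) (χ : A) (hχ : IsGroupLikeElem k χ) :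
    psi1 x χ = χ ⊗ₜ[(GLin.orbitHom k A x).range] HopfAlgebra.antipode k χ := by
  unfold psi1
  simp only [AlgHom.comp_apply]
  change (Algebra.TensorProduct.mapOfCompatibleSMul (GLin.orbitHom k A x).range k k A A)
    ((Algebra.TensorProduct.map (AlgHom.id k A) (HopfAlgebra.antipodeAlgHom k A))
      (Coalgebra.comul (R := k) χ)) = _
  rw [hχ.comul_eq_tmul_self]
  rfl

/-- a group-like element which is trivial on the stabiliser of `x` has equal pullbacks to
`A ⊗[B₀] A` -/
theorem tmul_one_eq_one_tmul (x : R →ₐ[k] k) (χ : A) (hχ : IsGroupLikeElem k χ)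
    (h : χ - 1 ∈ GLin.stabIdeal k A x) :
    χ ⊗ₜ[(GLin.orbitHom k A x).range] (1 : A) = (1 : A) ⊗ₜ[(GLin.orbitHom k A x).range] χ := by
  have h0 := psi1_eq_zero_of_mem_stabIdeal x _ h
  rw [map_sub, map_one, sub_eq_zero, psi1_groupLike x χ hχ] at h0
  have h1 := congrArg (fun z => z * ((1 : A) ⊗ₜ[(GLin.orbitHom k A x).range] χ)) h0
  simp only [Algebra.TensorProduct.tmul_mul_tmul, mul_one, one_mul,
    hχ.antipode_mul_cancel] at h1
  exact h1

/-- if `A` is faithfully flat over the image of the orbit map of `x`, a group-like element trivial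
on the stabiliser of `x` is a function on the orbit -/
theorem mem_range_orbitHom_of_faithfullyFlat (x : R →ₐ[k] k)
    [Module.FaithfullyFlat (GLin.orbitHom k A x).range A] (χ : A) (hχ : IsGroupLikeElem k χ)
    (h : χ - 1 ∈ GLin.stabIdeal k A x) : ∃ r : R, GLin.orbitHom k A x r = χ := by
  obtain ⟨b, hb⟩ := mem_range_of_tmul_one_eq (B := (GLin.orbitHom k A x).range) χ
    (tmul_one_eq_one_tmul x χ hχ h)
  obtain ⟨r, hr⟩ := b.2
  exact ⟨r, hr.trans hb⟩

end Psi

end Groth.Agent.H74.CoidealDesc
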