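import Mathlib
import Groth.Agent.H74.OrbPts

/-!
# Bridges between the scheme-theoretic and the point-theoretic notions of stability

`k` algebraically closed, `A` a finitely generated commutative Hopf algebra, `R` a finitely generated
comodule algebra.

* `finite_algHom_iff`: a finitely generated algebra over an algebraically closed field is a finite
  module iff it has finitely many rational points.
* `hasFiniteStab_iff`: `GLin.HasFiniteStab k A x` iff the stabiliser of `x` in the group of rational
  points is finite.
* `isClosedOrbit_iff`: `GLin.IsClosedOrbit k A x` iff the orbit of `x` is closed on rational points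
  (`OrbPts.ClosedOrb`).
-/

set_option autoImplicit false
set_option linter.unusedSectionVars false

open TensorProduct WithConv

namespace Groth.Agent.H74.GStab

open Groth.Agent.H74.CoactPts Groth.Agent.H74.OrbGen Groth.Agent.H74.OrbPts

universe u

section Fin

variable {k : Type u} [Field k] [IsAlgClosed k]
variable {B : Type u} [CommRing B] [Algebra k B] [Algebra.FiniteType k B]

/-- a finitely generated algebra with finitely many rational points has Krull dimension `≤ 0` -/
theorem krullDimLE_zero_of_finite_algHom (h : Finite (B →ₐ[k] k)) : Ring.KrullDimLE 0 B := by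
  classical
  refine Ring.KrullDimLE.mk₀ fun p hp => ?_
  have := Fintype.ofFinite (B →ₐ[k] k)
  let s : Finset (B →ₐ[k] k) := Finset.univ.filter fun q => p ≤ RingHom.ker q
  have hle : s.inf (fun q => RingHom.ker q) ≤ p := by
    intro f hf
    by_contra hfp
    obtain ⟨q, hq1, hq2⟩ := exists_point_of_prime (k := k) p f hfp
    have hqs : q ∈ s := by simp [s, hq1]
    have : f ∈ RingHom.ker q := (Finset.inf_le hqs : s.inf (fun q => RingHom.ker q) ≤ _) hf
    exact hq2 (RingHom.mem_ker.mp this)
  obtain ⟨q, hqs, hq⟩ := (Ideal.IsPrime.inf_le' hp).mp hle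
  have hpq : p ≤ RingHom.ker q := by
    have := hqs
    simp only [s, Finset.mem_filter, Finset.mem_univ, true_and] at this
    exact this
  have : p = RingHom.ker q := le_antisymm hpq hq
  rw [this]
  exact RingHom.ker_isMaximal_of_surjective (q : B →+* k) (fun c => ⟨algebraMap k B c, by simp⟩)

/-- a finitely generated algebra over an algebraically closed field is a finite module iff it has
finitely many rational points -/
theorem finite_algHom_iff : Module.Finite k B ↔ Finite (B →ₐ[k] k) := by
  constructor
  · intro h
    infer_instance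
  · intro h
    have := krullDimLE_zero_of_finite_algHom h
    exact (Module.finite_iff_krullDimLE_zero (R := k) (A := B)).mpr this

end Fin

section Stab

variable {k : Type u} [Field k] [IsAlgClosed k]
variable {A : Type u} [CommRing A] [HopfAlgebra k A] [Algebra.FiniteType k A]
variable {R : Type u} [CommRing R] [Algebra k R] [Algebra.FiniteType k R]
  [HopfRep.Comod k A R] [GLin.IsCoactAlg k A R]

/-- a point of the group fixes `x` iff it kills the stabiliser ideal -/
theorem actR_eq_iff_stabIdeal_le (x : R →ₐ[k] k) (g : WithConv (A →ₐ[k] k)) :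
    actR x g = x ↔ GLin.stabIdeal k A x ≤ RingHom.ker g.ofConv := by
  unfold GLin.stabIdeal
  rw [Ideal.map_le_iff_le_comap]
  constructor
  · intro h r hr
    rw [Ideal.mem_comap, RingHom.mem_ker, ← actR_apply, h]
    exact RingHom.mem_ker.mp hr
  · intro h
    symm
    apply point_ext_of_ker_le
    intro r hr
    have := h hr
    rw [Ideal.mem_comap, RingHom.mem_ker] at this
    rw [RingHom.mem_ker, actR_apply]
    exact this

/-- the scheme-theoretic stabiliser is finite iff the stabiliser in the rational points is finite -/
theorem hasFiniteStab_iff (x : R →ₐ[k] k) :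
    GLin.HasFiniteStab k A x ↔ {g : WithConv (A →ₐ[k] k) | actR x g = x}.Finite := by
  unfold GLin.HasFiniteStab
  have : Algebra.FiniteType k (A ⧸ GLin.stabIdeal k A x) :=
    Algebra.FiniteType.of_surjective (Ideal.Quotient.mkₐ k _) (Ideal.Quotient.mkₐ_surjective k _)
  rw [finite_algHom_iff]
  -- the bijection between points of the quotient and the stabiliser
  let F : ((A ⧸ GLin.stabIdeal k A x) →ₐ[k] k) → {g : WithConv (A →ₐ[k] k) | actR x g = x} :=
    fun τ => ⟨toConv (τ.comp (Ideal.Quotient.mkₐ k _)), by
      rw [Set.mem_ofPred_eq, actR_eq_iff_stabIdeal_le]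
      intro a ha
      rw [RingHom.mem_ker]
      change τ (Ideal.Quotient.mk _ a) = 0
      rw [Ideal.Quotient.eq_zero_iff_mem.mpr ha, map_zero]⟩
  have hFinj : Function.Injective F := by
    intro τ τ' h
    have h' : τ.comp (Ideal.Quotient.mkₐ k _) = τ'.comp (Ideal.Quotient.mkₐ k _) := by
      have := congrArg (fun z => z.1.ofConv) h
      exact this
    apply AlgHom.ext
    intro b
    obtain ⟨a, rfl⟩ := Ideal.Quotient.mk_surjective b
    exact congrArg (fun φ : A →ₐ[k] k => φ a) h'
  have hFsurj : Function.Surjective F := by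
    rintro ⟨g, hg⟩
    rw [Set.mem_ofPred_eq, actR_eq_iff_stabIdeal_le] at hg
    refine ⟨Ideal.Quotient.liftₐ _ g.ofConv (fun a ha => RingHom.mem_ker.mp (hg ha)), ?_⟩
    apply Subtype.ext
    change toConv _ = g
    apply WithConv.ofConv_injective
    apply AlgHom.ext
    intro a
    rfl
  rw [← Set.finite_coe_iff]
  exact (Equiv.ofBijective F ⟨hFinj, hFsurj⟩).finite_iff

end Stab

section Closed

variable {k : Type u} [Field k] [IsAlgClosed k]
variable {A : Type u} [CommRing A] [HopfAlgebra k A] [Algebra.FiniteType k A]
variable {R : Type u} [CommRing R] [Algebra k R] [Algebra.FiniteType k R]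
  [HopfRep.Comod k A R] [GLin.IsCoactAlg k A R]

theorem ker_orbitHom_le_Iorb (x : R →ₐ[k] k) : RingHom.ker (GLin.orbitHom k A x) ≤ Iorb A x := by
  intro f hf
  change GLin.orbitHom k A x f ∈ nilradical A
  rw [RingHom.mem_ker.mp hf]
  exact zero_mem _

/-- a prime containing the kernel of the orbit map contains the orbit ideal -/
theorem Iorb_le_of_ker_le (x : R →ₐ[k] k) (q : Ideal R) [q.IsPrime]
    (h : RingHom.ker (GLin.orbitHom k A x) ≤ q) : Iorb A x ≤ q := by
  intro f hf
  have hf' : IsNilpotent (GLin.orbitHom k A x f) := mem_nilradical.mp hf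
  obtain ⟨n, hn⟩ := hf'
  have : f ^ n ∈ q := h (by rw [RingHom.mem_ker, map_pow, hn])
  exact Ideal.IsPrime.mem_of_pow_mem inferInstance n this

/-- the image of the orbit morphism of a point with closed orbit (on rational points) is the zero
locus of the orbit ideal -/
theorem range_comap_eq_of_closedOrb (x : R →ₐ[k] k) (hx : ClosedOrb A x) :
    Set.range (PrimeSpectrum.comap (GLin.orbitHom k A x).toRingHom) =
      PrimeSpectrum.zeroLocus (Iorb A x : Set R) := by
  apply Set.Subset.antisymm
  · rintro _ ⟨P, rfl⟩
    rw [PrimeSpectrum.mem_zeroLocus]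
    intro f hf
    have hf' : GLin.orbitHom k A x f ∈ nilradical A := hf
    change GLin.orbitHom k A x f ∈ P.asIdeal
    exact nilradical_le_prime P.asIdeal hf'
  · intro q hq
    rw [PrimeSpectrum.mem_zeroLocus] at hq
    rw [PrimeSpectrum.mem_range_comap_iff]
    apply le_antisymm _ Ideal.le_comap_map
    intro f hf
    by_contra hfq
    obtain ⟨z, hz1, hz2⟩ := exists_point_of_prime (k := k) q.asIdeal f hfq
    obtain ⟨g, hg⟩ := hx z (le_trans hq hz1)
    apply hz2
    rw [hg, actR_apply]
    have h1 : GLin.orbitHom k A x f ∈ q.asIdeal.map (GLin.orbitHom k A x).toRingHom := hf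
    have h2 : g.ofConv (GLin.orbitHom k A x f) ∈
        (q.asIdeal.map (GLin.orbitHom k A x).toRingHom).map (g.ofConv : A →+* k) :=
      Ideal.mem_map_of_mem _ h1
    rw [Ideal.map_map] at h2
    have h3 : q.asIdeal.map ((g.ofConv : A →+* k).comp (GLin.orbitHom k A x).toRingHom) ≤ ⊥ := by
      rw [Ideal.map_le_iff_le_comap]
      intro r hr
      rw [Ideal.mem_comap, Ideal.mem_bot]
      change g.ofConv (GLin.orbitHom k A x r) = 0
      rw [← actR_apply, ← hg]
      exact RingHom.mem_ker.mp (hz1 hr)
    exact (Ideal.mem_bot).mp (h3 h2)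

/-- the orbit of `x` is closed in the prime spectrum iff it is closed on rational points -/
theorem isClosedOrbit_iff (x : R →ₐ[k] k) : GLin.IsClosedOrbit k A x ↔ ClosedOrb A x := by
  constructor
  · intro h z hz
    unfold GLin.IsClosedOrbit at h
    have hmem : (⟨RingHom.ker z, RingHom.ker_isPrime z⟩ : PrimeSpectrum R) ∈
        Set.range (PrimeSpectrum.comap (GLin.orbitHom k A x).toRingHom) := by
      rw [← h.closure_eq, PrimeSpectrum.closure_range_comap, PrimeSpectrum.mem_zeroLocus]
      exact le_trans (ker_orbitHom_le_Iorb x) hz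
    obtain ⟨P, hP⟩ := hmem
    obtain ⟨g, hg⟩ := Groth.Agent.H59.Orbit.exists_point_of_ne_top (k := k) P.asIdeal
      P.isPrime.ne_top
    refine ⟨toConv g, ?_⟩
    apply point_ext_of_ker_le
    intro r hr
    have hr' : r ∈ (PrimeSpectrum.comap (GLin.orbitHom k A x).toRingHom P).asIdeal := by
      rw [hP]; exact hr
    rw [RingHom.mem_ker, actR_apply]
    exact hg _ hr'
  · intro h
    unfold GLin.IsClosedOrbit
    rw [range_comap_eq_of_closedOrb x h]
    exact PrimeSpectrum.isClosed_zeroLocus _

end Closed

end Groth.Agent.H74.GStab
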