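import Mathlib
import Groth.Agent.H74.StabOpen
import Groth.Agent.H74.GStab
import Groth.Agent.H24.GenericFlat

/-!
# The group is flat over every orbit closure; faithfully flat over a closed orbit

`k` algebraically closed, `A` a finitely generated commutative Hopf algebra which is a domain, `R` a
comodule algebra, `x` a rational point, `B₀` the image of the orbit map `R → A`.

* `flat_range_orbitHom`: `A` is flat over `B₀` (generic flatness + translations);
* `faithfullyFlat_range_orbitHom`: if the orbit of `x` is closed, `A` is faithfully flat over `B₀`.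
-/

set_option autoImplicit false
set_option linter.unusedSectionVars false

open TensorProduct WithConv

namespace Groth.Agent.H74.OrbFlat

open Groth.Agent.H74.CoactPts Groth.Agent.H74.OrbGen Groth.Agent.H74.OrbPts
  Groth.Agent.H74.StabOpen Groth.Agent.H74.GStab

universe u

section Trans

variable {k : Type u} [Field k] [IsAlgClosed k]
variable {A : Type u} [CommRing A] [HopfAlgebra k A] [Algebra.FiniteType k A] [IsReduced A]
variable {R : Type u} [CommRing R] [Algebra k R] [HopfRep.Comod k A R] [GLin.IsCoactAlg k A R]

/-- two functions on a reduced group with the same values at all rational points are equal -/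
theorem eq_of_forall_point (a a' : A)
    (h : ∀ g : WithConv (A →ₐ[k] k), g.ofConv a = g.ofConv a') : a = a' := by
  have hn : IsNilpotent (a - a') := by
    apply Groth.Agent.H59.Orbit.isNilpotent_of_forall_point (k := k)
    intro g
    rw [map_sub, sub_eq_zero]
    exact h (toConv g)
  exact sub_eq_zero.mp hn.eq_zero

theorem rtr_rtr (h h' : WithConv (A →ₐ[k] k)) (a : A) : rtr h (rtr h' a) = rtr (h * h') a := by
  apply eq_of_forall_point (k := k)
  intro g
  rw [apply_rtr, apply_rtr, apply_rtr, mul_assoc]

theorem rtr_one (a : A) : rtr (1 : WithConv (A →ₐ[k] k)) a = a := by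
  apply eq_of_forall_point (k := k)
  intro g
  rw [apply_rtr, mul_one]

/-- right translation as an automorphism -/
noncomputable def rtrEquiv (h : WithConv (A →ₐ[k] k)) : A ≃ₐ[k] A :=
  AlgEquiv.ofAlgHom (rtr h) (rtr h⁻¹)
    (by ext a; simp only [AlgHom.comp_apply, AlgHom.id_apply]
        rw [rtr_rtr, mul_inv_cancel, rtr_one])
    (by ext a; simp only [AlgHom.comp_apply, AlgHom.id_apply]
        rw [rtr_rtr, inv_mul_cancel, rtr_one])

theorem rtrEquiv_apply (h : WithConv (A →ₐ[k] k)) (a : A) : rtrEquiv h a = rtr h a := rfl

/-- translations commute with the orbit map -/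
theorem rtr_orbitHom (x : R →ₐ[k] k) (h : WithConv (A →ₐ[k] k)) (r : R) :
    rtr h (GLin.orbitHom k A x r) = GLin.orbitHom k A x (trl h r) := by
  apply eq_of_forall_point (k := k)
  intro g
  rw [apply_rtr, ← actR_apply, ← actR_apply, ← actR_mul, ← apply_trl]

/-- the translation restricted to the image of the orbit map -/
noncomputable def tauB (x : R →ₐ[k] k) (h : WithConv (A →ₐ[k] k)) :
    (GLin.orbitHom k A x).range →ₐ[k] (GLin.orbitHom k A x).range :=
  ((rtr h).comp (GLin.orbitHom k A x).range.val).codRestrict _ (by
    rintro ⟨_, r, rfl⟩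
    exact ⟨trl h r, (rtr_orbitHom x h r).symm⟩)

theorem tauB_coe (x : R →ₐ[k] k) (h : WithConv (A →ₐ[k] k)) (b : (GLin.orbitHom k A x).range) :
    (tauB x h b : A) = rtr h (b : A) := rfl

theorem tauB_bijective (x : R →ₐ[k] k) (h : WithConv (A →ₐ[k] k)) :
    Function.Bijective (tauB x h) := by
  rw [Function.bijective_iff_has_inverse]
  refine ⟨tauB x h⁻¹, fun b => ?_, fun b => ?_⟩
  · apply Subtype.ext
    rw [tauB_coe, tauB_coe, rtr_rtr, inv_mul_cancel, rtr_one]
  · apply Subtype.ext
    rw [tauB_coe, tauB_coe, rtr_rtr, mul_inv_cancel, rtr_one]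

end Trans

section Flat

variable {k : Type u} [Field k] [IsAlgClosed k]
variable {A : Type u} [CommRing A] [HopfAlgebra k A] [Algebra.FiniteType k A] [IsDomain A]
variable {R : Type u} [CommRing R] [Algebra k R] [Algebra.FiniteType k R]
  [HopfRep.Comod k A R] [GLin.IsCoactAlg k A R]

/-- flatness of a localisation of `A` over `B₀` is preserved by translation -/
theorem flat_away_rtr (x : R →ₐ[k] k) (f : (GLin.orbitHom k A x).range)
    (hflat : Module.Flat (GLin.orbitHom k A x).range (Localization.Away (f : A)))
    (h : WithConv (A →ₐ[k] k)) :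
    ((algebraMap A (Localization.Away (rtr h (f : A)))).comp
      (algebraMap (GLin.orbitHom k A x).range A)).Flat := by
  have hmap : (Submonoid.powers (f : A)).map (rtrEquiv h).toRingEquiv.toMonoidHom =
      Submonoid.powers (rtr h (f : A)) := by
    rw [Submonoid.map_powers]
    rfl
  let e : Localization.Away (f : A) ≃+* Localization.Away (rtr h (f : A)) :=
    IsLocalization.ringEquivOfRingEquiv (Localization.Away (f : A))
      (Localization.Away (rtr h (f : A))) (rtrEquiv h).toRingEquiv hmap
  have he : ∀ a : A, e (algebraMap A _ a) = algebraMap A _ (rtr h a) := fun a =>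
    IsLocalization.ringEquivOfRingEquiv_eq _ _
  have h1 : (algebraMap (GLin.orbitHom k A x).range (Localization.Away (f : A))).Flat :=
    RingHom.flat_algebraMap_iff.mpr hflat
  have h2 : (e.toRingHom.comp
      (algebraMap (GLin.orbitHom k A x).range (Localization.Away (f : A)))).Flat :=
    RingHom.Flat.comp h1 (RingHom.Flat.of_bijective e.bijective)
  have h3 : e.toRingHom.comp
      (algebraMap (GLin.orbitHom k A x).range (Localization.Away (f : A))) =
      ((algebraMap A (Localization.Away (rtr h (f : A)))).comp
        (algebraMap (GLin.orbitHom k A x).range A)).comp (tauB x h : _ →+* _) := by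
    ext b
    simp only [RingHom.comp_apply]
    rw [IsScalarTower.algebraMap_apply (GLin.orbitHom k A x).range A (Localization.Away (f : A))]
    exact he _
  rw [h3] at h2
  exact (RingHom.Flat.comp_iff_of_bijective_right (tauB_bijective x h)).mp h2

/-- **The group is flat over the orbit closure.** -/
theorem flat_range_orbitHom (x : R →ₐ[k] k) : Module.Flat (GLin.orbitHom k A x).range A := by
  have hft : Algebra.FiniteType k (GLin.orbitHom k A x).range :=
    Algebra.FiniteType.of_surjective (GLin.orbitHom k A x).rangeRestrict
      (AlgHom.rangeRestrict_surjective _)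
  have hnoeth : IsNoetherianRing (GLin.orbitHom k A x).range :=
    Algebra.FiniteType.isNoetherianRing k _
  have hftA : Algebra.FiniteType (GLin.orbitHom k A x).range A :=
    Algebra.FiniteType.of_restrictScalars_finiteType k _ A
  obtain ⟨f, hf, hflat⟩ := Groth.Agent.H24.GenericFlat.exists_flat_localization
    (A := (GLin.orbitHom k A x).range) A A
  have hflat0 : Module.Flat (GLin.orbitHom k A x).range (Localization.Away (f : A)) :=
    hflat (Submonoid.powers (f : A)) (Submonoid.mem_powers _) (Localization.Away (f : A))
      (Algebra.linearMap A (Localization.Away (f : A)))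
  let s : Set A := Set.range fun h : WithConv (A →ₐ[k] k) => rtr h (f : A)
  have hs : Ideal.span s = ⊤ := by
    by_contra hne
    obtain ⟨g, hg⟩ := Groth.Agent.H59.Orbit.exists_point_of_ne_top (k := k) _ hne
    apply hf
    apply Subtype.ext
    change (f : A) = 0
    apply eq_of_forall_point (k := k)
    intro g'
    rw [map_zero]
    have := hg _ (Ideal.subset_span ⟨(toConv g)⁻¹ * g', rfl⟩)
    have h2 := apply_rtr (toConv g) ((toConv g)⁻¹ * g') (f : A)
    rw [mul_inv_cancel_left] at h2
    rw [← h2]
    exact this
  rw [← RingHom.flat_algebraMap_iff]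
  refine RingHom.Flat.ofLocalizationSpanTarget _ s hs ?_
  rintro ⟨_, h, rfl⟩
  exact flat_away_rtr x f hflat0 h

/-- **The group is faithfully flat over a closed orbit.** -/
theorem faithfullyFlat_range_orbitHom (x : R →ₐ[k] k) (hx : GLin.IsClosedOrbit k A x) :
    Module.FaithfullyFlat (GLin.orbitHom k A x).range A := by
  have := flat_range_orbitHom (A := A) x
  apply Module.FaithfullyFlat.of_comap_surjective
  intro q
  -- pull `q` back to `R`
  let q' : PrimeSpectrum R :=
    PrimeSpectrum.comap ((GLin.orbitHom k A x).rangeRestrict : R →+* _) q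
  have hq' : q' ∈ Set.range (PrimeSpectrum.comap (GLin.orbitHom k A x).toRingHom) := by
    unfold GLin.IsClosedOrbit at hx
    rw [← hx.closure_eq, PrimeSpectrum.closure_range_comap, PrimeSpectrum.mem_zeroLocus]
    intro r hr
    have hr' : (GLin.orbitHom k A x).rangeRestrict r = 0 := by
      apply Subtype.ext
      exact RingHom.mem_ker.mp hr
    change (GLin.orbitHom k A x).rangeRestrict r ∈ q.asIdeal
    rw [hr']
    exact zero_mem _
  obtain ⟨P, hP⟩ := hq'
  refine ⟨P, ?_⟩
  apply PrimeSpectrum.comap_injective_of_surjective
    ((GLin.orbitHom k A x).rangeRestrict : R →+* _) (AlgHom.rangeRestrict_surjective _)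
  change _ = q'
  rw [← hP]
  rfl

end Flat

end Groth.Agent.H74.OrbFlat
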