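import Mathlib
import Groth.Agent.H74.CoidealDesc
import Groth.Agent.H74.OrbFlat
import Groth.Agent.H74.CharTw

/-!
# Characters trivial on the stabilisers of closed orbits (S19406)

`G` connected linearly reductive acting on `Spec R`, `χ` a character.  The set of closed orbits whose
stabiliser lies in the kernel of `χ` is cut out by the invariants `f f'` with `f` a semi-invariant
of weight `χ` and `f'` a semi-invariant of weight `χ⁻¹`.
-/

set_option autoImplicit false
set_option linter.unusedSectionVars false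

open TensorProduct WithConv

namespace Groth.Agent.H74.CharStab

open Groth.Agent.H74.CoactPts Groth.Agent.H74.OrbPts Groth.Agent.H74.OrbStmt
  Groth.Agent.H74.CoidealDesc Groth.Agent.H74.OrbFlat Groth.Agent.H74.CharTw

universe u

section Eigen

variable {k : Type u} [Field k]
variable {A : Type u} [CommRing A] [HopfAlgebra k A]
variable {R : Type u} [CommRing R] [Algebra k R] [HopfRep.Comod k A R] [GLin.IsCoactAlg k A R]

/-- the orbit map on a semi-invariant -/
theorem orbitHom_of_eigen (x : R →ₐ[k] k) (χ : A) (f : R)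
    (hf : HopfRep.Comod.coact (k := k) (A := A) f = f ⊗ₜ[k] χ) :
    GLin.orbitHom k A x f = x f • χ := by
  change (Algebra.TensorProduct.lid k A) ((Algebra.TensorProduct.map x (AlgHom.id k A))
    (HopfRep.Comod.coact (k := k) (A := A) f)) = _
  rw [hf]
  simp

/-- a semi-invariant of weight `χ` not vanishing at `x` forces `χ` to be trivial on the stabiliser
of `x` -/
theorem sub_one_mem_stabIdeal_of_eigen (x : R →ₐ[k] k) (χ : A) (f : R)
    (hf : HopfRep.Comod.coact (k := k) (A := A) f = f ⊗ₜ[k] χ) (hx : x f ≠ 0) :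
    χ - 1 ∈ GLin.stabIdeal k A x := by
  have hr : f - algebraMap k R (x f) ∈ RingHom.ker x := by
    rw [RingHom.mem_ker, map_sub, AlgHom.commutes]
    simp
  have h1 : GLin.orbitHom k A x (f - algebraMap k R (x f)) ∈ GLin.stabIdeal k A x :=
    Ideal.mem_map_of_mem _ hr
  rw [map_sub, orbitHom_of_eigen x χ f hf, AlgHom.commutes, Algebra.algebraMap_eq_smul_one,
    ← smul_sub] at h1
  have h2 := (GLin.stabIdeal k A x).smul_mem (algebraMap k A (x f)⁻¹) h1
  rw [smul_eq_mul, ← Algebra.smul_def, smul_smul, inv_mul_cancel₀ hx, one_smul] at h2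
  exact h2

end Eigen

variable (k : Type u) [Field k] [IsAlgClosed k]
  (A : Type u) [CommRing A] [IsDomain A] [HopfAlgebra k A] [Algebra.FiniteType k A]
  (hG : HopfRep.IsLinearlyReductive k A)
  (R : Type u) [CommRing R] [Algebra k R] [Algebra.FiniteType k R]
  [HopfRep.Comod k A R] [GLin.IsCoactAlg k A R]

include hG

/-- over a closed orbit, a character trivial on the stabiliser is the weight of a semi-invariant not
vanishing at the point -/
theorem exists_eigen_of_sub_one_mem (x : R →ₐ[k] k) (hx : GLin.IsClosedOrbit k A x)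
    (χ : A) (hχ : IsGroupLikeElem k χ) (h : χ - 1 ∈ GLin.stabIdeal k A x) :
    ∃ f : R, HopfRep.Comod.coact (k := k) (A := A) f = f ⊗ₜ[k] χ ∧ x f = 1 := by
  have := faithfullyFlat_range_orbitHom (A := A) x hx
  obtain ⟨r, hr⟩ := mem_range_orbitHom_of_faithfullyFlat x χ hχ h
  have hr' : Groth.Agent.H59.Orbit.theta (A := A) x r = χ := by
    rw [← orbitHom_eq_theta]; exact hr
  obtain ⟨f, hf1, hf2⟩ := exists_eigen_preimage hG (Groth.Agent.H59.Orbit.theta (A := A) x)
    (Groth.Agent.H59.Orbit.theta_isComodHom x) χ (HopfAlgebra.antipode k χ) hχ.antipode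
    hχ.antipode_mul_cancel r (by
      rw [hr']
      exact hχ.comul_eq_tmul_self)
  refine ⟨f, hf1, ?_⟩
  rw [← Groth.Agent.H59.Orbit.counit_theta (A := A) x f, hf2, hr', hχ.counit_eq_one]

theorem S19406 (χ : A) (hχ : IsGroupLikeElem k χ) :
    ∃ E : Set R, E ⊆ GLin.invariants k A R ∧
      ∀ x : R →ₐ[k] k, GLin.IsClosedOrbit k A x →
        (χ - 1 ∈ GLin.stabIdeal k A x ↔ ∃ f ∈ E, x f ≠ 0) := by
  refine ⟨{F | ∃ f f' : R, HopfRep.Comod.coact (k := k) (A := A) f = f ⊗ₜ[k] χ ∧
      HopfRep.Comod.coact (k := k) (A := A) f' = f' ⊗ₜ[k] HopfAlgebra.antipode k χ ∧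
      F = f * f'}, ?_, fun x hx => ⟨fun h => ?_, ?_⟩⟩
  · rintro _ ⟨f, f', hf, hf', rfl⟩
    change HopfRep.Comod.coact (k := k) (A := A) (f * f') = (f * f') ⊗ₜ[k] (1 : A)
    rw [GLin.IsCoactAlg.coact_mul, hf, hf', Algebra.TensorProduct.tmul_mul_tmul,
      hχ.mul_antipode_cancel]
  · obtain ⟨f, hf, hxf⟩ := exists_eigen_of_sub_one_mem k A hG R x hx χ hχ h
    have h' : HopfAlgebra.antipode k χ - 1 ∈ GLin.stabIdeal k A x := by
      have : HopfAlgebra.antipode k χ - 1 = -(HopfAlgebra.antipode k χ) * (χ - 1) := by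
        rw [mul_sub, neg_mul, neg_mul, hχ.antipode_mul_cancel, mul_one]
        ring
      rw [this]
      exact Ideal.mul_mem_left _ _ h
    obtain ⟨f', hf', hxf'⟩ := exists_eigen_of_sub_one_mem k A hG R x hx _ hχ.antipode h'
    refine ⟨f * f', ⟨f, f', hf, hf', rfl⟩, ?_⟩
    rw [map_mul, hxf, hxf', mul_one]
    exact one_ne_zero
  · rintro ⟨_, ⟨f, f', hf, hf', rfl⟩, hne⟩
    rw [map_mul] at hne
    exact sub_one_mem_stabIdeal_of_eigen x χ f hf (left_ne_zero_of_mul hne)

end Groth.Agent.H74.CharStab
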