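import Groth.Agent.H74.Incidence

/-!
# Circuit-coprime labelled graphs (helper74)

Paths, components, forests inside a multigraph `ends : E → V × V`, handled by edge subsets
`F : Finset E`, and the equivalence "circuit-coprime ↔ the coboundary `ℤ^V → ⊕ ℤ/l_e` is onto".
-/

open Finset

namespace Groth.Agent.H74.CircCoprime

universe u
variable {V E : Type u} [Fintype V] [Fintype E] [DecidableEq V] [DecidableEq E]

open LabGraph DualGr Groth.Agent.H74.Incidence

/-- adjacency through an edge of `F`. -/
def AdjIn (ends : E → V × V) (F : Finset E) (v w : V) : Prop :=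
  ∃ e ∈ F, ends e = (v, w) ∨ ends e = (w, v)

/-- reachability through edges of `F`. -/
def ReachIn (ends : E → V × V) (F : Finset E) (v w : V) : Prop :=
  Relation.ReflTransGen (AdjIn ends F) v w

omit [Fintype V] [Fintype E] [DecidableEq V] [DecidableEq E] in
theorem reachIn_ends (ends : E → V × V) (F : Finset E) (u : V) {e : E} (he : e ∈ F) :
    ReachIn ends F u (ends e).1 ↔ ReachIn ends F u (ends e).2 := by
  constructor
  · intro h
    exact h.tail ⟨e, he, Or.inl rfl⟩
  · intro h
    exact h.tail ⟨e, he, Or.inr rfl⟩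

omit [Fintype V] [Fintype E] [DecidableEq V] [DecidableEq E] in
theorem reachIn_mono (ends : E → V × V) {F F' : Finset E} (h : F ⊆ F') {u v : V}
    (huv : ReachIn ends F u v) : ReachIn ends F' u v := by
  refine Relation.ReflTransGen.mono ?_ _ _ huv
  rintro a b ⟨e, he, h'⟩
  exact ⟨e, h he, h'⟩

omit [Fintype V] [Fintype E] [DecidableEq V] [DecidableEq E] in
theorem reachIn_univ (ends : E → V × V) [Fintype E] {u v : V}
    (huv : Relation.ReflTransGen (Adj ends) u v) : ReachIn ends Finset.univ u v := by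
  refine Relation.ReflTransGen.mono ?_ _ _ huv
  rintro a b ⟨e, h'⟩
  exact ⟨e, Finset.mem_univ _, h'⟩

omit [Fintype V] [DecidableEq V] in
theorem boundary_single (ends : E → V × V) (e : E) (w : V) [DecidableEq V] :
    boundary ends (Pi.single e 1) w =
      (Pi.single (ends e).2 1 - Pi.single (ends e).1 1 : V → ℤ) w := by
  simp only [boundary, Pi.sub_apply, Pi.single_apply]
  rw [Finset.sum_eq_single e]
  · simp [eq_comm]
  · intro b _ hb
    simp [hb]
  · intro h; exact absurd (Finset.mem_univ _) h

omit [Fintype V] [DecidableEq E] in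
theorem boundary_add (ends : E → V × V) (γ γ' : E → ℤ) (w : V) :
    boundary ends (γ + γ') w = boundary ends γ w + boundary ends γ' w := by
  simp only [boundary, Pi.add_apply, ← Finset.sum_add_distrib]
  refine Finset.sum_congr rfl fun e _ => ?_
  split_ifs <;> ring

omit [Fintype V] [DecidableEq E] in
theorem boundary_neg (ends : E → V × V) (γ : E → ℤ) (w : V) :
    boundary ends (-γ) w = - boundary ends γ w := by
  simp only [boundary, Pi.neg_apply, ← Finset.sum_neg_distrib]
  refine Finset.sum_congr rfl fun e _ => ?_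
  split_ifs <;> ring

omit [Fintype V] [DecidableEq E] in
theorem boundary_zero (ends : E → V × V) (w : V) :
    boundary ends (0 : E → ℤ) w = 0 := by
  simp [boundary]

omit [Fintype V] in
/-- A path inside `F` from `u` to `v` gives an integer chain supported on `F` with boundary
`[v] - [u]`. -/
theorem exists_chain (ends : E → V × V) (F : Finset E) {u v : V} (h : ReachIn ends F u v) :
    ∃ γ : E → ℤ, (∀ e, e ∉ F → γ e = 0) ∧
      ∀ w, boundary ends γ w = (Pi.single v 1 - Pi.single u 1 : V → ℤ) w := by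
  induction h with
  | refl => exact ⟨0, fun _ _ => rfl, fun w => by simp [boundary_zero]⟩
  | @tail b c _ hbc ih =>
    obtain ⟨γ, hγ0, hγ⟩ := ih
    obtain ⟨e, heF, he | he⟩ := hbc
    · refine ⟨γ + Pi.single e 1, ?_, ?_⟩
      · intro e' he'
        have : e' ≠ e := fun h => he' (h ▸ heF)
        simp [hγ0 e' he', this]
      · intro w
        rw [boundary_add, hγ, boundary_single, he]
        simp only [Pi.sub_apply]
        ring
    · refine ⟨γ + -Pi.single e 1, ?_, ?_⟩
      · intro e' he'
        have : e' ≠ e := fun h => he' (h ▸ heF)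
        simp [hγ0 e' he', this]
      · intro w
        rw [boundary_add, boundary_neg, hγ, boundary_single, he]
        simp only [Pi.sub_apply]
        ring

omit [Fintype V] [Fintype E] [DecidableEq E] in
/-- A nonempty edge set with all end counts even contains a circuit (with containment). -/
theorem exists_circuit_subset_of_even (ends : E → V × V) (C : Finset E) (hne : C.Nonempty)
    (heven : ∀ v, Even (endCount ends C v)) : ∃ C', C' ⊆ C ∧ IsCircuit ends C' := by
  classical
  let PP := C.powerset.filter (fun C' => C'.Nonempty ∧ ∀ v, Even (endCount ends C' v))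
  have hC : C ∈ PP := by
    simp only [PP, Finset.mem_filter, Finset.mem_powerset]
    exact ⟨subset_rfl, hne, heven⟩
  obtain ⟨C', hC', hmin⟩ := Finset.exists_min_image PP Finset.card ⟨C, hC⟩
  simp only [PP, Finset.mem_filter, Finset.mem_powerset] at hC'
  refine ⟨C', hC'.1, hC'.2.1, hC'.2.2, ?_⟩
  intro C'' hss hne''
  by_contra hcon
  simp only [not_exists, not_not] at hcon
  have hmem : C'' ∈ PP := by
    simp only [PP, Finset.mem_filter, Finset.mem_powerset]
    exact ⟨hss.subset.trans hC'.1, hne'', hcon⟩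
  have := hmin C'' hmem
  exact absurd (Finset.card_lt_card hss) (not_lt.mpr this)

omit [Fintype V] in
/-- An integer cycle with an odd coefficient, supported on `F`, gives a circuit inside `F`. -/
theorem exists_circuit_of_odd_cycle (ends : E → V × V) (F : Finset E) (γ : E → ℤ)
    (hγ0 : ∀ e, e ∉ F → γ e = 0) (hγ : ∀ w, boundary ends γ w = 0) (e₀ : E) (he₀ : Odd (γ e₀)) :
    ∃ C, C ⊆ F ∧ IsCircuit ends C := by
  classical
  set C := Finset.univ.filter (fun e => Odd (γ e)) with hCdef
  have hCF : C ⊆ F := by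
    intro e he
    by_contra hcon
    simp only [hCdef, Finset.mem_filter, Finset.mem_univ, true_and] at he
    rw [hγ0 e hcon] at he
    exact absurd he (by decide)
  have hne : C.Nonempty := ⟨e₀, by simp [hCdef, he₀]⟩
  have hcast : ∀ e, ((γ e : ℤ) : ZMod 2) = if e ∈ C then 1 else 0 := by
    intro e
    by_cases h : Odd (γ e)
    · have : e ∈ C := by simp [hCdef, h]
      rw [if_pos this]
      obtain ⟨k, hk⟩ := h
      rw [hk]
      push_cast
      have : (2 : ZMod 2) = 0 := rfl
      rw [this]; ring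
    · have hn : e ∉ C := by simp [hCdef, h]
      rw [if_neg hn]
      rw [Int.not_odd_iff_even] at h
      obtain ⟨k, hk⟩ := h
      rw [hk]
      push_cast
      rw [← two_mul]
      have : (2 : ZMod 2) = 0 := rfl
      rw [this]; ring
  have heven : ∀ v, Even (endCount ends C v) := by
    intro v
    have h1 : ((endCount ends C v : ℕ) : ZMod 2) = ((boundary ends γ v : ℤ) : ZMod 2) := by
      simp only [endCount, boundary, Nat.cast_sum, Nat.cast_add, Nat.cast_ite, Nat.cast_one,
        Nat.cast_zero, Int.cast_sum, Int.cast_sub, Int.cast_ite, Int.cast_zero]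
      simp_rw [hcast]
      rw [← Finset.sum_filter_add_sum_filter_not Finset.univ (fun e => e ∈ C)]
      have hz : ∑ x ∈ Finset.univ.filter (fun e => ¬ e ∈ C),
          ((if (ends x).2 = v then (if x ∈ C then (1 : ZMod 2) else 0) else 0) -
            (if (ends x).1 = v then (if x ∈ C then (1 : ZMod 2) else 0) else 0)) = 0 := by
        refine Finset.sum_eq_zero fun e he => ?_
        simp only [Finset.mem_filter, Finset.mem_univ, true_and] at he
        simp [he]
      rw [hz, add_zero]
      have hf : Finset.univ.filter (fun e => e ∈ C) = C := by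
        ext e; simp
      rw [hf]
      refine Finset.sum_congr rfl fun e he => ?_
      rw [if_pos he, CharTwo.sub_eq_add, add_comm]
    rw [hγ v, Int.cast_zero] at h1
    exact even_iff_two_dvd.mpr ((ZMod.natCast_eq_zero_iff _ 2).mp h1)
  obtain ⟨C', hC'C, hC'⟩ := exists_circuit_subset_of_even ends C hne heven
  exact ⟨C', hC'C.trans hCF, hC'⟩

omit [Fintype V] in
/-- If `insert e₀ F` contains no circuit, the endpoints of `e₀` are not joined inside `F`. -/
theorem not_reachIn_of_no_circuit (ends : E → V × V) (F : Finset E) (e₀ : E) (he₀ : e₀ ∉ F)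
    (hno : ∀ C, C ⊆ insert e₀ F → ¬ IsCircuit ends C) :
    ¬ ReachIn ends F (ends e₀).2 (ends e₀).1 := by
  intro hreach
  obtain ⟨γ, hγ0, hγ⟩ := exists_chain ends F hreach
  obtain ⟨C, hCF, hC⟩ := exists_circuit_of_odd_cycle ends (insert e₀ F) (γ + Pi.single e₀ 1)
    (by
      intro e he
      rw [Finset.mem_insert, not_or] at he
      simp [hγ0 e he.2, he.1])
    (by
      intro w
      rw [boundary_add, hγ, boundary_single]
      simp only [Pi.sub_apply]; ring)
    e₀ (by simp [hγ0 e₀ he₀])
  exact hno C hCF hC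


omit [Fintype V] in
/-- On an edge set without circuits, differences along edges can be prescribed exactly. -/
theorem forest_prescribe (ends : E → V × V) (F : Finset E)
    (hno : ∀ C, C ⊆ F → ¬ IsCircuit ends C) (c : E → ℤ) :
    ∃ φ : V → ℤ, ∀ e ∈ F, φ (ends e).2 - φ (ends e).1 = c e := by
  classical
  induction F using Finset.induction_on with
  | empty => exact ⟨0, fun e he => absurd he (Finset.notMem_empty e)⟩
  | @insert e₀ F he₀ ih =>
    obtain ⟨φ', hφ'⟩ := ih (fun C hC => hno C (hC.trans (Finset.subset_insert _ _)))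
    have hnr := not_reachIn_of_no_circuit ends F e₀ he₀ hno
    set t : ℤ := c e₀ - (φ' (ends e₀).2 - φ' (ends e₀).1) with ht
    refine ⟨fun v => φ' v + if ReachIn ends F (ends e₀).2 v then t else 0, ?_⟩
    intro e he
    rw [Finset.mem_insert] at he
    rcases he with rfl | he
    · have h2 : ReachIn ends F (ends e).2 (ends e).2 := Relation.ReflTransGen.refl
      simp only [if_pos h2, if_neg hnr, ht]
      ring
    · by_cases h1 : ReachIn ends F (ends e₀).2 (ends e).1
      · have h2 := (reachIn_ends ends F (ends e₀).2 he).mp h1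
        simp only [if_pos h1, if_pos h2]
        rw [← hφ' e he]; ring
      · have h2 : ¬ ReachIn ends F (ends e₀).2 (ends e).2 :=
          fun h => h1 ((reachIn_ends ends F (ends e₀).2 he).mpr h)
        simp only [if_neg h1, if_neg h2]
        rw [← hφ' e he]; ring

omit [Fintype E] [DecidableEq E] in
/-- Double counting: edge-end sums versus vertex sums weighted by end counts. -/
theorem sum_ends_eq (ends : E → V × V) (C : Finset E) (φ : V → ℤ) :
    ∑ e ∈ C, (φ (ends e).1 + φ (ends e).2) = ∑ v : V, φ v * (endCount ends C v : ℤ) := by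
  simp only [endCount, Nat.cast_sum, Nat.cast_add, Nat.cast_ite, Nat.cast_one, Nat.cast_zero,
    Finset.mul_sum]
  rw [Finset.sum_comm]
  refine Finset.sum_congr rfl fun e _ => ?_
  simp only [mul_add, mul_ite, mul_one, mul_zero, Finset.sum_add_distrib, Finset.sum_ite_eq,
    Finset.mem_univ, if_true]

omit [DecidableEq E] [Fintype E] in
/-- In an edge set with all end counts even, the endpoints of every edge are joined by the
other edges. -/
theorem reachIn_of_even [DecidableEq E] (ends : E → V × V) (C : Finset E)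
    (heven : ∀ v, Even (endCount ends C v)) (e₀ : E) (he₀ : e₀ ∈ C) :
    ReachIn ends (C.erase e₀) (ends e₀).2 (ends e₀).1 := by
  classical
  by_contra hnr
  set φ : V → ℤ := fun v => if ReachIn ends (C.erase e₀) (ends e₀).2 v then 1 else 0 with hφ
  have h1 := sum_ends_eq ends C φ
  have hR : Even (∑ v : V, φ v * (endCount ends C v : ℤ)) := by
    refine Finset.even_sum _ fun v _ => ?_
    exact Even.mul_left ((Int.even_coe_nat _).mpr (heven v)) _
  rw [← h1, ← Finset.add_sum_erase _ _ he₀] at hR
  have h2 : Even (∑ e ∈ C.erase e₀, (φ (ends e).1 + φ (ends e).2)) := by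
    refine Finset.even_sum _ fun e he => ?_
    by_cases h1 : ReachIn ends (C.erase e₀) (ends e₀).2 (ends e).1
    · have h2 := (reachIn_ends ends _ (ends e₀).2 he).mp h1
      simp only [hφ, if_pos h1, if_pos h2]; decide
    · have h2 : ¬ ReachIn ends (C.erase e₀) (ends e₀).2 (ends e).2 :=
        fun h => h1 ((reachIn_ends ends _ (ends e₀).2 he).mpr h)
      simp only [hφ, if_neg h1, if_neg h2]; decide
  have h3 : φ (ends e₀).1 + φ (ends e₀).2 = 1 := by
    have h2 : ReachIn ends (C.erase e₀) (ends e₀).2 (ends e₀).2 := Relation.ReflTransGen.refl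
    simp only [hφ, if_neg hnr, if_pos h2]; rfl
  rw [h3] at hR
  have : Even (1 : ℤ) := by
    have := hR.sub h2
    simpa using this
  exact absurd this (by decide)

omit [DecidableEq E] [DecidableEq V] in
/-- Adjunction between coboundary and boundary. -/
theorem sum_mul_coboundary [DecidableEq V] (ends : E → V × V) (γ : E → ℤ) (φ : V → ℤ) :
    ∑ e : E, γ e * (φ (ends e).2 - φ (ends e).1) = ∑ v : V, φ v * boundary ends γ v := by
  simp only [boundary, Finset.mul_sum]
  rw [Finset.sum_comm]
  refine Finset.sum_congr rfl fun e _ => ?_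
  simp only [mul_sub, mul_ite, mul_zero, Finset.sum_sub_distrib, Finset.sum_ite_eq,
    Finset.mem_univ, if_true]
  ring


/-- The coboundary `ℤ^V → ⊕ ℤ/l_e` is onto. -/
def CobSurj (ends : E → V × V) (l : E → ℕ) : Prop :=
  ∀ x : E → ℤ, ∃ (φ : V → ℤ) (y : E → ℤ),
    ∀ e, x e = (φ (ends e).2 - φ (ends e).1) + (l e : ℤ) * y e

/-- Orthogonality form of the same condition. -/
def OrthSurj (ends : E → V × V) (l : E → ℕ) : Prop :=
  ∀ x : E → ℤ, ∃ y : E → ℤ, ∀ γ : E → ℤ, (∀ v : V, LabGraph.boundary ends γ v = 0) →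
        ∑ e : E, γ e * (x e - (l e : ℤ) * y e) = 0

omit [DecidableEq E] in
theorem orthSurj_of_cobSurj (ends : E → V × V) (l : E → ℕ) (h : CobSurj ends l) :
    OrthSurj ends l := by
  intro x
  obtain ⟨φ, y, hxy⟩ := h x
  refine ⟨y, fun γ hγ => ?_⟩
  have : ∀ e, γ e * (x e - (l e : ℤ) * y e) = γ e * (φ (ends e).2 - φ (ends e).1) := by
    intro e; rw [hxy e]; ring
  simp_rw [this]
  rw [sum_mul_coboundary]
  simp [hγ]

theorem circuitCoprime_of_orthSurj (ends : E → V × V) (l : E → ℕ) (h : OrthSurj ends l) :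
    IsCircuitCoprime ends l := by
  classical
  intro C hC
  obtain ⟨hne, heven, -⟩ := hC
  obtain ⟨e₀, he₀⟩ := hne
  have hreach := reachIn_of_even ends C heven e₀ he₀
  obtain ⟨γ, hγ0, hγ⟩ := exists_chain ends _ hreach
  set γ' : E → ℤ := γ + Pi.single e₀ 1 with hγ'
  have hcyc : ∀ w, boundary ends γ' w = 0 := by
    intro w
    rw [hγ', boundary_add, hγ, boundary_single]
    simp only [Pi.sub_apply]; ring
  have hsupp : ∀ e, e ∉ C → γ' e = 0 := by
    intro e he
    have h1 : e ∉ C.erase e₀ := fun h => he (Finset.mem_of_mem_erase h)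
    have h2 : e ≠ e₀ := fun h => he (h ▸ he₀)
    simp [hγ', hγ0 e h1, h2]
  have he₀' : γ' e₀ = 1 := by
    simp [hγ', hγ0 e₀ (Finset.notMem_erase e₀ C)]
  obtain ⟨y, hy⟩ := h (Pi.single e₀ 1)
  have h0 := hy γ' hcyc
  simp only [mul_sub, Finset.sum_sub_distrib] at h0
  have h1 : ∑ e : E, γ' e * (Pi.single e₀ 1 : E → ℤ) e = 1 := by
    rw [Finset.sum_eq_single e₀]
    · simp [he₀']
    · intro b _ hb; simp [hb]
    · intro h; exact absurd (Finset.mem_univ _) h
  rw [h1] at h0
  have hdvd : ((C.gcd l : ℕ) : ℤ) ∣ ∑ e : E, γ' e * ((l e : ℤ) * y e) := by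
    refine Finset.dvd_sum fun e _ => ?_
    by_cases he : e ∈ C
    · have : ((C.gcd l : ℕ) : ℤ) ∣ (l e : ℤ) := Int.natCast_dvd_natCast.mpr (Finset.gcd_dvd he)
      exact Dvd.dvd.mul_left (Dvd.dvd.mul_right this _) _
    · rw [hsupp e he, zero_mul]; exact dvd_zero _
  have h2 : ∑ e : E, γ' e * ((l e : ℤ) * y e) = 1 := by linarith
  rw [h2] at hdvd
  have : (C.gcd l : ℕ) ∣ 1 := by
    have h3 : ((C.gcd l : ℕ) : ℤ) ∣ ((1 : ℕ) : ℤ) := by simpa using hdvd
    exact Int.natCast_dvd_natCast.mp h3
  exact Nat.dvd_one.mp this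

omit [Fintype V] in
theorem cobSurj_mod_prime (ends : E → V × V) (l : E → ℕ) (hcc : IsCircuitCoprime ends l)
    (q : ℕ) (hq : q.Prime) (x : E → ℤ) :
    ∃ (φ : V → ℤ) (y z : E → ℤ),
      ∀ e, x e = (φ (ends e).2 - φ (ends e).1) + (l e : ℤ) * y e + (q : ℤ) * z e := by
  classical
  set F := Finset.univ.filter (fun e => q ∣ l e) with hF
  have hno : ∀ C, C ⊆ F → ¬ IsCircuit ends C := by
    intro C hCF hC
    have h1 := hcc C hC
    have h2 : q ∣ C.gcd l := by
      refine Finset.dvd_gcd fun e he => ?_
      have := hCF he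
      simp only [hF, Finset.mem_filter, Finset.mem_univ, true_and] at this
      exact this
    rw [h1] at h2
    exact hq.one_lt.ne' (Nat.dvd_one.mp h2)
  obtain ⟨φ, hφ⟩ := forest_prescribe ends F hno x
  have hex : ∀ e, ∃ y z : ℤ,
      x e = (φ (ends e).2 - φ (ends e).1) + (l e : ℤ) * y + (q : ℤ) * z := by
    intro e
    by_cases he : e ∈ F
    · exact ⟨0, 0, by rw [hφ e he]; ring⟩
    · have hnd : ¬ q ∣ l e := by
        simpa [hF] using he
      have hcop : Nat.Coprime q (l e) := (Nat.Prime.coprime_iff_not_dvd hq).mpr hnd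
      have hic : IsCoprime (q : ℤ) (l e : ℤ) := Nat.isCoprime_iff_coprime.mpr hcop
      obtain ⟨a, b, hab⟩ := hic
      set r := x e - (φ (ends e).2 - φ (ends e).1) with hr
      refine ⟨r * b, r * a, ?_⟩
      have : r = r * (a * q + b * l e) := by rw [hab, mul_one]
      rw [hr] at this ⊢
      linarith
  choose y z hyz using hex
  exact ⟨φ, y, z, hyz⟩

omit [Fintype V] in
theorem cobSurj_mod_nat (ends : E → V × V) (l : E → ℕ) (hcc : IsCircuitCoprime ends l)
    (n : ℕ) (hn : 0 < n) (x : E → ℤ) :
    ∃ (φ : V → ℤ) (y z : E → ℤ),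
      ∀ e, x e = (φ (ends e).2 - φ (ends e).1) + (l e : ℤ) * y e + (n : ℤ) * z e := by
  induction n using Nat.recOnMul generalizing x with
  | zero => exact absurd hn (lt_irrefl _)
  | one => exact ⟨0, 0, x, fun e => by simp⟩
  | prime p hp => exact cobSurj_mod_prime ends l hcc p hp x
  | mul a b iha ihb =>
    have ha : 0 < a := Nat.pos_of_ne_zero (fun h => by simp [h] at hn)
    have hb : 0 < b := Nat.pos_of_ne_zero (fun h => by simp [h] at hn)
    obtain ⟨φ₁, y₁, z₁, h₁⟩ := iha ha x
    obtain ⟨φ₂, y₂, z₂, h₂⟩ := ihb hb z₁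
    refine ⟨fun v => φ₁ v + a * φ₂ v, fun e => y₁ e + a * y₂ e, z₂, fun e => ?_⟩
    rw [h₁ e, h₂ e]
    push_cast
    ring

omit [Fintype V] in
theorem cobSurj_of_circuitCoprime (ends : E → V × V) (l : E → ℕ) (hl : ∀ e, 0 < l e)
    (hcc : IsCircuitCoprime ends l) : CobSurj ends l := by
  classical
  intro x
  have hn : 0 < ∏ e : E, l e := Finset.prod_pos fun e _ => hl e
  obtain ⟨φ, y, z, h⟩ := cobSurj_mod_nat ends l hcc _ hn x
  refine ⟨φ, fun e => y e + ((∏ e' ∈ Finset.univ.erase e, l e' : ℕ) : ℤ) * z e, fun e => ?_⟩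
  rw [h e, ← Finset.mul_prod_erase Finset.univ l (Finset.mem_univ e)]
  push_cast
  ring

/-- All three conditions are equivalent (no connectedness needed). -/
theorem circuitCoprime_iff_orthSurj (ends : E → V × V) (l : E → ℕ) (hl : ∀ e, 0 < l e) :
    IsCircuitCoprime ends l ↔ OrthSurj ends l :=
  ⟨fun h => orthSurj_of_cobSurj ends l (cobSurj_of_circuitCoprime ends l hl h),
    circuitCoprime_of_orthSurj ends l⟩

theorem circuitCoprime_iff_cobSurj (ends : E → V × V) (l : E → ℕ) (hl : ∀ e, 0 < l e) :
    IsCircuitCoprime ends l ↔ CobSurj ends l :=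
  ⟨cobSurj_of_circuitCoprime ends l hl,
    fun h => circuitCoprime_of_orthSurj ends l (orthSurj_of_cobSurj ends l h)⟩

end Groth.Agent.H74.CircCoprime
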