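import Mathlib
import Groth.Agent.H74.CoactPts

/-!
# From scheme-valued points of `CoactBr.sp` to ring-valued points

* `exists_pt_eq`: every morphism `sp R R' ⟶ sp R B` over `Spec R` is `CoactBr.pt φ`.
* `hom_ext_affine`: two morphisms `T ⟶ Y` over `Spec R` agree if they agree on all affine points
  `sp R R' ⟶ T`.
* `free_iff`, `inertiaTriv_iff`: freeness of the action / triviality of the inertia at a point, stated
  over all schemes `T` over `Spec R` (the form used in the frozen statements), is equivalent to the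
  same statement for ring-valued points, in terms of `CoactPts.actR`.
-/

set_option autoImplicit false

open CategoryTheory MonoidalCategory CartesianMonoidalCategory MonObj AlgebraicGeometry TensorProduct
open WithConv

namespace Groth.Agent.H74.CoactBridge

open Groth.Agent.H74.CoactPts

universe u

theorem exists_pt_eq {R B R' : Type u} [CommRing R] [CommRing B] [Algebra R B] [CommRing R']
    [Algebra R R'] (m : CoactBr.sp R R' ⟶ CoactBr.sp R B) : ∃ φ : B →ₐ[R] R', m = CoactBr.pt φ := by
  refine ⟨⟨(Spec.preimage m.left).hom, ?_⟩, ?_⟩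
  · suffices CommRingCat.ofHom (algebraMap R B) ≫ Spec.preimage m.left =
      CommRingCat.ofHom (algebraMap R R') from fun r ↦ congr($this r)
    apply Spec.map_injective
    simpa [-comp_over] using! m.w
  · ext1
    simp

theorem hom_ext_affine {R : Type u} [CommRing R] {T Y : Over (Spec (CommRingCat.of R))}
    (m₁ m₂ : T ⟶ Y)
    (h : ∀ (R' : Type u) [CommRing R'] [Algebra R R'] (j : CoactBr.sp R R' ⟶ T),
      j ≫ m₁ = j ≫ m₂) :
    m₁ = m₂ := by
  apply Over.OverMorphism.ext
  refine (T.left.affineOpenCover.openCover).hom_ext _ _ fun i => ?_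
  let S : CommRingCat := T.left.affineOpenCover.X i
  let fi : Spec S ⟶ T.left := T.left.affineOpenCover.f i
  let φ : CommRingCat.of R ⟶ S := Spec.preimage (fi ≫ T.hom)
  let _ : Algebra R S := φ.hom.toAlgebra
  have hw : fi ≫ T.hom = (CoactBr.sp R S).hom := by
    change _ = Spec.map (CommRingCat.ofHom (algebraMap R S))
    have : CommRingCat.ofHom (algebraMap R S) = φ := rfl
    rw [this, Spec.map_preimage]
  let j : CoactBr.sp R S ⟶ T := Over.homMk fi hw
  have := congrArg CommaMorphism.left (h S j)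
  exact this

section

variable {R A B : Type u} [CommRing R] [CommRing A] [HopfAlgebra R A] [CommRing B] [Algebra R B]
  [HopfRep.Comod R A B] [GLin.IsCoactAlg R A B]
variable {R₁ : Type u} [CommRing R₁] [Algebra R R₁]

theorem pt_inv' (g : WithConv (A →ₐ[R] R₁)) :
    (CoactBr.pt g.ofConv)⁻¹ = CoactBr.pt (g⁻¹).ofConv := CoactBr.pt_inv g.ofConv

theorem pt_eq_one_iff (g : WithConv (A →ₐ[R] R₁)) : CoactBr.pt g.ofConv = 1 ↔ g = 1 := by
  rw [← pt_one]
  constructor
  · intro h
    exact WithConv.ofConv_injective (CoactBr.pt_injective h)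
  · rintro rfl
    rfl

theorem lift_pt_act (g : WithConv (A →ₐ[R] R₁)) (y : B →ₐ[R] R₁) :
    lift (CoactBr.pt g.ofConv) (CoactBr.pt y) ≫ (CoactBr.action R A B).act =
      CoactBr.pt (actR y g⁻¹) := by
  rw [CoactBr.lift_action_act, pt_inv', pt_actR]

theorem actR_inv_eq_iff (g : WithConv (A →ₐ[R] R₁)) (y : B →ₐ[R] R₁) :
    actR y g⁻¹ = y ↔ actR y g = y := by
  constructor
  · intro h
    have := congrArg (fun z => actR z g) h
    beta_reduce at this
    rw [actR_mul, inv_mul_cancel, actR_one] at this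
    exact this.symm
  · intro h
    have := congrArg (fun z => actR z g⁻¹) h
    beta_reduce at this
    rw [actR_mul, mul_inv_cancel, actR_one] at this
    exact this.symm

theorem fix_pt_iff (g : WithConv (A →ₐ[R] R₁)) (y : B →ₐ[R] R₁) :
    lift (CoactBr.pt g.ofConv) (CoactBr.pt y) ≫ (CoactBr.action R A B).act = CoactBr.pt y ↔
      actR y g = y := by
  rw [lift_pt_act, ← actR_inv_eq_iff]
  exact ⟨fun h => CoactBr.pt_injective h, fun h => by rw [h]⟩

variable (R A B) in
/-- Freeness of the action on ring-valued points. -/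
def FreeAlg : Prop :=
  ∀ (R' : Type u) [CommRing R'] [Algebra R R'] (y : B →ₐ[R] R') (g : WithConv (A →ₐ[R] R')),
    actR y g = y → g = 1

/-- Triviality of the inertia at `x` on ring-valued points. -/
def InertiaTriv {K : Type u} [CommRing K] [Algebra R K] (x : B →ₐ[R] K) : Prop :=
  ∀ (R' : Type u) [CommRing R'] [Algebra R R'] (h : K →ₐ[R] R') (g : WithConv (A →ₐ[R] R')),
    actR (h.comp x) g = h.comp x → g = 1

theorem free_iff :
    (∀ (T : Over (Spec (CommRingCat.of R))) (ζ : T ⟶ CoactBr.sp R B) (g : T ⟶ CoactBr.sp R A),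
        lift g ζ ≫ (CoactBr.action R A B).act = ζ → g = 1) ↔ FreeAlg R A B := by
  constructor
  · intro H R' _ _ y g hyg
    have := H (CoactBr.sp R R') (CoactBr.pt y) (CoactBr.pt g.ofConv) ((fix_pt_iff g y).mpr hyg)
    exact (pt_eq_one_iff g).mp this
  · intro H T ζ g hfix
    apply hom_ext_affine
    intro R' _ _ j
    obtain ⟨y, hy⟩ := exists_pt_eq (j ≫ ζ)
    obtain ⟨g₀, hg₀⟩ := exists_pt_eq (j ≫ g)
    have h1 : lift (j ≫ g) (j ≫ ζ) ≫ (CoactBr.action R A B).act = j ≫ ζ := by
      rw [← comp_lift_assoc, hfix]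
    rw [hy, hg₀] at h1
    have h2 := H R' y (toConv g₀) ((fix_pt_iff (toConv g₀) y).mp h1)
    rw [hg₀, MonObj.comp_one]
    exact (pt_eq_one_iff (toConv g₀)).mpr h2

theorem inertiaTriv_iff {K : Type u} [CommRing K] [Algebra R K] (x : B →ₐ[R] K) :
    (∀ (T : Over (Spec (CommRingCat.of R))) (h : T ⟶ CoactBr.sp R K) (g : T ⟶ CoactBr.sp R A),
        lift g (h ≫ CoactBr.pt x) ≫ (CoactBr.action R A B).act = h ≫ CoactBr.pt x → g = 1) ↔
      InertiaTriv (A := A) x := by
  constructor
  · intro H R' _ _ h g hyg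
    have h1 := (fix_pt_iff g (h.comp x)).mpr hyg
    rw [CoactBr.pt_comp] at h1
    have := H (CoactBr.sp R R') (CoactBr.pt h) (CoactBr.pt g.ofConv) h1
    exact (pt_eq_one_iff g).mp this
  · intro H T h g hfix
    apply hom_ext_affine
    intro R' _ _ j
    obtain ⟨h₀, hh₀⟩ := exists_pt_eq (j ≫ h)
    obtain ⟨g₀, hg₀⟩ := exists_pt_eq (j ≫ g)
    have h1 : lift (j ≫ g) ((j ≫ h) ≫ CoactBr.pt x) ≫ (CoactBr.action R A B).act =
        (j ≫ h) ≫ CoactBr.pt x := by
      rw [Category.assoc, ← comp_lift_assoc, hfix]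
    rw [hh₀, hg₀, ← CoactBr.pt_comp] at h1
    have h2 := H R' h₀ (toConv g₀) ((fix_pt_iff (toConv g₀) (h₀.comp x)).mp h1)
    rw [hg₀, MonObj.comp_one]
    exact (pt_eq_one_iff (toConv g₀)).mpr h2

end

end Groth.Agent.H74.CoactBridge

namespace Groth.Agent.H74.CoactBridge

open Groth.Agent.H74.CoactPts

universe u

section Left

variable {R A B : Type u} [CommRing R] [CommRing A] [HopfAlgebra R A] [CommRing B] [Algebra R B]
  [HopfRep.Comod R A B] [GLin.IsCoactAlg R A B]

theorem lift_mul_act {T : Over (Spec (CommRingCat.of R))} (a b : T ⟶ CoactBr.sp R A)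
    (z : T ⟶ CoactBr.sp R B) :
    lift (a * b) z ≫ (CoactBr.action R A B).act =
      lift a (lift b z ≫ (CoactBr.action R A B).act) ≫ (CoactBr.action R A B).act := by
  rw [CoactBr.lift_action_act, CoactBr.lift_action_act, CoactBr.lift_action_act,
    CoactBr.lift_ract_ract, mul_inv_rev]

theorem lift_one_act {T : Over (Spec (CommRingCat.of R))} (z : T ⟶ CoactBr.sp R B) :
    lift (1 : T ⟶ CoactBr.sp R A) z ≫ (CoactBr.action R A B).act = z := by
  rw [CoactBr.lift_action_act, inv_one, CoactBr.lift_one_ract]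

/-- The stabiliser of `c · z` is the conjugate of the stabiliser of `z`. -/
theorem fix_conj_iff {T : Over (Spec (CommRingCat.of R))} (c k : T ⟶ CoactBr.sp R A)
    (z : T ⟶ CoactBr.sp R B) :
    lift k (lift c z ≫ (CoactBr.action R A B).act) ≫ (CoactBr.action R A B).act =
        lift c z ≫ (CoactBr.action R A B).act ↔
      lift (c⁻¹ * k * c) z ≫ (CoactBr.action R A B).act = z := by
  constructor
  · intro h
    have := congrArg (fun w => lift c⁻¹ w ≫ (CoactBr.action R A B).act) h
    beta_reduce at this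
    rw [← lift_mul_act, ← lift_mul_act, ← lift_mul_act, inv_mul_cancel, lift_one_act] at this
    exact this
  · intro h
    have := congrArg (fun w => lift c w ≫ (CoactBr.action R A B).act) h
    beta_reduce at this
    rw [← lift_mul_act] at this
    rw [← lift_mul_act]
    have e : c * (c⁻¹ * k * c) = k * c := by group
    rw [e] at this
    exact this

end Left

end Groth.Agent.H74.CoactBridge
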