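import Mathlib

/-!
# A characteristic polynomial for elements of `R₁ ⊗[R] A`, `A` a finite projective `R`-algebra

`A` is presented as a retract of `Fin n → R` by `f : (Fin n → R) →ₗ[R] A`, `g : A →ₗ[R] Fin n → R` with
`f ∘ g = id`.  For every commutative `R`-algebra `R₁` and `α : R₁ ⊗[R] A` the endomorphism
`E α = g' ∘ (α * ·) ∘ f'` of the free `R₁`-module `R₁ ⊗[R] (Fin n → R)` (multiplication by `α` extended by
zero on the complement of `A`) has a matrix `M α` and a characteristic polynomial `cp α`.  We prove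
naturality in `R₁` (`cp_map`), invariance under `R₁`-algebra automorphisms of `R₁ ⊗[R] A` (`cp_algEquiv`),
Cayley–Hamilton (`aeval_cp`) and `cp 0 = X ^ n`.
-/

set_option autoImplicit false

open TensorProduct Polynomial

namespace Groth.Agent.H74.CoactCP

universe u v w w'

section

variable {R : Type u} [CommRing R] {A : Type v} [CommRing A] [Algebra R A] {n : ℕ}
  (f : (Fin n → R) →ₗ[R] A) (g : A →ₗ[R] (Fin n → R))
variable (R₁ : Type w) [CommRing R₁] [Algebra R R₁]

/-- The basis of `R₁ ⊗ (Fin n → R)` over `R₁`. -/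
noncomputable def bF : Module.Basis (Fin n) R₁ (R₁ ⊗[R] (Fin n → R)) :=
  Algebra.TensorProduct.basis R₁ (Pi.basisFun R (Fin n))

/-- Multiplication by `α`, compressed to the free module `R₁ ⊗ (Fin n → R)`. -/
noncomputable def E (α : R₁ ⊗[R] A) : Module.End R₁ (R₁ ⊗[R] (Fin n → R)) :=
  g.baseChange R₁ ∘ₗ LinearMap.mulLeft R₁ α ∘ₗ f.baseChange R₁

/-- The matrix of `E α`. -/
noncomputable def M (α : R₁ ⊗[R] A) : Matrix (Fin n) (Fin n) R₁ :=
  LinearMap.toMatrixAlgEquiv (bF (R := R) (n := n) R₁) (E f g R₁ α)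

/-- The characteristic polynomial of `α`. -/
noncomputable def cp (α : R₁ ⊗[R] A) : R₁[X] := (M f g R₁ α).charpoly

theorem cp_monic (α : R₁ ⊗[R] A) : (cp f g R₁ α).Monic := Matrix.charpoly_monic _

variable {R₁}

theorem E_apply (α : R₁ ⊗[R] A) (v : R₁ ⊗[R] (Fin n → R)) :
    E f g R₁ α v = g.baseChange R₁ (α * f.baseChange R₁ v) := rfl

theorem E_add (α β : R₁ ⊗[R] A) : E f g R₁ (α + β) = E f g R₁ α + E f g R₁ β := by
  refine LinearMap.ext fun v => ?_
  simp only [E_apply, LinearMap.add_apply, add_mul, map_add]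

theorem E_zero : E f g R₁ (0 : R₁ ⊗[R] A) = 0 := by
  refine LinearMap.ext fun v => ?_
  simp only [E_apply, zero_mul, map_zero, LinearMap.zero_apply]

theorem M_apply_tmul (r : R₁) (a : A) (i j : Fin n) :
    M f g R₁ (r ⊗ₜ[R] a) i j = r * algebraMap R R₁ (g (a * f (Pi.single j 1)) i) := by
  classical
  unfold M
  rw [LinearMap.toMatrixAlgEquiv_apply]
  unfold bF
  rw [Algebra.TensorProduct.basis_apply, E_apply, LinearMap.baseChange_tmul,
    Algebra.TensorProduct.tmul_mul_tmul, mul_one, LinearMap.baseChange_tmul,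
    Algebra.TensorProduct.basis_repr_tmul]
  simp [Pi.basisFun_repr]

theorem M_add (α β : R₁ ⊗[R] A) : M f g R₁ (α + β) = M f g R₁ α + M f g R₁ β := by
  unfold M
  rw [E_add, map_add]

theorem M_zero : M f g R₁ (0 : R₁ ⊗[R] A) = 0 := by
  unfold M
  rw [E_zero, map_zero]

/-- Naturality of the matrix in the coefficient ring. -/
theorem M_map {R₂ : Type w'} [CommRing R₂] [Algebra R R₂] (ψ : R₁ →ₐ[R] R₂) (α : R₁ ⊗[R] A) :
    M f g R₂ (Algebra.TensorProduct.map ψ (AlgHom.id R A) α) = (M f g R₁ α).map ψ := by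
  induction α using TensorProduct.induction_on with
  | zero => rw [map_zero, M_zero, M_zero, Matrix.map_zero _ (map_zero ψ)]
  | tmul r a =>
    ext i j
    rw [Algebra.TensorProduct.map_tmul, AlgHom.id_apply, Matrix.map_apply, M_apply_tmul, M_apply_tmul,
      map_mul ψ, AlgHom.commutes]
  | add x y hx hy =>
    rw [map_add, M_add, hx, hy, M_add, Matrix.map_add _ (map_add ψ)]

/-- Naturality of the characteristic polynomial in the coefficient ring. -/
theorem cp_map {R₂ : Type w'} [CommRing R₂] [Algebra R R₂] (ψ : R₁ →ₐ[R] R₂) (α : R₁ ⊗[R] A) :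
    cp f g R₂ (Algebra.TensorProduct.map ψ (AlgHom.id R A) α) = (cp f g R₁ α).map ψ.toRingHom := by
  unfold cp
  rw [M_map]
  exact Matrix.charpoly_map (M f g R₁ α) ψ.toRingHom

theorem cp_zero : cp f g R₁ (0 : R₁ ⊗[R] A) = X ^ n := by
  unfold cp
  rw [M_zero, Matrix.charpoly_zero, Fintype.card_fin]

end

section

variable {R : Type u} [CommRing R] {A : Type v} [CommRing A] [Algebra R A] {n : ℕ}
  (f : (Fin n → R) →ₗ[R] A) (g : A →ₗ[R] (Fin n → R)) (hfg : f ∘ₗ g = LinearMap.id)
variable {R₁ : Type w} [CommRing R₁] [Algebra R R₁]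

include hfg

theorem fg_baseChange (v : R₁ ⊗[R] A) : f.baseChange R₁ (g.baseChange R₁ v) = v := by
  rw [← LinearMap.comp_apply, ← LinearMap.baseChange_comp, hfg, LinearMap.baseChange_id,
    LinearMap.id_apply]

theorem E_mul (α β : R₁ ⊗[R] A) : E f g R₁ (α * β) = E f g R₁ α ∘ₗ E f g R₁ β := by
  ext v
  simp only [E_apply, LinearMap.comp_apply, fg_baseChange f g hfg, mul_assoc,
    TensorProduct.AlgebraTensorModule.curry_apply, TensorProduct.curry_apply,
    LinearMap.coe_restrictScalars]

/-- Invariance of the characteristic polynomial under algebra automorphisms. -/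
theorem cp_algEquiv (σ : (R₁ ⊗[R] A) ≃ₐ[R₁] (R₁ ⊗[R] A)) (α : R₁ ⊗[R] A) :
    cp f g R₁ (σ α) = cp f g R₁ α := by
  classical
  let U : Module.End R₁ (R₁ ⊗[R] (Fin n → R)) :=
    g.baseChange R₁ ∘ₗ σ.toLinearMap ∘ₗ f.baseChange R₁
  let V : Module.End R₁ (R₁ ⊗[R] (Fin n → R)) :=
    g.baseChange R₁ ∘ₗ σ.symm.toLinearMap ∘ₗ f.baseChange R₁
  have h1 : E f g R₁ (σ α) = U * (E f g R₁ α * V) := by
    ext v
    simp only [E_apply, U, V, Module.End.mul_apply, LinearMap.comp_apply, fg_baseChange f g hfg,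
      AlgEquiv.toLinearMap_apply, map_mul, AlgEquiv.apply_symm_apply,
      TensorProduct.AlgebraTensorModule.curry_apply, TensorProduct.curry_apply,
      LinearMap.coe_restrictScalars]
  have h2 : (E f g R₁ α * V) * U = E f g R₁ α := by
    ext v
    simp only [E_apply, U, V, Module.End.mul_apply, LinearMap.comp_apply, fg_baseChange f g hfg,
      AlgEquiv.toLinearMap_apply, AlgEquiv.symm_apply_apply,
      TensorProduct.AlgebraTensorModule.curry_apply, TensorProduct.curry_apply,
      LinearMap.coe_restrictScalars]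
  unfold cp M
  rw [h1, map_mul, Matrix.charpoly_mul_comm, ← map_mul, h2]

/-- Cayley–Hamilton: `α` is a root of its characteristic polynomial. -/
theorem aeval_cp (α : R₁ ⊗[R] A) : aeval α (cp f g R₁ α) = 0 := by
  classical
  have h0 : aeval (E f g R₁ α) (cp f g R₁ α) = 0 := by
    have h := Matrix.aeval_self_charpoly (M f g R₁ α)
    unfold M at h
    rw [← AlgEquiv.coe_toAlgHom, Polynomial.aeval_algHom_apply] at h
    exact (LinearMap.toMatrixAlgEquiv (bF (R := R) (n := n) R₁)).injective (h.trans (map_zero _).symm)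
  -- transport along `f'`, `g'`
  have key : ∀ (p : R₁[X]) (v : R₁ ⊗[R] A),
      f.baseChange R₁ (aeval (E f g R₁ α) p (g.baseChange R₁ v)) = aeval α p * v := by
    intro p
    induction p using Polynomial.induction_on' with
    | add p q hp hq =>
      intro v
      rw [map_add, LinearMap.add_apply, map_add, hp, hq, map_add, add_mul]
    | monomial k c =>
      intro v
      rw [Polynomial.aeval_monomial, Polynomial.aeval_monomial]
      induction k generalizing v with
      | zero =>
        simp only [pow_zero, mul_one, Module.algebraMap_end_apply, map_smul,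
          fg_baseChange f g hfg, Algebra.smul_def]
      | succ k ih =>
        rw [pow_succ, ← mul_assoc, Module.End.mul_apply, E_apply, fg_baseChange f g hfg,
          ← fg_baseChange f g hfg (α * v), ih]
        rw [fg_baseChange f g hfg, pow_succ]
        ring
  have := key (cp f g R₁ α) 1
  rw [h0, LinearMap.zero_apply, map_zero, mul_one] at this
  exact this.symm

theorem pow_eq_zero_of_cp_eq (α : R₁ ⊗[R] A) (h : cp f g R₁ α = X ^ n) : α ^ n = 0 := by
  have := aeval_cp f g hfg α
  rwa [h, map_pow, aeval_X] at this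

end

end Groth.Agent.H74.CoactCP
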