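import Mathlib
import Groth.Agent.H74.CoactCP
import Groth.Agent.H74.CoactPts

/-!
# Invariance of the characteristic polynomial along a coaction of a finite projective Hopf algebra

`A` a commutative Hopf algebra over `R`, presented as a retract of `Fin n → R` (`f`, `g`, `f ∘ g = id`),
`B` a comodule algebra.  For `b : σ → B` the characteristic polynomial over `B[s]` of
`∑ sᵢ · ρ(bᵢ)` has all its coefficients in the invariants of `B` (`coeff_cp_poly_invariant`); in
particular (one variable) every `b` is a root of a monic polynomial with invariant coefficients.  When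
the invariants are the image of `R`, the characteristic polynomial of `∑ rᵢ · orb x (bᵢ)` over `K` does
not depend on the point `x : B → K` (`cp_gam_eq`).
-/

set_option autoImplicit false

open TensorProduct Polynomial WithConv

namespace Groth.Agent.H74.CoactInv

open Groth.Agent.H74.CoactCP Groth.Agent.H74.CoactPts

universe u

variable {R A B : Type u} [CommRing R] [CommRing A] [HopfAlgebra R A] [CommRing B] [Algebra R B]
  [HopfRep.Comod R A B] [GLin.IsCoactAlg R A B]
variable {n : ℕ} (f : (Fin n → R) →ₗ[R] A) (g : A →ₗ[R] (Fin n → R)) (hfg : f ∘ₗ g = LinearMap.id)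

include hfg

/-- The abstract invariance step. -/
theorem cp_map_eq_of_trans {R₁ R₂ : Type u} [CommRing R₁] [Algebra R R₁] [CommRing R₂] [Algebra R R₂]
    (ψ₁ ψ₂ : R₁ →ₐ[R] R₂) (h : WithConv (A →ₐ[R] R₂)) (β : R₁ ⊗[R] A)
    (hβ : Algebra.TensorProduct.map ψ₂ (AlgHom.id R A) β =
      transEquiv h (Algebra.TensorProduct.map ψ₁ (AlgHom.id R A) β)) :
    (cp f g R₁ β).map ψ₂.toRingHom = (cp f g R₁ β).map ψ₁.toRingHom := by
  rw [← cp_map, ← cp_map, hβ, cp_algEquiv f g hfg]

/-- The coefficients of the characteristic polynomial of `ρ b` over `B` are invariant. -/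
theorem coeff_cp_coact_invariant (b : B) (k : ℕ) :
    GLin.coactAlgHom R A B ((cp f g B (GLin.coactAlgHom R A B b)).coeff k) =
      (cp f g B (GLin.coactAlgHom R A B b)).coeff k ⊗ₜ[R] (1 : A) := by
  have key := cp_map_eq_of_trans f g hfg (R₁ := B) (R₂ := B ⊗[R] A)
    (Algebra.TensorProduct.includeLeft : B →ₐ[R] B ⊗[R] A) (GLin.coactAlgHom R A B)
    (gen R A B) (GLin.coactAlgHom R A B b) (by
      have e1 : GLin.coactAlgHom R A B b = orb (AlgHom.id R B) b := by rw [orb_id]
      rw [e1, map_orb_apply, map_orb_apply, AlgHom.comp_id, AlgHom.comp_id]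
      conv_lhs => rw [coactAlgHom_eq_actR (R := R) (A := A) (B := B)]
      rw [orb_actR_apply])
  have := congrArg (fun p => Polynomial.coeff p k) key
  simp only [Polynomial.coeff_map] at this
  exact this

/-- The polynomial version: coefficients of the characteristic polynomial of `∑ sᵢ ρ(bᵢ)`. -/
theorem cp_poly_map_eq {σ : Type u} [Fintype σ] (b : σ → B) :
    (cp f g (MvPolynomial σ B)
      (∑ i, ((MvPolynomial.X i : MvPolynomial σ B) ⊗ₜ[R] (1 : A)) *
        orb (IsScalarTower.toAlgHom R B (MvPolynomial σ B)) (b i))).map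
        (MvPolynomial.mapAlgHom (σ := σ) (GLin.coactAlgHom R A B)).toRingHom =
    (cp f g (MvPolynomial σ B)
      (∑ i, ((MvPolynomial.X i : MvPolynomial σ B) ⊗ₜ[R] (1 : A)) *
        orb (IsScalarTower.toAlgHom R B (MvPolynomial σ B)) (b i))).map
        (MvPolynomial.mapAlgHom (σ := σ)
          (Algebra.TensorProduct.includeLeft : B →ₐ[R] B ⊗[R] A)).toRingHom := by
  set ι₁ : B →ₐ[R] MvPolynomial σ B := IsScalarTower.toAlgHom R B (MvPolynomial σ B) with hι₁
  set ι₂ : B ⊗[R] A →ₐ[R] MvPolynomial σ (B ⊗[R] A) :=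
    IsScalarTower.toAlgHom R (B ⊗[R] A) (MvPolynomial σ (B ⊗[R] A)) with hι₂
  set ψ₁ : MvPolynomial σ B →ₐ[R] MvPolynomial σ (B ⊗[R] A) :=
    MvPolynomial.mapAlgHom (σ := σ) (Algebra.TensorProduct.includeLeft : B →ₐ[R] B ⊗[R] A) with hψ₁
  set ψ₂ : MvPolynomial σ B →ₐ[R] MvPolynomial σ (B ⊗[R] A) :=
    MvPolynomial.mapAlgHom (σ := σ) (GLin.coactAlgHom R A B) with hψ₂
  have e1 : ψ₁.comp ι₁ = ι₂.comp (Algebra.TensorProduct.includeLeft : B →ₐ[R] B ⊗[R] A) := by
    apply AlgHom.ext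
    intro c
    simp [hψ₁, hι₁, hι₂, MvPolynomial.algebraMap_eq]
  have e2 : ψ₂.comp ι₁ = ι₂.comp (GLin.coactAlgHom R A B) := by
    apply AlgHom.ext
    intro c
    simp [hψ₂, hι₁, hι₂, MvPolynomial.algebraMap_eq]
  have e3 : ψ₂.comp ι₁ = actR (ψ₁.comp ι₁) (mapPt ι₂ (gen R A B)) := by
    rw [e2, e1]
    conv_lhs => rw [coactAlgHom_eq_actR (R := R) (A := A) (B := B)]
    rw [comp_actR]
  refine cp_map_eq_of_trans f g hfg ψ₁ ψ₂ (mapPt ι₂ (gen R A B)) _ ?_
  rw [map_sum, map_sum, map_sum]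
  refine Finset.sum_congr rfl fun i _ => ?_
  rw [map_mul, map_mul, map_mul, map_orb_apply, map_orb_apply, e3, orb_actR_apply,
    Algebra.TensorProduct.map_tmul, Algebra.TensorProduct.map_tmul, AlgHom.id_apply]
  have hX1 : ψ₁ (MvPolynomial.X i) = MvPolynomial.X i := by simp [hψ₁]
  have hX2 : ψ₂ (MvPolynomial.X i) = MvPolynomial.X i := by simp [hψ₂]
  rw [hX1, hX2]
  have : ((MvPolynomial.X i : MvPolynomial σ (B ⊗[R] A)) ⊗ₜ[R] (1 : A)) =
      algebraMap (MvPolynomial σ (B ⊗[R] A)) (MvPolynomial σ (B ⊗[R] A) ⊗[R] A)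
        (MvPolynomial.X i) := rfl
  rw [this, AlgEquiv.commutes]

theorem coeff_cp_poly_invariant {σ : Type u} [Fintype σ] (b : σ → B) (k : ℕ) (m : σ →₀ ℕ) :
    GLin.coactAlgHom R A B (MvPolynomial.coeff m ((cp f g (MvPolynomial σ B)
      (∑ i, ((MvPolynomial.X i : MvPolynomial σ B) ⊗ₜ[R] (1 : A)) *
        orb (IsScalarTower.toAlgHom R B (MvPolynomial σ B)) (b i))).coeff k)) =
    MvPolynomial.coeff m ((cp f g (MvPolynomial σ B)
      (∑ i, ((MvPolynomial.X i : MvPolynomial σ B) ⊗ₜ[R] (1 : A)) *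
        orb (IsScalarTower.toAlgHom R B (MvPolynomial σ B)) (b i))).coeff k) ⊗ₜ[R] (1 : A) := by
  have key := cp_poly_map_eq f g hfg b
  have := congrArg (fun p => MvPolynomial.coeff m (Polynomial.coeff p k)) key
  simp only [Polynomial.coeff_map] at this
  simpa [MvPolynomial.coeff_map] using this

variable (hS : ∀ c : B, GLin.coactAlgHom R A B c = c ⊗ₜ[R] (1 : A) → c ∈ Set.range (algebraMap R B))

include hS

/-- `B` is integral over `R` when the invariants are the image of `R`. -/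
theorem isIntegral_of_invariants (b : B) : IsIntegral R b := by
  set P := cp f g B (GLin.coactAlgHom R A B b) with hP
  have hlift : P ∈ Polynomial.lifts (algebraMap R B) := by
    rw [Polynomial.lifts_iff_coeff_lifts]
    intro k
    exact hS _ (coeff_cp_coact_invariant f g hfg b k)
  obtain ⟨P₀, hP₀, -, hmon⟩ :=
    Polynomial.lifts_and_natDegree_eq_and_monic hlift (cp_monic f g B _)
  refine ⟨P₀, hmon, ?_⟩
  apply coact_injective (R := R) (A := A) (B := B)
  rw [map_zero]
  have h1 : GLin.coactAlgHom R A B (Polynomial.eval₂ (algebraMap R B) b P₀) =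
      Polynomial.aeval (GLin.coactAlgHom R A B b) P₀ := by
    rw [← Polynomial.aeval_def, ← Polynomial.aeval_algHom_apply]
  rw [h1]
  have h2 : Polynomial.aeval (GLin.coactAlgHom R A B b) P₀ =
      Polynomial.aeval (GLin.coactAlgHom R A B b) (P₀.map (algebraMap R B)) := by
    rw [Polynomial.aeval_map_algebraMap]
  rw [h2, hP₀, hP]
  exact aeval_cp f g hfg _

/-- The `K`-linear extension of the orbit map. -/
noncomputable def gam {K : Type u} [CommRing K] [Algebra R K] (x : B →ₐ[R] K) :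
    K ⊗[R] B →ₐ[K] K ⊗[R] A :=
  Algebra.TensorProduct.lift (Algebra.ofId K (K ⊗[R] A)) (orb x) fun _ _ => .all _ _

omit hfg hS in
theorem gam_tmul {K : Type u} [CommRing K] [Algebra R K] (x : B →ₐ[R] K) (r : K) (b : B) :
    gam (A := A) x (r ⊗ₜ[R] b) = (r ⊗ₜ[R] (1 : A)) * orb x b := by
  simp [gam, Algebra.ofId_apply, Algebra.TensorProduct.algebraMap_apply]

/-- The characteristic polynomial of `∑ rᵢ orb x (bᵢ)` does not depend on the point `x`. -/
theorem cp_sum_eq {K : Type u} [CommRing K] [Algebra R K] (x₁ x₂ : B →ₐ[R] K)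
    {σ : Type u} [Fintype σ] (r : σ → K) (b : σ → B) :
    cp f g K (∑ i, (r i ⊗ₜ[R] (1 : A)) * orb x₁ (b i)) =
      cp f g K (∑ i, (r i ⊗ₜ[R] (1 : A)) * orb x₂ (b i)) := by
  set ι₁ : B →ₐ[R] MvPolynomial σ B := IsScalarTower.toAlgHom R B (MvPolynomial σ B) with hι₁
  set β : MvPolynomial σ B ⊗[R] A :=
    ∑ i, ((MvPolynomial.X i : MvPolynomial σ B) ⊗ₜ[R] (1 : A)) * orb ι₁ (b i) with hβ
  have hcoef : ∀ (k : ℕ) (m : σ →₀ ℕ),
      MvPolynomial.coeff m ((cp f g (MvPolynomial σ B) β).coeff k) ∈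
        Set.range (algebraMap R B) := fun k m => hS _ (coeff_cp_poly_invariant f g hfg b k m)
  have hmap : ∀ x : B →ₐ[R] K,
      Algebra.TensorProduct.map (MvPolynomial.aevalTower x r) (AlgHom.id R A) β =
        ∑ i, (r i ⊗ₜ[R] (1 : A)) * orb x (b i) := by
    intro x
    rw [hβ, map_sum]
    refine Finset.sum_congr rfl fun i _ => ?_
    rw [map_mul, map_orb_apply, Algebra.TensorProduct.map_tmul, MvPolynomial.aevalTower_X,
      AlgHom.id_apply, hι₁, MvPolynomial.aevalTower_comp_toAlgHom]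
  rw [← hmap x₁, ← hmap x₂, cp_map, cp_map]
  apply Polynomial.ext
  intro k
  rw [Polynomial.coeff_map, Polynomial.coeff_map]
  set p := (cp f g (MvPolynomial σ B) β).coeff k with hp
  change MvPolynomial.aevalTower x₁ r p = MvPolynomial.aevalTower x₂ r p
  have hev : ∀ x : B →ₐ[R] K, MvPolynomial.aevalTower x r p =
      ∑ m ∈ p.support, x (MvPolynomial.coeff m p) * ∏ i ∈ m.support, r i ^ m i := by
    intro x
    change MvPolynomial.eval₂ (x : B →+* K) r p = _
    rw [MvPolynomial.eval₂_eq]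
    rfl
  rw [hev, hev]
  refine Finset.sum_congr rfl fun m _ => ?_
  obtain ⟨c₀, hc₀⟩ := hcoef k m
  rw [← hp] at hc₀
  rw [← hc₀, AlgHom.commutes, AlgHom.commutes]

/-- The characteristic polynomial of `gam x c` does not depend on `x`. -/
theorem cp_gam_eq {K : Type u} [CommRing K] [Algebra R K] (x₁ x₂ : B →ₐ[R] K) (c : K ⊗[R] B) :
    cp f g K (gam (A := A) x₁ c) = cp f g K (gam (A := A) x₂ c) := by
  obtain ⟨S, rfl⟩ := TensorProduct.exists_finset c
  have h : ∀ x : B →ₐ[R] K, gam (A := A) x (S.sum fun i => i.1 ⊗ₜ[R] i.2) =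
      ∑ i : S, (i.1.1 ⊗ₜ[R] (1 : A)) * orb x i.1.2 := by
    intro x
    rw [map_sum, ← Finset.sum_coe_sort S]
    refine Finset.sum_congr rfl fun i _ => ?_
    rw [gam_tmul]
  rw [h, h]
  exact cp_sum_eq f g hfg hS x₁ x₂ (fun i : S => i.1.1) (fun i : S => i.1.2)

/-- If `gam x₂ c = 0` and `K` is reduced then the point `(id, x₁)` of `K ⊗ B` kills `c`. -/
theorem lift_eq_zero_of_gam_eq_zero {K : Type u} [CommRing K] [Algebra R K] [IsReduced K]
    (x₁ x₂ : B →ₐ[R] K) (c : K ⊗[R] B) (hc : gam (A := A) x₂ c = 0) :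
    Algebra.TensorProduct.lift (AlgHom.id K K) x₁ (fun _ _ => .all _ _) c = 0 := by
  have h1 : cp f g K (gam (A := A) x₁ c) = X ^ n := by
    rw [cp_gam_eq f g hfg hS x₁ x₂ c, hc, cp_zero]
  have h2 := pow_eq_zero_of_cp_eq f g hfg _ h1
  have h3 : (epsL R A K).comp (gam (A := A) x₁) =
      Algebra.TensorProduct.lift (AlgHom.id K K) x₁ (fun _ _ => .all _ _) := by
    apply Algebra.TensorProduct.ext'
    intro r b
    rw [AlgHom.comp_apply, gam_tmul, map_mul, epsL_orb_apply]
    simp [epsL]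
  have h4 := congrArg (epsL R A K) h2
  rw [map_pow, map_zero, ← AlgHom.comp_apply, h3] at h4
  exact IsReduced.eq_zero _ ⟨n, h4⟩

end Groth.Agent.H74.CoactInv
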