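import Mathlib
import Groth.Agent.H74.CoactInv

/-!
# Transitivity of a finite locally free group scheme on the geometric fibres of the quotient

`A` a commutative Hopf algebra over `R`, finite projective (presented by `f`, `g`, `f ∘ g = id`), `B` a
comodule algebra whose invariants are the image of `R`.  For an algebraically closed field `K` over `R`
any two points `x₁ x₂ : B →ₐ[R] K` are translates of each other by a point of `Spec A`
(`exists_actR_eq`).
-/

set_option autoImplicit false

open TensorProduct Polynomial WithConv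

namespace Groth.Agent.H74.CoactTrans

open Groth.Agent.H74.CoactCP Groth.Agent.H74.CoactPts Groth.Agent.H74.CoactInv

universe u

variable {R A B : Type u} [CommRing R] [CommRing A] [HopfAlgebra R A] [CommRing B] [Algebra R B]
  [HopfRep.Comod R A B] [GLin.IsCoactAlg R A B]
variable {n : ℕ} (f : (Fin n → R) →ₗ[R] A) (g : A →ₗ[R] (Fin n → R)) (hfg : f ∘ₗ g = LinearMap.id)
variable (hS : ∀ c : B, GLin.coactAlgHom R A B c = c ⊗ₜ[R] (1 : A) → c ∈ Set.range (algebraMap R B))

include hfg in
theorem finite_of_retract : Module.Finite R A := by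
  have hsurj : Function.Surjective f := fun a => ⟨g a, LinearMap.congr_fun hfg a⟩
  exact Module.Finite.of_surjective f hsurj

include hfg hS in
/-- Transitivity on geometric points. -/
theorem exists_actR_eq {K : Type u} [Field K] [IsAlgClosed K] [Algebra R K] (x₁ x₂ : B →ₐ[R] K) :
    ∃ h : WithConv (A →ₐ[R] K), actR x₂ h = x₁ := by
  classical
  have : Module.Finite R A := finite_of_retract f g hfg
  set γ : K ⊗[R] B →ₐ[K] K ⊗[R] A := gam (A := A) x₂ with hγ
  set χ : K ⊗[R] B →ₐ[K] K :=
    Algebra.TensorProduct.lift (AlgHom.id K K) x₁ (fun _ _ => .all _ _) with hχ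
  have hχsurj : Function.Surjective χ := fun r => ⟨r ⊗ₜ[R] 1, by simp [hχ]⟩
  set I : Ideal (K ⊗[R] B) := RingHom.ker χ.toRingHom with hI
  have hImax : I.IsMaximal := RingHom.ker_isMaximal_of_surjective χ.toRingHom hχsurj
  have hker : RingHom.ker γ.toRingHom ≤ I := by
    intro c hc
    rw [RingHom.mem_ker] at hc
    rw [hI, RingHom.mem_ker]
    exact lift_eq_zero_of_gam_eq_zero f g hfg hS x₁ x₂ c hc
  have hint : γ.toRingHom.IsIntegral := by
    have h1 : (γ.toRingHom.comp (algebraMap K (K ⊗[R] B))).IsIntegral := by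
      have : γ.toRingHom.comp (algebraMap K (K ⊗[R] B)) = algebraMap K (K ⊗[R] A) := by
        ext r
        simp
      rw [this]
      exact fun z => (Algebra.IsIntegral.isIntegral (R := K) z)
    exact RingHom.IsIntegral.tower_top _ _ h1
  have hJ : I.map γ.toRingHom ≠ ⊤ := by
    rw [Ne, Ideal.map_eq_top_iff_of_ker_le γ.toRingHom hker hint]
    exact hImax.ne_top
  obtain ⟨m, hm, hJm⟩ := Ideal.exists_le_maximal _ hJ
  have := hm
  have hbij : Function.Bijective (algebraMap K ((K ⊗[R] A) ⧸ m)) :=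
    IsAlgClosed.algebraMap_bijective_of_isIntegral
  let e : K ≃ₐ[K] ((K ⊗[R] A) ⧸ m) := AlgEquiv.ofBijective (Algebra.ofId K _) hbij
  let q : K ⊗[R] A →ₐ[K] K := e.symm.toAlgHom.comp (Ideal.Quotient.mkₐ K m)
  have hq : ∀ z ∈ m, q z = 0 := by
    intro z hz
    change e.symm (Ideal.Quotient.mk m z) = 0
    rw [Ideal.Quotient.eq_zero_iff_mem.mpr hz, map_zero]
  have hqγ : ∀ t : K ⊗[R] B, q (γ t) = χ t := by
    intro t
    have h1 : t - algebraMap K (K ⊗[R] B) (χ t) ∈ I := by
      rw [hI, RingHom.mem_ker]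
      change χ (t - algebraMap K (K ⊗[R] B) (χ t)) = 0
      rw [map_sub, AlgHom.commutes, Algebra.algebraMap_self, RingHom.id_apply, sub_self]
    have h2 : γ (t - algebraMap K (K ⊗[R] B) (χ t)) ∈ m :=
      hJm (Ideal.mem_map_of_mem γ.toRingHom h1)
    have h3 := hq _ h2
    rw [map_sub, map_sub, AlgHom.commutes, AlgHom.commutes, Algebra.algebraMap_self,
      RingHom.id_apply, sub_eq_zero] at h3
    exact h3
  refine ⟨mapPt (q.restrictScalars R) (gen R A K), ?_⟩
  rw [← comp_orb_of_algHom]
  apply AlgHom.ext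
  intro b
  have h1 : γ ((1 : K) ⊗ₜ[R] b) = orb x₂ b := by
    rw [hγ, gam_tmul, ← Algebra.TensorProduct.one_def, one_mul]
  have h2 := hqγ ((1 : K) ⊗ₜ[R] b)
  rw [h1] at h2
  rw [AlgHom.comp_apply, AlgHom.restrictScalars_apply, h2]
  simp [hχ]

end Groth.Agent.H74.CoactTrans
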