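import Mathlib
import Groth.Agent.H74.CoactTrans
import Groth.Agent.H74.CoactBridge

/-!
# Inertia groups of a finite locally free group scheme action with quotient `Spec R`

* `exists_common_ext`, `exists_pushout_field`: field-theoretic plumbing.
* `inertiaTriv_transfer`: triviality of the inertia at a field-valued point only depends on the
  image point in `Spec R`.
-/

set_option autoImplicit false

open TensorProduct Polynomial WithConv

namespace Groth.Agent.H74.CoactInertia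

open Groth.Agent.H74.CoactCP Groth.Agent.H74.CoactPts Groth.Agent.H74.CoactInv
open Groth.Agent.H74.CoactTrans Groth.Agent.H74.CoactBridge

universe u

theorem exists_common_ext {R K₁ K₂ : Type u} [CommRing R] [Field K₁] [Field K₂] [Algebra R K₁]
    [Algebra R K₂] (hq : RingHom.ker (algebraMap R K₁) = RingHom.ker (algebraMap R K₂)) :
    ∃ (L : Type u) (_ : Field L) (_ : IsAlgClosed L) (_ : Algebra R L),
      Nonempty (K₁ →ₐ[R] L) ∧ Nonempty (K₂ →ₐ[R] L) := by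
  classical
  let q := RingHom.ker (algebraMap R K₁)
  let φ₁ : R ⧸ q →+* K₁ := Ideal.Quotient.lift q (algebraMap R K₁) (fun a ha => ha)
  let φ₂ : R ⧸ q →+* K₂ := Ideal.Quotient.lift q (algebraMap R K₂)
    (fun a ha => by rw [← RingHom.mem_ker, ← hq]; exact ha)
  let a₁ : Algebra (R ⧸ q) K₁ := φ₁.toAlgebra
  let a₂ : Algebra (R ⧸ q) K₂ := φ₂.toAlgebra
  have hi₁ : Function.Injective (algebraMap (R ⧸ q) K₁) := (Ideal.injective_lift_iff _).mpr rfl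
  have hi₂ : Function.Injective (algebraMap (R ⧸ q) K₂) := (Ideal.injective_lift_iff _).mpr hq.symm
  have : Nontrivial (K₁ ⊗[R ⧸ q] K₂) :=
    Algebra.TensorProduct.nontrivial_of_algebraMap_injective_of_isDomain (R ⧸ q) K₁ K₂ hi₁ hi₂
  obtain ⟨m, hm⟩ := Ideal.exists_maximal (K₁ ⊗[R ⧸ q] K₂)
  let _ : Field ((K₁ ⊗[R ⧸ q] K₂) ⧸ m) := Ideal.Quotient.field m
  let ρ₁ : K₁ →+* AlgebraicClosure ((K₁ ⊗[R ⧸ q] K₂) ⧸ m) :=
    (algebraMap ((K₁ ⊗[R ⧸ q] K₂) ⧸ m) (AlgebraicClosure ((K₁ ⊗[R ⧸ q] K₂) ⧸ m))).comp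
      ((Ideal.Quotient.mk m).comp
        (Algebra.TensorProduct.includeLeftRingHom : K₁ →+* K₁ ⊗[R ⧸ q] K₂))
  let ρ₂ : K₂ →+* AlgebraicClosure ((K₁ ⊗[R ⧸ q] K₂) ⧸ m) :=
    (algebraMap ((K₁ ⊗[R ⧸ q] K₂) ⧸ m) (AlgebraicClosure ((K₁ ⊗[R ⧸ q] K₂) ⧸ m))).comp
      ((Ideal.Quotient.mk m).comp
        (Algebra.TensorProduct.includeRight : K₂ →ₐ[R ⧸ q] K₁ ⊗[R ⧸ q] K₂).toRingHom)
  let aL : Algebra R (AlgebraicClosure ((K₁ ⊗[R ⧸ q] K₂) ⧸ m)) :=
    (ρ₁.comp (algebraMap R K₁)).toAlgebra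
  refine ⟨AlgebraicClosure ((K₁ ⊗[R ⧸ q] K₂) ⧸ m), inferInstance, inferInstance, aL,
    ⟨⟨ρ₁, fun r => rfl⟩⟩, ⟨⟨ρ₂, fun r => ?_⟩⟩⟩
  change ρ₂ (algebraMap R K₂ r) = ρ₁ (algebraMap R K₁ r)
  have h1 : algebraMap R K₁ r = algebraMap (R ⧸ q) K₁ (Ideal.Quotient.mk q r) := rfl
  have h2 : algebraMap R K₂ r = algebraMap (R ⧸ q) K₂ (Ideal.Quotient.mk q r) := rfl
  have h3 : (Algebra.TensorProduct.includeRight : K₂ →ₐ[R ⧸ q] K₁ ⊗[R ⧸ q] K₂)
      (algebraMap (R ⧸ q) K₂ (Ideal.Quotient.mk q r)) =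
      (Algebra.TensorProduct.includeLeftRingHom : K₁ →+* K₁ ⊗[R ⧸ q] K₂)
        (algebraMap (R ⧸ q) K₁ (Ideal.Quotient.mk q r)) := by
    rw [AlgHom.commutes]
    simp [Algebra.TensorProduct.algebraMap_apply]
  rw [h1, h2]
  change algebraMap _ _ (Ideal.Quotient.mk m ((Algebra.TensorProduct.includeRight :
    K₂ →ₐ[R ⧸ q] K₁ ⊗[R ⧸ q] K₂) _)) = algebraMap _ _ (Ideal.Quotient.mk m _)
  rw [h3]

theorem exists_pushout_field {R K₂ R' L : Type u} [CommRing R] [Field K₂] [CommRing R'] [Field L]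
    [Algebra R K₂] [Algebra R R'] [Algebra R L] (h : K₂ →ₐ[R] R') (j₂ : K₂ →ₐ[R] L) :
    ∃ (R'' : Type u) (_ : CommRing R'') (_ : Algebra R R'') (i₁ : R' →ₐ[R] R'') (i₂ : L →ₐ[R] R''),
      Function.Injective i₁ ∧ i₁.comp h = i₂.comp j₂ := by
  let a₁ : Algebra K₂ R' := h.toRingHom.toAlgebra
  let a₂ : Algebra K₂ L := j₂.toRingHom.toAlgebra
  let i₁' : R' →+* R' ⊗[K₂] L := Algebra.TensorProduct.includeLeftRingHom
  let i₂' : L →+* R' ⊗[K₂] L := (Algebra.TensorProduct.includeRight : L →ₐ[K₂] R' ⊗[K₂] L).toRingHom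
  have hcomm : ∀ t : K₂, i₁' (h t) = i₂' (j₂ t) := by
    intro t
    change (algebraMap K₂ R' t) ⊗ₜ[K₂] (1 : L) = (1 : R') ⊗ₜ[K₂] (algebraMap K₂ L t)
    rw [Algebra.algebraMap_eq_smul_one, Algebra.algebraMap_eq_smul_one, TensorProduct.smul_tmul]
  refine ⟨R' ⊗[K₂] L, inferInstance, (i₁'.comp (algebraMap R R')).toAlgebra,
    @AlgHom.mk R R' (R' ⊗[K₂] L) _ _ _ _ (i₁'.comp (algebraMap R R')).toAlgebra i₁' (fun r => rfl),
    @AlgHom.mk R L (R' ⊗[K₂] L) _ _ _ _ (i₁'.comp (algebraMap R R')).toAlgebra i₂' (fun r => ?_),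
    ?_, ?_⟩
  · change i₂' (algebraMap R L r) = i₁' (algebraMap R R' r)
    rw [← j₂.commutes r, ← h.commutes r]
    exact (hcomm _).symm
  · exact Algebra.TensorProduct.includeLeft_injective (S := K₂) (RingHom.injective (algebraMap K₂ L))
  · let _ : Algebra R (R' ⊗[K₂] L) := (i₁'.comp (algebraMap R R')).toAlgebra
    apply AlgHom.ext
    intro t
    exact hcomm t

section Transfer

variable {R A B : Type u} [CommRing R] [CommRing A] [HopfAlgebra R A] [CommRing B] [Algebra R B]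
  [HopfRep.Comod R A B] [GLin.IsCoactAlg R A B]
variable {n : ℕ} (f : (Fin n → R) →ₗ[R] A) (g : A →ₗ[R] (Fin n → R)) (hfg : f ∘ₗ g = LinearMap.id)
variable (hS : ∀ c : B, GLin.coactAlgHom R A B c = c ⊗ₜ[R] (1 : A) → c ∈ Set.range (algebraMap R B))

include hfg hS in
/-- Triviality of the inertia at a field-valued point depends only on the point of `Spec R` below. -/
theorem inertiaTriv_transfer {K₁ K₂ : Type u} [Field K₁] [Field K₂] [Algebra R K₁] [Algebra R K₂]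
    (hq : RingHom.ker (algebraMap R K₁) = RingHom.ker (algebraMap R K₂))
    (x₁ : B →ₐ[R] K₁) (x₂ : B →ₐ[R] K₂) (h₁ : InertiaTriv (A := A) x₁) :
    InertiaTriv (A := A) x₂ := by
  obtain ⟨L, _, _, _, ⟨j₁⟩, ⟨j₂⟩⟩ := exists_common_ext hq
  obtain ⟨c, hc⟩ := exists_actR_eq f g hfg hS (j₂.comp x₂) (j₁.comp x₁)
  intro R' _ _ h k hk
  obtain ⟨R'', _, _, i₁, i₂, hi₁, hi⟩ := exists_pushout_field h j₂
  set z : B →ₐ[R] R'' := (i₂.comp j₁).comp x₁ with hz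
  set c' : WithConv (A →ₐ[R] R'') := mapPt i₂ c with hc'
  set k' : WithConv (A →ₐ[R] R'') := mapPt i₁ k with hk'
  have hy : i₁.comp (h.comp x₂) = actR z c' := by
    rw [← AlgHom.comp_assoc, hi, AlgHom.comp_assoc, ← hc, comp_actR]
    rfl
  have hfix : actR (actR z c') k' = actR z c' := by
    rw [← hy, hk', ← comp_actR, hk]
  have hfix2 : actR z (c' * k' * c'⁻¹) = z := by
    rw [← actR_mul, ← actR_mul, hfix, actR_mul, mul_inv_cancel, actR_one]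
  have h2 := h₁ R'' (i₂.comp j₁) (c' * k' * c'⁻¹) hfix2
  have h3 : k' = 1 := by
    have : k' = c'⁻¹ * (c' * k' * c'⁻¹) * c' := by group
    rw [this, h2]
    group
  apply mapPt_injective i₁ hi₁
  rw [map_one]
  exact h3

end Transfer

end Groth.Agent.H74.CoactInertia
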