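import Mathlib
import Groth.Agent.H74.CoactInertia

/-!
# Relative versions: points agreeing on the invariants

Generalisations of `CoactInv`, `CoactTrans`, `CoactInertia` in which the hypothesis "the invariants are
the image of `R`" is replaced by "the two points agree on the invariants": for a finite projective
commutative Hopf algebra `A` over `R` coacting on `B`,

* `isIntegral_invariants`: `B` is integral over `GLin.invariants R A B`;
* `exists_actR_eq'`: two geometric points of `B` with the same restriction to the invariants are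
  translates of each other;
* `inertiaTriv_transfer'`: triviality of the inertia at a field-valued point only depends on the image
  point in the spectrum of the invariants.
-/

set_option autoImplicit false

open TensorProduct Polynomial WithConv

namespace Groth.Agent.H74.CoactInv2

open Groth.Agent.H74.CoactCP Groth.Agent.H74.CoactPts Groth.Agent.H74.CoactInv
open Groth.Agent.H74.CoactTrans Groth.Agent.H74.CoactBridge Groth.Agent.H74.CoactInertia

universe u

variable {R A B : Type u} [CommRing R] [CommRing A] [HopfAlgebra R A] [CommRing B] [Algebra R B]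
  [HopfRep.Comod R A B] [GLin.IsCoactAlg R A B]
variable {n : ℕ} (f : (Fin n → R) →ₗ[R] A) (g : A →ₗ[R] (Fin n → R)) (hfg : f ∘ₗ g = LinearMap.id)

include hfg

/-- `B` is integral over the invariants. -/
theorem isIntegral_invariants (b : B) : IsIntegral (GLin.invariants R A B) b := by
  set P := cp f g B (GLin.coactAlgHom R A B b) with hP
  have hlift : P ∈ Polynomial.lifts (algebraMap (GLin.invariants R A B) B) := by
    rw [Polynomial.lifts_iff_coeff_lifts]
    intro k
    exact ⟨⟨_, coeff_cp_coact_invariant f g hfg b k⟩, rfl⟩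
  obtain ⟨P₀, hP₀, -, hmon⟩ :=
    Polynomial.lifts_and_natDegree_eq_and_monic hlift (cp_monic f g B _)
  refine ⟨P₀, hmon, ?_⟩
  apply coact_injective (R := R) (A := A) (B := B)
  rw [map_zero]
  have h0 : Polynomial.eval₂ (algebraMap (GLin.invariants R A B) B) b P₀ =
      Polynomial.aeval b (P₀.map (algebraMap (GLin.invariants R A B) B)) := by
    rw [Polynomial.aeval_def, Polynomial.eval₂_map, Algebra.algebraMap_self, RingHomCompTriple.comp_eq]
  rw [h0, hP₀]
  have h1 : GLin.coactAlgHom R A B (Polynomial.aeval b P) =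
      Polynomial.aeval (GLin.coactAlgHom R A B b) P := by
    rw [Polynomial.aeval_eq_sum_range, Polynomial.aeval_eq_sum_range, map_sum]
    refine Finset.sum_congr rfl fun k _ => ?_
    rw [smul_eq_mul, map_mul, map_pow, hP, coeff_cp_coact_invariant f g hfg b k,
      Algebra.smul_def, Algebra.TensorProduct.algebraMap_apply, Algebra.algebraMap_self,
      RingHom.id_apply]
  rw [h1, hP]
  exact aeval_cp f g hfg _

/-- The characteristic polynomial of `∑ rᵢ orb x (bᵢ)` is the same for two points agreeing on the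
invariants. -/
theorem cp_sum_eq' {K : Type u} [CommRing K] [Algebra R K] (x₁ x₂ : B →ₐ[R] K)
    (hx : ∀ c : B, GLin.coactAlgHom R A B c = c ⊗ₜ[R] (1 : A) → x₁ c = x₂ c)
    {σ : Type u} [Fintype σ] (r : σ → K) (b : σ → B) :
    cp f g K (∑ i, (r i ⊗ₜ[R] (1 : A)) * orb x₁ (b i)) =
      cp f g K (∑ i, (r i ⊗ₜ[R] (1 : A)) * orb x₂ (b i)) := by
  set ι₁ : B →ₐ[R] MvPolynomial σ B := IsScalarTower.toAlgHom R B (MvPolynomial σ B) with hι₁
  set β : MvPolynomial σ B ⊗[R] A :=
    ∑ i, ((MvPolynomial.X i : MvPolynomial σ B) ⊗ₜ[R] (1 : A)) * orb ι₁ (b i) with hβ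
  have hmap : ∀ x : B →ₐ[R] K,
      Algebra.TensorProduct.map (MvPolynomial.aevalTower x r) (AlgHom.id R A) β =
        ∑ i, (r i ⊗ₜ[R] (1 : A)) * orb x (b i) := by
    intro x
    rw [hβ, map_sum]
    refine Finset.sum_congr rfl fun i _ => ?_
    rw [map_mul, map_orb_apply, Algebra.TensorProduct.map_tmul, MvPolynomial.aevalTower_X,
      AlgHom.id_apply, hι₁, MvPolynomial.aevalTower_comp_toAlgHom]
  rw [← hmap x₁, ← hmap x₂, cp_map, cp_map]
  apply Polynomial.ext
  intro k
  rw [Polynomial.coeff_map, Polynomial.coeff_map]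
  set p := (cp f g (MvPolynomial σ B) β).coeff k with hp
  change MvPolynomial.aevalTower x₁ r p = MvPolynomial.aevalTower x₂ r p
  have hev : ∀ x : B →ₐ[R] K, MvPolynomial.aevalTower x r p =
      ∑ m ∈ p.support, x (MvPolynomial.coeff m p) * ∏ i ∈ m.support, r i ^ m i := by
    intro x
    change MvPolynomial.eval₂ (x : B →+* K) r p = _
    rw [MvPolynomial.eval₂_eq]
    rfl
  rw [hev, hev]
  refine Finset.sum_congr rfl fun m _ => ?_
  rw [hx _ (coeff_cp_poly_invariant f g hfg b k m)]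

theorem cp_gam_eq' {K : Type u} [CommRing K] [Algebra R K] (x₁ x₂ : B →ₐ[R] K)
    (hx : ∀ c : B, GLin.coactAlgHom R A B c = c ⊗ₜ[R] (1 : A) → x₁ c = x₂ c) (c : K ⊗[R] B) :
    cp f g K (gam (A := A) x₁ c) = cp f g K (gam (A := A) x₂ c) := by
  obtain ⟨S, rfl⟩ := TensorProduct.exists_finset c
  have h : ∀ x : B →ₐ[R] K, gam (A := A) x (S.sum fun i => i.1 ⊗ₜ[R] i.2) =
      ∑ i : S, (i.1.1 ⊗ₜ[R] (1 : A)) * orb x i.1.2 := by
    intro x
    rw [map_sum, ← Finset.sum_coe_sort S]
    refine Finset.sum_congr rfl fun i _ => ?_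
    rw [gam_tmul]
  rw [h, h]
  exact cp_sum_eq' f g hfg x₁ x₂ hx (fun i : S => i.1.1) (fun i : S => i.1.2)

theorem lift_eq_zero_of_gam_eq_zero' {K : Type u} [CommRing K] [Algebra R K] [IsReduced K]
    (x₁ x₂ : B →ₐ[R] K)
    (hx : ∀ c : B, GLin.coactAlgHom R A B c = c ⊗ₜ[R] (1 : A) → x₁ c = x₂ c)
    (c : K ⊗[R] B) (hc : gam (A := A) x₂ c = 0) :
    Algebra.TensorProduct.lift (AlgHom.id K K) x₁ (fun _ _ => .all _ _) c = 0 := by
  have h1 : cp f g K (gam (A := A) x₁ c) = X ^ n := by
    rw [cp_gam_eq' f g hfg x₁ x₂ hx c, hc, cp_zero]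
  have h2 := pow_eq_zero_of_cp_eq f g hfg _ h1
  have h3 : (epsL R A K).comp (gam (A := A) x₁) =
      Algebra.TensorProduct.lift (AlgHom.id K K) x₁ (fun _ _ => .all _ _) := by
    apply Algebra.TensorProduct.ext'
    intro r b
    rw [AlgHom.comp_apply, gam_tmul, map_mul, epsL_orb_apply]
    simp [epsL]
  have h4 := congrArg (epsL R A K) h2
  rw [map_pow, map_zero, ← AlgHom.comp_apply, h3] at h4
  exact IsReduced.eq_zero _ ⟨n, h4⟩

/-- Transitivity on geometric points with the same image in the spectrum of the invariants. -/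
theorem exists_actR_eq' {K : Type u} [Field K] [IsAlgClosed K] [Algebra R K] (x₁ x₂ : B →ₐ[R] K)
    (hx : ∀ c : B, GLin.coactAlgHom R A B c = c ⊗ₜ[R] (1 : A) → x₁ c = x₂ c) :
    ∃ h : WithConv (A →ₐ[R] K), actR x₂ h = x₁ := by
  classical
  have : Module.Finite R A := finite_of_retract f g hfg
  set γ : K ⊗[R] B →ₐ[K] K ⊗[R] A := gam (A := A) x₂ with hγ
  set χ : K ⊗[R] B →ₐ[K] K :=
    Algebra.TensorProduct.lift (AlgHom.id K K) x₁ (fun _ _ => .all _ _) with hχ
  have hχsurj : Function.Surjective χ := fun r => ⟨r ⊗ₜ[R] 1, by simp [hχ]⟩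
  set I : Ideal (K ⊗[R] B) := RingHom.ker χ.toRingHom with hI
  have hImax : I.IsMaximal := RingHom.ker_isMaximal_of_surjective χ.toRingHom hχsurj
  have hker : RingHom.ker γ.toRingHom ≤ I := by
    intro c hc
    rw [RingHom.mem_ker] at hc
    rw [hI, RingHom.mem_ker]
    exact lift_eq_zero_of_gam_eq_zero' f g hfg x₁ x₂ hx c hc
  have hint : γ.toRingHom.IsIntegral := by
    have h1 : (γ.toRingHom.comp (algebraMap K (K ⊗[R] B))).IsIntegral := by
      have : γ.toRingHom.comp (algebraMap K (K ⊗[R] B)) = algebraMap K (K ⊗[R] A) := by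
        ext r
        simp
      rw [this]
      exact fun z => (Algebra.IsIntegral.isIntegral (R := K) z)
    exact RingHom.IsIntegral.tower_top _ _ h1
  have hJ : I.map γ.toRingHom ≠ ⊤ := by
    rw [Ne, Ideal.map_eq_top_iff_of_ker_le γ.toRingHom hker hint]
    exact hImax.ne_top
  obtain ⟨m, hm, hJm⟩ := Ideal.exists_le_maximal _ hJ
  have := hm
  have hbij : Function.Bijective (algebraMap K ((K ⊗[R] A) ⧸ m)) :=
    IsAlgClosed.algebraMap_bijective_of_isIntegral
  let e : K ≃ₐ[K] ((K ⊗[R] A) ⧸ m) := AlgEquiv.ofBijective (Algebra.ofId K _) hbij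
  let q : K ⊗[R] A →ₐ[K] K := e.symm.toAlgHom.comp (Ideal.Quotient.mkₐ K m)
  have hq : ∀ z ∈ m, q z = 0 := by
    intro z hz
    change e.symm (Ideal.Quotient.mk m z) = 0
    rw [Ideal.Quotient.eq_zero_iff_mem.mpr hz, map_zero]
  have hqγ : ∀ t : K ⊗[R] B, q (γ t) = χ t := by
    intro t
    have h1 : t - algebraMap K (K ⊗[R] B) (χ t) ∈ I := by
      rw [hI, RingHom.mem_ker]
      change χ (t - algebraMap K (K ⊗[R] B) (χ t)) = 0
      rw [map_sub, AlgHom.commutes, Algebra.algebraMap_self, RingHom.id_apply, sub_self]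
    have h2 : γ (t - algebraMap K (K ⊗[R] B) (χ t)) ∈ m :=
      hJm (Ideal.mem_map_of_mem γ.toRingHom h1)
    have h3 := hq _ h2
    rw [map_sub, map_sub, AlgHom.commutes, AlgHom.commutes, Algebra.algebraMap_self,
      RingHom.id_apply, sub_eq_zero] at h3
    exact h3
  refine ⟨mapPt (q.restrictScalars R) (gen R A K), ?_⟩
  rw [← comp_orb_of_algHom]
  apply AlgHom.ext
  intro b
  have h1 : γ ((1 : K) ⊗ₜ[R] b) = orb x₂ b := by
    rw [hγ, gam_tmul, ← Algebra.TensorProduct.one_def, one_mul]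
  have h2 := hqγ ((1 : K) ⊗ₜ[R] b)
  rw [h1] at h2
  rw [AlgHom.comp_apply, AlgHom.restrictScalars_apply, h2]
  simp [hχ]

omit hfg in
/-- If two field-valued points become translates of each other in a common extension, then trivial
inertia passes from one to the other. -/
theorem inertiaTriv_of_actR_eq {K₁ K₂ L : Type u} [Field K₁] [Field K₂] [Field L] [Algebra R K₁]
    [Algebra R K₂] [Algebra R L] (j₁ : K₁ →ₐ[R] L) (j₂ : K₂ →ₐ[R] L)
    (x₁ : B →ₐ[R] K₁) (x₂ : B →ₐ[R] K₂) (c : WithConv (A →ₐ[R] L))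
    (hc : actR (j₁.comp x₁) c = j₂.comp x₂) (h₁ : InertiaTriv (A := A) x₁) :
    InertiaTriv (A := A) x₂ := by
  intro R' _ _ h k hk
  obtain ⟨R'', _, _, i₁, i₂, hi₁, hi⟩ := exists_pushout_field h j₂
  set z : B →ₐ[R] R'' := (i₂.comp j₁).comp x₁ with hz
  set c' : WithConv (A →ₐ[R] R'') := mapPt i₂ c with hc'
  set k' : WithConv (A →ₐ[R] R'') := mapPt i₁ k with hk'
  have hy : i₁.comp (h.comp x₂) = actR z c' := by
    rw [← AlgHom.comp_assoc, hi, AlgHom.comp_assoc, ← hc, comp_actR]
    rfl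
  have hfix : actR (actR z c') k' = actR z c' := by
    rw [← hy, hk', ← comp_actR, hk]
  have hfix2 : actR z (c' * k' * c'⁻¹) = z := by
    rw [← actR_mul, ← actR_mul, hfix, actR_mul, mul_inv_cancel, actR_one]
  have h2 := h₁ R'' (i₂.comp j₁) (c' * k' * c'⁻¹) hfix2
  have h3 : k' = 1 := by
    have : k' = c'⁻¹ * (c' * k' * c'⁻¹) * c' := by group
    rw [this, h2]
    group
  apply mapPt_injective i₁ hi₁
  rw [map_one]
  exact h3

/-- Triviality of the inertia at a field-valued point depends only on the image point in the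
spectrum of the invariants. -/
theorem inertiaTriv_transfer' {K₁ K₂ : Type u} [Field K₁] [Field K₂] [Algebra R K₁] [Algebra R K₂]
    (x₁ : B →ₐ[R] K₁) (x₂ : B →ₐ[R] K₂)
    (hq : RingHom.ker (x₁.toRingHom.comp (algebraMap (GLin.invariants R A B) B)) =
      RingHom.ker (x₂.toRingHom.comp (algebraMap (GLin.invariants R A B) B)))
    (h₁ : InertiaTriv (A := A) x₁) : InertiaTriv (A := A) x₂ := by
  let a₁ : Algebra (GLin.invariants R A B) K₁ :=
    (x₁.toRingHom.comp (algebraMap (GLin.invariants R A B) B)).toAlgebra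
  let a₂ : Algebra (GLin.invariants R A B) K₂ :=
    (x₂.toRingHom.comp (algebraMap (GLin.invariants R A B) B)).toAlgebra
  obtain ⟨L, _, _, aL, ⟨j₁⟩, ⟨j₂⟩⟩ := exists_common_ext (R := GLin.invariants R A B) hq
  let aRL : Algebra R L :=
    ((algebraMap (GLin.invariants R A B) L).comp (algebraMap R (GLin.invariants R A B))).toAlgebra
  let j₁' : K₁ →ₐ[R] L := ⟨j₁.toRingHom, fun r => by
    have h1 : algebraMap R K₁ r =
        algebraMap (GLin.invariants R A B) K₁ (algebraMap R (GLin.invariants R A B) r) :=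
      (x₁.commutes r).symm
    change j₁ (algebraMap R K₁ r) = _
    rw [h1, j₁.commutes]
    rfl⟩
  let j₂' : K₂ →ₐ[R] L := ⟨j₂.toRingHom, fun r => by
    have h1 : algebraMap R K₂ r =
        algebraMap (GLin.invariants R A B) K₂ (algebraMap R (GLin.invariants R A B) r) :=
      (x₂.commutes r).symm
    change j₂ (algebraMap R K₂ r) = _
    rw [h1, j₂.commutes]
    rfl⟩
  have hx : ∀ c : B, GLin.coactAlgHom R A B c = c ⊗ₜ[R] (1 : A) →
      (j₂'.comp x₂) c = (j₁'.comp x₁) c := by
    intro c hc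
    have e1 : (j₁'.comp x₁) c = algebraMap (GLin.invariants R A B) L ⟨c, hc⟩ :=
      j₁.commutes ⟨c, hc⟩
    have e2 : (j₂'.comp x₂) c = algebraMap (GLin.invariants R A B) L ⟨c, hc⟩ :=
      j₂.commutes ⟨c, hc⟩
    rw [e1, e2]
  obtain ⟨c, hc⟩ := exists_actR_eq' f g hfg (j₂'.comp x₂) (j₁'.comp x₁) hx
  exact inertiaTriv_of_actR_eq j₁' j₂' x₁ x₂ c hc h₁

end Groth.Agent.H74.CoactInv2
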