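import Mathlib
import Groth.Agent.H74.CoactInertia

/-!
# The universal stabiliser of a coaction and freeness from trivial inertia at closed points

`Q = (B ⊗ A) / (ρ b - b ⊗ 1)` is the coordinate ring of the stabiliser group scheme `{(x, g) | x g = x}`
over `X = Spec B`.  The action is free iff the universal point `gU : A → Q` is trivial
(`freeAlg_of_gU_eq_one`).  If `A` is a finite `R`-module, then `gU = 1` as soon as the inertia is
trivial at the residue field point of every maximal ideal of `B` (`gU_eq_one`, Nakayama).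
`freeAlg_of_inertiaTriv_of_isLocalRing`: over a local base with `B^A = R`, trivial inertia at one
point of the closed fibre implies that the action is free.
-/

set_option autoImplicit false

open TensorProduct Polynomial WithConv

namespace Groth.Agent.H74.CoactStab

open Groth.Agent.H74.CoactCP Groth.Agent.H74.CoactPts Groth.Agent.H74.CoactInv
open Groth.Agent.H74.CoactTrans Groth.Agent.H74.CoactBridge Groth.Agent.H74.CoactInertia

universe u

section Stab

variable (R A B : Type u) [CommRing R] [CommRing A] [HopfAlgebra R A] [CommRing B] [Algebra R B]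
  [HopfRep.Comod R A B] [GLin.IsCoactAlg R A B]

/-- The ideal of the universal stabiliser in `B ⊗ A`. -/
def stabJ : Ideal (B ⊗[R] A) :=
  Ideal.span (Set.range fun b : B => GLin.coactAlgHom R A B b - b ⊗ₜ[R] (1 : A))

/-- The coordinate ring of the universal stabiliser. -/
abbrev Q : Type u := (B ⊗[R] A) ⧸ stabJ R A B

/-- The quotient map, as a `B`-algebra map. -/
noncomputable def prQ : B ⊗[R] A →ₐ[B] Q R A B := Ideal.Quotient.mkₐ B (stabJ R A B)

/-- The universal point of `X`. -/
noncomputable def yU : B →ₐ[R] Q R A B :=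
  ((prQ R A B).restrictScalars R).comp (Algebra.TensorProduct.includeLeft : B →ₐ[R] B ⊗[R] A)

/-- The universal point of the stabiliser. -/
noncomputable def gU : WithConv (A →ₐ[R] Q R A B) :=
  toConv (((prQ R A B).restrictScalars R).comp
    (Algebra.TensorProduct.includeRight : A →ₐ[R] B ⊗[R] A))

theorem yU_apply (b : B) : yU R A B b = algebraMap B (Q R A B) b := rfl

theorem prQ_coact (b : B) :
    prQ R A B (GLin.coactAlgHom R A B b) = prQ R A B (b ⊗ₜ[R] (1 : A)) := by
  have h : GLin.coactAlgHom R A B b - b ⊗ₜ[R] (1 : A) ∈ stabJ R A B :=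
    Ideal.subset_span ⟨b, rfl⟩
  have := (Ideal.Quotient.eq_zero_iff_mem).mpr h
  change prQ R A B (GLin.coactAlgHom R A B b - b ⊗ₜ[R] (1 : A)) = 0 at this
  rwa [map_sub, sub_eq_zero] at this

theorem actR_yU_gU : actR (yU R A B) (gU R A B) = yU R A B := by
  have h1 : actR (yU R A B) (gU R A B) =
      ((prQ R A B).restrictScalars R).comp (GLin.coactAlgHom R A B) := by
    conv_rhs => rw [coactAlgHom_eq_actR (R := R) (A := A) (B := B)]
    rw [comp_actR]
    rfl
  rw [h1]
  apply AlgHom.ext
  intro b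
  exact prQ_coact R A B b

variable {R A B}

/-- A fixed pair `(y, k)` factors through the universal stabiliser. -/
theorem exists_lift_of_fix {R' : Type u} [CommRing R'] [Algebra R R'] (y : B →ₐ[R] R')
    (k : WithConv (A →ₐ[R] R')) (hk : actR y k = y) :
    ∃ ψ : Q R A B →ₐ[R] R', mapPt ψ (gU R A B) = k := by
  let F : B ⊗[R] A →ₐ[R] R' := Algebra.TensorProduct.lift y k.ofConv fun _ _ => .all _ _
  have hF : ∀ z ∈ stabJ R A B, F z = 0 := by
    intro z hz
    have hle : stabJ R A B ≤ RingHom.ker F.toRingHom := by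
      unfold stabJ
      rw [Ideal.span_le]
      rintro _ ⟨b, rfl⟩
      change F (GLin.coactAlgHom R A B b - b ⊗ₜ[R] (1 : A)) = 0
      rw [map_sub, sub_eq_zero]
      have := congrArg (fun φ : B →ₐ[R] R' => φ b) hk
      simp only [F, Algebra.TensorProduct.lift_tmul, map_one, mul_one]
      exact this
    exact hle hz
  refine ⟨Ideal.Quotient.liftₐ (stabJ R A B) F hF, ?_⟩
  apply WithConv.ofConv_injective
  apply AlgHom.ext
  intro a
  change Ideal.Quotient.liftₐ (stabJ R A B) F hF (Ideal.Quotient.mk _ ((1 : B) ⊗ₜ[R] a)) = k.ofConv a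
  rw [Ideal.Quotient.liftₐ_apply, Ideal.Quotient.lift_mk]
  simp [F]

theorem freeAlg_of_gU_eq_one (h : gU R A B = 1) : FreeAlg R A B := by
  intro R' _ _ y k hk
  obtain ⟨ψ, hψ⟩ := exists_lift_of_fix y k hk
  rw [← hψ, h, map_one]

variable (R A B)

/-- `a ↦ gU a - ε a`, an `R`-linear map `A → Q`. -/
noncomputable def tL : A →ₗ[R] Q R A B :=
  (gU R A B).ofConv.toLinearMap - (Algebra.linearMap R (Q R A B)) ∘ₗ (Coalgebra.counit (R := R) (A := A))

theorem tL_apply (a : A) :
    tL R A B a = prQ R A B ((1 : B) ⊗ₜ[R] a) - algebraMap R (Q R A B) (Coalgebra.counit (R := R) a) :=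
  rfl

variable {R A B} in
theorem gU_eq_one_of_tL (h : ∀ a, tL R A B a = 0) : gU R A B = 1 := by
  apply WithConv.ofConv_injective
  apply AlgHom.ext
  intro a
  have := h a
  rw [tL_apply, sub_eq_zero] at this
  rw [AlgHom.convOne_apply]
  exact this

/-- The `B`-linear extension of `tL`. -/
noncomputable def DL : B ⊗[R] A →ₗ[B] Q R A B := (tL R A B).liftBaseChange B

/-- The counit retraction `B ⊗ A → B`. -/
noncomputable def e0 : B ⊗[R] A →ₐ[B] B := epsL R A B

omit [HopfRep.Comod R A B] [GLin.IsCoactAlg R A B] in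
theorem e0_tmul (b : B) (a : A) :
    e0 R A B (b ⊗ₜ[R] a) = Coalgebra.counit (R := R) a • b := by
  simp [e0, epsL, Algebra.smul_def, mul_comm]

theorem prQ_eq (z : B ⊗[R] A) :
    prQ R A B z = algebraMap B (Q R A B) (e0 R A B z) + DL R A B z := by
  induction z using TensorProduct.induction_on with
  | zero => simp
  | tmul b a =>
    rw [DL, LinearMap.liftBaseChange_tmul, tL_apply, e0_tmul, smul_sub]
    have h1 : b • prQ R A B ((1 : B) ⊗ₜ[R] a) = prQ R A B (b ⊗ₜ[R] a) := by
      rw [← map_smul, TensorProduct.smul_tmul', smul_eq_mul, mul_one]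
    have h2 : b • algebraMap R (Q R A B) (Coalgebra.counit (R := R) a) =
        algebraMap B (Q R A B) (Coalgebra.counit (R := R) a • b) := by
      rw [Algebra.algebraMap_eq_smul_one, Algebra.algebraMap_eq_smul_one, smul_assoc, smul_comm]
    rw [h1, h2]
    ring
  | add x y hx hy => rw [map_add, hx, hy, map_add, map_add, map_add]; ring

/-- The retraction `Q → B` of the unit section. -/
noncomputable def eQ : Q R A B →ₐ[B] B :=
  Ideal.Quotient.liftₐ (stabJ R A B) (e0 R A B) (by
    intro z hz
    have hle : stabJ R A B ≤ RingHom.ker (e0 R A B).toRingHom := by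
      unfold stabJ
      rw [Ideal.span_le]
      rintro _ ⟨b, rfl⟩
      change e0 R A B (GLin.coactAlgHom R A B b - b ⊗ₜ[R] (1 : A)) = 0
      rw [map_sub, sub_eq_zero]
      have h1 : e0 R A B (GLin.coactAlgHom R A B b) = b := by
        rw [← orb_id]
        exact epsL_orb_apply (AlgHom.id R B) b
      rw [h1, e0_tmul, Bialgebra.counit_one, one_smul]
    exact hle hz)

theorem eQ_prQ (z : B ⊗[R] A) : eQ R A B (prQ R A B z) = e0 R A B z := by
  change Ideal.Quotient.liftₐ (stabJ R A B) (e0 R A B) _ (Ideal.Quotient.mk _ z) = _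
  rw [Ideal.Quotient.liftₐ_apply, Ideal.Quotient.lift_mk]
  rfl

theorem eQ_DL (z : B ⊗[R] A) : eQ R A B (DL R A B z) = 0 := by
  have h := congrArg (eQ R A B) (prQ_eq R A B z)
  rw [eQ_prQ, map_add, AlgHom.commutes, Algebra.algebraMap_self, RingHom.id_apply] at h
  exact (left_eq_add.mp h)

/-- The projection of `Q` onto the augmentation part. -/
noncomputable def PQ : Q R A B →ₗ[B] Q R A B :=
  LinearMap.id - (Algebra.linearMap B (Q R A B)) ∘ₗ (eQ R A B).toLinearMap

theorem PQ_apply (q : Q R A B) : PQ R A B q = q - algebraMap B (Q R A B) (eQ R A B q) := rfl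

theorem PQ_mem (q : Q R A B) : PQ R A B q ∈ LinearMap.range (DL R A B) := by
  obtain ⟨z, rfl⟩ : ∃ z, prQ R A B z = q := Ideal.Quotient.mk_surjective q
  refine ⟨z, ?_⟩
  rw [PQ_apply, eQ_prQ, prQ_eq R A B z]
  ring

theorem PQ_DL (z : B ⊗[R] A) : PQ R A B (DL R A B z) = DL R A B z := by
  rw [PQ_apply, eQ_DL, map_zero, sub_zero]

/-- Nakayama step: if all `tL a` lie in `p Q`, then `N₀ ≤ p N₀`. -/
theorem range_DL_le_smul (p : Ideal B)
    (hp : ∀ a, tL R A B a ∈ Ideal.map (algebraMap B (Q R A B)) p) :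
    LinearMap.range (DL R A B) ≤ p • LinearMap.range (DL R A B) := by
  have h1 : ∀ z, DL R A B z ∈ p • (⊤ : Submodule B (Q R A B)) := by
    intro z
    induction z using TensorProduct.induction_on with
    | zero => simp
    | tmul b a =>
      rw [DL, LinearMap.liftBaseChange_tmul]
      apply Submodule.smul_mem
      rw [Ideal.smul_top_eq_map]
      exact hp a
    | add x y hx hy => rw [map_add]; exact Submodule.add_mem _ hx hy
  rintro _ ⟨z, rfl⟩
  have h2 : PQ R A B (DL R A B z) ∈ (p • (⊤ : Submodule B (Q R A B))).map (PQ R A B) :=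
    Submodule.mem_map_of_mem (h1 z)
  rw [PQ_DL, Submodule.map_smul''] at h2
  refine Submodule.smul_mono (le_refl p) ?_ h2
  rintro _ ⟨q, -, rfl⟩
  exact PQ_mem R A B q

variable [Module.Finite R A]

theorem range_DL_fg : (LinearMap.range (DL R A B)).FG := by
  rw [LinearMap.range_eq_map]
  exact (Module.Finite.fg_top (R := B) (M := B ⊗[R] A)).map _

/-- If all `tL a` vanish modulo every maximal ideal of `B` then `gU = 1`. -/
theorem gU_eq_one
    (hp : ∀ (p : Ideal B), p.IsMaximal → ∀ a, tL R A B a ∈ Ideal.map (algebraMap B (Q R A B)) p) :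
    gU R A B = 1 := by
  have hbot : LinearMap.range (DL R A B) = ⊥ := by
    by_contra hne
    have hann : (LinearMap.range (DL R A B)).annihilator ≠ ⊤ := by
      intro htop
      apply hne
      rw [← Submodule.annihilator_eq_top_iff]
      exact htop
    obtain ⟨p, hpmax, hle⟩ := Ideal.exists_le_maximal _ hann
    obtain ⟨r, hr1, hr2⟩ := Submodule.exists_sub_one_mem_and_smul_eq_zero_of_fg_of_le_smul p
      (LinearMap.range (DL R A B)) (range_DL_fg R A B) (range_DL_le_smul R A B p (hp p hpmax))
    have hr : r ∈ (LinearMap.range (DL R A B)).annihilator := by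
      rw [Submodule.mem_annihilator]
      exact hr2
    have hrp : r ∈ p := hle hr
    have : (1 : B) ∈ p := by
      have := p.sub_mem hrp hr1
      rwa [sub_sub_cancel] at this
    exact hpmax.ne_top ((Ideal.eq_top_iff_one p).mpr this)
  apply gU_eq_one_of_tL
  intro a
  have : tL R A B a ∈ LinearMap.range (DL R A B) := ⟨(1 : B) ⊗ₜ[R] a, by
    rw [DL, LinearMap.liftBaseChange_tmul, one_smul]⟩
  rw [hbot] at this
  exact (Submodule.mem_bot B).mp this

variable {R A B}

omit [Module.Finite R A] in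
/-- Trivial inertia at the residue field point of `p`: `tL a` dies in any quotient of `Q` through
which the universal point factors over `B ⧸ p`. -/
theorem map_tL_eq_zero_of_inertiaTriv (p : Ideal B) [p.IsMaximal]
    (hIT : InertiaTriv (A := A) (Ideal.Quotient.mkₐ R p))
    {R₂ : Type u} [CommRing R₂] [Algebra R R₂] (π₂ : Q R A B →ₐ[R] R₂) (hL : (B ⧸ p) →ₐ[R] R₂)
    (hcomp : hL.comp (Ideal.Quotient.mkₐ R p) = π₂.comp (yU R A B)) (a : A) :
    π₂ (tL R A B a) = 0 := by
  have hfix : actR (hL.comp (Ideal.Quotient.mkₐ R p)) (mapPt π₂ (gU R A B)) =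
      hL.comp (Ideal.Quotient.mkₐ R p) := by
    rw [hcomp, ← comp_actR, actR_yU_gU]
  have h1 := hIT R₂ hL (mapPt π₂ (gU R A B)) hfix
  have h2 := congrArg (fun k : WithConv (A →ₐ[R] R₂) => k.ofConv a) h1
  simp only [mapPt_ofConv, AlgHom.comp_apply, AlgHom.convOne_apply] at h2
  rw [tL_apply, map_sub, sub_eq_zero, AlgHom.commutes]
  exact h2

omit [Module.Finite R A] in
/-- Trivial inertia at the residue field point of `p` gives `tL a ∈ p Q`. -/
theorem tL_mem_of_inertiaTriv (p : Ideal B) [p.IsMaximal]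
    (hIT : InertiaTriv (A := A) (Ideal.Quotient.mkₐ R p)) (a : A) :
    tL R A B a ∈ Ideal.map (algebraMap B (Q R A B)) p := by
  set pQ : Ideal (Q R A B) := Ideal.map (algebraMap B (Q R A B)) p with hpQ
  have hkill : ∀ b ∈ p, ((Ideal.Quotient.mkₐ R pQ).comp (yU R A B)) b = 0 := by
    intro b hb
    change Ideal.Quotient.mk pQ (algebraMap B (Q R A B) b) = 0
    rw [Ideal.Quotient.eq_zero_iff_mem]
    exact Ideal.mem_map_of_mem _ hb
  have hcomp : (Ideal.Quotient.liftₐ p ((Ideal.Quotient.mkₐ R pQ).comp (yU R A B)) hkill).comp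
      (Ideal.Quotient.mkₐ R p) = (Ideal.Quotient.mkₐ R pQ).comp (yU R A B) :=
    AlgHom.ext fun b => rfl
  have h := map_tL_eq_zero_of_inertiaTriv p hIT (R₂ := Q R A B ⧸ pQ) (Ideal.Quotient.mkₐ R pQ)
    (Ideal.Quotient.liftₐ p ((Ideal.Quotient.mkₐ R pQ).comp (yU R A B)) hkill) hcomp a
  exact Ideal.Quotient.eq_zero_iff_mem.mp h

end Stab

section Main

variable {R A B : Type u} [CommRing R] [CommRing A] [HopfAlgebra R A] [CommRing B] [Algebra R B]
  [HopfRep.Comod R A B] [GLin.IsCoactAlg R A B]
variable {n : ℕ} (f : (Fin n → R) →ₗ[R] A) (g : A →ₗ[R] (Fin n → R)) (hfg : f ∘ₗ g = LinearMap.id)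
variable (hS : ∀ c : B, GLin.coactAlgHom R A B c = c ⊗ₜ[R] (1 : A) → c ∈ Set.range (algebraMap R B))

include hfg hS in
/-- Over a local base with `B^A = R`: trivial inertia at one point over the closed point implies
freeness. -/
theorem freeAlg_of_inertiaTriv_of_isLocalRing [IsLocalRing R] {K : Type u} [Field K] [Algebra R K]
    (hK : RingHom.ker (algebraMap R K) = IsLocalRing.maximalIdeal R) (x : B →ₐ[R] K)
    (hIT : InertiaTriv (A := A) x) : FreeAlg R A B := by
  have hfin : Module.Finite R A := finite_of_retract f g hfg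
  have hint : Algebra.IsIntegral R B := ⟨fun b => isIntegral_of_invariants f g hfg hS b⟩
  apply freeAlg_of_gU_eq_one
  apply gU_eq_one
  intro p hp a
  have hpm : (p.comap (algebraMap R B)).IsMaximal :=
    Ideal.isMaximal_comap_of_isIntegral_of_isMaximal (R := R) p
  have hker : RingHom.ker (algebraMap R (B ⧸ p)) = IsLocalRing.maximalIdeal R := by
    have : RingHom.ker (algebraMap R (B ⧸ p)) = p.comap (algebraMap R B) := by
      ext r
      rw [RingHom.mem_ker, Ideal.mem_comap, IsScalarTower.algebraMap_apply R B (B ⧸ p),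
        Ideal.Quotient.algebraMap_eq, Ideal.Quotient.eq_zero_iff_mem]
    rw [this]
    exact IsLocalRing.eq_maximalIdeal hpm
  let _ : Field (B ⧸ p) := Ideal.Quotient.field p
  have hIT' : InertiaTriv (A := A) (Ideal.Quotient.mkₐ R p) :=
    inertiaTriv_transfer f g hfg hS (hK.trans hker.symm) x (Ideal.Quotient.mkₐ R p) hIT
  exact tL_mem_of_inertiaTriv p hIT' a

end Main

end Groth.Agent.H74.CoactStab
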