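import Mathlib
import Groth.Agent.H74.CoactStab
import Groth.Agent.H74.CoactInv2

/-!
# Freeness near a point with trivial inertia (general base)

`A` finite projective commutative Hopf algebra over `R` coacting on `B`, `C = B^A` the invariants.
If the inertia at a field-valued point `x : B → K` is trivial, there is an invariant `c` with
`x c ≠ 0` killing the augmentation part `tL a` of the universal stabiliser
(`exists_invariant_smul_tL_eq_zero`); consequently every fixed pair `(y, k)` with `y c` invertible has
`k = 1` (`eq_one_of_fix_of_isUnit`).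
-/

set_option autoImplicit false

open TensorProduct Polynomial WithConv

namespace Groth.Agent.H74.CoactFibre

open Groth.Agent.H74.CoactCP Groth.Agent.H74.CoactPts Groth.Agent.H74.CoactInv
open Groth.Agent.H74.CoactTrans Groth.Agent.H74.CoactBridge Groth.Agent.H74.CoactInertia
open Groth.Agent.H74.CoactStab Groth.Agent.H74.CoactInv2

universe u

section

variable {R A B : Type u} [CommRing R] [CommRing A] [HopfAlgebra R A] [CommRing B] [Algebra R B]
  [HopfRep.Comod R A B] [GLin.IsCoactAlg R A B]

/-- Trivial inertia at a point `x'`: `tL a` dies in any `R`-algebra through which the universal point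
factors over `x'`. -/
theorem map_tL_eq_zero_of_point {L : Type u} [CommRing L] [Algebra R L] (x' : B →ₐ[R] L)
    (hIT : InertiaTriv (A := A) x')
    {R₂ : Type u} [CommRing R₂] [Algebra R R₂] (π₂ : Q R A B →ₐ[R] R₂) (hL : L →ₐ[R] R₂)
    (hcomp : hL.comp x' = π₂.comp (yU R A B)) (a : A) :
    π₂ (tL R A B a) = 0 := by
  have hfix : actR (hL.comp x') (mapPt π₂ (gU R A B)) = hL.comp x' := by
    rw [hcomp, ← comp_actR, actR_yU_gU]
  have h1 := hIT R₂ hL (mapPt π₂ (gU R A B)) hfix
  have h2 := congrArg (fun k : WithConv (A →ₐ[R] R₂) => k.ofConv a) h1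
  simp only [mapPt_ofConv, AlgHom.comp_apply, AlgHom.convOne_apply] at h2
  rw [tL_apply, map_sub, sub_eq_zero, AlgHom.commutes]
  exact h2

variable (R A B) in
/-- The retraction of `Q` onto the augmentation part `N₀ = range DL`. -/
noncomputable def retr : Q R A B →ₗ[B] LinearMap.range (DL R A B) :=
  (PQ R A B).codRestrict _ (PQ_mem R A B)

theorem retr_comp_subtype :
    (retr R A B) ∘ₗ (LinearMap.range (DL R A B)).subtype = LinearMap.id := by
  apply LinearMap.ext
  rintro ⟨_, z, rfl⟩
  apply Subtype.ext
  exact PQ_DL R A B z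

/-- If the inertia at the residue field point of the prime `P` is trivial, then the fibre of the
augmentation part at `P` vanishes. -/
theorem subsingleton_tensor_range_DL (P : Ideal B) [P.IsPrime]
    (hIT : InertiaTriv (A := A) (IsScalarTower.toAlgHom R B P.ResidueField)) :
    Subsingleton (P.ResidueField ⊗[B] LinearMap.range (DL R A B)) := by
  set L := P.ResidueField with hL
  set N := LinearMap.range (DL R A B) with hN
  have hinj : Function.Injective (N.subtype.lTensor L) := by
    apply Function.LeftInverse.injective (g := (retr R A B).lTensor L)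
    intro t
    rw [← LinearMap.comp_apply, ← LinearMap.lTensor_comp, retr_comp_subtype, LinearMap.lTensor_id,
      LinearMap.id_apply]
  have hzero1 : ∀ a : A, ((1 : L) ⊗ₜ[B] tL R A B a : L ⊗[B] Q R A B) = 0 := by
    intro a
    have hcomp : (Algebra.TensorProduct.includeLeft : L →ₐ[R] L ⊗[B] Q R A B).comp
        (IsScalarTower.toAlgHom R B L) =
        ((Algebra.TensorProduct.includeRight : Q R A B →ₐ[B] L ⊗[B] Q R A B).restrictScalars R).comp
          (yU R A B) := by
      apply AlgHom.ext
      intro b
      change (algebraMap B L b) ⊗ₜ[B] (1 : Q R A B) = (1 : L) ⊗ₜ[B] (algebraMap B (Q R A B) b)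
      rw [Algebra.algebraMap_eq_smul_one, Algebra.algebraMap_eq_smul_one, TensorProduct.smul_tmul]
    exact map_tL_eq_zero_of_point (R₂ := L ⊗[B] Q R A B) (IsScalarTower.toAlgHom R B L) hIT
      ((Algebra.TensorProduct.includeRight : Q R A B →ₐ[B] L ⊗[B] Q R A B).restrictScalars R)
      (Algebra.TensorProduct.includeLeft : L →ₐ[R] L ⊗[B] Q R A B) hcomp a
  have hzero2 : ∀ (l : L) (z : B ⊗[R] A), (l ⊗ₜ[B] DL R A B z : L ⊗[B] Q R A B) = 0 := by
    intro l z
    induction z using TensorProduct.induction_on with
    | zero => rw [map_zero, TensorProduct.tmul_zero]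
    | tmul b a =>
      rw [DL, LinearMap.liftBaseChange_tmul, ← TensorProduct.smul_tmul]
      have : ((b • l) ⊗ₜ[B] tL R A B a : L ⊗[B] Q R A B) =
          ((b • l) ⊗ₜ[B] (1 : Q R A B)) * ((1 : L) ⊗ₜ[B] tL R A B a) := by
        rw [Algebra.TensorProduct.tmul_mul_tmul, mul_one, one_mul]
      have h0 := hzero1 a
      rw [this]
      exact (congrArg (fun w => ((b • l) ⊗ₜ[B] (1 : Q R A B) : L ⊗[B] Q R A B) * w) h0).trans
        (mul_zero (M₀ := L ⊗[B] Q R A B) _)
    | add x y hx hy => rw [map_add, TensorProduct.tmul_add, hx, hy, add_zero]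
  have hzero : ∀ t : L ⊗[B] N, N.subtype.lTensor L t = 0 := by
    intro t
    induction t using TensorProduct.induction_on with
    | zero => rw [map_zero]
    | tmul l n =>
      obtain ⟨_, z, rfl⟩ := n
      rw [LinearMap.lTensor_tmul]
      exact hzero2 l z
    | add x y hx hy => rw [map_add, hx, hy, add_zero]
  refine ⟨fun s t => hinj ?_⟩
  rw [hzero, hzero]

end

section Main

variable {R A B : Type u} [CommRing R] [CommRing A] [HopfAlgebra R A] [CommRing B] [Algebra R B]
  [HopfRep.Comod R A B] [GLin.IsCoactAlg R A B]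
variable {n : ℕ} (f : (Fin n → R) →ₗ[R] A) (g : A →ₗ[R] (Fin n → R)) (hfg : f ∘ₗ g = LinearMap.id)

include hfg in
/-- If the inertia at a field-valued point `x` is trivial, some invariant `c` not vanishing at `x`
kills the augmentation part of the universal stabiliser. -/
theorem exists_invariant_smul_tL_eq_zero {K : Type u} [Field K] [Algebra R K] (x : B →ₐ[R] K)
    (hIT : InertiaTriv (A := A) x) :
    ∃ c : B, GLin.coactAlgHom R A B c = c ⊗ₜ[R] (1 : A) ∧ x c ≠ 0 ∧
      ∀ a, c • tL R A B a = 0 := by
  classical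
  have hfin : Module.Finite R A := finite_of_retract f g hfg
  by_contra H
  push Not at H
  set C := GLin.invariants R A B with hC
  set N := LinearMap.range (DL R A B) with hN
  have hNfin : Module.Finite B N := Module.Finite.of_fg (range_DL_fg R A B)
  have hint : Algebra.IsIntegral C B := ⟨fun b => isIntegral_invariants f g hfg b⟩
  set q : Ideal C := RingHom.ker (x.toRingHom.comp (algebraMap C B)) with hq
  have hqprime : q.IsPrime := RingHom.ker_isPrime _
  set 𝔞 : Ideal B := Module.annihilator B N with h𝔞
  have hle : 𝔞.comap (algebraMap C B) ≤ q := by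
    intro c hc
    rw [Ideal.mem_comap, h𝔞, Module.mem_annihilator] at hc
    rw [hq, RingHom.mem_ker]
    change x (c : B) = 0
    by_contra hne
    obtain ⟨a, ha⟩ := H (c : B) c.2 hne
    apply ha
    have hmem : tL R A B a ∈ N := ⟨(1 : B) ⊗ₜ[R] a, by
      rw [DL, LinearMap.liftBaseChange_tmul, one_smul]⟩
    have := hc ⟨tL R A B a, hmem⟩
    exact congrArg Subtype.val this
  obtain ⟨P, hP𝔞, hPprime, hPq⟩ := Ideal.exists_ideal_over_prime_of_isIntegral q 𝔞 hle
  have hq' : RingHom.ker (x.toRingHom.comp (algebraMap C B)) =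
      RingHom.ker ((IsScalarTower.toAlgHom R B P.ResidueField).toRingHom.comp (algebraMap C B)) := by
    rw [← hq, ← hPq]
    ext c
    rw [Ideal.mem_comap, RingHom.mem_ker]
    change _ ↔ algebraMap B P.ResidueField (algebraMap C B c) = 0
    rw [Ideal.algebraMap_residueField_eq_zero]
  have hITP : InertiaTriv (A := A) (IsScalarTower.toAlgHom R B P.ResidueField) :=
    inertiaTriv_transfer' f g hfg x _ hq' hIT
  have hsub := subsingleton_tensor_range_DL P hITP
  have hnot : (⟨P, hPprime⟩ : PrimeSpectrum B) ∉ Module.support B N := by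
    rw [Module.mem_support_iff_nontrivial_residueField_tensorProduct]
    exact not_nontrivial _
  apply hnot
  rw [Module.mem_support_iff_of_finite]
  exact hP𝔞

end Main

section Fix

variable {R A B : Type u} [CommRing R] [CommRing A] [HopfAlgebra R A] [CommRing B] [Algebra R B]
  [HopfRep.Comod R A B] [GLin.IsCoactAlg R A B]

/-- If `c` kills all `tL a`, a fixed pair `(y, k)` with `y c` invertible has `k = 1`. -/
theorem eq_one_of_fix_of_isUnit (c : B) (hc : ∀ a, c • tL R A B a = 0)
    {R' : Type u} [CommRing R'] [Algebra R R'] (y : B →ₐ[R] R') (k : WithConv (A →ₐ[R] R'))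
    (hk : actR y k = y) (hu : IsUnit (y c)) : k = 1 := by
  let F : B ⊗[R] A →ₐ[R] R' := Algebra.TensorProduct.lift y k.ofConv fun _ _ => .all _ _
  have hF : ∀ z ∈ stabJ R A B, F z = 0 := by
    intro z hz
    have hle : stabJ R A B ≤ RingHom.ker F.toRingHom := by
      unfold stabJ
      rw [Ideal.span_le]
      rintro _ ⟨b, rfl⟩
      change F (GLin.coactAlgHom R A B b - b ⊗ₜ[R] (1 : A)) = 0
      rw [map_sub, sub_eq_zero]
      have := congrArg (fun φ : B →ₐ[R] R' => φ b) hk
      simp only [F, Algebra.TensorProduct.lift_tmul, map_one, mul_one]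
      exact this
    exact hle hz
  let ψ : Q R A B →ₐ[R] R' := Ideal.Quotient.liftₐ (stabJ R A B) F hF
  have hψ : ∀ z : B ⊗[R] A, ψ (prQ R A B z) = F z := by
    intro z
    change Ideal.Quotient.liftₐ (stabJ R A B) F hF (Ideal.Quotient.mk _ z) = _
    rw [Ideal.Quotient.liftₐ_apply, Ideal.Quotient.lift_mk]
    rfl
  apply WithConv.ofConv_injective
  apply AlgHom.ext
  intro a
  rw [AlgHom.convOne_apply]
  have h1 : ψ (c • tL R A B a) = 0 := by rw [hc, map_zero]
  have e0 : c • tL R A B a = prQ R A B (c ⊗ₜ[R] (1 : A)) * tL R A B a :=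
    Algebra.smul_def c (tL R A B a)
  rw [e0, map_mul, hψ, tL_apply, map_sub, hψ, AlgHom.commutes] at h1
  simp only [F, Algebra.TensorProduct.lift_tmul, map_one, mul_one, one_mul] at h1
  have h3 : y c * (k.ofConv a - algebraMap R R' (Coalgebra.counit (R := R) a)) = 0 := by
    exact h1
  have h4 := (hu.mul_right_eq_zero).mp h3
  exact sub_eq_zero.mp h4

end Fix

end Groth.Agent.H74.CoactFibre
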