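import Mathlib
import Groth.Agent.H74.CoactFibre

/-!
# Trivial inertia at a point iff the action is free over a flat neighbourhood of its image in the quotient

The two directions of S14982, for `A` a finite projective commutative Hopf algebra over `R` coacting on
`B`, `C = B^A`.
-/

set_option autoImplicit false

open CategoryTheory MonoidalCategory CartesianMonoidalCategory MonObj AlgebraicGeometry TensorProduct
open WithConv

namespace Groth.Agent.H74.CoactLocal

open Groth.Agent.H74.CoactCP Groth.Agent.H74.CoactPts Groth.Agent.H74.CoactInv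
open Groth.Agent.H74.CoactTrans Groth.Agent.H74.CoactBridge Groth.Agent.H74.CoactInertia
open Groth.Agent.H74.CoactStab Groth.Agent.H74.CoactInv2 Groth.Agent.H74.CoactFibre

universe u

variable {R A B : Type u} [CommRing R] [CommRing A] [HopfAlgebra R A] [CommRing B] [Algebra R B]
  [HopfRep.Comod R A B] [GLin.IsCoactAlg R A B]

/-- The freeness statement over a `Y'`-scheme used in S14982. -/
def FreeOver (Y' : Scheme.{u}) (c : Y' ⟶ Spec (CommRingCat.of (GLin.invariants R A B))) : Prop :=
  ∀ (T : Over (Spec (CommRingCat.of R))) (ζ : T ⟶ CoactBr.sp R B),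
    (∃ t : T.left ⟶ Y', t ≫ c = ζ.left ≫
      Spec.map (CommRingCat.ofHom (GLin.invariants R A B).val.toRingHom)) →
    ∀ g : T ⟶ CoactBr.sp R A, lift g ζ ≫ (CoactBr.action R A B).act = ζ → g = 1

section Forward

variable {n : ℕ} (f : (Fin n → R) →ₗ[R] A) (g : A →ₗ[R] (Fin n → R)) (hfg : f ∘ₗ g = LinearMap.id)

include hfg in
theorem exists_flat_nhd_of_inertiaTriv {K : Type u} [Field K] [Algebra R K] (x : B →ₐ[R] K)
    (hIT : InertiaTriv (A := A) x) :
    ∃ (Y' : Scheme.{u}) (c : Y' ⟶ Spec (CommRingCat.of (GLin.invariants R A B))),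
      Flat c ∧ LocallyOfFinitePresentation c ∧
      (∃ y' : Y', c.base y' =
        (Spec.map (CommRingCat.ofHom
          (x.toRingHom.comp (GLin.invariants R A B).val.toRingHom))).base
          (IsLocalRing.closedPoint K)) ∧
      FreeOver (R := R) (A := A) (B := B) Y' c := by
  classical
  obtain ⟨c₀, hc₀, hxc, hkill⟩ := exists_invariant_smul_tL_eq_zero f g hfg x hIT
  let C := GLin.invariants R A B
  let c₁ : GLin.invariants R A B := ⟨c₀, hc₀⟩
  refine ⟨Spec (CommRingCat.of (Localization.Away c₁)),
    Spec.map (CommRingCat.ofHom (algebraMap C (Localization.Away c₁))), inferInstance,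
    inferInstance, ?_, ?_⟩
  · -- the point
    set y : PrimeSpectrum C := PrimeSpectrum.comap
      (x.toRingHom.comp (GLin.invariants R A B).val.toRingHom) (IsLocalRing.closedPoint K) with hy
    have hmem : y ∈ Set.range (PrimeSpectrum.comap (algebraMap C (Localization.Away c₁))) := by
      rw [PrimeSpectrum.localization_away_comap_range (Localization.Away c₁) c₁]
      change c₁ ∉ y.asIdeal
      intro hmem
      rw [hy, PrimeSpectrum.comap_asIdeal, Ideal.mem_comap] at hmem
      have : (IsLocalRing.closedPoint K).asIdeal = ⊥ := by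
        change IsLocalRing.maximalIdeal K = ⊥
        exact IsLocalRing.maximalIdeal_eq_bot
      rw [this, Ideal.mem_bot] at hmem
      exact hxc hmem
    obtain ⟨y', hy'⟩ := hmem
    exact ⟨y', hy'⟩
  · intro T ζ ht k hfix
    obtain ⟨t, ht⟩ := ht
    apply hom_ext_affine
    intro R' _ _ j
    obtain ⟨y, hy⟩ := exists_pt_eq (j ≫ ζ)
    obtain ⟨k₀, hk₀⟩ := exists_pt_eq (j ≫ k)
    have h1 : lift (j ≫ k) (j ≫ ζ) ≫ (CoactBr.action R A B).act = j ≫ ζ := by
      rw [← comp_lift_assoc, hfix]
    rw [hy, hk₀] at h1
    have h2 : actR y (toConv k₀) = y := (fix_pt_iff (toConv k₀) y).mp h1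
    -- `y c₀` is a unit
    have hu : IsUnit (y c₀) := by
      let θ : CommRingCat.of (Localization.Away c₁) ⟶ CommRingCat.of R' :=
        Spec.preimage (j.left ≫ t)
      have hθ : CommRingCat.ofHom (algebraMap C (Localization.Away c₁)) ≫ θ =
          CommRingCat.ofHom (y.toRingHom.comp (GLin.invariants R A B).val.toRingHom) := by
        apply Spec.map_injective
        have hleft : j.left ≫ ζ.left = Spec.map (CommRingCat.ofHom y.toRingHom) := by
          rw [← Over.comp_left, hy, CoactBr.pt_left]
        have h5 : (j.left ≫ t) ≫ Spec.map (CommRingCat.ofHom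
            (algebraMap C (Localization.Away c₁))) =
            Spec.map (CommRingCat.ofHom y.toRingHom) ≫
              Spec.map (CommRingCat.ofHom (GLin.invariants R A B).val.toRingHom) := by
          rw [Category.assoc, ht, ← Category.assoc]
          exact congrArg (fun m => m ≫
            Spec.map (CommRingCat.ofHom (GLin.invariants R A B).val.toRingHom)) hleft
        rw [Spec.map_comp, Spec.map_preimage]
        refine h5.trans ?_
        exact (Spec.map_comp _ _).symm
      have h3 : θ.hom (algebraMap C (Localization.Away c₁) c₁) = y c₀ := by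
        have := congrArg (fun φ => φ.hom c₁) hθ
        exact this
      rw [← h3]
      exact (IsLocalization.Away.algebraMap_isUnit c₁).map θ.hom
    have h4 := eq_one_of_fix_of_isUnit c₀ hkill y (toConv k₀) h2 hu
    rw [hk₀, MonObj.comp_one]
    exact (pt_eq_one_iff (toConv k₀)).mpr h4

end Forward

section Backward

theorem inertiaTriv_of_freeOver {K : Type u} [Field K] [Algebra R K] (x : B →ₐ[R] K)
    (Y' : Scheme.{u}) (c : Y' ⟶ Spec (CommRingCat.of (GLin.invariants R A B)))
    (y' : Y') (hy' : c.base y' =
      (Spec.map (CommRingCat.ofHom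
        (x.toRingHom.comp (GLin.invariants R A B).val.toRingHom))).base
        (IsLocalRing.closedPoint K))
    (Hfree : FreeOver (R := R) (A := A) (B := B) Y' c) :
    InertiaTriv (A := A) x := by
  classical
  let C := GLin.invariants R A B
  let κ : Type u := Y'.residueField y'
  let s : Spec (Y'.residueField y') ⟶ Y' := Y'.fromSpecResidueField y'
  let θ' : CommRingCat.of C ⟶ Y'.residueField y' := Spec.preimage (s ≫ c)
  have hθ' : Spec.map θ' = s ≫ c := Spec.map_preimage _
  let aK : Algebra C K := (x.toRingHom.comp (GLin.invariants R A B).val.toRingHom).toAlgebra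
  let aκ : Algebra C κ := θ'.hom.toAlgebra
  have hq : RingHom.ker (algebraMap C K) = RingHom.ker (algebraMap C κ) := by
    have e1 : RingHom.ker (algebraMap C K) =
        (PrimeSpectrum.comap (x.toRingHom.comp (GLin.invariants R A B).val.toRingHom)
          (IsLocalRing.closedPoint K)).asIdeal := by
      rw [PrimeSpectrum.comap_asIdeal]
      have : (IsLocalRing.closedPoint K).asIdeal = ⊥ := by
        change IsLocalRing.maximalIdeal K = ⊥
        exact IsLocalRing.maximalIdeal_eq_bot
      rw [this, ← RingHom.ker_eq_comap_bot]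
      rfl
    have e2 : RingHom.ker (algebraMap C κ) =
        (PrimeSpectrum.comap θ'.hom (IsLocalRing.closedPoint κ)).asIdeal := by
      rw [PrimeSpectrum.comap_asIdeal]
      have : (IsLocalRing.closedPoint κ).asIdeal = ⊥ := by
        change IsLocalRing.maximalIdeal κ = ⊥
        exact IsLocalRing.maximalIdeal_eq_bot
      rw [this, ← RingHom.ker_eq_comap_bot]
      rfl
    rw [e1, e2]
    congr 1
    have e3 : PrimeSpectrum.comap θ'.hom (IsLocalRing.closedPoint κ) =
        (Spec.map θ').base (IsLocalRing.closedPoint κ) := rfl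
    rw [e3, hθ']
    have e4 : (s ≫ c).base (IsLocalRing.closedPoint κ) = c.base y' := by
      rw [Scheme.Hom.comp_base, TopCat.comp_app]
      congr 1
      exact Scheme.fromSpecResidueField_apply y' _
    rw [e4, hy']
    rfl
  obtain ⟨L, _, _, aL, ⟨j₁⟩, ⟨j₂⟩⟩ := exists_common_ext (R := C) hq
  let aRL : Algebra R L := ((algebraMap C L).comp (algebraMap R C)).toAlgebra
  let j₁' : K →ₐ[R] L := ⟨j₁.toRingHom, fun r => by
    have h1 : algebraMap R K r = algebraMap C K (algebraMap R C r) := (x.commutes r).symm
    change j₁ (algebraMap R K r) = _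
    rw [h1, j₁.commutes]
    rfl⟩
  intro R' _ _ h k hk
  obtain ⟨R'', _, _, i₁, i₂, hi₁, hi⟩ := exists_pushout_field h j₁'
  -- the test data
  set ζ : CoactBr.sp R R'' ⟶ CoactBr.sp R B := CoactBr.pt (i₁.comp (h.comp x)) with hζ
  set k' : WithConv (A →ₐ[R] R'') := mapPt i₁ k with hk'
  have hfix : lift (CoactBr.pt k'.ofConv) ζ ≫ (CoactBr.action R A B).act = ζ := by
    rw [hζ, fix_pt_iff, hk', ← comp_actR, hk]
  let t : Spec (CommRingCat.of R'') ⟶ Y' :=
    Spec.map (CommRingCat.ofHom (i₂.toRingHom.comp j₂.toRingHom)) ≫ s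
  have ht : t ≫ c = ζ.left ≫ Spec.map (CommRingCat.ofHom (GLin.invariants R A B).val.toRingHom) := by
    change (Spec.map _ ≫ s) ≫ c = _
    rw [Category.assoc, ← hθ', hζ, CoactBr.pt_left, ← Spec.map_comp]
    refine Eq.trans ?_ (Spec.map_comp _ _)
    congr 1
    apply CommRingCat.hom_ext
    apply RingHom.ext
    intro cc
    change i₂ (j₂ (algebraMap C κ cc)) = i₁ (h (x (cc : B)))
    rw [j₂.commutes]
    have e1 : algebraMap C L cc = j₁' (x (cc : B)) := (j₁.commutes cc).symm
    rw [e1]
    have := congrArg (fun φ : K →ₐ[R] R'' => φ (x (cc : B))) hi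
    exact this.symm
  have h5 := Hfree (CoactBr.sp R R'') ζ ⟨t, ht⟩ (CoactBr.pt k'.ofConv) hfix
  have h6 : k' = 1 := (pt_eq_one_iff k').mp h5
  apply mapPt_injective i₁ hi₁
  rw [map_one]
  exact h6

end Backward

end Groth.Agent.H74.CoactLocal
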