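import Mathlib
import Groth.Agent.H74.Comod

/-!
# The coefficient space of a comodule over a field
-/

namespace Groth.Agent.H74.Comod

open TensorProduct Coalgebra HopfRep WithConv Groth.Agent.H74.Coalg

universe u v w w'

section Coeff

variable {K : Type u} [Field K] {C : Type v} [AddCommGroup C] [Module K C] [Coalgebra K C]
variable {V : Type w} [AddCommGroup V] [Module K V] [Comod K C V]
variable {W : Type w'} [AddCommGroup W] [Module K W] [Comod K C W]

/-- the coefficient map `v ↦ (e ⊗ id)(ρ v)` of a functional `e` on a comodule -/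
noncomputable def cf (e : V →ₗ[K] K) : V →ₗ[K] C :=
  (TensorProduct.lid K C).toLinearMap ∘ₗ LinearMap.rTensor C e ∘ₗ Comod.coact (k := K) (A := C)

lemma cf_apply (e : V →ₗ[K] K) (v : V) :
    cf (C := C) e v = TensorProduct.lid K C (LinearMap.rTensor C e (Comod.coact (k := K) (A := C) v)) :=
  rfl

omit [Coalgebra K C] [Comod K C V] in
/-- functionals on the left factor separate the elements of `V ⊗ C` -/
lemma sepL (t : V ⊗[K] C)
    (h : ∀ e : V →ₗ[K] K, TensorProduct.lid K C (LinearMap.rTensor C e t) = 0) : t = 0 := by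
  classical
  let b := Module.Free.chooseBasis K V
  apply (TensorProduct.equivFinsuppOfBasisLeft (N := C) b).injective
  ext i
  rw [TensorProduct.equivFinsuppOfBasisLeft_apply, h]
  simp

/-- `ε ∘ cf e = e` -/
lemma counit_cf (e : V →ₗ[K] K) (v : V) : counit (R := K) (cf (C := C) e v) = e v := by
  have h := LinearMap.congr_fun (Comod.counit_comp (k := K) (A := C) (V := V)) v
  simp only [LinearMap.comp_apply, LinearMap.flip_apply, TensorProduct.mk_apply] at h
  rw [cf_apply]
  have e1 : (counit (R := K) (A := C)) ∘ₗ (TensorProduct.lid K C).toLinearMap ∘ₗ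
      LinearMap.rTensor C e = e ∘ₗ (TensorProduct.rid K V).toLinearMap ∘ₗ
        LinearMap.lTensor V (counit (R := K) (A := C)) := by
    ext x y
    simp [mul_comm]
  have e2 := LinearMap.congr_fun e1 (Comod.coact (k := K) (A := C) v)
  simp only [LinearMap.comp_apply, LinearEquiv.coe_coe] at e2
  rw [e2, h]
  simp

lemma cf_aux (e : V →ₗ[K] K) (t : V ⊗[K] C) (a : C) :
    TensorProduct.lid K (C ⊗[K] C) (LinearMap.rTensor (C ⊗[K] C) e
      (TensorProduct.assoc K V C C (t ⊗ₜ[K] a))) =
      TensorProduct.lid K C (LinearMap.rTensor C e t) ⊗ₜ[K] a := by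
  induction t with
  | zero => simp
  | tmul x b => simp [TensorProduct.smul_tmul']
  | add x y hx hy => simp only [TensorProduct.add_tmul, map_add, hx, hy]

/-- `cf e` is a comodule map into the regular comodule -/
lemma comul_cf (e : V →ₗ[K] K) (v : V) :
    comul (R := K) (cf (C := C) e v) =
      LinearMap.rTensor C (cf (C := C) e) (Comod.coact (k := K) (A := C) v) := by
  have hco := LinearMap.congr_fun (Comod.coassoc (k := K) (A := C) (V := V)) v
  simp only [LinearMap.comp_apply, LinearEquiv.coe_coe] at hco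
  -- LHS
  have h1 : ∀ t : V ⊗[K] C, comul (R := K) (TensorProduct.lid K C (LinearMap.rTensor C e t)) =
      TensorProduct.lid K (C ⊗[K] C) (LinearMap.rTensor (C ⊗[K] C) e
        (LinearMap.lTensor V (comul (R := K) (A := C)) t)) := by
    intro t
    induction t with
    | zero => simp
    | tmul x b => simp
    | add x y hx hy => simp only [map_add, hx, hy]
  have h2 : ∀ s : V ⊗[K] C, TensorProduct.lid K (C ⊗[K] C) (LinearMap.rTensor (C ⊗[K] C) e
      (TensorProduct.assoc K V C C (LinearMap.rTensor C (Comod.coact (k := K) (A := C)) s))) =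
      LinearMap.rTensor C (cf (C := C) e) s := by
    intro s
    induction s with
    | zero => simp
    | tmul x b =>
      simp only [LinearMap.rTensor_tmul]
      rw [cf_aux, cf_apply]
    | add x y hx hy => simp only [map_add, hx, hy]
  rw [cf_apply, h1, ← hco, h2]

lemma isComodHom_cf (e : V →ₗ[K] K) : Hoch.IsComodHom C (cf (C := C) e) := by
  ext v
  exact comul_cf e v

/-- the coefficient space of a comodule -/
noncomputable def coeffSpace (K : Type u) [Field K] (C : Type v) [AddCommGroup C] [Module K C]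
    [Coalgebra K C] (V : Type w) [AddCommGroup V] [Module K V] [Comod K C V] : Submodule K C :=
  ⨆ e : V →ₗ[K] K, LinearMap.range (cf (C := C) e)

lemma cf_mem_coeffSpace (e : V →ₗ[K] K) (v : V) : cf (C := C) e v ∈ coeffSpace K C V :=
  Submodule.mem_iSup_of_mem e ⟨v, rfl⟩

lemma coeffSpace_le_iff (D : Submodule K C) :
    coeffSpace K C V ≤ D ↔ ∀ (e : V →ₗ[K] K) (v : V), cf (C := C) e v ∈ D := by
  unfold coeffSpace
  rw [iSup_le_iff]
  constructor
  · intro h e v
    exact h e ⟨v, rfl⟩
  · rintro h e _ ⟨v, rfl⟩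
    exact h e v

/-- the coaction lands in `V ⊗ D` iff all coefficients lie in `D` -/
lemma coact_mem_iff (D : Submodule K C) (v : V) :
    Comod.coact (k := K) (A := C) v ∈ LinearMap.range (LinearMap.lTensor V D.subtype) ↔
      ∀ e : V →ₗ[K] K, cf (C := C) e v ∈ D := by
  constructor
  · rintro ⟨s, hs⟩ e
    rw [cf_apply, ← hs]
    have : (TensorProduct.lid K C).toLinearMap ∘ₗ LinearMap.rTensor C e ∘ₗ
        LinearMap.lTensor V D.subtype =
        D.subtype ∘ₗ (TensorProduct.lid K D).toLinearMap ∘ₗ LinearMap.rTensor D e := by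
      ext x y
      simp
    have h2 := LinearMap.congr_fun this s
    simp only [LinearMap.comp_apply, LinearEquiv.coe_coe] at h2
    rw [h2]
    exact Submodule.coe_mem _
  · intro h
    obtain ⟨p, hp⟩ := LinearMap.exists_leftInverse_of_injective D.subtype (by simp)
    have hπD : ∀ d ∈ D, (D.subtype ∘ₗ p) d = d := by
      intro d hd
      have := LinearMap.congr_fun hp ⟨d, hd⟩
      simp only [LinearMap.comp_apply, Submodule.subtype_apply, LinearMap.id_apply] at this
      simp [this]
    refine ⟨LinearMap.lTensor V p (Comod.coact (k := K) (A := C) v), ?_⟩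
    rw [← LinearMap.comp_apply, ← LinearMap.lTensor_comp, ← sub_eq_zero]
    apply sepL
    intro e
    have e1 : (TensorProduct.lid K C).toLinearMap ∘ₗ LinearMap.rTensor C e ∘ₗ
        LinearMap.lTensor V (D.subtype ∘ₗ p) = (D.subtype ∘ₗ p) ∘ₗ
          (TensorProduct.lid K C).toLinearMap ∘ₗ LinearMap.rTensor C e := by
      ext x y
      simp
    have e2 := LinearMap.congr_fun e1 (Comod.coact (k := K) (A := C) v)
    simp only [LinearMap.comp_apply, LinearEquiv.coe_coe] at e2
    rw [map_sub, map_sub, e2, sub_eq_zero]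
    exact hπD _ (h e)

/-- the coefficient space is the least subspace `D` with `ρ V ⊆ V ⊗ D` -/
lemma isLeast_coeffSpace :
    IsLeast {D' : Submodule K C | ∀ v : V, Comod.coact (k := K) (A := C) v ∈
      LinearMap.range (LinearMap.lTensor V D'.subtype)} (coeffSpace K C V) := by
  constructor
  · intro v
    rw [coact_mem_iff]
    intro e
    exact cf_mem_coeffSpace e v
  · intro D' hD'
    rw [coeffSpace_le_iff]
    intro e v
    exact (coact_mem_iff D' v).1 (hD' v) e

lemma eq_coeffSpace_of_isLeast {D : Submodule K C}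
    (hD : IsLeast {D' : Submodule K C | ∀ v : V, Comod.coact (k := K) (A := C) v ∈
      LinearMap.range (LinearMap.lTensor V D'.subtype)} D) : D = coeffSpace K C V :=
  hD.unique isLeast_coeffSpace

/-- `Rf f (cf e v) = cf e (act f v)` -/
lemma Rf_cf (f : C →ₗ[K] K) (e : V →ₗ[K] K) (v : V) :
    Rf f (cf (C := C) e v) = cf (C := C) e (act f v) :=
  ((isComodHom_iff (cf (C := C) e)).1 (isComodHom_cf e) f v).symm

/-- `Lf f (cf e v) = cf (f ∘ cf e) v` -/
lemma Lf_cf (f : C →ₗ[K] K) (e : V →ₗ[K] K) (v : V) :
    Lf f (cf (C := C) e v) = cf (C := C) (f ∘ₗ cf (C := C) e) v := by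
  rw [Lf_apply, comul_cf, cf_apply, ← LinearMap.comp_apply, ← LinearMap.rTensor_comp]

lemma isStable_coeffSpace : IsStable (coeffSpace K C V) := by
  intro f
  constructor
  · intro b hb
    unfold coeffSpace at hb
    induction hb using Submodule.iSup_induction' with
    | mem e x hx =>
      obtain ⟨v, rfl⟩ := hx
      rw [Lf_cf]
      exact cf_mem_coeffSpace _ _
    | zero => simp
    | add x y _ _ hx hy => rw [map_add]; exact Submodule.add_mem _ hx hy
  · intro b hb
    unfold coeffSpace at hb
    induction hb using Submodule.iSup_induction' with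
    | mem e x hx =>
      obtain ⟨v, rfl⟩ := hx
      rw [Rf_cf]
      exact cf_mem_coeffSpace _ _
    | zero => simp
    | add x y _ _ hx hy => rw [map_add]; exact Submodule.add_mem _ hx hy

lemma isSubcoalg_coeffSpace : IsSubcoalg (coeffSpace K C V) := isStable_coeffSpace.isSubcoalg

/-- a comodule map `ψ : V → C` into the regular comodule is `cf (ε ∘ ψ)` -/
lemma eq_cf_of_isComodHom (ψ : V →ₗ[K] C) (hψ : Hoch.IsComodHom C ψ) :
    ψ = cf (C := C) (counit (R := K) (A := C) ∘ₗ ψ) := by
  ext v
  have h1 := LinearMap.congr_fun hψ v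
  simp only [LinearMap.comp_apply] at h1
  have h2 : (TensorProduct.lid K C) (LinearMap.rTensor C counit (comul (R := K) (ψ v))) = ψ v := by
    rw [Coalgebra.rTensor_counit_comul]; simp
  rw [cf_apply, LinearMap.rTensor_comp, LinearMap.comp_apply, ← h1]
  exact h2.symm

/-- if `ψ : V → C` is an injective comodule map with image in a stable subspace `B`, then
the coefficient space of `V` lies in `B` -/
lemma coeffSpace_le_of_injective (ψ : V →ₗ[K] C) (hψ : Hoch.IsComodHom C ψ)
    (hinj : Function.Injective ψ) {B : Submodule K C} (hB : IsStable B)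
    (hle : ∀ v, ψ v ∈ B) : coeffSpace K C V ≤ B := by
  rw [coeffSpace_le_iff]
  intro e v
  obtain ⟨g, hg⟩ := LinearMap.exists_leftInverse_of_injective ψ (LinearMap.ker_eq_bot.2 hinj)
  have h1 := LinearMap.congr_fun hψ v
  simp only [LinearMap.comp_apply] at h1
  have : cf (C := C) e v = Lf (e ∘ₗ g) (ψ v) := by
    rw [Lf_apply, cf_apply]
    change _ = (TensorProduct.lid K C) (LinearMap.rTensor C (e ∘ₗ g)
      (Comod.coact (k := K) (A := C) (ψ v)))
    rw [h1, ← LinearMap.comp_apply (LinearMap.rTensor C (e ∘ₗ g)), ← LinearMap.rTensor_comp,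
      LinearMap.comp_assoc, hg, LinearMap.comp_id]
  rw [this]
  exact (hB _).1 _ (hle v)

end Coeff

end Groth.Agent.H74.Comod
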