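import Mathlib
import Groth.Agent.H74.CoeffSpace

/-!
# The coefficient space of a simple comodule is a simple subcoalgebra
-/

namespace Groth.Agent.H74.Comod

open TensorProduct Coalgebra HopfRep WithConv Groth.Agent.H74.Coalg

universe u v w w'

section Simple

variable {K : Type u} [Field K] {C : Type v} [AddCommGroup C] [Module K C] [Coalgebra K C]
variable {V : Type w} [AddCommGroup V] [Module K V] [Comod K C V]

attribute [local instance] module

/-- on the regular comodule, the action of `f` is `Rf f` -/
lemma act_regular (f : C →ₗ[K] K) (c : C) : act (V := C) f c = Rf f c := rfl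

/-- `cf e` as a linear map over the dual algebra -/
noncomputable def cfR (e : V →ₗ[K] K) : V →ₗ[Dual K C] C :=
  ofComodHom (cf (C := C) e) (isComodHom_cf e)

@[simp] lemma cfR_apply (e : V →ₗ[K] K) (v : V) : cfR (C := C) e v = cf (C := C) e v := rfl

lemma isSubcomod_of_isStable {B : Submodule K C} (hB : IsStable B) :
    IsSubcomod (k := K) (A := C) B :=
  (isSubcomod_iff B).2 (fun f b hb => (hB f).2 b hb)

/-- a stable subspace of `C` as a submodule over the dual algebra -/
def stableToSub (B : Submodule K C) (hB : IsStable B) : Submodule (Dual K C) C :=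
  ofSubcomod B (isSubcomod_of_isStable hB)

lemma mem_stableToSub {B : Submodule K C} {hB : IsStable B} {x : C} :
    x ∈ stableToSub B hB ↔ x ∈ B := Iff.rfl

lemma coeffSpaceR_eq :
    stableToSub (coeffSpace K C V) isStable_coeffSpace = ⨆ e : V →ₗ[K] K, LinearMap.range (cfR (C := C) e) := by
  apply le_antisymm
  · intro x hx
    rw [mem_stableToSub] at hx
    have : coeffSpace K C V ≤
        (⨆ e : V →ₗ[K] K, LinearMap.range (cfR (C := C) e)).restrictScalars K := by
      unfold coeffSpace
      rw [iSup_le_iff]
      rintro e _ ⟨v, rfl⟩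
      exact Submodule.mem_iSup_of_mem e ⟨v, rfl⟩
    exact this hx
  · rw [iSup_le_iff]
    rintro e _ ⟨v, rfl⟩
    exact cf_mem_coeffSpace e v

lemma cfR_ne_zero {e : V →ₗ[K] K} (he : e ≠ 0) : cfR (C := C) e ≠ 0 := by
  intro h
  apply he
  ext v
  have := counit_cf (C := C) e v
  rw [← cfR_apply, h] at this
  simpa using this.symm

variable [hV : IsSimpleModule (Dual K C) V]

lemma cfR_injective {e : V →ₗ[K] K} (he : e ≠ 0) : Function.Injective (cfR (C := C) e) :=
  LinearMap.injective_of_ne_zero (cfR_ne_zero he)

/-- a simple submodule of the coefficient space of a simple comodule `V` is isomorphic to `V` -/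
lemma nonempty_linearEquiv_of_le_coeffSpace (S : Submodule (Dual K C) C)
    [IsSimpleModule (Dual K C) S]
    (hS : S ≤ stableToSub (coeffSpace K C V) isStable_coeffSpace) :
    Nonempty (S ≃ₗ[Dual K C] V) := by
  let s : Set (Submodule (Dual K C) C) :=
    {N | ∃ e : V →ₗ[K] K, e ≠ 0 ∧ N = LinearMap.range (cfR (C := C) e)}
  have hs : ∀ m : s, IsSimpleModule (Dual K C) m := by
    rintro ⟨m, e, he, rfl⟩
    exact IsSimpleModule.congr (LinearEquiv.ofInjective _ (cfR_injective he)).symm
  have hle : S ≤ sSup s := by
    refine hS.trans ?_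
    rw [coeffSpaceR_eq, iSup_le_iff]
    intro e
    by_cases he : e = 0
    · rintro _ ⟨v, rfl⟩
      rw [he]
      have : cfR (C := C) (0 : V →ₗ[K] K) v = 0 := by
        rw [cfR_apply, cf_apply]; simp
      rw [this]; exact Submodule.zero_mem _
    · exact le_sSup ⟨e, he, rfl⟩
  obtain ⟨S', ⟨e, he, rfl⟩, ⟨φ⟩⟩ := Submodule.linearEquiv_of_le_sSup S s hle
  exact ⟨φ.trans (LinearEquiv.ofInjective _ (cfR_injective he)).symm⟩

/-- a nonzero stable subspace inside the coefficient space of a simple comodule is everything -/
theorem eq_coeffSpace_of_isStable_of_le {B : Submodule K C} (hB : IsStable B)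
    (hle : B ≤ coeffSpace K C V) (hne : B ≠ ⊥) : B = coeffSpace K C V := by
  apply le_antisymm hle
  -- `B` as a submodule
  have hleR : stableToSub B hB ≤ stableToSub (coeffSpace K C V) isStable_coeffSpace :=
    fun x hx => hle hx
  -- the coefficient space is semisimple
  have hss : IsSemisimpleModule (Dual K C)
      (stableToSub (coeffSpace K C V) isStable_coeffSpace) := by
    rw [coeffSpaceR_eq]
    have := isSemisimpleModule_biSup_of_isSemisimpleModule_submodule (R := Dual K C)
      (s := Set.univ) (p := fun e : V →ₗ[K] K => LinearMap.range (cfR (C := C) e))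
      (fun e _ => IsSemisimpleModule.range _)
    have h : (⨆ e ∈ (Set.univ : Set (V →ₗ[K] K)), LinearMap.range (cfR (C := C) e)) =
        ⨆ e : V →ₗ[K] K, LinearMap.range (cfR (C := C) e) := by simp
    rw [← h]
    exact this
  have hssB : IsSemisimpleModule (Dual K C) (stableToSub B hB) :=
    IsSemisimpleModule.of_injective (M := stableToSub (coeffSpace K C V) isStable_coeffSpace)
      (Submodule.inclusion hleR) (Submodule.inclusion_injective hleR)
  rcases IsSemisimpleModule.eq_bot_or_exists_simple_le (stableToSub B hB) with h | ⟨S, hSB, hS⟩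
  · exfalso
    apply hne
    rw [eq_bot_iff]
    intro x hx
    have : x ∈ stableToSub B hB := hx
    rw [h] at this
    exact this
  · obtain ⟨φ⟩ := nonempty_linearEquiv_of_le_coeffSpace (V := V) S (hSB.trans hleR)
    let ψ : V →ₗ[Dual K C] C := S.subtype ∘ₗ φ.symm.toLinearMap
    have hψinj : Function.Injective ψ := by
      intro x y hxy
      have : (φ.symm x : C) = φ.symm y := hxy
      exact φ.symm.injective (Subtype.ext this)
    apply coeffSpace_le_of_injective (ψ.restrictScalars K) (isComodHom_restrictScalars ψ) hψinj hB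
    intro v
    exact hSB (φ.symm v).2

end Simple

end Groth.Agent.H74.Comod
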