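import Mathlib
import Groth.Prelude.Def_HopfRep

/-!
# Decomposition of a comodule along a decomposition of the coalgebra (over a commutative ring)
-/

namespace Groth.Agent.H74.ComodDecomp

open TensorProduct Coalgebra HopfRep

universe u v w w'

section General

variable {R : Type u} [CommRing R] {C : Type v} [AddCommGroup C] [Module R C] [Coalgebra R C]
variable {V : Type w} [AddCommGroup V] [Module R V] [Comod R C V]

/-- `(id ⊗ f) ∘ Δ` -/
noncomputable def Rf (f : C →ₗ[R] R) : C →ₗ[R] C :=
  (TensorProduct.rid R C).toLinearMap ∘ₗ LinearMap.lTensor C f ∘ₗ comul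

/-- `(f ⊗ id) ∘ Δ` -/
noncomputable def Lf (f : C →ₗ[R] R) : C →ₗ[R] C :=
  (TensorProduct.lid R C).toLinearMap ∘ₗ LinearMap.rTensor C f ∘ₗ comul

/-- `v ↦ (id ⊗ f)(ρ v)` -/
noncomputable def act (f : C →ₗ[R] R) : V →ₗ[R] V :=
  (TensorProduct.rid R V).toLinearMap ∘ₗ LinearMap.lTensor V f ∘ₗ Comod.coact (k := R) (A := C)

lemma act_apply (f : C →ₗ[R] R) (v : V) :
    act f v = TensorProduct.rid R V (LinearMap.lTensor V f (Comod.coact (k := R) (A := C) v)) := rfl

lemma rTensor_coact_coact (v : V) :
    LinearMap.rTensor C (Comod.coact (k := R) (A := C)) (Comod.coact (k := R) (A := C) v) =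
      (TensorProduct.assoc R V C C).symm
        (LinearMap.lTensor V (comul (R := R) (A := C)) (Comod.coact (k := R) (A := C) v)) := by
  have hco := LinearMap.congr_fun (Comod.coassoc (k := R) (A := C) (V := V)) v
  simp only [LinearMap.comp_apply, LinearEquiv.coe_coe] at hco
  rw [← hco, LinearEquiv.symm_apply_apply]

/-- `ρ (act f v) = (id ⊗ Rf f)(ρ v)` -/
lemma coact_act (f : C →ₗ[R] R) (v : V) :
    Comod.coact (k := R) (A := C) (act f v) =
      LinearMap.lTensor V (Rf f) (Comod.coact (k := R) (A := C) v) := by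
  have h1 : ∀ t : V ⊗[R] C, Comod.coact (k := R) (A := C)
      (TensorProduct.rid R V (LinearMap.lTensor V f t)) =
      TensorProduct.rid R (V ⊗[R] C) (LinearMap.lTensor (V ⊗[R] C) f
        (LinearMap.rTensor C (Comod.coact (k := R) (A := C)) t)) := by
    intro t
    induction t with
    | zero => simp
    | tmul x c => simp
    | add x y hx hy => simp only [map_add, hx, hy]
  have h3 : ∀ (x : V) (u : C ⊗[R] C), TensorProduct.rid R (V ⊗[R] C)
      (LinearMap.lTensor (V ⊗[R] C) f ((TensorProduct.assoc R V C C).symm (x ⊗ₜ[R] u))) =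
      x ⊗ₜ[R] TensorProduct.rid R C (LinearMap.lTensor C f u) := by
    intro x u
    induction u with
    | zero => simp
    | tmul a b => simp [TensorProduct.tmul_smul]
    | add a b ha hb => simp only [TensorProduct.tmul_add, map_add, ha, hb]
  have h2 : ∀ s : V ⊗[R] C, TensorProduct.rid R (V ⊗[R] C) (LinearMap.lTensor (V ⊗[R] C) f
      ((TensorProduct.assoc R V C C).symm (LinearMap.lTensor V (comul (R := R) (A := C)) s))) =
      LinearMap.lTensor V (Rf f) s := by
    intro s
    induction s with
    | zero => simp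
    | tmul x c =>
      simp only [LinearMap.lTensor_tmul]
      rw [h3]
      rfl
    | add x y hx hy => simp only [map_add, hx, hy]
  rw [act_apply, h1, rTensor_coact_coact, h2]

/-- `(act f ⊗ id)(ρ v) = (id ⊗ Lf f)(ρ v)` -/
lemma rTensor_act_coact (f : C →ₗ[R] R) (v : V) :
    LinearMap.rTensor C (act (V := V) f) (Comod.coact (k := R) (A := C) v) =
      LinearMap.lTensor V (Lf f) (Comod.coact (k := R) (A := C) v) := by
  have h3 : ∀ (x : V) (u : C ⊗[R] C), LinearMap.rTensor C
      ((TensorProduct.rid R V).toLinearMap ∘ₗ LinearMap.lTensor V f)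
      ((TensorProduct.assoc R V C C).symm (x ⊗ₜ[R] u)) =
      x ⊗ₜ[R] TensorProduct.lid R C (LinearMap.rTensor C f u) := by
    intro x u
    induction u with
    | zero => simp
    | tmul a b => simp [TensorProduct.smul_tmul, TensorProduct.tmul_smul]
    | add a b ha hb => simp only [TensorProduct.tmul_add, map_add, ha, hb]
  have h2 : ∀ s : V ⊗[R] C, LinearMap.rTensor C
      ((TensorProduct.rid R V).toLinearMap ∘ₗ LinearMap.lTensor V f)
      ((TensorProduct.assoc R V C C).symm (LinearMap.lTensor V (comul (R := R) (A := C)) s)) =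
      LinearMap.lTensor V (Lf f) s := by
    intro s
    induction s with
    | zero => simp
    | tmul x c =>
      simp only [LinearMap.lTensor_tmul]
      rw [h3]
      rfl
    | add x y hx hy => simp only [map_add, hx, hy]
  have : act (V := V) f = ((TensorProduct.rid R V).toLinearMap ∘ₗ LinearMap.lTensor V f) ∘ₗ
      Comod.coact (k := R) (A := C) := rfl
  rw [this, LinearMap.rTensor_comp, LinearMap.comp_apply, rTensor_coact_coact, h2]

lemma act_counit (v : V) : act (V := V) (counit (R := R) (A := C)) v = v := by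
  have h := LinearMap.congr_fun (Comod.counit_comp (k := R) (A := C) (V := V)) v
  simp only [LinearMap.comp_apply, LinearMap.flip_apply, TensorProduct.mk_apply] at h
  rw [act_apply, h]
  simp

end General

section Decomp

variable {R : Type u} [CommRing R] {C : Type v} [AddCommGroup C] [Module R C] [Coalgebra R C]
variable {ι : Type w'} (D : ι → Submodule R C)

lemma isCompl_D (hind : iSupIndep D) (htop : iSup D = ⊤) (i : ι) :
    IsCompl (D i) (⨆ (j) (_ : j ≠ i), D j) := by
  constructor
  · exact (iSupIndep_def.1 hind) i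
  · rw [codisjoint_iff, ← iSup_split_single, htop]

/-- the projection of `C` onto the summand `D i` -/
noncomputable def π (hind : iSupIndep D) (htop : iSup D = ⊤) (i : ι) : C →ₗ[R] C :=
  (D i).subtype ∘ₗ Submodule.projectionOnto _ _ (isCompl_D D hind htop i)

variable {D} (hind : iSupIndep D) (htop : iSup D = ⊤)

lemma π_of_mem {i : ι} {c : C} (hc : c ∈ D i) : π D hind htop i c = c := by
  unfold π
  have := Submodule.projectionOnto_apply_of_mem_left (isCompl_D D hind htop i) hc
  simp only [LinearMap.comp_apply, Submodule.subtype_apply]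
  rw [this]

lemma π_of_mem_ne {i j : ι} (hij : j ≠ i) {c : C} (hc : c ∈ D j) : π D hind htop i c = 0 := by
  unfold π
  have hc' : c ∈ ⨆ (j) (_ : j ≠ i), D j :=
    Submodule.mem_iSup_of_mem j (Submodule.mem_iSup_of_mem hij hc)
  have := Submodule.projectionOnto_apply_of_mem_right (isCompl_D D hind htop i) hc'
  simp only [LinearMap.comp_apply, Submodule.subtype_apply]
  rw [this]; rfl

lemma π_comp_subtype_self (i : ι) : π D hind htop i ∘ₗ (D i).subtype = (D i).subtype := by
  ext x
  exact π_of_mem hind htop x.2

lemma π_comp_subtype_ne {i j : ι} (hij : j ≠ i) : π D hind htop i ∘ₗ (D j).subtype = 0 := by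
  ext x
  exact π_of_mem_ne hind htop hij x.2

variable (hD : ∀ i, ∀ d ∈ D i, comul (R := R) d ∈
      LinearMap.range (TensorProduct.map (D i).subtype (D i).subtype))

include hD in
lemma Rf_e (i : ι) : Rf (counit (R := R) (A := C) ∘ₗ π D hind htop i) = π D hind htop i := by
  classical
  ext c
  have hc : c ∈ ⨆ i, D i := by rw [htop]; exact Submodule.mem_top
  induction hc using Submodule.iSup_induction' with
  | mem j x hx =>
    obtain ⟨s, hs⟩ := hD j x hx
    change TensorProduct.rid R C (LinearMap.lTensor C (counit (R := R) (A := C) ∘ₗ π D hind htop i)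
      (comul (R := R) x)) = _
    by_cases hji : j = i
    · subst hji
      rw [π_of_mem hind htop hx, ← hs, LinearMap.lTensor_map, LinearMap.comp_assoc,
        π_comp_subtype_self, ← LinearMap.lTensor_map, hs, Coalgebra.lTensor_counit_comul]
      simp
    · rw [π_of_mem_ne hind htop hji hx, ← hs, LinearMap.lTensor_map, LinearMap.comp_assoc,
        π_comp_subtype_ne hind htop hji]
      simp
  | zero => simp
  | add x y _ _ hx hy => rw [map_add, map_add, hx, hy]

include hD in
lemma Lf_e (i : ι) : Lf (counit (R := R) (A := C) ∘ₗ π D hind htop i) = π D hind htop i := by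
  classical
  ext c
  have hc : c ∈ ⨆ i, D i := by rw [htop]; exact Submodule.mem_top
  induction hc using Submodule.iSup_induction' with
  | mem j x hx =>
    obtain ⟨s, hs⟩ := hD j x hx
    change TensorProduct.lid R C (LinearMap.rTensor C (counit (R := R) (A := C) ∘ₗ π D hind htop i)
      (comul (R := R) x)) = _
    by_cases hji : j = i
    · subst hji
      rw [π_of_mem hind htop hx, ← hs, LinearMap.rTensor_map, LinearMap.comp_assoc,
        π_comp_subtype_self, ← LinearMap.rTensor_map, hs, Coalgebra.rTensor_counit_comul]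
      simp
    · rw [π_of_mem_ne hind htop hji hx, ← hs, LinearMap.rTensor_map, LinearMap.comp_assoc,
        π_comp_subtype_ne hind htop hji]
      simp
  | zero => simp
  | add x y _ _ hx hy => rw [map_add, map_add, hx, hy]

lemma exists_finset_sum_π (c : C) :
    ∃ F₀ : Finset ι, ∀ F : Finset ι, F₀ ⊆ F → ∑ i ∈ F, π D hind htop i c = c := by
  classical
  have hc : c ∈ ⨆ i, D i := by rw [htop]; exact Submodule.mem_top
  induction hc using Submodule.iSup_induction' with
  | mem j x hx =>
    refine ⟨{j}, fun F hF => ?_⟩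
    have hj : j ∈ F := hF (Finset.mem_singleton_self j)
    rw [Finset.sum_eq_single_of_mem j hj, π_of_mem hind htop hx]
    intro b _ hb
    exact π_of_mem_ne hind htop (Ne.symm hb) hx
  | zero => exact ⟨∅, fun F _ => by simp⟩
  | add x y _ _ hx hy =>
    obtain ⟨F₁, h₁⟩ := hx
    obtain ⟨F₂, h₂⟩ := hy
    refine ⟨F₁ ∪ F₂, fun F hF => ?_⟩
    simp only [map_add, Finset.sum_add_distrib]
    rw [h₁ F (Finset.union_subset_left hF), h₂ F (Finset.union_subset_right hF)]

lemma exists_finset_sum_lTensor {V : Type w} [AddCommGroup V] [Module R V] (t : V ⊗[R] C) :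
    ∃ F₀ : Finset ι, ∀ F : Finset ι, F₀ ⊆ F →
      ∑ i ∈ F, LinearMap.lTensor V (π D hind htop i) t = t := by
  classical
  induction t with
  | zero => exact ⟨∅, fun F _ => by simp⟩
  | tmul x c =>
    obtain ⟨F₀, h₀⟩ := exists_finset_sum_π hind htop c
    refine ⟨F₀, fun F hF => ?_⟩
    simp only [LinearMap.lTensor_tmul]
    rw [← TensorProduct.tmul_sum, h₀ F hF]
  | add x y hx hy =>
    obtain ⟨F₁, h₁⟩ := hx
    obtain ⟨F₂, h₂⟩ := hy
    refine ⟨F₁ ∪ F₂, fun F hF => ?_⟩
    simp only [map_add, Finset.sum_add_distrib]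
    rw [h₁ F (Finset.union_subset_left hF), h₂ F (Finset.union_subset_right hF)]

section Main

variable {V : Type w} [AddCommGroup V] [Module R V] [Comod R C V]

/-- the isotypic piece `V_i = ρ⁻¹(V ⊗ D_i)` -/
def Vi (D : ι → Submodule R C) (V : Type w) [AddCommGroup V] [Module R V] [Comod R C V]
    (i : ι) : Submodule R V :=
  (LinearMap.range (LinearMap.lTensor V (D i).subtype)).comap
    (Comod.coact (k := R) (A := C) (V := V))

/-- the projector `p_i = act (ε ∘ π_i)` -/
noncomputable def p (i : ι) : V →ₗ[R] V :=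
  act (V := V) (counit (R := R) (A := C) ∘ₗ π D hind htop i)

include hD in
lemma coact_p (i : ι) (v : V) :
    Comod.coact (k := R) (A := C) (p hind htop i v) =
      LinearMap.lTensor V (π D hind htop i) (Comod.coact (k := R) (A := C) v) := by
  unfold p
  rw [coact_act, Rf_e hind htop hD]

include hD in
lemma rTensor_p (i : ι) (v : V) :
    LinearMap.rTensor C (p (V := V) hind htop i) (Comod.coact (k := R) (A := C) v) =
      LinearMap.lTensor V (π D hind htop i) (Comod.coact (k := R) (A := C) v) := by
  unfold p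
  rw [rTensor_act_coact, Lf_e hind htop hD]

lemma lTensor_π_mem (i : ι) (t : V ⊗[R] C) :
    LinearMap.lTensor V (π D hind htop i) t ∈
      LinearMap.range (LinearMap.lTensor V (D i).subtype) := by
  unfold π
  rw [LinearMap.lTensor_comp, LinearMap.comp_apply]
  exact ⟨_, rfl⟩

include hD in
lemma p_mem (i : ι) (v : V) : p hind htop i v ∈ Vi D V i := by
  show Comod.coact (k := R) (A := C) (p hind htop i v) ∈
    LinearMap.range (LinearMap.lTensor V (D i).subtype)
  rw [coact_p hind htop hD]
  exact lTensor_π_mem hind htop i _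

lemma p_of_mem {i : ι} {v : V} (hv : v ∈ Vi D V i) : p hind htop i v = v := by
  obtain ⟨s, hs⟩ := hv
  unfold p
  rw [act_apply, ← hs, ← LinearMap.comp_apply (LinearMap.lTensor V _), ← LinearMap.lTensor_comp,
    LinearMap.comp_assoc, π_comp_subtype_self, LinearMap.lTensor_comp, LinearMap.comp_apply, hs]
  exact act_counit v

lemma p_of_mem_ne {i j : ι} (hij : j ≠ i) {v : V} (hv : v ∈ Vi D V j) : p hind htop i v = 0 := by
  obtain ⟨s, hs⟩ := hv
  unfold p
  rw [act_apply, ← hs, ← LinearMap.comp_apply (LinearMap.lTensor V _), ← LinearMap.lTensor_comp,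
    LinearMap.comp_assoc, π_comp_subtype_ne hind htop hij]
  simp

include hind htop hD in
theorem main :
    (∀ i, IsSubcomod (k := R) (A := C) (Vi D V i)) ∧
    iSupIndep (fun i => Vi D V i) ∧
    (⨆ i, Vi D V i) = ⊤ ∧
    ∀ i, ∀ v ∈ Vi D V i, Comod.coact (k := R) (A := C) v ∈
        LinearMap.range (TensorProduct.map (Vi D V i).subtype (D i).subtype) := by
  classical
  -- `p i` corestricted to `V_i`
  let p' : ∀ i, V →ₗ[R] Vi D V i := fun i =>
    LinearMap.codRestrict (Vi D V i) (p hind htop i) (p_mem hind htop hD i)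
  have hp' : ∀ i, (Vi D V i).subtype ∘ₗ p' i = p hind htop i := fun i => by
    ext v; rfl
  -- `π i` corestricted to `D i`
  let π' : ∀ i, C →ₗ[R] D i := fun i =>
    Submodule.projectionOnto _ _ (isCompl_D D hind htop i)
  have hπ' : ∀ i, (D i).subtype ∘ₗ π' i = π D hind htop i := fun i => rfl
  have hfix : ∀ i, ∀ v ∈ Vi D V i, LinearMap.rTensor C (p (V := V) hind htop i)
      (Comod.coact (k := R) (A := C) v) = Comod.coact (k := R) (A := C) v := by
    intro i v hv
    rw [rTensor_p hind htop hD, ← coact_p hind htop hD, p_of_mem hind htop hv]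
  have hfix2 : ∀ i, ∀ v ∈ Vi D V i, LinearMap.lTensor V (π D hind htop i)
      (Comod.coact (k := R) (A := C) v) = Comod.coact (k := R) (A := C) v := by
    intro i v hv
    rw [← coact_p hind htop hD, p_of_mem hind htop hv]
  refine ⟨?_, ?_, ?_, ?_⟩
  · intro i v hv
    refine ⟨LinearMap.rTensor C (p' i) (Comod.coact (k := R) (A := C) v), ?_⟩
    rw [← LinearMap.comp_apply, ← LinearMap.rTensor_comp, hp', hfix i v hv]
  · rw [iSupIndep_def]
    intro i
    rw [Submodule.disjoint_def]
    intro x hx hx'
    have h1 : p hind htop i x = x := p_of_mem hind htop hx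
    have h2 : (⨆ (j) (_ : j ≠ i), Vi D V j) ≤ LinearMap.ker (p (V := V) hind htop i) := by
      rw [iSup_le_iff]
      intro j
      rw [iSup_le_iff]
      intro hji y hy
      exact p_of_mem_ne hind htop hji hy
    have h3 := h2 hx'
    rw [LinearMap.mem_ker, h1] at h3
    exact h3
  · rw [eq_top_iff]
    intro v _
    obtain ⟨F₀, hF₀⟩ := exists_finset_sum_lTensor hind htop (Comod.coact (k := R) (A := C) v)
    have h1 := hF₀ F₀ (Finset.Subset.refl _)
    have h2 : ∑ i ∈ F₀, p hind htop i v = v := by
      have h3 := congrArg (fun t => TensorProduct.rid R V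
        (LinearMap.lTensor V (counit (R := R) (A := C)) t)) h1
      simp only [map_sum] at h3
      have h4 : TensorProduct.rid R V (LinearMap.lTensor V (counit (R := R) (A := C))
          (Comod.coact (k := R) (A := C) v)) = v := act_counit v
      rw [h4] at h3
      have h5 : ∀ i, p hind htop i v = TensorProduct.rid R V
          (LinearMap.lTensor V (counit (R := R) (A := C))
            (LinearMap.lTensor V (π D hind htop i) (Comod.coact (k := R) (A := C) v))) := by
        intro i
        unfold p
        rw [act_apply, LinearMap.lTensor_comp, LinearMap.comp_apply]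
      simp only [h5]
      exact h3
    rw [← h2]
    exact Submodule.sum_mem _ (fun i _ =>
      Submodule.mem_iSup_of_mem i (p_mem hind htop hD i v))
  · intro i v hv
    refine ⟨TensorProduct.map (p' i) (π' i) (Comod.coact (k := R) (A := C) v), ?_⟩
    rw [← LinearMap.comp_apply, ← TensorProduct.map_comp, hp', hπ',
      ← LinearMap.rTensor_comp_lTensor, LinearMap.comp_apply, hfix2 i v hv, hfix i v hv]

end Main

end Decomp

end Groth.Agent.H74.ComodDecomp
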