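import Groth.Agent.H74.LabIndex

/-!
# Index computations for the component lattice lemmas (helper74)
-/

open Finset Matrix

namespace Groth.Agent.H74.CompLat

open Groth.Agent.H74.LabIndex

variable {n : ℕ}

/-- the sum of the coordinates -/
noncomputable abbrev Sl (n : ℕ) : (Fin n → ℤ) →ₗ[ℤ] ℤ :=
  ∑ i : Fin n, (LinearMap.proj i : (Fin n → ℤ) →ₗ[ℤ] ℤ)

theorem Sl_apply (y : Fin n → ℤ) : Sl n y = ∑ i, y i := by
  simp [Sl, LinearMap.sum_apply]

theorem card_quot_comap {M : Type*} [AddCommGroup M] (K R : Submodule ℤ M) :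
    Nat.card (↥K ⧸ R.comap K.subtype) = R.toAddSubgroup.relIndex K.toAddSubgroup := rfl

/-- The main index identity: for a subgroup `R ≤ ker (S D)`,
`[ker (S D) : R] · |det D| = d · [ker S : D R]`. -/
theorem relIndex_mul_det (hn : 0 < n) (δ : Fin n → ℤ) (hδ : ∀ i, δ i ≠ 0)
    (R : AddSubgroup (Fin n → ℤ))
    (hR : R ≤ (LinearMap.ker ((Sl n) ∘ₗ (Matrix.mulVecLin (Matrix.diagonal δ)))).toAddSubgroup) :
    R.relIndex (LinearMap.ker ((Sl n) ∘ₗ (Matrix.mulVecLin (Matrix.diagonal δ)))).toAddSubgroup *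
        (∏ i, δ i).natAbs =
      (Finset.univ.gcd δ).natAbs *
        (R.map (Matrix.mulVecLin (Matrix.diagonal δ)).toAddMonoidHom).relIndex
          (LinearMap.ker (Sl n)).toAddSubgroup := by
  classical
  set Dl := Matrix.mulVecLin (Matrix.diagonal δ) with hDl
  set Dh : (Fin n → ℤ) →+ (Fin n → ℤ) := Dl.toAddMonoidHom with hDh
  have hDapp : ∀ y i, Dh y i = δ i * y i := by
    intro y i
    simp [hDh, hDl, Matrix.mulVec_diagonal]
  have hDinj : Function.Injective Dh := by
    rw [injective_iff_map_eq_zero]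
    intro y hy
    funext i
    have := congrFun hy i
    rw [hDapp] at this
    rcases mul_eq_zero.mp this with h | h
    · exact absurd h (hδ i)
    · exact h
  set K₂ := (LinearMap.ker (Sl n)).toAddSubgroup with hK₂
  set K₁ := (LinearMap.ker ((Sl n) ∘ₗ Dl)).toAddSubgroup with hK₁
  have hK₁comap : K₁ = K₂.comap Dh := by
    ext y
    simp only [hK₁, hK₂, Submodule.mem_toAddSubgroup, LinearMap.mem_ker, LinearMap.comp_apply,
      AddSubgroup.mem_comap]
    rfl
  have hmapK₁ : K₁.map Dh = Dh.range ⊓ K₂ := by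
    rw [hK₁comap, AddSubgroup.map_comap_eq]
  -- step 1
  have h1 : (R.map Dh).relIndex K₂ = R.relIndex K₁ * Dh.range.relIndex K₂ := by
    have hle1 : R.map Dh ≤ K₁.map Dh := AddSubgroup.map_mono hR
    have hle2 : K₁.map Dh ≤ K₂ := by rw [hmapK₁]; exact inf_le_right
    rw [← AddSubgroup.relIndex_mul_relIndex _ _ _ hle1 hle2,
      AddSubgroup.relIndex_map_map_of_injective _ _ hDinj, hmapK₁,
      AddSubgroup.inf_relIndex_right]
  -- step 2: the index of `K₂ ⊔ range D`
  set dn := (Finset.univ.gcd δ).natAbs with hdn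
  have hgnn : 0 ≤ Finset.univ.gcd δ := Int.nonneg_of_normalize_eq_self Finset.normalize_gcd
  have hdncast : (dn : ℤ) = Finset.univ.gcd δ := Int.natAbs_of_nonneg hgnn
  let q : (Fin n → ℤ) →+ ZMod dn := (Int.castAddHom (ZMod dn)).comp (Sl n).toAddMonoidHom
  have hqapp : ∀ y, q y = ((∑ i, y i : ℤ) : ZMod dn) := by
    intro y
    simp [q]
  have hq : Function.Surjective q := by
    intro a
    obtain ⟨k, rfl⟩ := ZMod.intCast_surjective a
    refine ⟨Pi.single ⟨0, hn⟩ k, ?_⟩
    rw [hqapp, Finset.sum_pi_single']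
    simp
  have hsup : K₂ ⊔ Dh.range = q.ker := by
    apply le_antisymm
    · refine sup_le ?_ ?_
      · intro y hy
        rw [AddMonoidHom.mem_ker, hqapp]
        have : ∑ i, y i = 0 := by
          have := hy
          simp only [hK₂, Submodule.mem_toAddSubgroup, LinearMap.mem_ker, Sl_apply] at this
          exact this
        rw [this]; simp
      · rintro _ ⟨y, rfl⟩
        rw [AddMonoidHom.mem_ker, hqapp]
        simp_rw [hDapp]
        rw [ZMod.intCast_zmod_eq_zero_iff_dvd, hdncast]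
        exact Finset.dvd_sum fun i _ => Dvd.dvd.mul_right (Finset.gcd_dvd (Finset.mem_univ i)) _
    · intro y hy
      rw [AddMonoidHom.mem_ker, hqapp, ZMod.intCast_zmod_eq_zero_iff_dvd, hdncast] at hy
      obtain ⟨t, ht⟩ := hy
      obtain ⟨g, hg⟩ := Finset.gcd_eq_sum_mul (Finset.univ : Finset (Fin n)) δ
      rw [AddSubgroup.mem_sup]
      refine ⟨y - Dh (t • g), ?_, Dh (t • g), ⟨_, rfl⟩, by abel⟩
      simp only [hK₂, Submodule.mem_toAddSubgroup, LinearMap.mem_ker, Sl_apply, Pi.sub_apply,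
        Finset.sum_sub_distrib, hDapp, Pi.smul_apply, smul_eq_mul]
      rw [ht, hg, Finset.sum_mul, sub_eq_zero]
      exact Finset.sum_congr rfl fun i _ => by ring
  have h2 : (K₂ ⊔ Dh.range).index = dn := by
    rw [hsup, index_ker_of_surjective_zmod dn q hq]
  -- step 3: the determinant
  have hdet : (Matrix.diagonal δ).det ≠ 0 := by
    rw [Matrix.det_diagonal]
    exact Finset.prod_ne_zero_iff.mpr fun i _ => hδ i
  have h3 : Dh.range.index = (∏ i, δ i).natAbs := by
    have := index_range_mulVecLin (Matrix.diagonal δ) hdet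
    rw [Matrix.det_diagonal, LinearMap.range_toAddSubgroup] at this
    exact this
  have h4 : Dh.range.relIndex K₂ * dn = (∏ i, δ i).natAbs := by
    rw [← h3, ← AddSubgroup.relIndex_mul_index (le_sup_right : Dh.range ≤ K₂ ⊔ Dh.range), h2,
      AddSubgroup.relIndex_sup_right]
  rw [h1, ← h4]
  ring


/-- The kernel of a rank `n - 1` integer matrix killing `δ'` is generated by the primitive part of
`δ'`. -/
theorem ker_eq_zmultiples (hn : 0 < n) (δ' : Fin n → ℤ) (hδ' : ∀ i, δ' i ≠ 0)
    (A : Matrix (Fin n) (Fin n) ℤ) (hA : A.rank = n - 1) (hAδ' : A *ᵥ δ' = 0) :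
    (Matrix.mulVecLin A).toAddMonoidHom.ker =
      AddSubgroup.zmultiples (fun i => δ' i / Finset.univ.gcd δ') := by
  classical
  set d := Finset.univ.gcd δ' with hd
  have hdvd : ∀ i, d ∣ δ' i := fun i => Finset.gcd_dvd (Finset.mem_univ i)
  have hd0 : d ≠ 0 := by
    intro h
    exact hδ' ⟨0, hn⟩ ((Finset.gcd_eq_zero_iff.mp h) _ (Finset.mem_univ _))
  set u : Fin n → ℤ := fun i => δ' i / d with hu
  have hdu : ∀ i, δ' i = d * u i := fun i => (Int.mul_ediv_cancel' (hdvd i)).symm
  have hδ'u : δ' = d • u := by funext i; simp [hdu i]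
  have hAu : A *ᵥ u = 0 := by
    have : d • (A *ᵥ u) = 0 := by rw [← Matrix.mulVec_smul, ← hδ'u, hAδ']
    rcases smul_eq_zero.mp this with h | h
    · exact absurd h hd0
    · exact h
  -- Bezout for `u`
  obtain ⟨g, hg⟩ := Finset.gcd_eq_sum_mul (Finset.univ : Finset (Fin n)) δ'
  have hbez : ∑ i, u i * g i = 1 := by
    have : d * ∑ i, u i * g i = d * 1 := by
      rw [mul_one, Finset.mul_sum]
      conv_rhs => rw [hd, hg]
      exact Finset.sum_congr rfl fun i _ => by rw [hdu i]; ring
    exact mul_left_cancel₀ hd0 this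
  -- the kernel has rank one
  have hfin : Module.finrank ℤ (LinearMap.ker (Matrix.mulVecLin A)) = 1 := by
    have h1 := (LinearMap.ker (Matrix.mulVecLin A)).finrank_quotient_add_finrank
    rw [LinearEquiv.finrank_eq (Matrix.mulVecLin A).quotKerEquivRange] at h1
    have h2 : Module.finrank ℤ (LinearMap.range (Matrix.mulVecLin A)) = n - 1 := hA
    rw [h2, Module.finrank_pi, Fintype.card_fin] at h1
    omega
  ext y
  rw [AddMonoidHom.mem_ker, AddSubgroup.mem_zmultiples_iff]
  constructor
  · intro hy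
    have hyk : y ∈ LinearMap.ker (Matrix.mulVecLin A) := hy
    have hδk : δ' ∈ LinearMap.ker (Matrix.mulVecLin A) := hAδ'
    -- `y` and `δ'` are linearly dependent
    have hdep : ¬ LinearIndependent ℤ
        ![(⟨y, hyk⟩ : LinearMap.ker (Matrix.mulVecLin A)), ⟨δ', hδk⟩] := by
      intro hli
      have := hli.fintype_card_le_finrank
      rw [hfin] at this
      simp at this
    rw [Fintype.not_linearIndependent_iff] at hdep
    obtain ⟨c, hc, hne⟩ := hdep
    rw [Fin.sum_univ_two] at hc
    have hc' : c 0 • y + c 1 • δ' = 0 := by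
      have := congrArg Subtype.val hc
      simpa using this
    have ha : c 0 ≠ 0 := by
      intro h0
      obtain ⟨j, hj⟩ := hne
      have hj1 : c 1 ≠ 0 := by
        fin_cases j
        · exact absurd h0 hj
        · exact hj
      rw [h0, zero_smul, zero_add] at hc'
      have := congrFun hc' ⟨0, hn⟩
      simp only [Pi.smul_apply, smul_eq_mul, Pi.zero_apply] at this
      rcases mul_eq_zero.mp this with h | h
      · exact hj1 h
      · exact hδ' _ h
    -- now conclude
    set t := ∑ i, y i * g i with ht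
    have hcomp : ∀ i, c 0 * y i = -(c 1 * d) * u i := by
      intro i
      have := congrFun hc' i
      simp only [Pi.add_apply, Pi.smul_apply, smul_eq_mul, Pi.zero_apply, hdu i] at this
      linarith
    have hat : c 0 * t = -(c 1 * d) := by
      rw [ht, Finset.mul_sum]
      calc ∑ i, c 0 * (y i * g i) = ∑ i, (-(c 1 * d)) * (u i * g i) := by
            refine Finset.sum_congr rfl fun i _ => ?_
            rw [← mul_assoc, hcomp i]; ring
        _ = -(c 1 * d) := by rw [← Finset.mul_sum, hbez, mul_one]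
    refine ⟨t, ?_⟩
    funext i
    simp only [Pi.smul_apply, smul_eq_mul]
    have : c 0 * (t * u i) = c 0 * y i := by
      rw [hcomp i, ← mul_assoc, hat]
    exact mul_left_cancel₀ ha this
  · rintro ⟨k, rfl⟩
    change A *ᵥ (k • u) = 0
    rw [Matrix.mulVec_smul, hAu, smul_zero]


/-- `[K : A D' M] · d' = [K : A M] · |det D'|`. -/
theorem relIndex_range_comp_diag (hn : 0 < n) (δ' : Fin n → ℤ) (hδ' : ∀ i, δ' i ≠ 0)
    (A : Matrix (Fin n) (Fin n) ℤ) (hA : A.rank = n - 1) (hAδ' : A *ᵥ δ' = 0)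
    (K : AddSubgroup (Fin n → ℤ))
    (hK : (LinearMap.range (Matrix.mulVecLin A)).toAddSubgroup ≤ K) :
    (LinearMap.range ((Matrix.mulVecLin A) ∘ₗ
        (Matrix.mulVecLin (Matrix.diagonal δ')))).toAddSubgroup.relIndex K *
        (Finset.univ.gcd δ').natAbs =
      (LinearMap.range (Matrix.mulVecLin A)).toAddSubgroup.relIndex K * (∏ i, δ' i).natAbs := by
  classical
  set Ah : (Fin n → ℤ) →+ (Fin n → ℤ) := (Matrix.mulVecLin A).toAddMonoidHom with hAh
  set Dh : (Fin n → ℤ) →+ (Fin n → ℤ) :=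
    (Matrix.mulVecLin (Matrix.diagonal δ')).toAddMonoidHom with hDh
  have hDapp : ∀ y i, Dh y i = δ' i * y i := by
    intro y i
    simp [hDh, Matrix.mulVec_diagonal]
  set d := Finset.univ.gcd δ' with hd
  have hdvd : ∀ i, d ∣ δ' i := fun i => Finset.gcd_dvd (Finset.mem_univ i)
  have hd0 : d ≠ 0 := by
    intro h
    exact hδ' ⟨0, hn⟩ ((Finset.gcd_eq_zero_iff.mp h) _ (Finset.mem_univ _))
  set u : Fin n → ℤ := fun i => δ' i / d with hu
  have hdu : ∀ i, δ' i = d * u i := fun i => (Int.mul_ediv_cancel' (hdvd i)).symm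
  have hu0 : ∀ i, u i ≠ 0 := by
    intro i h
    have := hdu i
    rw [h, mul_zero] at this
    exact hδ' i this
  have hker : Ah.ker = AddSubgroup.zmultiples u := ker_eq_zmultiples hn δ' hδ' A hA hAδ'
  -- the two ranges as images
  have hR' : (LinearMap.range ((Matrix.mulVecLin A) ∘ₗ
      (Matrix.mulVecLin (Matrix.diagonal δ')))).toAddSubgroup = Dh.range.map Ah := by
    ext x
    simp only [Submodule.mem_toAddSubgroup, LinearMap.mem_range, LinearMap.comp_apply,
      AddSubgroup.mem_map, AddMonoidHom.mem_range]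
    constructor
    · rintro ⟨y, rfl⟩; exact ⟨_, ⟨y, rfl⟩, rfl⟩
    · rintro ⟨_, ⟨y, rfl⟩, rfl⟩; exact ⟨y, rfl⟩
  have hRA : (LinearMap.range (Matrix.mulVecLin A)).toAddSubgroup = (⊤ : AddSubgroup _).map Ah := by
    rw [LinearMap.range_toAddSubgroup, AddMonoidHom.range_eq_map]
  rw [hRA] at hK
  rw [hR', hRA]
  have hle : Dh.range.map Ah ≤ (⊤ : AddSubgroup _).map Ah := AddSubgroup.map_mono le_top
  -- `[A M : A D' M] = [M : D' M + ker A]`
  have h1 : (Dh.range.map Ah).relIndex ((⊤ : AddSubgroup _).map Ah) = (Dh.range ⊔ Ah.ker).index := by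
    rw [AddSubgroup.relIndex_map_map, top_sup_eq, AddSubgroup.relIndex_top_right]
  -- `[D'M + ker A : D'M] = d'`
  have h2 : Dh.range.relIndex (Dh.range ⊔ Ah.ker) = d.natAbs := by
    rw [AddSubgroup.relIndex_sup_left, hker]
    let φ : ℤ →+ (Fin n → ℤ) := zmultiplesHom _ u
    have hφ : ∀ k : ℤ, φ k = k • u := fun k => rfl
    have hrange : AddSubgroup.zmultiples u = (⊤ : AddSubgroup ℤ).map φ := by
      rw [← AddMonoidHom.range_eq_map]
      ext x
      simp only [AddSubgroup.mem_zmultiples_iff, AddMonoidHom.mem_range, hφ]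
    rw [hrange, ← AddSubgroup.relIndex_comap, AddSubgroup.relIndex_top_right]
    have hcomap : Dh.range.comap φ = AddSubgroup.zmultiples d := by
      ext k
      simp only [AddSubgroup.mem_comap, AddMonoidHom.mem_range, hφ,
        AddSubgroup.mem_zmultiples_iff]
      constructor
      · rintro ⟨y, hy⟩
        have := congrFun hy ⟨0, hn⟩
        rw [hDapp, hdu] at this
        simp only [Pi.smul_apply, smul_eq_mul] at this
        -- d * u₀ * y₀ = k * u₀
        refine ⟨y ⟨0, hn⟩, ?_⟩
        have h3 : u ⟨0, hn⟩ * (d * y ⟨0, hn⟩) = u ⟨0, hn⟩ * k := by linarith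
        have := mul_left_cancel₀ (hu0 _) h3
        simp only [smul_eq_mul]
        linarith
      · rintro ⟨t, rfl⟩
        refine ⟨fun _ => t, ?_⟩
        funext i
        rw [hDapp, hdu i]
        simp only [Pi.smul_apply, smul_eq_mul]
        ring
    rw [hcomap, Int.index_zmultiples]
  -- the determinant
  have hdet : (Matrix.diagonal δ').det ≠ 0 := by
    rw [Matrix.det_diagonal]
    exact Finset.prod_ne_zero_iff.mpr fun i _ => hδ' i
  have h3 : Dh.range.index = (∏ i, δ' i).natAbs := by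
    have := index_range_mulVecLin (Matrix.diagonal δ') hdet
    rw [Matrix.det_diagonal, LinearMap.range_toAddSubgroup] at this
    exact this
  have h4 : d.natAbs * (Dh.range ⊔ Ah.ker).index = (∏ i, δ' i).natAbs := by
    rw [← h3, ← h2]
    exact AddSubgroup.relIndex_mul_index le_sup_left
  rw [← AddSubgroup.relIndex_mul_relIndex _ _ _ hle hK, h1, ← h4]
  ring

end Groth.Agent.H74.CompLat
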