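import Mathlib
import Groth.Agent.H74.CoeffSimple
import Groth.Agent.S8220

/-!
# Simple subcoalgebras: finite-dimensionality, simple subcomodules, coefficient hull
-/

namespace Groth.Agent.H74.Comod

open TensorProduct Coalgebra HopfRep WithConv Groth.Agent.H74.Coalg

universe u v w w'

section

variable {K : Type u} [Field K] {C : Type v} [AddCommGroup C] [Module K C] [Coalgebra K C]

omit [Coalgebra K C] in
lemma mem_range_map_of_mem (E D : Submodule K C) {t : C ⊗[K] C}
    (h1 : t ∈ LinearMap.range (LinearMap.rTensor C E.subtype))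
    (h2 : t ∈ LinearMap.range (LinearMap.lTensor C D.subtype)) :
    t ∈ LinearMap.range (TensorProduct.map E.subtype D.subtype) := by
  obtain ⟨p, hp⟩ := LinearMap.exists_leftInverse_of_injective E.subtype (by simp)
  obtain ⟨q, hq⟩ := LinearMap.exists_leftInverse_of_injective D.subtype (by simp)
  obtain ⟨s1, hs1⟩ := h1
  obtain ⟨s2, hs2⟩ := h2
  have e1 : LinearMap.rTensor C (E.subtype ∘ₗ p) t = t := by
    rw [← hs1, ← LinearMap.comp_apply, ← LinearMap.rTensor_comp, LinearMap.comp_assoc, hp,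
      LinearMap.comp_id]
  have e2 : LinearMap.lTensor C (D.subtype ∘ₗ q) t = t := by
    rw [← hs2, ← LinearMap.comp_apply, ← LinearMap.lTensor_comp, LinearMap.comp_assoc, hq,
      LinearMap.comp_id]
  refine ⟨TensorProduct.map p q t, ?_⟩
  rw [← LinearMap.comp_apply, ← TensorProduct.map_comp]
  have : TensorProduct.map (E.subtype ∘ₗ p) (D.subtype ∘ₗ q) t =
      LinearMap.rTensor C (E.subtype ∘ₗ p) (LinearMap.lTensor C (D.subtype ∘ₗ q) t) := by
    rw [← LinearMap.comp_apply, LinearMap.rTensor_comp_lTensor]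
  rw [this, e2, e1]

/-- the definition of a simple subcoalgebra used in the frozen statements -/
def IsSimpleSub (D : Submodule K C) : Prop :=
  D ≠ ⊥ ∧ IsSubcoalg D ∧ ∀ B : Submodule K C, B ≤ D → IsSubcoalg B → B = ⊥ ∨ B = D

lemma IsSimpleSub.finite {D : Submodule K C} (hD : IsSimpleSub D) : Module.Finite K D := by
  obtain ⟨hD0, hDc, hDs⟩ := hD
  obtain ⟨d, hd, hd0⟩ := Submodule.exists_mem_ne_zero_of_ne_bot hD0
  obtain ⟨B, hfin, hsub, hB⟩ := Groth.Agent.S8220.result (k := K) (A := C) {d}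
  have hdB : d ∈ B := hsub (by simp)
  have hinf : IsSubcoalg (B ⊓ D) :=
    ((IsSubcoalg.isStable hB).inf (IsSubcoalg.isStable hDc)).isSubcoalg
  rcases hDs _ inf_le_right hinf with h | h
  · exfalso
    have : d ∈ B ⊓ D := ⟨hdB, hd⟩
    rw [h, Submodule.mem_bot] at this
    exact hd0 this
  · have hle : D ≤ B := by rw [← h]; exact inf_le_left
    exact Submodule.finiteDimensional_of_le hle

/-- the span of all `Lf g x`, `x ∈ E` -/
noncomputable def lfHull (E : Submodule K C) : Submodule K C :=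
  ⨆ g : C →ₗ[K] K, E.map (Lf g)

lemma Lf_mem_lfHull (E : Submodule K C) (g : C →ₗ[K] K) {x : C} (hx : x ∈ E) :
    Lf g x ∈ lfHull E :=
  Submodule.mem_iSup_of_mem g (Submodule.mem_map_of_mem hx)

lemma lfHull_le_iff (E D : Submodule K C) :
    lfHull E ≤ D ↔ ∀ (g : C →ₗ[K] K), ∀ x ∈ E, Lf g x ∈ D := by
  unfold lfHull
  rw [iSup_le_iff]
  constructor
  · intro h g x hx
    exact h g (Submodule.mem_map_of_mem hx)
  · rintro h g _ ⟨x, hx, rfl⟩
    exact h g x hx

lemma Lf_counit (x : C) : Lf (counit (R := K) (A := C)) x = x := by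
  rw [Lf_apply, Coalgebra.rTensor_counit_comul]; simp

lemma le_lfHull (E : Submodule K C) : E ≤ lfHull E := by
  intro x hx
  rw [← Lf_counit (K := K) x]
  exact Lf_mem_lfHull E _ hx

/-- `Lf` as a coefficient map of the regular comodule -/
lemma Lf_eq_cf (g : C →ₗ[K] K) (x : C) : Lf g x = cf (C := C) (V := C) g x := rfl

lemma isStable_lfHull {E : Submodule K C} (hE : IsSubcomod (k := K) (A := C) E) :
    IsStable (lfHull E) := by
  intro f
  constructor
  · intro b hb
    unfold lfHull at hb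
    induction hb using Submodule.iSup_induction' with
    | mem g y hy =>
      obtain ⟨x, hx, rfl⟩ := hy
      rw [Lf_eq_cf g x, Lf_cf]
      exact Lf_mem_lfHull E _ hx
    | zero => simp
    | add x y _ _ hx hy => rw [map_add]; exact Submodule.add_mem _ hx hy
  · intro b hb
    unfold lfHull at hb
    induction hb using Submodule.iSup_induction' with
    | mem g y hy =>
      obtain ⟨x, hx, rfl⟩ := hy
      rw [Lf_eq_cf g x, Rf_cf]
      exact Lf_mem_lfHull E _ ((isSubcomod_iff E).1 hE f x hx)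
    | zero => simp
    | add x y _ _ hx hy => rw [map_add]; exact Submodule.add_mem _ hx hy

/-- `Δ x ∈ C ⊗ D` iff all `Lf g x ∈ D` -/
lemma comul_mem_lTensor_iff (D : Submodule K C) (x : C) :
    comul (R := K) x ∈ LinearMap.range (LinearMap.lTensor C D.subtype) ↔
      ∀ g : C →ₗ[K] K, Lf g x ∈ D :=
  coact_mem_iff (V := C) D x

/-- a finite-dimensional nonzero stable subspace contains a minimal nonzero subcomodule -/
lemma exists_minimal_subcomod {D : Submodule K C} (hD : IsStable D) (hD0 : D ≠ ⊥)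
    [Module.Finite K D] :
    ∃ E : Submodule K C, E ≤ D ∧ E ≠ ⊥ ∧ IsSubcomod (k := K) (A := C) E ∧
      ∀ E' : Submodule K C, E' ≤ E → IsSubcomod (k := K) (A := C) E' → E' = ⊥ ∨ E' = E := by
  let P : Set (Submodule K C) := {E | E ≠ ⊥ ∧ IsSubcomod (k := K) (A := C) E ∧ E ≤ D}
  have hPne : P.Nonempty := ⟨D, hD0, isSubcomod_of_isStable hD, le_rfl⟩
  obtain ⟨E, ⟨hE0, hEs, hED⟩, hmin⟩ :=
    WellFounded.has_min (InvImage.wf (fun N : Submodule K C => Module.finrank K N)
      (wellFounded_lt (α := ℕ))) P hPne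
  refine ⟨E, hED, hE0, hEs, ?_⟩
  intro E' hE'E hE's
  by_cases h0 : E' = ⊥
  · exact Or.inl h0
  · right
    have hnot := hmin E' ⟨h0, hE's, hE'E.trans hED⟩
    simp only [InvImage, not_lt] at hnot
    haveI : Module.Finite K E := Submodule.finiteDimensional_of_le hED
    exact Submodule.eq_of_le_of_finrank_le hE'E hnot

end

end Groth.Agent.H74.Comod
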