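import Mathlib
import Groth.Agent.H74.SimpleSubcoalg
import Groth.Agent.H74.SubComod

/-!
# A coalgebra is simple iff it is isotypic as a comodule over itself
-/

namespace Groth.Agent.H74.Comod

open TensorProduct Coalgebra HopfRep WithConv Groth.Agent.H74.Coalg

universe u v w w'

section

variable {K : Type u} [Field K] {C : Type v} [AddCommGroup C] [Module K C] [Coalgebra K C]

attribute [local instance] module

/-- the coefficient space of a nonzero comodule is nonzero -/
lemma coeffSpace_ne_bot {V : Type w} [AddCommGroup V] [Module K V] [Comod K C V] [Nontrivial V] :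
    coeffSpace K C V ≠ ⊥ := by
  obtain ⟨e, he⟩ := exists_ne (0 : V)
  have : ¬ ∀ φ : Module.Dual K V, φ e = 0 := by
    rw [Module.forall_dual_apply_eq_zero_iff]; exact he
  push Not at this
  obtain ⟨φ, hφ⟩ := this
  intro hbot
  have hmem := cf_mem_coeffSpace (C := C) φ e
  rw [hbot, Submodule.mem_bot] at hmem
  have := counit_cf (C := C) φ e
  rw [hmem, map_zero] at this
  exact hφ this.symm

/-- a minimal subcomodule is a simple comodule for the restricted coaction -/
lemma isSimpleComod_sub {V : Type w} [AddCommGroup V] [Module K V] [Comod K C V]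
    (U : Submodule K V) (hU : IsSubcomod (k := K) (A := C) U) (hU0 : U ≠ ⊥)
    (hmin : ∀ U' : Submodule K V, U' ≤ U → IsSubcomod (k := K) (A := C) U' → U' = ⊥ ∨ U' = U) :
    letI := subComod U hU
    IsSimpleComod K C U := by
  letI := subComod U hU
  refine ⟨(Submodule.nontrivial_iff_ne_bot).2 hU0, ?_⟩
  intro W hW
  have hW' : IsSubcomod (k := K) (A := C) (W.map U.subtype) := by
    rw [isSubcomod_iff]
    rintro f _ ⟨w, hw, rfl⟩
    have h1 := (isComodHom_iff (C := C) U.subtype).1 (isComodHom_subtype U hU) f w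
    rw [← h1]
    exact Submodule.mem_map_of_mem ((isSubcomod_iff W).1 hW f w hw)
  rcases hmin _ (Submodule.map_subtype_le U W) hW' with h | h
  · left
    rw [eq_bot_iff]
    intro w hw
    have : (w : V) ∈ W.map U.subtype := Submodule.mem_map_of_mem hw
    rw [h, Submodule.mem_bot] at this
    exact (Submodule.mem_bot _).2 (Subtype.ext this)
  · right
    rw [eq_top_iff]
    intro x _
    have : (x : V) ∈ W.map U.subtype := by rw [h]; exact x.2
    obtain ⟨w, hw, hwx⟩ := this
    have : w = x := Subtype.ext hwx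
    rw [← this]; exact hw

theorem isotypic_of_simple [Nontrivial C]
    (h : ∀ B : Submodule K C, IsSubcoalg B → B = ⊥ ∨ B = ⊤) :
    ∃ (E : Type v) (_ : AddCommGroup E) (_ : Module K E) (_ : HopfRep.Comod K C E),
      HopfRep.IsSimpleComod K C E ∧
      ∃ (ι : Type v) (f : ι → (E →ₗ[K] C)),
        (∀ i, Hoch.IsComodHom C (f i) ∧ Function.Injective (f i)) ∧
        iSupIndep (fun i => LinearMap.range (f i)) ∧ (⨆ i, LinearMap.range (f i)) = ⊤ := by
  classical
  have htop : IsSimpleSub (⊤ : Submodule K C) :=
    ⟨top_ne_bot, isStable_top.isSubcoalg, fun B _ hB => h B hB⟩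
  haveI := htop.finite
  obtain ⟨E₀, -, hE0, hEs, hEmin⟩ :=
    exists_minimal_subcomod (isStable_top (K := K) (C := C)) top_ne_bot
  letI : Comod K C E₀ := subComod E₀ hEs
  have hsimple : IsSimpleComod K C E₀ := isSimpleComod_sub E₀ hEs hE0 hEmin
  refine ⟨E₀, inferInstance, inferInstance, inferInstance, hsimple, ?_⟩
  haveI : IsSimpleModule (Dual K C) E₀ := isSimpleComod_iff.1 hsimple
  haveI : Nontrivial E₀ := hsimple.1
  -- the coefficient space is everything
  have hcoeff : coeffSpace K C E₀ = ⊤ := by
    rcases h _ (isSubcoalg_coeffSpace (K := K) (C := C) (V := E₀)) with h1 | h1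
    · exact absurd h1 coeffSpace_ne_bot
    · exact h1
  have hcoeffR : stableToSub (coeffSpace K C E₀) isStable_coeffSpace = ⊤ := by
    rw [eq_top_iff]
    intro x _
    rw [mem_stableToSub, hcoeff]
    exact Submodule.mem_top
  -- `C` is a semisimple module
  haveI hss : IsSemisimpleModule (Dual K C) C := by
    apply isSemisimpleModule_of_isSemisimpleModule_submodule'
      (p := fun e : E₀ →ₗ[K] K => LinearMap.range (cfR (C := C) e))
      (fun e => IsSemisimpleModule.range _)
    rw [← coeffSpaceR_eq, hcoeffR]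
  obtain ⟨s, hsind, hssup, hssimple⟩ :=
    IsSemisimpleModule.exists_sSupIndep_sSup_simples_eq_top (Dual K C) C
  have hiso : ∀ m : s, Nonempty (m.1 ≃ₗ[Dual K C] E₀) := by
    intro m
    haveI := hssimple m.1 m.2
    apply nonempty_linearEquiv_of_le_coeffSpace (V := E₀) m.1
    rw [hcoeffR]
    exact le_top
  let φ : ∀ m : s, m.1 ≃ₗ[Dual K C] E₀ := fun m => (hiso m).some
  let F : s → (E₀ →ₗ[Dual K C] C) := fun m => m.1.subtype ∘ₗ (φ m).symm.toLinearMap
  have hrange : ∀ m : s, LinearMap.range ((F m).restrictScalars K) = m.1.restrictScalars K := by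
    intro m
    ext x
    constructor
    · rintro ⟨e, rfl⟩
      exact ((φ m).symm e).2
    · intro hx
      exact ⟨φ m ⟨x, hx⟩, by simp [F]⟩
  refine ⟨s, fun m => (F m).restrictScalars K, ?_, ?_, ?_⟩
  · intro m
    refine ⟨isComodHom_restrictScalars (F m), ?_⟩
    intro x y hxy
    have : ((φ m).symm x : C) = (φ m).symm y := hxy
    exact (φ m).symm.injective (Subtype.ext this)
  · simp only [hrange]
    have h1 : iSupIndep (fun m : s => m.1) := (sSupIndep_iff s).1 hsind
    rw [iSupIndep_def] at h1 ⊢
    intro m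
    have h2 := h1 m
    rw [disjoint_iff] at h2 ⊢
    have h3 := congrArg (Submodule.restrictScalars K) h2
    simpa only [Submodule.restrictScalars_inf, Submodule.restrictScalars_iSup,
      Submodule.restrictScalars_bot] using h3
  · simp only [hrange]
    rw [sSup_eq_iSup'] at hssup
    have h3 := congrArg (Submodule.restrictScalars K) hssup
    simpa only [Submodule.restrictScalars_iSup, Submodule.restrictScalars_top] using h3

theorem simple_of_isotypic
    (E : Type v) [AddCommGroup E] [Module K E] [HopfRep.Comod K C E]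
    (hE : HopfRep.IsSimpleComod K C E) (ι : Type v) (f : ι → (E →ₗ[K] C))
    (hf : ∀ i, Hoch.IsComodHom C (f i) ∧ Function.Injective (f i))
    (hsup : (⨆ i, LinearMap.range (f i)) = ⊤)
    (B : Submodule K C) (hB : IsSubcoalg B) : B = ⊥ ∨ B = ⊤ := by
  classical
  by_cases hB0 : B = ⊥
  · exact Or.inl hB0
  right
  haveI : IsSimpleModule (Dual K C) E := isSimpleComod_iff.1 hE
  let fR : ι → (E →ₗ[Dual K C] C) := fun i => ofComodHom (f i) (hf i).1
  have hfRinj : ∀ i, Function.Injective (fR i) := fun i => (hf i).2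
  have hsupR : (⨆ i, LinearMap.range (fR i)) = ⊤ := by
    rw [← Submodule.restrictScalars_eq_top_iff (S := K), Submodule.restrictScalars_iSup, ← hsup]
    congr 1
  haveI hss : IsSemisimpleModule (Dual K C) C :=
    isSemisimpleModule_of_isSemisimpleModule_submodule'
      (p := fun i => LinearMap.range (fR i)) (fun i => IsSemisimpleModule.range _) hsupR
  have hBst := hB.isStable
  rcases IsSemisimpleModule.eq_bot_or_exists_simple_le (stableToSub B hBst) with h | ⟨S, hSB, hS⟩
  · exfalso
    apply hB0
    rw [eq_bot_iff]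
    intro x hx
    have : x ∈ stableToSub B hBst := hx
    rw [h] at this
    exact this
  · let s : Set (Submodule (Dual K C) C) := Set.range (fun i => LinearMap.range (fR i))
    have hs : ∀ m : s, IsSimpleModule (Dual K C) m := by
      rintro ⟨m, i, rfl⟩
      exact IsSimpleModule.congr (LinearEquiv.ofInjective _ (hfRinj i)).symm
    have hle : S ≤ sSup s := by
      rw [sSup_range, hsupR]; exact le_top
    obtain ⟨S', ⟨i, rfl⟩, ⟨φ⟩⟩ := Submodule.linearEquiv_of_le_sSup S s hle
    let φ' : S ≃ₗ[Dual K C] E := φ.trans (LinearEquiv.ofInjective _ (hfRinj i)).symm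
    let ψ : E →ₗ[Dual K C] C := S.subtype ∘ₗ φ'.symm.toLinearMap
    have hψinj : Function.Injective ψ := by
      intro x y hxy
      have : (φ'.symm x : C) = φ'.symm y := hxy
      exact φ'.symm.injective (Subtype.ext this)
    have hco : coeffSpace K C E ≤ B :=
      coeffSpace_le_of_injective (ψ.restrictScalars K) (isComodHom_restrictScalars ψ) hψinj hBst
        (fun v => hSB (φ'.symm v).2)
    rw [eq_top_iff, ← hsup, iSup_le_iff]
    rintro j _ ⟨v, rfl⟩
    apply hco
    rw [eq_cf_of_isComodHom (f j) (hf j).1]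
    exact cf_mem_coeffSpace _ _

end

end Groth.Agent.H74.Comod
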