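import Mathlib
import Groth.Agent.H74.Isotypic

/-!
# Cosemisimple coalgebras and complete reducibility of comodules
-/

namespace Groth.Agent.H74.Comod

open TensorProduct Coalgebra HopfRep WithConv Groth.Agent.H74.Coalg

universe u v w w'

section

variable {K : Type u} [Field K] {C : Type v} [AddCommGroup C] [Module K C] [Coalgebra K C]
variable {V : Type w} [AddCommGroup V] [Module K V] [Comod K C V]

attribute [local instance] module

/-! ### dictionary for semisimplicity -/

lemma isSemisimpleComod_iff :
    IsSemisimpleComod K C V ↔ IsSemisimpleModule (Dual K C) V := by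
  rw [isSemisimpleModule_iff]
  constructor
  · intro h
    refine ⟨fun N => ?_⟩
    obtain ⟨W', hW', hc⟩ := h (N.restrictScalars K) (isSubcomod_restrictScalars N)
    refine ⟨ofSubcomod W' hW', ?_⟩
    rw [← Submodule.isCompl_restrictScalars_iff (S := K), ofSubcomod_restrictScalars]
    exact hc
  · intro h W hW
    obtain ⟨N', hN'⟩ := exists_isCompl (ofSubcomod W hW)
    refine ⟨N'.restrictScalars K, isSubcomod_restrictScalars N', ?_⟩
    rw [← Submodule.isCompl_restrictScalars_iff (S := K), ofSubcomod_restrictScalars] at hN'
    exact hN'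

/-! ### stability of sups -/

lemma IsStable.iSup {ι : Sort*} (D : ι → Submodule K C) (h : ∀ i, IsStable (D i)) :
    IsStable (⨆ i, D i) := by
  intro f
  constructor
  · intro b hb
    induction hb using Submodule.iSup_induction' with
    | mem i x hx => exact Submodule.mem_iSup_of_mem i ((h i f).1 x hx)
    | zero => simp
    | add x y _ _ hx hy => rw [map_add]; exact Submodule.add_mem _ hx hy
  · intro b hb
    induction hb using Submodule.iSup_induction' with
    | mem i x hx => exact Submodule.mem_iSup_of_mem i ((h i f).2 x hx)
    | zero => simp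
    | add x y _ _ hx hy => rw [map_add]; exact Submodule.add_mem _ hx hy

/-! ### the coefficient space of a subcomodule of the regular comodule -/

lemma le_coeffSpace_sub (S : Submodule K C) (hS : IsSubcomod (k := K) (A := C) S) :
    letI := subComod S hS
    S ≤ coeffSpace K C S := by
  letI := subComod S hS
  intro s hs
  have h := eq_cf_of_isComodHom (C := C) S.subtype (isComodHom_subtype S hS)
  have h2 := LinearMap.congr_fun h ⟨s, hs⟩
  simp only [Submodule.subtype_apply] at h2
  rw [h2]
  exact cf_mem_coeffSpace _ _

lemma coeffSpace_sub_le (S : Submodule K C) (hS : IsSubcomod (k := K) (A := C) S)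
    {D : Submodule K C} (hD : IsStable D) (hSD : S ≤ D) :
    letI := subComod S hS
    coeffSpace K C S ≤ D := by
  letI := subComod S hS
  exact coeffSpace_le_of_injective S.subtype (isComodHom_subtype S hS) S.injective_subtype hD
    (fun v => hSD v.2)

/-! ### simple comodules and simple subcoalgebras -/

lemma isSimpleSub_coeffSpace (hV : IsSimpleComod K C V) : IsSimpleSub (coeffSpace K C V) := by
  haveI : IsSimpleModule (Dual K C) V := isSimpleComod_iff.1 hV
  haveI : Nontrivial V := hV.1
  refine ⟨coeffSpace_ne_bot, isSubcoalg_coeffSpace, ?_⟩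
  intro B hBle hB
  by_cases hB0 : B = ⊥
  · exact Or.inl hB0
  · exact Or.inr (eq_coeffSpace_of_isStable_of_le hB.isStable hBle hB0)

lemma isSemisimple_coeffSpaceR [IsSimpleModule (Dual K C) V] :
    IsSemisimpleModule (Dual K C) (stableToSub (coeffSpace K C V) isStable_coeffSpace) := by
  rw [coeffSpaceR_eq]
  have := isSemisimpleModule_biSup_of_isSemisimpleModule_submodule (R := Dual K C)
    (s := Set.univ) (p := fun e : V →ₗ[K] K => LinearMap.range (cfR (C := C) e))
    (fun e _ => IsSemisimpleModule.range _)
  have h : (⨆ e ∈ (Set.univ : Set (V →ₗ[K] K)), LinearMap.range (cfR (C := C) e)) =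
      ⨆ e : V →ₗ[K] K, LinearMap.range (cfR (C := C) e) := by simp
  rw [← h]
  exact this

/-- a simple subcoalgebra is the coefficient space of a minimal subcomodule it contains -/
lemma IsSimpleSub.exists_sub {D : Submodule K C} (hD : IsSimpleSub D) :
    ∃ (S : Submodule K C) (hS : IsSubcomod (k := K) (A := C) S), S ≤ D ∧
      (letI := subComod S hS; IsSimpleComod K C S) ∧
      (letI := subComod S hS; coeffSpace K C S = D) := by
  haveI := hD.finite
  have hDst := hD.2.1.isStable
  obtain ⟨S, hSD, hS0, hSs, hSmin⟩ := exists_minimal_subcomod hDst hD.1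
  refine ⟨S, hSs, hSD, isSimpleComod_sub S hSs hS0 hSmin, ?_⟩
  letI := subComod S hSs
  have hle : coeffSpace K C S ≤ D := coeffSpace_sub_le S hSs hDst hSD
  rcases hD.2.2 _ hle isSubcoalg_coeffSpace with h | h
  · exfalso
    apply hS0
    rw [eq_bot_iff, ← h]
    exact le_coeffSpace_sub S hSs
  · exact h

lemma IsSimpleSub.isSemisimple {D : Submodule K C} (hD : IsSimpleSub D) :
    IsSemisimpleModule (Dual K C) (stableToSub D hD.2.1.isStable) := by
  obtain ⟨S, hS, -, hsimple, hco⟩ := hD.exists_sub
  letI := subComod S hS
  haveI : IsSimpleModule (Dual K C) S := isSimpleComod_iff.1 hsimple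
  have h := isSemisimple_coeffSpaceR (K := K) (C := C) (V := S)
  have heq : stableToSub (coeffSpace K C S) isStable_coeffSpace =
      stableToSub D hD.2.1.isStable := by
    ext x
    rw [mem_stableToSub, mem_stableToSub, hco]
  rw [← heq]
  exact h

/-! ### cosemisimple ⇒ every comodule is semisimple -/

lemma isSemisimpleModule_of_decomp {ι : Type*} (D : ι → Submodule K C) (hsup : iSup D = ⊤)
    (hD : ∀ i, IsSimpleSub (D i)) : IsSemisimpleModule (Dual K C) C := by
  apply isSemisimpleModule_of_isSemisimpleModule_submodule'
    (p := fun i => stableToSub (D i) (hD i).2.1.isStable) (fun i => (hD i).isSemisimple)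
  rw [← Submodule.restrictScalars_eq_top_iff (S := K), Submodule.restrictScalars_iSup, ← hsup]
  congr 1

/-- `c ↦ v ⊗ c` as a map into the induced comodule -/
noncomputable def jInd (v : V) : C →ₗ[K] Hoch.Ind K C V :=
  (Hoch.Ind.equiv K C V).toLinearMap ∘ₗ TensorProduct.mk K V C v

lemma isComodHom_jInd (v : V) : Hoch.IsComodHom C (jInd (K := K) (C := C) v) := by
  have key : ∀ t : C ⊗[K] C, LinearMap.rTensor C (jInd (K := K) (C := C) v) t =
      (TensorProduct.assoc K V C C).symm (v ⊗ₜ[K] t) := by
    intro t
    induction t with
    | zero => rw [map_zero, TensorProduct.tmul_zero, map_zero]; rfl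
    | tmul a b => rfl
    | add x y hx hy => rw [map_add, hx, hy, TensorProduct.tmul_add, map_add]; rfl
  ext c
  simp only [LinearMap.comp_apply]
  rw [key]
  rfl

lemma isComodHom_toInd : Hoch.IsComodHom C (Hoch.toInd K C V) := by
  ext v
  have hco := LinearMap.congr_fun (Comod.coassoc (k := K) (A := C) (V := V)) v
  simp only [LinearMap.comp_apply, LinearEquiv.coe_coe] at hco
  simp only [LinearMap.comp_apply]
  change Hoch.Ind.coactAux K C V (Comod.coact (k := K) (A := C) v) =
    LinearMap.rTensor C (Comod.coact (k := K) (A := C)) (Comod.coact (k := K) (A := C) v)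
  unfold Hoch.Ind.coactAux
  rw [LinearMap.comp_apply, ← hco]
  simp

lemma toInd_injective : Function.Injective (Hoch.toInd K C V) := by
  intro x y hxy
  have h1 : Comod.coact (k := K) (A := C) x = Comod.coact (k := K) (A := C) y := hxy
  have hx := LinearMap.congr_fun (Comod.counit_comp (k := K) (A := C) (V := V)) x
  have hy := LinearMap.congr_fun (Comod.counit_comp (k := K) (A := C) (V := V)) y
  simp only [LinearMap.comp_apply, LinearMap.flip_apply, TensorProduct.mk_apply] at hx hy
  rw [h1, hy] at hx
  have := congrArg (TensorProduct.rid K V) hx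
  simpa using this.symm

lemma isSemisimpleModule_ind [IsSemisimpleModule (Dual K C) C] :
    IsSemisimpleModule (Dual K C) (Hoch.Ind K C V) := by
  apply isSemisimpleModule_of_isSemisimpleModule_submodule'
    (p := fun v : V => LinearMap.range (ofComodHom (jInd (K := K) (C := C) v) (isComodHom_jInd v)))
    (fun v => IsSemisimpleModule.range _)
  rw [eq_top_iff]
  intro x _
  have key : ∀ t : V ⊗[K] C, (Hoch.Ind.equiv K C V t) ∈
      ⨆ v : V, LinearMap.range (ofComodHom (jInd (K := K) (C := C) v) (isComodHom_jInd v)) := by
    intro t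
    induction t with
    | zero => simp
    | tmul v c => exact Submodule.mem_iSup_of_mem v ⟨c, rfl⟩
    | add x y hx hy => rw [map_add]; exact Submodule.add_mem _ hx hy
  exact key ((Hoch.Ind.equiv K C V).symm x)

theorem isSemisimpleComod_of_decomp {ι : Type*} (D : ι → Submodule K C) (hsup : iSup D = ⊤)
    (hD : ∀ i, IsSimpleSub (D i)) : IsSemisimpleComod K C V := by
  haveI := isSemisimpleModule_of_decomp D hsup hD
  haveI := isSemisimpleModule_ind (K := K) (C := C) (V := V)
  rw [isSemisimpleComod_iff]
  exact IsSemisimpleModule.of_injective (ofComodHom (Hoch.toInd K C V) isComodHom_toInd)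
    toInd_injective

/-! ### every comodule semisimple ⇒ cosemisimple -/

lemma isSimpleModule_ofSubcomod (S : Submodule K C) (hS : IsSubcomod (k := K) (A := C) S)
    (hS0 : S ≠ ⊥)
    (hmin : ∀ S' : Submodule K C, S' ≤ S → IsSubcomod (k := K) (A := C) S' → S' = ⊥ ∨ S' = S) :
    IsSimpleModule (Dual K C) (ofSubcomod S hS) := by
  rw [isSimpleModule_iff_isAtom]
  constructor
  · intro h
    apply hS0
    rw [← ofSubcomod_restrictScalars S hS, h]
    simp
  · intro b hb
    rcases hmin (b.restrictScalars K) (fun x hx => hb.le hx) (isSubcomod_restrictScalars b)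
      with h | h
    · rwa [Submodule.restrictScalars_eq_bot_iff] at h
    · exfalso
      apply hb.ne
      ext x
      have : x ∈ b.restrictScalars K ↔ x ∈ S := by rw [h]
      exact this

/-- minimal subcomodules of the regular comodule from simple submodules -/
lemma simple_submodule_le_simpleSub (m : Submodule (Dual K C) C) [hm : IsSimpleModule (Dual K C) m] :
    ∃ D : Submodule K C, IsSimpleSub D ∧ m.restrictScalars K ≤ D := by
  have hS := isSubcomod_restrictScalars m
  have hatom := isSimpleModule_iff_isAtom.1 hm
  have hS0 : m.restrictScalars K ≠ ⊥ := by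
    intro h
    rw [Submodule.restrictScalars_eq_bot_iff] at h
    exact hatom.1 h
  have hmin : ∀ S' : Submodule K C, S' ≤ m.restrictScalars K → IsSubcomod (k := K) (A := C) S' →
      S' = ⊥ ∨ S' = m.restrictScalars K := by
    intro S' hle hS'
    have hle' : ofSubcomod S' hS' ≤ m := fun x hx => hle hx
    rcases eq_or_lt_of_le hle' with h | h
    · right
      rw [← ofSubcomod_restrictScalars S' hS', h]
    · left
      have := hatom.2 _ h
      rw [← ofSubcomod_restrictScalars S' hS', this]
      simp
  letI := subComod (m.restrictScalars K) hS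
  exact ⟨coeffSpace K C (m.restrictScalars K),
    isSimpleSub_coeffSpace (isSimpleComod_sub _ hS hS0 hmin), le_coeffSpace_sub _ hS⟩

theorem exists_decomp_of_isSemisimple (hC : IsSemisimpleComod K C C) :
    ∃ (ι : Type v) (D : ι → Submodule K C), iSupIndep D ∧ iSup D = ⊤ ∧ ∀ i, IsSimpleSub (D i) := by
  classical
  haveI hss : IsSemisimpleModule (Dual K C) C := isSemisimpleComod_iff.1 hC
  refine ⟨{D : Submodule K C // IsSimpleSub D}, fun D => D.1, ?_, ?_, fun D => D.2⟩
  · -- independence
    rw [iSupIndep_def]
    intro D
    rw [disjoint_iff]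
    set T : Submodule K C := ⨆ (D' : {D : Submodule K C // IsSimpleSub D}) (_ : D' ≠ D), D'.1
      with hT
    have hTst : IsStable T :=
      IsStable.iSup _ (fun D' => IsStable.iSup _ (fun _ => D'.2.2.1.isStable))
    have hDst := D.2.2.1.isStable
    rcases D.2.2.2 _ inf_le_left (hDst.inf hTst).isSubcoalg with h | h
    · exact h
    · exfalso
      have hDT : D.1 ≤ T := by rw [← h]; exact inf_le_right
      haveI := D.2.finite
      obtain ⟨S, hSD, hS0, hSs, hSmin⟩ := exists_minimal_subcomod hDst D.2.1
      haveI hsm : IsSimpleModule (Dual K C) (ofSubcomod S hSs) :=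
        isSimpleModule_ofSubcomod S hSs hS0 hSmin
      let s : Set (Submodule (Dual K C) C) :=
        {N | ∃ D' : {D : Submodule K C // IsSimpleSub D}, D' ≠ D ∧
          N = stableToSub D'.1 D'.2.2.1.isStable}
      have hle : ofSubcomod S hSs ≤ sSup s := by
        intro x hx
        have hxT : x ∈ T := hDT (hSD hx)
        have hTle : T ≤ (sSup s).restrictScalars K := by
          rw [hT, iSup_le_iff]
          intro D'
          rw [iSup_le_iff]
          intro hne y hy
          have hmem : stableToSub D'.1 D'.2.2.1.isStable ∈ s := ⟨D', hne, rfl⟩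
          exact (le_sSup hmem) hy
        exact hTle hxT
      obtain ⟨N, ⟨D', hne, rfl⟩, S', hS'le, ⟨φ⟩⟩ :=
        Submodule.le_linearEquiv_of_le_sSup (ofSubcomod S hSs) s hle
      -- the comodule map `S → C`
      letI := subComod S hSs
      let toM : S → ofSubcomod S hSs := fun x => ⟨x.1, mem_ofSubcomod.2 x.2⟩
      let ψ : S →ₗ[K] C :=
        { toFun := fun x => (φ (toM x) : C)
          map_add' := fun x y => by
            have h := φ.map_add (toM x) (toM y)
            exact congrArg Subtype.val h
          map_smul' := fun a x => by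
            have h := φ.toLinearMap.map_smul_of_tower a (toM x)
            exact congrArg Subtype.val h }
      have hψ : Hoch.IsComodHom C ψ := by
        rw [isComodHom_iff]
        intro f x
        have h1 := (isComodHom_iff (C := C) S.subtype).1 (isComodHom_subtype S hSs) f x
        simp only [Submodule.subtype_apply] at h1
        have h2 : toM (act f x) = (toConv f : Dual K C) • toM x := by
          apply Subtype.ext
          exact h1
        change (φ (toM (act f x)) : C) = act f (φ (toM x) : C)
        rw [h2, φ.map_smul]
        rfl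
      have hψinj : Function.Injective ψ := by
        intro x y hxy
        have h1 : φ (toM x) = φ (toM y) := Subtype.ext hxy
        have h2 := φ.injective h1
        exact Subtype.ext (congrArg Subtype.val h2)
      have hco : coeffSpace K C S ≤ D'.1 :=
        coeffSpace_le_of_injective ψ hψ hψinj D'.2.2.1.isStable
          (fun x => hS'le (φ (toM x)).2)
      have hDS : D.1 ≤ coeffSpace K C S := by
        rcases D.2.2.2 _ (coeffSpace_sub_le S hSs hDst hSD) isSubcoalg_coeffSpace with h' | h'
        · exfalso
          apply hS0
          rw [eq_bot_iff, ← h']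
          exact le_coeffSpace_sub S hSs
        · rw [h']
      rcases D'.2.2.2 _ (hDS.trans hco) D.2.2.1 with h' | h'
      · exact D.2.1 h'
      · exact hne (Subtype.ext h'.symm)
  · -- the sup is everything
    rw [eq_top_iff]
    have h1 := IsSemisimpleModule.sSup_simples_eq_top (Dual K C) C
    have h2 := congrArg (Submodule.restrictScalars K) h1
    rw [Submodule.restrictScalars_sSup, Submodule.restrictScalars_top] at h2
    rw [← h2, sSup_le_iff]
    rintro _ ⟨m, hm, rfl⟩
    haveI : IsSimpleModule (Dual K C) m := hm
    obtain ⟨D, hD, hle⟩ := simple_submodule_le_simpleSub m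
    exact hle.trans (le_iSup (fun D : {D : Submodule K C // IsSimpleSub D} => D.1) ⟨D, hD⟩)

end

end Groth.Agent.H74.Comod
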