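import Groth.Agent.H74.CycCovKummer
import Groth.Agent.H26.RegularEtale
import Groth.Agent.H14.HypersurfaceNormal
import Groth.Agent.Lead.RegularLocal2

/-!
# Regularity of Kummer covers branched along a regular divisor

If `R` is a regular ring, `f` a nonzerodivisor with `R/f` regular, `v` and `n` units, then
`R[X]/(X^n - v f)` is a regular ring.
-/

set_option autoImplicit false
set_option linter.style.haveILetI false
set_option linter.unusedSectionVars false
universe u
open Polynomial

namespace Groth.Agent.H74.CycCovReg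

open Groth.Agent.H74.CycCovKummer

/-- étale over regular is regular -/
theorem isRegularRing_of_etale (R S : Type u) [CommRing R] [CommRing S] [Algebra R S]
    [Algebra.Etale R S] [IsRegularRing R] : IsRegularRing S := by
  haveI : IsNoetherianRing S := Algebra.FiniteType.isNoetherianRing R S
  rw [isRegularRing_iff]
  intro r hr
  exact (Groth.Agent.H26.isRegularLocalRing_localization_iff_of_etale R S r).mp inferInstance

/-- regular at primes containing a nonzerodivisor `t` with `A/t` regular -/
theorem isRegularLocalRing_of_mem {A : Type u} [CommRing A] [IsNoetherianRing A] (t : A)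
    (hreg : t ∈ nonZeroDivisors A) [IsRegularRing (A ⧸ Ideal.span {t})]
    (Q : Ideal A) [hQ : Q.IsPrime] (htQ : t ∈ Q) :
    IsRegularLocalRing (Localization.AtPrime Q) := by
  have hspanQ : Ideal.span {t} ≤ Q := (Ideal.span_singleton_le_iff_mem _).mpr htQ
  haveI hQbar : (Q.map (Ideal.Quotient.mk (Ideal.span {t}))).IsPrime :=
    Ideal.map_isPrime_of_surjective Ideal.Quotient.mk_surjective (by rwa [Ideal.mk_ker])
  have hcomap : (Q.map (Ideal.Quotient.mk (Ideal.span {t}))).comap
      (Ideal.Quotient.mk (Ideal.span {t})) = Q := by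
    rw [Ideal.comap_map_of_surjective _ Ideal.Quotient.mk_surjective,
      ← RingHom.ker_eq_comap_bot, Ideal.mk_ker, sup_eq_left.mpr hspanQ]
  let e := Groth.Agent.H14.localizationQuotientSpanEquiv t Q
    (Q.map (Ideal.Quotient.mk (Ideal.span {t}))) hcomap
  have ht' : algebraMap A (Localization.AtPrime Q) t ∈
      IsLocalRing.maximalIdeal (Localization.AtPrime Q) := by
    rw [← Localization.AtPrime.map_eq_maximalIdeal]
    exact Ideal.mem_map_of_mem _ htQ
  have hreg' : algebraMap A (Localization.AtPrime Q) t ∈ nonZeroDivisors (Localization.AtPrime Q) :=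
    IsLocalization.map_nonZeroDivisors_le Q.primeCompl (Localization.AtPrime Q)
      (Submonoid.mem_map_of_mem _ hreg)
  haveI : IsRegularLocalRing (Localization.AtPrime Q ⧸
      Ideal.span {algebraMap A (Localization.AtPrime Q) t}) := IsRegularLocalRing.of_ringEquiv e
  exact Groth.Agent.Lead.RLR.of_quotient_regular (Localization.AtPrime Q) _ ht' hreg'

/-- regular at primes not containing `x` when `A[1/x]` is regular -/
theorem isRegularLocalRing_of_notMem {A : Type u} [CommRing A] (x : A)
    [IsRegularRing (Localization.Away x)] (Q : Ideal A) [hQ : Q.IsPrime] (hxQ : x ∉ Q) :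
    IsRegularLocalRing (Localization.AtPrime Q) := by
  haveI : Algebra.Etale A (Localization.Away x) := Algebra.Etale.of_isLocalizationAway x
  have hdisj : Disjoint (Submonoid.powers x : Set A) (Q : Set A) :=
    (Ideal.disjoint_powers_iff_notMem x hQ.isRadical).mpr hxQ
  haveI hr : (Q.map (algebraMap A (Localization.Away x))).IsPrime :=
    IsLocalization.isPrime_of_isPrime_disjoint (Submonoid.powers x) _ Q hQ hdisj
  have hcomap : (Q.map (algebraMap A (Localization.Away x))).under A = Q :=
    IsLocalization.under_map_of_isPrime_disjoint (Submonoid.powers x) _ hQ hdisj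
  have key : ∀ (Q' : Ideal A) (hQ' : Q'.IsPrime),
      Q' = (Q.map (algebraMap A (Localization.Away x))).under A →
      IsRegularLocalRing (Localization.AtPrime Q') := by
    intro Q' hQ' h
    subst h
    exact (Groth.Agent.H26.isRegularLocalRing_localization_iff_of_etale A (Localization.Away x)
      (Q.map (algebraMap A (Localization.Away x)))).mpr inferInstance
  exact key Q hQ hcomap.symm

section Kummer

variable (R : Type u) [CommRing R] (n : ℕ) (v f : R)

local notation "F" => kpoly R n (v * f)

lemma root_pow : (AdjoinRoot.root F) ^ n = AdjoinRoot.of F (v * f) := by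
  have h := AdjoinRoot.mk_self (f := F)
  rw [kpoly, map_sub, map_pow, AdjoinRoot.mk_X, AdjoinRoot.mk_C, sub_eq_zero] at h
  exact h

/-- `R[X]/(X^n - v f)` modulo the root is `R/f`. -/
noncomputable def quotRootEquiv (hn : 1 ≤ n) (hv : IsUnit v) :
    (AdjoinRoot F ⧸ Ideal.span {AdjoinRoot.root F}) ≃+* (R ⧸ Ideal.span {f}) := by
  have hvf : Ideal.Quotient.mk (Ideal.span {f}) (v * f) = 0 :=
    Ideal.Quotient.eq_zero_iff_mem.mpr (Ideal.mul_mem_left _ _ (Ideal.mem_span_singleton_self f))
  have h0 : (F).eval₂ (Ideal.Quotient.mk (Ideal.span {f})) 0 = 0 := by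
    rw [kpoly, eval₂_sub, eval₂_pow, eval₂_X, eval₂_C, hvf, zero_pow (by omega), sub_zero]
  let to1 : AdjoinRoot F →+* R ⧸ Ideal.span {f} :=
    AdjoinRoot.lift (Ideal.Quotient.mk (Ideal.span {f})) 0 h0
  have hto1 : ∀ a ∈ Ideal.span {AdjoinRoot.root F}, to1 a = 0 := by
    intro a ha
    obtain ⟨c, rfl⟩ := Ideal.mem_span_singleton'.mp ha
    rw [map_mul]
    simp [to1]
  let toQ : (AdjoinRoot F ⧸ Ideal.span {AdjoinRoot.root F}) →+* R ⧸ Ideal.span {f} :=
    Ideal.Quotient.lift _ to1 hto1
  have hfmem : AdjoinRoot.of F f ∈ Ideal.span {AdjoinRoot.root F} := by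
    obtain ⟨vu, hvu⟩ := hv
    have h1 : AdjoinRoot.of F f = AdjoinRoot.of F (↑vu⁻¹ : R) * AdjoinRoot.of F (v * f) := by
      rw [← map_mul, ← mul_assoc, ← hvu, Units.inv_mul, one_mul]
    rw [h1, ← root_pow]
    obtain ⟨m, hm⟩ : ∃ m, n = m + 1 := ⟨n - 1, by omega⟩
    rw [hm, pow_succ, ← mul_assoc]
    exact Ideal.mul_mem_left _ _ (Ideal.mem_span_singleton_self _)
  let from1 : R →+* AdjoinRoot F ⧸ Ideal.span {AdjoinRoot.root F} :=
    (Ideal.Quotient.mk _).comp (AdjoinRoot.of F)
  have hfrom1 : ∀ a ∈ Ideal.span {f}, from1 a = 0 := by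
    intro a ha
    obtain ⟨c, rfl⟩ := Ideal.mem_span_singleton'.mp ha
    change Ideal.Quotient.mk _ (AdjoinRoot.of F (c * f)) = 0
    rw [map_mul, Ideal.Quotient.eq_zero_iff_mem]
    exact Ideal.mul_mem_left _ _ hfmem
  let from' : (R ⧸ Ideal.span {f}) →+* AdjoinRoot F ⧸ Ideal.span {AdjoinRoot.root F} :=
    Ideal.Quotient.lift _ from1 hfrom1
  refine RingEquiv.ofRingHom toQ from' ?_ ?_
  · apply Ideal.Quotient.ringHom_ext
    ext a
    simp [toQ, from', to1, from1]
  · apply Ideal.Quotient.ringHom_ext
    apply AdjoinRoot.ringHom_ext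
    · ext a
      simp [toQ, from', to1, from1]
    · simp only [RingHom.comp_apply, toQ, from', to1, from1, Ideal.Quotient.lift_mk,
        AdjoinRoot.lift_root, map_zero, RingHom.id_apply]
      exact (Ideal.Quotient.eq_zero_iff_mem.mpr (Ideal.mem_span_singleton_self _)).symm

theorem isRegularRing_kummer [IsRegularRing R] (hn : 1 ≤ n) (hnu : IsUnit ((n : ℕ) : R))
    (hv : IsUnit v) (hf : f ∈ nonZeroDivisors R) [IsRegularRing (R ⧸ Ideal.span {f})] :
    IsRegularRing (AdjoinRoot F) := by
  have hmonic : (F).Monic := kpoly_monic R n hn _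
  haveI : Module.Finite R (AdjoinRoot F) := hmonic.finite_adjoinRoot
  haveI : Module.Free R (AdjoinRoot F) := hmonic.free_adjoinRoot
  haveI : IsNoetherianRing (AdjoinRoot F) := Algebra.FiniteType.isNoetherianRing R _
  -- `f` is a nonzerodivisor
  have hfM : AdjoinRoot.of F f ∈ nonZeroDivisors (AdjoinRoot F) := by
    have h1 : IsSMulRegular R f := by
      intro a b hab
      exact (mul_cancel_left_mem_nonZeroDivisors hf).mp (by simpa [smul_eq_mul] using hab)
    have h2 : IsSMulRegular (AdjoinRoot F) (algebraMap R (AdjoinRoot F) f) := h1.of_flat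
    rw [mem_nonZeroDivisors_iff_right]
    intro a ha
    apply h2
    simpa [smul_eq_mul, mul_comm] using ha
  have hvM : AdjoinRoot.of F v ∈ nonZeroDivisors (AdjoinRoot F) :=
    (hv.map (AdjoinRoot.of F)).mem_nonZeroDivisors
  have hwn : (AdjoinRoot.root F) ^ n ∈ nonZeroDivisors (AdjoinRoot F) := by
    rw [root_pow, map_mul]
    exact mul_mem hvM hfM
  have hw : AdjoinRoot.root F ∈ nonZeroDivisors (AdjoinRoot F) := by
    obtain ⟨m, rfl⟩ : ∃ m, n = m + 1 := ⟨n - 1, by omega⟩
    rw [pow_succ] at hwn
    exact (mul_mem_nonZeroDivisors.mp hwn).2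
  haveI : IsRegularRing (AdjoinRoot F ⧸ Ideal.span {AdjoinRoot.root F}) :=
    IsRegularRing.of_ringEquiv (quotRootEquiv R n v f hn hv).symm
  haveI : Algebra.Etale R (Localization.Away (AdjoinRoot.mk F (C f))) :=
    etale_away R n hn hnu v f hv
  haveI : IsRegularRing (Localization.Away (AdjoinRoot.mk F (C f))) :=
    isRegularRing_of_etale R _
  rw [isRegularRing_iff]
  intro Q hQ
  by_cases hwQ : AdjoinRoot.root F ∈ Q
  · exact isRegularLocalRing_of_mem _ hw Q hwQ
  · have hfQ : AdjoinRoot.mk F (C f) ∉ Q := by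
      intro hfQ
      apply hwQ
      apply hQ.mem_of_pow_mem n
      rw [root_pow, map_mul]
      rw [AdjoinRoot.mk_C] at hfQ
      exact Ideal.mul_mem_left _ _ hfQ
    exact isRegularLocalRing_of_notMem _ Q hfQ

end Kummer

end Groth.Agent.H74.CycCovReg
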