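import Groth.Agent.H74.CycCovNormal
import Groth.Agent.H74.CycCovReg
import Groth.Agent.H14.RegularNormal

/-!
# Cyclic covers: abstract data and the assembly lemma
-/

set_option autoImplicit false
set_option linter.style.haveILetI false
set_option linter.unusedSectionVars false
universe u
open Polynomial

namespace Groth.Agent.H74.CycCovAsm

/-- Abstract description of `K = (B[t]/(t^N - c))[1/f]` by its universal property. -/
structure KData (B : Type u) [CommRing B] (N : ℕ) (c f : B) (K : Type u) [CommRing K]
    [Algebra B K] where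
  t : K
  finv : K
  ht : t ^ N = algebraMap B K c
  hf : algebraMap B K f * finv = 1
  lift : ∀ (C : Type u) [CommRing C] [Algebra B C] (x y : C), x ^ N = algebraMap B C c →
    algebraMap B C f * y = 1 → ∃ χ : K →ₐ[B] C, χ t = x
  ext : ∀ (C : Type u) [CommRing C] [Algebra B C] (χ₁ χ₂ : K →ₐ[B] C), χ₁ t = χ₂ t → χ₁ = χ₂

variable {B : Type u} [CommRing B] {K : Type u} [CommRing K] [Algebra B K]

theorem assembly (f : B) (M : Type u) [CommRing M] [Algebra B M] [Module.Finite B M]
    [IsRegularRing M] (hfM : algebraMap B M f ∈ nonZeroDivisors M)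
    (φ : M →ₐ[B] K) (ψ : K →ₐ[B] Localization.Away (algebraMap B M f))
    (hψφ : ∀ m, ψ (φ m) = algebraMap M (Localization.Away (algebraMap B M f)) m)
    (hψ : Function.Injective ψ) :
    Module.Finite B φ.range ∧ IsRegularRing φ.range ∧ ∀ x : K, IsIntegral B x ↔ x ∈ φ.range := by
  have hle : Submonoid.powers (algebraMap B M f) ≤ nonZeroDivisors M := by
    rintro _ ⟨k, rfl⟩
    exact pow_mem hfM k
  have injloc : Function.Injective (algebraMap M (Localization.Away (algebraMap B M f))) :=
    IsLocalization.injective _ hle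
  have injφ : Function.Injective φ := by
    intro m₁ m₂ h
    apply injloc
    rw [← hψφ, ← hψφ, h]
  let e : M ≃ₐ[B] φ.range := AlgEquiv.ofInjective φ injφ
  refine ⟨Module.Finite.equiv e.toLinearEquiv, IsRegularRing.of_ringEquiv e.toRingEquiv, ?_⟩
  intro x
  constructor
  · intro hx
    have h1 : IsIntegral B (ψ x) := hx.map ψ
    have h2 : IsIntegral M (ψ x) := h1.tower_top
    have hM : ∀ (Q : Ideal M) [Q.IsMaximal],
        IsDomain (Localization.AtPrime Q) ∧ IsIntegrallyClosed (Localization.AtPrime Q) := by
      intro Q hQ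
      exact ⟨Groth.Agent.Lead.RLR.isDomain _,
        Groth.Agent.H14.isIntegrallyClosed_of_isRegularLocalRing _⟩
    obtain ⟨m, hm⟩ := Groth.Agent.H74.CycCovNormal.exists_algebraMap_eq_of_isIntegral M
      (Localization.Away (algebraMap B M f)) (algebraMap B M f) hfM hM (ψ x) h2
    refine ⟨m, ?_⟩
    apply hψ
    rw [← hm]
    exact hψφ m
  · rintro ⟨m, rfl⟩
    have : IsIntegral B m := Algebra.IsIntegral.isIntegral m
    exact this.map φ

end Groth.Agent.H74.CycCovAsm
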