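import Groth.Agent.H74.CycCovModelIIb

/-!
# Cyclic covers: the concrete ring `K = (B[t]/(t^N - u f^α))[1/f]` and the main theorem
-/

set_option autoImplicit false
set_option linter.style.haveILetI false
set_option linter.unusedSectionVars false
universe u
open Polynomial

namespace Groth.Agent.H74.CycCovFinal

open Groth.Agent.H74.CycCovKummer Groth.Agent.H74.CycCovReg Groth.Agent.H74.CycCovAsm
  Groth.Agent.H74.CycCovModelI Groth.Agent.H74.CycCovModelII

/-- the arithmetic of `N` and `α` -/
theorem arith (N α : ℕ) (hN : 0 < N) :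
    (∃ α', α = α' * N) ∨
    (∃ g N' α' a b, N = N' * g ∧ α = α' * g ∧ 1 ≤ g ∧ 2 ≤ N' ∧ a * α' = 1 + b * N' ∧ a < N') := by
  have hgpos : 0 < Nat.gcd N α := Nat.gcd_pos_of_pos_left α hN
  have hNeq : N = N / Nat.gcd N α * Nat.gcd N α :=
    (Nat.div_mul_cancel (Nat.gcd_dvd_left N α)).symm
  have hαeq : α = α / Nat.gcd N α * Nat.gcd N α :=
    (Nat.div_mul_cancel (Nat.gcd_dvd_right N α)).symm
  have hcop : Nat.Coprime (N / Nat.gcd N α) (α / Nat.gcd N α) :=
    Nat.coprime_div_gcd_div_gcd hgpos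
  set g := Nat.gcd N α with hg
  set N' := N / g with hN'
  set α' := α / g with hα'
  have hN'pos : 0 < N' := by
    rcases Nat.eq_zero_or_pos N' with h | h
    · rw [h, zero_mul] at hNeq; omega
    · exact h
  by_cases h1 : N' = 1
  · left
    refine ⟨α', ?_⟩
    rw [h1, one_mul] at hNeq
    rw [hNeq]
    exact hαeq
  · right
    have h2 : 1 < N' := by omega
    obtain ⟨m, hmlt, hm⟩ := Nat.exists_mul_mod_eq_one_of_coprime hcop.symm h2
    refine ⟨g, N', α', m, α' * m / N', hNeq, hαeq, hgpos, h2, ?_, hmlt⟩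
    have h4 := Nat.div_add_mod (α' * m) N'
    rw [hm] at h4
    rw [mul_comm m α']
    linarith [h4, mul_comm N' (α' * m / N')]

section

variable {B : Type u} [CommRing B] (N : ℕ) (u : Bˣ) (α : ℕ) (f : B)

local notation "P₀" => (X ^ N - C ((u : B) * f ^ α) : B[X])
local notation "A'" => AdjoinRoot (X ^ N - C ((u : B) * f ^ α) : B[X])
local notation "K₀" => Localization.Away
  (algebraMap B (AdjoinRoot (X ^ N - C ((u : B) * f ^ α) : B[X])) f)

/-- the universal property of the concrete `K` -/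
noncomputable def kdata : KData B N ((u : B) * f ^ α) f K₀ where
  t := algebraMap A' K₀ (AdjoinRoot.root P₀)
  finv := IsLocalization.Away.invSelf (algebraMap B A' f)
  ht := by
    rw [← map_pow]
    have h := root_pow' B N ((u : B) * f ^ α)
    change AdjoinRoot.root P₀ ^ N = algebraMap B A' ((u : B) * f ^ α) at h
    rw [h, ← IsScalarTower.algebraMap_apply]
  hf := by
    rw [IsScalarTower.algebraMap_apply B A' K₀]
    exact IsLocalization.Away.mul_invSelf _
  lift := by
    intro C _ _ x y hx hy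
    have h0 : (P₀).eval₂ (Algebra.ofId B C : B →+* C) x = 0 := by
      rw [eval₂_sub, eval₂_pow, eval₂_X, eval₂_C, hx]
      simp
    let χ₀ : A' →ₐ[B] C := AdjoinRoot.liftAlgHom _ (Algebra.ofId B C) x h0
    have hunit : IsUnit (χ₀ (algebraMap B A' f)) := by
      rw [χ₀.commutes]
      exact IsUnit.of_mul_eq_one _ hy
    refine ⟨IsLocalization.Away.liftAlgHom (algebraMap B A' f) (f := χ₀) hunit, ?_⟩
    change IsLocalization.Away.lift (algebraMap B A' f) hunit _ = _
    rw [IsLocalization.Away.lift_eq]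
    exact AdjoinRoot.liftAlgHom_root ..
  ext := by
    intro C _ _ χ₁ χ₂ h
    have h1 : χ₁.comp (IsScalarTower.toAlgHom B A' K₀) = χ₂.comp (IsScalarTower.toAlgHom B A' K₀) := by
      apply AdjoinRoot.algHom_ext
      simp only [AlgHom.comp_apply, IsScalarTower.coe_toAlgHom']
      exact h
    apply AlgHom.coe_ringHom_injective
    apply IsLocalization.ringHom_ext (Submonoid.powers (algebraMap B A' f))
    exact congrArg (fun χ : A' →ₐ[B] C => (χ : A' →+* C)) h1

end

theorem main {B : Type u} [CommRing B] [IsDomain B] [IsRegularRing B] (N : ℕ) (hN : 0 < N)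
    (hNu : IsUnit ((N : ℕ) : B)) (u : Bˣ) (α : ℕ) (f : B) (hf : f ≠ 0)
    [IsRegularRing (B ⧸ Ideal.span {f})] :
    Module.Finite B (Algebra.adjoin B
      (gens (B := B) N α (kdata N u α f).t (kdata N u α f).finv)) ∧
    IsRegularRing (Algebra.adjoin B
      (gens (B := B) N α (kdata N u α f).t (kdata N u α f).finv)) ∧
    ∀ x, IsIntegral B x ↔ x ∈ Algebra.adjoin B
      (gens (B := B) N α (kdata N u α f).t (kdata N u α f).finv) := by
  rcases arith N α hN with ⟨α', rfl⟩ | ⟨g, N', α', a, b, rfl, rfl, hg, hN', hab, haN⟩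
  · exact modelI N hN hNu u α' f hf (kdata N u (α' * N) f)
  · have hmul : ((N' : ℕ) : B) * ((g : ℕ) : B) = ((N' * g : ℕ) : B) := by push_cast; ring
    rw [← hmul] at hNu
    have hN'u : IsUnit ((N' : ℕ) : B) := isUnit_of_mul_isUnit_left hNu
    have hgu : IsUnit ((g : ℕ) : B) := isUnit_of_mul_isUnit_right hNu
    exact modelII g N' α' a b u f hg hN' hab haN hgu hN'u hf (kdata (N' * g) u (α' * g) f)

end Groth.Agent.H74.CycCovFinal
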