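import Mathlib.RingTheory.Etale.StandardEtale
import Mathlib.RingTheory.AdjoinRoot

/-!
# Kummer-type standard étale algebras

`R[X]/(X^n - v f)` localized at `f` is étale over `R` when `n` and `v` are units of `R`.
-/

set_option autoImplicit false
universe u
open Polynomial

namespace Groth.Agent.H74.CycCovKummer

variable (R : Type u) [CommRing R]

/-- the polynomial `X^n - v f` -/
noncomputable def kpoly (n : ℕ) (c : R) : R[X] := X ^ n - C c

lemma kpoly_monic (n : ℕ) (hn : 1 ≤ n) (c : R) : (kpoly R n c).Monic :=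
  monic_X_pow_sub_C c (by omega)

/-- The standard étale pair `(X^n - v f, f)`. -/
noncomputable def kpair (n : ℕ) (hn : 1 ≤ n) (ni v vi f : R) (hni : (n : R) * ni = 1)
    (hv : v * vi = 1) : StandardEtalePair R where
  f := kpoly R n (v * f)
  monic_f := kpoly_monic R n hn _
  g := C f
  cond := by
    refine ⟨C (ni * vi) * X, - C vi, 1, ?_⟩
    obtain ⟨m, rfl⟩ : ∃ m, n = m + 1 := ⟨n - 1, by omega⟩
    simp only [kpoly, derivative_sub, derivative_X_pow, derivative_C, sub_zero, pow_one,
      Nat.add_sub_cancel]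
    have h1 : (C ((m + 1 : ℕ) : R) * X ^ m) * (C (ni * vi) * X) =
        C ((((m + 1 : ℕ) : R) * ni) * vi) * X ^ (m + 1) := by
      rw [C_mul, C_mul, C_mul]; ring
    rw [h1, hni, one_mul]
    have h2 : C vi * C (v * f) = (C f : R[X]) := by
      rw [← C_mul, ← mul_assoc, mul_comm vi v, hv, one_mul]
    linear_combination h2

/-- `(R[X]/(X^n - v f))[1/f]` is étale over `R` when `n` and `v` are units. -/
theorem etale_away (n : ℕ) (hn : 1 ≤ n) (hnu : IsUnit ((n : ℕ) : R)) (v f : R) (hv : IsUnit v) :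
    Algebra.Etale R (Localization.Away (AdjoinRoot.mk (kpoly R n (v * f)) (C f))) := by
  obtain ⟨nu, hnu⟩ := hnu
  obtain ⟨vu, hvu⟩ := hv
  let P := kpair R n hn (↑nu⁻¹ : R) v (↑vu⁻¹ : R) f (by rw [← hnu]; simp) (by rw [← hvu]; simp)
  exact Algebra.Etale.of_equiv P.equivAwayAdjoinRoot

/-- `R[X]/(X^n - v)` is étale over `R` when `n` and `v` are units. -/
theorem etale_adjoinRoot (n : ℕ) (hn : 1 ≤ n) (hnu : IsUnit ((n : ℕ) : R)) (v : R)
    (hv : IsUnit v) : Algebra.Etale R (AdjoinRoot (kpoly R n v)) := by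
  have h := etale_away R n hn hnu v 1 hv
  rw [mul_one] at h
  have hloc : IsLocalization.Away (AdjoinRoot.mk (kpoly R n v) (C 1)) (AdjoinRoot (kpoly R n v)) := by
    rw [map_one, map_one]
    exact IsLocalization.away_of_isUnit_of_bijective _ isUnit_one Function.bijective_id
  let e : Localization.Away (AdjoinRoot.mk (kpoly R n v) (C 1)) ≃ₐ[AdjoinRoot (kpoly R n v)]
      AdjoinRoot (kpoly R n v) :=
    IsLocalization.algEquiv (Submonoid.powers (AdjoinRoot.mk (kpoly R n v) (C 1))) _ _
  exact Algebra.Etale.of_equiv (e.restrictScalars R)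

end Groth.Agent.H74.CycCovKummer
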