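import Groth.Agent.H74.CycCovAsm

/-!
# Cyclic covers, model I: the case `N ∣ α`

Here `t^N = u f^(α' N)`, and the normalization is `B[s]/(s^N - u)` with `s = t / f^α'`.
-/

set_option autoImplicit false
set_option linter.style.haveILetI false
set_option linter.unusedSectionVars false
universe u
open Polynomial

namespace Groth.Agent.H74.CycCovModelI

open Groth.Agent.H74.CycCovKummer Groth.Agent.H74.CycCovReg Groth.Agent.H74.CycCovAsm

/-- flat base change preserves nonzerodivisors -/
theorem algebraMap_mem_nonZeroDivisors_of_flat (R S : Type u) [CommRing R] [CommRing S]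
    [Algebra R S] [Module.Flat R S] (f : R) (hf : f ∈ nonZeroDivisors R) :
    algebraMap R S f ∈ nonZeroDivisors S := by
  have h1 : IsSMulRegular R f := by
    intro a b hab
    exact (mul_cancel_left_mem_nonZeroDivisors hf).mp (by simpa [smul_eq_mul] using hab)
  have h2 : IsSMulRegular S (algebraMap R S f) := h1.of_flat
  rw [mem_nonZeroDivisors_iff_right]
  intro a ha
  apply h2
  simpa [smul_eq_mul, mul_comm] using ha

lemma root_pow' (R : Type u) [CommRing R] (n : ℕ) (c : R) :
    (AdjoinRoot.root (kpoly R n c)) ^ n = AdjoinRoot.of (kpoly R n c) c := by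
  have h := AdjoinRoot.mk_self (f := kpoly R n c)
  rw [kpoly, map_sub, map_pow, AdjoinRoot.mk_X, AdjoinRoot.mk_C, sub_eq_zero] at h
  exact h

/-- the generators of the candidate normalization -/
def gens {B : Type u} [CommRing B] {K : Type u} [CommRing K] (N α : ℕ) (t finv : K) : Set K :=
  Set.range fun i : Fin N => t ^ (i : ℕ) * finv ^ ((i : ℕ) * α / N)

lemma inv_unique {C : Type u} [CommRing C] {a b c : C} (h1 : a * b = 1) (h2 : a * c = 1) :
    b = c := by
  calc b = b * (a * c) := by rw [h2, mul_one]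
    _ = (a * b) * c := by ring
    _ = c := by rw [h1, one_mul]

variable {B : Type u} [CommRing B] [IsDomain B] [IsRegularRing B]
  {K : Type u} [CommRing K] [Algebra B K]

theorem modelI (N : ℕ) (hN : 1 ≤ N) (hNu : IsUnit ((N : ℕ) : B)) (u : Bˣ) (α' : ℕ) (f : B)
    (hf : f ≠ 0) (D : KData B N ((u : B) * f ^ (α' * N)) f K) :
    Module.Finite B (Algebra.adjoin B (gens (B := B) N (α' * N) D.t D.finv)) ∧
    IsRegularRing (Algebra.adjoin B (gens (B := B) N (α' * N) D.t D.finv)) ∧
    ∀ x : K, IsIntegral B x ↔ x ∈ Algebra.adjoin B (gens (B := B) N (α' * N) D.t D.finv) := by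
  set F : B[X] := kpoly B N (u : B) with hF
  have hmonic : F.Monic := kpoly_monic B N hN _
  haveI : Module.Finite B (AdjoinRoot F) := hmonic.finite_adjoinRoot
  haveI : Module.Free B (AdjoinRoot F) := hmonic.free_adjoinRoot
  haveI : Algebra.Etale B (AdjoinRoot F) := etale_adjoinRoot B N hN hNu u u.isUnit
  haveI : IsRegularRing (AdjoinRoot F) := isRegularRing_of_etale B _
  have hfM : algebraMap B (AdjoinRoot F) f ∈ nonZeroDivisors (AdjoinRoot F) :=
    algebraMap_mem_nonZeroDivisors_of_flat B _ f (mem_nonZeroDivisors_of_ne_zero hf)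
  have hs : (AdjoinRoot.root F) ^ N = algebraMap B (AdjoinRoot F) (u : B) := root_pow' B N _
  -- the element `y = t / f^α'`
  set y : K := D.t * D.finv ^ α' with hy
  have hffinv : ∀ k : ℕ, (algebraMap B K f) ^ k * D.finv ^ k = 1 := by
    intro k
    rw [← mul_pow, D.hf, one_pow]
  have hyN : y ^ N = algebraMap B K (u : B) := by
    rw [hy, mul_pow, D.ht, map_mul, map_pow, ← pow_mul, mul_assoc, hffinv, mul_one]
  have hφ0 : F.eval₂ (Algebra.ofId B K : B →+* K) y = 0 := by
    rw [hF, kpoly, eval₂_sub, eval₂_pow, eval₂_X, eval₂_C, hyN]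
    simp
  let φ : AdjoinRoot F →ₐ[B] K := AdjoinRoot.liftAlgHom F (Algebra.ofId B K) y hφ0
  have hφroot : φ (AdjoinRoot.root F) = y := AdjoinRoot.liftAlgHom_root ..
  -- the map `ψ`
  set Mf := Localization.Away (algebraMap B (AdjoinRoot F) f) with hMf
  set finv' : Mf := IsLocalization.Away.invSelf (algebraMap B (AdjoinRoot F) f) with hfinv'
  have hy' : algebraMap B Mf f * finv' = 1 := by
    rw [IsScalarTower.algebraMap_apply B (AdjoinRoot F) Mf]
    exact IsLocalization.Away.mul_invSelf _
  set x : Mf := algebraMap (AdjoinRoot F) Mf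
    (AdjoinRoot.root F * algebraMap B (AdjoinRoot F) f ^ α') with hx
  have hxN : x ^ N = algebraMap B Mf ((u : B) * f ^ (α' * N)) := by
    rw [hx, ← map_pow, mul_pow, hs, ← pow_mul, ← map_pow, ← map_mul,
      ← IsScalarTower.algebraMap_apply]
  obtain ⟨ψ, hψt⟩ := D.lift Mf x finv' hxN hy'
  have hψfinv : ψ D.finv = finv' := by
    have h1 : algebraMap B Mf f * ψ D.finv = 1 := by
      rw [← ψ.commutes, ← map_mul, D.hf, map_one]
    exact inv_unique h1 hy'
  have hψφ : ∀ m, ψ (φ m) = algebraMap (AdjoinRoot F) Mf m := by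
    have : ψ.comp φ = IsScalarTower.toAlgHom B (AdjoinRoot F) Mf := by
      apply AdjoinRoot.algHom_ext
      rw [AlgHom.comp_apply, hφroot, hy, map_mul, map_pow, hψt, hψfinv, hx, map_mul, map_pow,
        IsScalarTower.coe_toAlgHom', mul_assoc, ← IsScalarTower.algebraMap_apply B (AdjoinRoot F) Mf,
        ← mul_pow, hy', one_pow, mul_one]
    intro m
    exact congrArg (fun χ : AdjoinRoot F →ₐ[B] Mf => χ m) this
  have hunit : IsUnit (φ (algebraMap B (AdjoinRoot F) f)) := by
    rw [φ.commutes]
    exact IsUnit.of_mul_eq_one _ D.hf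
  let φ' : Mf →ₐ[B] K := IsLocalization.Away.liftAlgHom (algebraMap B (AdjoinRoot F) f)
    (f := φ) hunit
  have hφ'ψ : φ'.comp ψ = AlgHom.id B K := by
    apply D.ext
    rw [AlgHom.comp_apply, hψt, hx, AlgHom.id_apply]
    change IsLocalization.Away.lift (algebraMap B (AdjoinRoot F) f) hunit _ = _
    rw [IsLocalization.Away.lift_eq]
    change φ _ = _
    rw [map_mul, map_pow, hφroot, φ.commutes, hy, mul_assoc, mul_comm (D.finv ^ α'), hffinv,
      mul_one]
  have hψinj : Function.Injective ψ := by
    intro a b hab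
    have := congrArg φ' hab
    rwa [← AlgHom.comp_apply, ← AlgHom.comp_apply, hφ'ψ] at this
  -- the range
  have hrange : φ.range = Algebra.adjoin B (gens (B := B) N (α' * N) D.t D.finv) := by
    have h1 : φ.range = Algebra.adjoin B {y} := by
      rw [← Algebra.map_top, ← AdjoinRoot.adjoinRoot_eq_top, AlgHom.map_adjoin, Set.image_singleton,
        hφroot]
    rw [h1]
    apply le_antisymm
    · apply Algebra.adjoin_le
      rintro _ rfl
      rcases Nat.lt_or_ge 1 N with h2 | h2
      · apply Algebra.subset_adjoin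
        refine ⟨⟨1, h2⟩, ?_⟩
        simp only [pow_one, one_mul]
        rw [Nat.mul_div_cancel _ (by omega : 0 < N)]
      · have hN1 : N = 1 := by omega
        have : y = algebraMap B K (u : B) := by
          rw [← hyN, hN1, pow_one]
        rw [SetLike.mem_coe, this]
        exact Subalgebra.algebraMap_mem _ _
    · apply Algebra.adjoin_le
      rintro _ ⟨i, rfl⟩
      have h3 : (i : ℕ) * (α' * N) / N = (i : ℕ) * α' := by
        rw [← mul_assoc, Nat.mul_div_cancel _ (by omega : 0 < N)]
      simp only [h3]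
      have h4 : D.t ^ (i : ℕ) * D.finv ^ ((i : ℕ) * α') = y ^ (i : ℕ) := by
        rw [hy, mul_pow, ← pow_mul, Nat.mul_comm α' (i : ℕ)]
      rw [SetLike.mem_coe, h4]
      exact Subalgebra.pow_mem _ (Algebra.subset_adjoin (Set.mem_singleton y)) _
  have hasm := assembly f (AdjoinRoot F) hfM φ ψ hψφ hψinj
  rw [hrange] at hasm
  exact hasm

end Groth.Agent.H74.CycCovModelI
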