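import Groth.Agent.H74.CycCovModelI

/-!
# Cyclic covers, model II: the case `N' = N / gcd(N, α) ≥ 2`

`N = N' g`, `α = α' g`, `a α' = 1 + b N'`. The normalization of `t^N = u f^α` is
`B[s]/(s^g - u)[w]/(w^N' - s^a f)` with `s = t^N' / f^α'`, `w = t^a / f^b`.
-/

set_option autoImplicit false
set_option linter.style.haveILetI false
set_option linter.unusedSectionVars false
universe u
open Polynomial

namespace Groth.Agent.H74.CycCovModelII

open Groth.Agent.H74.CycCovKummer Groth.Agent.H74.CycCovReg Groth.Agent.H74.CycCovAsm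
  Groth.Agent.H74.CycCovModelI

/-- `B[s]/(s^g - u)` modulo `f` is regular when `B/f` is. -/
theorem isRegularRing_quot_kummer (B : Type u) [CommRing B] (g : ℕ) (hg : 1 ≤ g)
    (hgu : IsUnit ((g : ℕ) : B)) (u : Bˣ) (f : B) [IsRegularRing (B ⧸ Ideal.span {f})] :
    IsRegularRing (AdjoinRoot (kpoly B g (u : B)) ⧸
      Ideal.span {algebraMap B (AdjoinRoot (kpoly B g (u : B))) f}) := by
  set I : Ideal B := Ideal.span {f} with hI
  have hmap : (kpoly B g (u : B)).map (Ideal.Quotient.mk I) =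
      kpoly (B ⧸ I) g (Ideal.Quotient.mk I (u : B)) := by
    simp [kpoly]
  have hgu' : IsUnit ((g : ℕ) : B ⧸ I) := by
    have := hgu.map (Ideal.Quotient.mk I)
    rwa [map_natCast] at this
  haveI : Algebra.Etale (B ⧸ I) (AdjoinRoot (kpoly (B ⧸ I) g (Ideal.Quotient.mk I (u : B)))) :=
    etale_adjoinRoot (B ⧸ I) g hg hgu' _ (u.isUnit.map (Ideal.Quotient.mk I))
  haveI : IsRegularRing (AdjoinRoot (kpoly (B ⧸ I) g (Ideal.Quotient.mk I (u : B)))) :=
    isRegularRing_of_etale (B ⧸ I) _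
  have e₁ : (AdjoinRoot (kpoly B g (u : B)) ⧸ I.map (AdjoinRoot.of (kpoly B g (u : B)))) ≃+*
      AdjoinRoot (kpoly (B ⧸ I) g (Ideal.Quotient.mk I (u : B))) := by
    have := AdjoinRoot.quotAdjoinRootEquivQuotPolynomialQuot (I := I) (f := kpoly B g (u : B))
    rw [hmap] at this
    exact this
  have hspan : I.map (AdjoinRoot.of (kpoly B g (u : B))) =
      Ideal.span {algebraMap B (AdjoinRoot (kpoly B g (u : B))) f} := by
    rw [hI, Ideal.map_span, Set.image_singleton]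
    rfl
  exact IsRegularRing.of_ringEquiv ((Ideal.quotEquivOfEq hspan).symm.trans e₁).symm

section

variable (B : Type u) [CommRing B] (g N' a : ℕ) (u : Bˣ) (f : B)

local notation "B₁" => AdjoinRoot (kpoly B g (u : B))
local notation "s₁" => (AdjoinRoot.root (kpoly B g (u : B)))
local notation "f₁" => (algebraMap B (AdjoinRoot (kpoly B g (u : B))) f)
local notation "M₂" => AdjoinRoot (kpoly (AdjoinRoot (kpoly B g (u : B))) N' (s₁ ^ a * f₁))
local notation "w₂" =>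
  (AdjoinRoot.root (kpoly (AdjoinRoot (kpoly B g (u : B))) N' (s₁ ^ a * f₁)))

/-- the inverse of `s` -/
noncomputable def sinv : B₁ := s₁ ^ (g - 1) * algebraMap B B₁ (↑u⁻¹ : B)

lemma s_pow : s₁ ^ g = algebraMap B B₁ (u : B) := root_pow' B g _

lemma s_mul_sinv (hg : 1 ≤ g) : s₁ * sinv B g u = 1 := by
  rw [sinv, ← mul_assoc, ← pow_succ', Nat.sub_add_cancel hg, s_pow, ← map_mul, Units.mul_inv,
    map_one]

lemma w_pow : w₂ ^ N' = algebraMap B₁ M₂ (s₁ ^ a * f₁) := root_pow' _ N' _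

theorem isRegularRing_M [IsDomain B] [IsRegularRing B] [IsRegularRing (B ⧸ Ideal.span {f})]
    (hf : f ≠ 0) (hg : 1 ≤ g) (hgu : IsUnit ((g : ℕ) : B)) (hN' : 1 ≤ N')
    (hN'u : IsUnit ((N' : ℕ) : B)) :
    IsRegularRing M₂ ∧ Module.Finite B M₂ ∧ algebraMap B M₂ f ∈ nonZeroDivisors M₂ := by
  have hmonic1 : (kpoly B g (u : B)).Monic := kpoly_monic B g hg _
  haveI : Module.Finite B B₁ := hmonic1.finite_adjoinRoot
  haveI : Module.Free B B₁ := hmonic1.free_adjoinRoot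
  haveI : Algebra.Etale B B₁ := etale_adjoinRoot B g hg hgu u u.isUnit
  haveI : IsRegularRing B₁ := isRegularRing_of_etale B _
  have hf₁ : f₁ ∈ nonZeroDivisors B₁ :=
    algebraMap_mem_nonZeroDivisors_of_flat B _ f (mem_nonZeroDivisors_of_ne_zero hf)
  haveI : IsRegularRing (B₁ ⧸ Ideal.span {f₁}) := isRegularRing_quot_kummer B g hg hgu u f
  have hmonic2 : (kpoly B₁ N' (s₁ ^ a * f₁)).Monic := kpoly_monic _ N' hN' _
  haveI : Module.Finite B₁ M₂ := hmonic2.finite_adjoinRoot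
  haveI : Module.Free B₁ M₂ := hmonic2.free_adjoinRoot
  have hsunit : IsUnit (s₁ ^ a : B₁) :=
    (IsUnit.of_mul_eq_one _ (s_mul_sinv B g u hg)).pow a
  have hN'u₁ : IsUnit ((N' : ℕ) : B₁) := by
    have := hN'u.map (algebraMap B B₁)
    rwa [map_natCast] at this
  refine ⟨isRegularRing_kummer B₁ N' (s₁ ^ a) f₁ hN' hN'u₁ hsunit hf₁, ?_, ?_⟩
  · exact Module.Finite.trans B₁ M₂
  · have h1 : algebraMap B₁ M₂ f₁ ∈ nonZeroDivisors M₂ :=
      algebraMap_mem_nonZeroDivisors_of_flat B₁ _ f₁ hf₁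
    rwa [← IsScalarTower.algebraMap_apply B B₁ M₂] at h1

end


section identities

variable {C : Type u} [CommRing C]

lemma idA1 (w sM si fM : C) (N' α' a b : ℕ) (h1 : w ^ N' = sM ^ a * fM) (h2 : sM * si = 1)
    (hab : a * α' = 1 + b * N') : (w ^ α' * si ^ b) ^ N' = sM * fM ^ α' := by
  have e1 : (w ^ α' * si ^ b) ^ N' = (w ^ N') ^ α' * si ^ (b * N') := by ring
  rw [e1, h1, mul_pow, ← pow_mul, hab]
  have e2 : sM ^ (1 + b * N') * fM ^ α' * si ^ (b * N') = sM * fM ^ α' * (sM * si) ^ (b * N') := by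
    ring
  rw [e2, h2, one_pow, mul_one]

lemma idA2 (w sM si fM : C) (N' α' a b : ℕ) (h1 : w ^ N' = sM ^ a * fM) (h2 : sM * si = 1)
    (hab : a * α' = 1 + b * N') : (w ^ α' * si ^ b) ^ a = w * fM ^ b := by
  have e1 : (w ^ α' * si ^ b) ^ a = w ^ (a * α') * si ^ (a * b) := by ring
  rw [e1, hab]
  have e2 : w ^ (1 + b * N') * si ^ (a * b) = w * (w ^ N') ^ b * si ^ (a * b) := by ring
  rw [e2, h1]
  have e3 : w * (sM ^ a * fM) ^ b * si ^ (a * b) = w * fM ^ b * (sM * si) ^ (a * b) := by ring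
  rw [e3, h2, one_pow, mul_one]

lemma idA3 (t q : C) (N' α' a b : ℕ) (hab : a * α' = 1 + b * N') :
    (t ^ a * q ^ b) ^ α' = t * (t ^ N' * q ^ α') ^ b := by
  have e1 : (t ^ a * q ^ b) ^ α' = t ^ (a * α') * q ^ (b * α') := by ring
  rw [e1, hab]
  ring

lemma idA4 (t q Ff : C) (N' α' a b : ℕ) (hFq : Ff * q = 1) (hab : a * α' = 1 + b * N') :
    (t ^ a * q ^ b) ^ N' = (t ^ N' * q ^ α') ^ a * Ff := by
  have e1 : (t ^ N' * q ^ α') ^ a * Ff = t ^ (a * N') * (q ^ (a * α') * Ff) := by ring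
  rw [e1, hab]
  have e2 : q ^ (1 + b * N') * Ff = q ^ (b * N') * (Ff * q) := by ring
  rw [e2, hFq]
  ring

lemma idA5 (t q Ff uK : C) (N' α' g : ℕ) (ht : t ^ (N' * g) = uK * Ff ^ (α' * g))
    (hFq : Ff * q = 1) : (t ^ N' * q ^ α') ^ g = uK := by
  have e1 : (t ^ N' * q ^ α') ^ g = t ^ (N' * g) * q ^ (α' * g) := by ring
  rw [e1, ht]
  have e2 : uK * Ff ^ (α' * g) * q ^ (α' * g) = uK * (Ff * q) ^ (α' * g) := by ring
  rw [e2, hFq, one_pow, mul_one]

lemma idA6 (t q : C) (N' α' a b i c r : ℕ) (hab : a * α' = 1 + b * N')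
    (hi : i * α' = N' * c + r) :
    (t ^ a * q ^ b) ^ r * (t ^ N' * q ^ α') ^ (a * c) =
      t ^ i * q ^ c * (t ^ N' * q ^ α') ^ (b * i) := by
  have E1 : a * r + N' * (a * c) = i + N' * (b * i) := by
    calc a * r + N' * (a * c) = a * (N' * c + r) := by ring
      _ = a * (i * α') := by rw [hi]
      _ = i * (a * α') := by ring
      _ = i * (1 + b * N') := by rw [hab]
      _ = i + N' * (b * i) := by ring
  have E2 : b * r + α' * (a * c) = c + α' * (b * i) := by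
    calc b * r + α' * (a * c) = b * r + (a * α') * c := by ring
      _ = b * r + (1 + b * N') * c := by rw [hab]
      _ = b * (N' * c + r) + c := by ring
      _ = b * (i * α') + c := by rw [hi]
      _ = c + α' * (b * i) := by ring
  have e1 : (t ^ a * q ^ b) ^ r * (t ^ N' * q ^ α') ^ (a * c) =
      t ^ (a * r + N' * (a * c)) * q ^ (b * r + α' * (a * c)) := by ring
  have e2 : t ^ i * q ^ c * (t ^ N' * q ^ α') ^ (b * i) =
      t ^ (i + N' * (b * i)) * q ^ (c + α' * (b * i)) := by ring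
  rw [e1, e2, E1, E2]

end identities

end Groth.Agent.H74.CycCovModelII
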