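import Groth.Agent.H74.CycCovModelII

/-!
# Cyclic covers, model II: main theorem
-/

set_option autoImplicit false
set_option linter.style.haveILetI false
set_option linter.unusedSectionVars false
universe u
open Polynomial

namespace Groth.Agent.H74.CycCovModelII

open Groth.Agent.H74.CycCovKummer Groth.Agent.H74.CycCovReg Groth.Agent.H74.CycCovAsm
  Groth.Agent.H74.CycCovModelI

section

variable {B : Type u} [CommRing B] [IsDomain B] [IsRegularRing B]
  {K : Type u} [CommRing K] [Algebra B K]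
  (g N' α' a b : ℕ) (u : Bˣ) (f : B)

local notation "B₁" => AdjoinRoot (kpoly B g (u : B))
local notation "s₁" => (AdjoinRoot.root (kpoly B g (u : B)))
local notation "f₁" => (algebraMap B (AdjoinRoot (kpoly B g (u : B))) f)
local notation "F₂" => (kpoly (AdjoinRoot (kpoly B g (u : B))) N' (s₁ ^ a * f₁))
local notation "M₂" => AdjoinRoot (kpoly (AdjoinRoot (kpoly B g (u : B))) N' (s₁ ^ a * f₁))
local notation "w₂" =>
  (AdjoinRoot.root (kpoly (AdjoinRoot (kpoly B g (u : B))) N' (s₁ ^ a * f₁)))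

theorem modelII (hg : 1 ≤ g) (hN' : 2 ≤ N') (hab : a * α' = 1 + b * N') (haN : a < N')
    (hgu : IsUnit ((g : ℕ) : B)) (hN'u : IsUnit ((N' : ℕ) : B)) (hf : f ≠ 0)
    [IsRegularRing (B ⧸ Ideal.span {f})]
    (D : KData B (N' * g) ((u : B) * f ^ (α' * g)) f K) :
    Module.Finite B (Algebra.adjoin B (gens (B := B) (N' * g) (α' * g) D.t D.finv)) ∧
    IsRegularRing (Algebra.adjoin B (gens (B := B) (N' * g) (α' * g) D.t D.finv)) ∧
    ∀ x : K, IsIntegral B x ↔
      x ∈ Algebra.adjoin B (gens (B := B) (N' * g) (α' * g) D.t D.finv) := by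
  obtain ⟨hreg, hfin, hfM⟩ := isRegularRing_M B g N' a u f hf hg hgu (by omega) hN'u
  haveI := hreg
  haveI := hfin
  -- computations in `K`
  have hFq : algebraMap B K f * D.finv = 1 := D.hf
  have ht : D.t ^ (N' * g) = algebraMap B K (u : B) * algebraMap B K f ^ (α' * g) := by
    rw [D.ht, map_mul, map_pow]
  set y₁ : K := D.t ^ N' * D.finv ^ α' with hy₁
  set y₂ : K := D.t ^ a * D.finv ^ b with hy₂
  have hy₁g : y₁ ^ g = algebraMap B K (u : B) := idA5 _ _ _ _ _ _ _ ht hFq
  have hy₂N : y₂ ^ N' = y₁ ^ a * algebraMap B K f := idA4 _ _ _ _ _ _ _ hFq hab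
  have hy₂α : y₂ ^ α' = D.t * y₁ ^ b := idA3 _ _ _ _ _ _ hab
  have hφ₁0 : (kpoly B g (u : B)).eval₂ (Algebra.ofId B K : B →+* K) y₁ = 0 := by
    have hk : kpoly B g (u : B) = X ^ g - C (u : B) := rfl
    rw [hk, eval₂_sub, eval₂_pow, eval₂_X, eval₂_C, hy₁g]
    simp
  let φ₁ : B₁ →ₐ[B] K := AdjoinRoot.liftAlgHom _ (Algebra.ofId B K) y₁ hφ₁0
  have hφ₁s : φ₁ s₁ = y₁ := AdjoinRoot.liftAlgHom_root ..
  have hφ0 : (F₂).eval₂ (φ₁ : B₁ →+* K) y₂ = 0 := by
    have hk : F₂ = X ^ N' - C (s₁ ^ a * f₁) := rfl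
    rw [hk, eval₂_sub, eval₂_pow, eval₂_X, eval₂_C, hy₂N]
    change _ - φ₁ (s₁ ^ a * f₁) = 0
    rw [map_mul, map_pow, hφ₁s, φ₁.commutes, sub_self]
  let φ : M₂ →ₐ[B] K := AdjoinRoot.liftAlgHom _ φ₁ y₂ hφ0
  have hφw : φ w₂ = y₂ := AdjoinRoot.liftAlgHom_root ..
  have hφof : ∀ c : B₁, φ (algebraMap B₁ M₂ c) = φ₁ c := fun c =>
    AdjoinRoot.liftAlgHom_of ..
  -- computations in `M₂`
  have hssi : algebraMap B₁ M₂ s₁ * algebraMap B₁ M₂ (sinv B g u) = 1 := by
    rw [← map_mul, s_mul_sinv B g u hg, map_one]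
  have hfM₂ : algebraMap B₁ M₂ f₁ = algebraMap B M₂ f :=
    (IsScalarTower.algebraMap_apply B B₁ M₂ f).symm
  have hwN : w₂ ^ N' = algebraMap B₁ M₂ s₁ ^ a * algebraMap B M₂ f := by
    rw [w_pow, map_mul, map_pow, hfM₂]
  have hsg : algebraMap B₁ M₂ s₁ ^ g = algebraMap B M₂ (u : B) := by
    rw [← map_pow, s_pow, ← IsScalarTower.algebraMap_apply]
  set xM : M₂ := w₂ ^ α' * algebraMap B₁ M₂ (sinv B g u) ^ b with hxM
  have hxN' : xM ^ N' = algebraMap B₁ M₂ s₁ * algebraMap B M₂ f ^ α' :=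
    idA1 _ _ _ _ _ _ _ _ hwN hssi hab
  have hxa : xM ^ a = w₂ * algebraMap B M₂ f ^ b :=
    idA2 _ _ _ _ _ _ _ _ hwN hssi hab
  have hxNg : xM ^ (N' * g) = algebraMap B M₂ ((u : B) * f ^ (α' * g)) := by
    rw [pow_mul, hxN', mul_pow, hsg, ← pow_mul, map_mul, map_pow]
  -- the map `ψ`
  set Mf := Localization.Away (algebraMap B M₂ f) with hMf
  set finv' : Mf := IsLocalization.Away.invSelf (algebraMap B M₂ f) with hfinv'
  have hy' : algebraMap B Mf f * finv' = 1 := by
    rw [IsScalarTower.algebraMap_apply B M₂ Mf]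
    exact IsLocalization.Away.mul_invSelf _
  have hy'k : ∀ k : ℕ, algebraMap B Mf f ^ k * finv' ^ k = 1 := by
    intro k
    rw [← mul_pow, hy', one_pow]
  have hxK : (algebraMap M₂ Mf xM) ^ (N' * g) = algebraMap B Mf ((u : B) * f ^ (α' * g)) := by
    rw [← map_pow, hxNg, ← IsScalarTower.algebraMap_apply]
  obtain ⟨ψ, hψt⟩ := D.lift Mf (algebraMap M₂ Mf xM) finv' hxK hy'
  have hψfinv : ψ D.finv = finv' := by
    have h1 : algebraMap B Mf f * ψ D.finv = 1 := by
      rw [← ψ.commutes, ← map_mul, D.hf, map_one]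
    exact CycCovModelI.inv_unique h1 hy'
  have hψy₁ : ψ y₁ = algebraMap M₂ Mf (algebraMap B₁ M₂ s₁) := by
    rw [hy₁, map_mul, map_pow, map_pow, hψt, hψfinv, ← map_pow, hxN', map_mul, map_pow,
      ← IsScalarTower.algebraMap_apply B M₂ Mf, mul_assoc, hy'k, mul_one]
  have hψy₂ : ψ y₂ = algebraMap M₂ Mf w₂ := by
    rw [hy₂, map_mul, map_pow, map_pow, hψt, hψfinv, ← map_pow, hxa, map_mul, map_pow,
      ← IsScalarTower.algebraMap_apply B M₂ Mf, mul_assoc, hy'k, mul_one]
  have hψφ : ∀ m, ψ (φ m) = algebraMap M₂ Mf m := by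
    have : ψ.comp φ = IsScalarTower.toAlgHom B M₂ Mf := by
      apply AdjoinRoot.algHom_ext'
      · apply AdjoinRoot.algHom_ext
        simp only [AlgHom.comp_apply, AdjoinRoot.coe_ofAlgHom, IsScalarTower.coe_toAlgHom']
        change ψ (φ (algebraMap B₁ M₂ s₁)) = algebraMap M₂ Mf (algebraMap B₁ M₂ s₁)
        rw [hφof, hφ₁s, hψy₁]
      · rw [AlgHom.comp_apply, hφw, hψy₂, IsScalarTower.coe_toAlgHom']
    intro m
    exact congrArg (fun χ : M₂ →ₐ[B] Mf => χ m) this
  have hunit : IsUnit (φ (algebraMap B M₂ f)) := by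
    rw [φ.commutes]
    exact IsUnit.of_mul_eq_one _ D.hf
  let φ' : Mf →ₐ[B] K := IsLocalization.Away.liftAlgHom (algebraMap B M₂ f) (f := φ) hunit
  have hy₁z : y₁ * φ₁ (sinv B g u) = 1 := by
    rw [← hφ₁s, ← map_mul, s_mul_sinv B g u hg, map_one]
  have hφ'ψ : φ'.comp ψ = AlgHom.id B K := by
    apply D.ext
    rw [AlgHom.comp_apply, hψt, AlgHom.id_apply]
    change IsLocalization.Away.lift (algebraMap B M₂ f) hunit _ = _
    rw [IsLocalization.Away.lift_eq]
    change φ _ = _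
    rw [hxM, map_mul, map_pow, map_pow, hφw, hφof, hy₂α, mul_assoc, ← mul_pow, hy₁z, one_pow,
      mul_one]
  have hψinj : Function.Injective ψ := by
    intro x₁ x₂ hx
    have := congrArg φ' hx
    rwa [← AlgHom.comp_apply, ← AlgHom.comp_apply, hφ'ψ] at this
  -- the range
  have hrange : φ.range = Algebra.adjoin B (gens (B := B) (N' * g) (α' * g) D.t D.finv) := by
    have hNpos : 0 < N' * g := Nat.mul_pos (by omega) (by omega)
    have hexp : ∀ i : ℕ, i * (α' * g) / (N' * g) = i * α' / N' := by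
      intro i
      rw [← mul_assoc, Nat.mul_div_mul_right _ _ (by omega : 0 < g)]
    apply le_antisymm
    · -- `φ m ∈ A` for all `m`
      set A := Algebra.adjoin B (gens (B := B) (N' * g) (α' * g) D.t D.finv) with hA
      have hy₂A : y₂ ∈ A := by
        apply Algebra.subset_adjoin
        refine ⟨⟨a, lt_of_lt_of_le haN (Nat.le_mul_of_pos_right _ (by omega))⟩, ?_⟩
        simp only
        rw [hexp, hab, Nat.add_mul_div_right _ _ (by omega : 0 < N'),
          Nat.div_eq_of_lt (by omega : 1 < N'), zero_add]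
      have hy₁A : y₁ ∈ A := by
        rcases Nat.lt_or_ge 1 g with h2 | h2
        · apply Algebra.subset_adjoin
          refine ⟨⟨N', by nlinarith⟩, ?_⟩
          simp only
          rw [hexp, Nat.mul_div_cancel_left _ (by omega : 0 < N')]
        · have hg1 : g = 1 := by omega
          have : y₁ = algebraMap B K (u : B) := by
            rw [← hy₁g, hg1, pow_one]
          rw [this]
          exact Subalgebra.algebraMap_mem _ _
      have hφ₁A : ∀ c : B₁, φ₁ c ∈ A := by
        intro c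
        have hc : c ∈ Algebra.adjoin B ({s₁} : Set B₁) := by
          rw [AdjoinRoot.adjoinRoot_eq_top]; trivial
        induction hc using Algebra.adjoin_induction with
        | mem x hx =>
          rw [Set.mem_singleton_iff] at hx
          rw [hx, hφ₁s]; exact hy₁A
        | algebraMap r => rw [φ₁.commutes]; exact Subalgebra.algebraMap_mem _ _
        | add x y _ _ hx hy => rw [map_add]; exact Subalgebra.add_mem _ hx hy
        | mul x y _ _ hx hy => rw [map_mul]; exact Subalgebra.mul_mem _ hx hy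
      rintro _ ⟨m, rfl⟩
      have hm : m ∈ Algebra.adjoin B₁ ({w₂} : Set M₂) := by
        rw [AdjoinRoot.adjoinRoot_eq_top]; trivial
      change φ m ∈ A
      induction hm using Algebra.adjoin_induction with
      | mem x hx =>
        rw [Set.mem_singleton_iff] at hx
        rw [hx, hφw]; exact hy₂A
      | algebraMap r => rw [hφof]; exact hφ₁A r
      | add x y _ _ hx hy => rw [map_add]; exact Subalgebra.add_mem _ hx hy
      | mul x y _ _ hx hy => rw [map_mul]; exact Subalgebra.mul_mem _ hx hy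
    · apply Algebra.adjoin_le
      rintro _ ⟨i, rfl⟩
      simp only
      rw [hexp]
      set c := (i : ℕ) * α' / N' with hc
      set r := (i : ℕ) * α' % N' with hr
      have hi : (i : ℕ) * α' = N' * c + r := (Nat.div_add_mod _ _).symm
      have h6 := idA6 D.t D.finv N' α' a b (i : ℕ) c r hab hi
      refine ⟨w₂ ^ r * algebraMap B₁ M₂ (s₁ ^ (a * c) * sinv B g u ^ (b * (i : ℕ))), ?_⟩
      change φ _ = _
      rw [map_mul, map_pow, hφw, hφof, map_mul, map_pow, map_pow, hφ₁s, ← mul_assoc, h6,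
        mul_assoc, ← mul_pow, hy₁z, one_pow, mul_one]
  have hasm := assembly f M₂ hfM φ ψ hψφ hψinj
  rw [hrange] at hasm
  exact hasm

end

end Groth.Agent.H74.CycCovModelII
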