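import Mathlib.RingTheory.Polynomial.ScaleRoots
import Mathlib.RingTheory.IntegralClosure.IntegrallyClosed
import Mathlib.RingTheory.Localization.AtPrime.Basic
import Mathlib.RingTheory.Localization.Away.Basic
import Mathlib.RingTheory.Localization.FractionRing
import Mathlib.RingTheory.LocalProperties.Basic
import Mathlib.RingTheory.Ideal.Quotient.Operations

/-!
# A locally normal ring is integrally closed in its localization at a nonzerodivisor
-/

set_option autoImplicit false
set_option linter.style.haveILetI false
universe u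
open Polynomial

namespace Groth.Agent.H74.CycCovNormal

/-- If `q(m) = 0` where `q = scaleRoots p s` with `p` monic, `s` a nonzerodivisor, and all
localizations at maximal ideals are integrally closed domains, then `s ∣ m`. -/
theorem mem_span_of_eval_scaleRoots (M : Type u) [CommRing M]
    (hM : ∀ (Q : Ideal M) [Q.IsMaximal],
      IsDomain (Localization.AtPrime Q) ∧ IsIntegrallyClosed (Localization.AtPrime Q))
    (s m : M) (hs : s ∈ nonZeroDivisors M) (p : M[X]) (hp : p.Monic)
    (h : eval m (scaleRoots p s) = 0) : m ∈ Ideal.span {s} := by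
  refine Ideal.mem_of_localization_maximal ?_
  intro Q hQ
  obtain ⟨hdom, hic⟩ := hM Q
  set L := Localization.AtPrime Q
  set FL := FractionRing L
  let φ : M →+* L := algebraMap M L
  let g : L →+* FL := algebraMap L FL
  have hginj : Function.Injective g := IsFractionRing.injective L FL
  have hs' : φ s ≠ 0 := by
    have : φ s ∈ nonZeroDivisors L :=
      IsLocalization.map_nonZeroDivisors_le Q.primeCompl L (Submonoid.mem_map_of_mem _ hs)
    exact nonZeroDivisors.ne_zero this
  have hgs : g (φ s) ≠ 0 := fun h0 => hs' (hginj (by rw [h0, map_zero]))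
  set z : FL := g (φ m) / g (φ s) with hz
  have hmul : g (φ s) * z = g (φ m) := by rw [hz, mul_div_cancel₀ _ hgs]
  have hp' : (p.map φ).Monic := hp.map φ
  have hscale : (scaleRoots p s).map φ = scaleRoots (p.map φ) (φ s) := by
    apply map_scaleRoots
    rw [hp.leadingCoeff, map_one]
    exact one_ne_zero
  have h1 : eval₂ g (g (φ s) * z) (scaleRoots (p.map φ) (φ s)) =
      g (φ s) ^ (p.map φ).natDegree * eval₂ g z (p.map φ) := scaleRoots_eval₂_mul g z (φ s)
  have h2 : eval₂ g (g (φ s) * z) (scaleRoots (p.map φ) (φ s)) = 0 := by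
    rw [hmul, eval₂_at_apply, ← hscale, eval_map, eval₂_at_apply, h, map_zero, map_zero]
  rw [h2] at h1
  have h3 : eval₂ g z (p.map φ) = 0 := by
    rcases mul_eq_zero.mp h1.symm with h4 | h4
    · exact absurd h4 (pow_ne_zero _ hgs)
    · exact h4
  have hint : IsIntegral L z := ⟨p.map φ, hp', h3⟩
  obtain ⟨l, hl⟩ := IsIntegrallyClosed.algebraMap_eq_of_integral hint
  have h5 : φ m = φ s * l := by
    apply hginj
    rw [map_mul, ← hmul]
    congr 1
    exact hl.symm
  rw [Ideal.map_span, Set.image_singleton]
  exact Ideal.mem_span_singleton'.mpr ⟨l, by rw [mul_comm]; exact h5.symm⟩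

/-- If all localizations of `M` at maximal ideals are integrally closed domains and `x` is a
nonzerodivisor, then `M` is integrally closed in `M[1/x]`. -/
theorem exists_algebraMap_eq_of_isIntegral (M K : Type u) [CommRing M] [CommRing K] [Algebra M K]
    (x : M) [IsLocalization.Away x K] (hx : x ∈ nonZeroDivisors M)
    (hM : ∀ (Q : Ideal M) [Q.IsMaximal],
      IsDomain (Localization.AtPrime Q) ∧ IsIntegrallyClosed (Localization.AtPrime Q))
    (y : K) (hy : IsIntegral M y) : ∃ m, algebraMap M K m = y := by
  have hle : Submonoid.powers x ≤ nonZeroDivisors M := by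
    rintro _ ⟨k, rfl⟩
    exact pow_mem hx k
  have inj : Function.Injective (algebraMap M K) := IsLocalization.injective K hle
  obtain ⟨⟨m, s⟩, hms⟩ := IsLocalization.surj (Submonoid.powers x) y
  simp only at hms
  have hs : (s : M) ∈ nonZeroDivisors M := hle s.2
  obtain ⟨p, hp, hpy⟩ := hy
  have h5 : eval₂ (algebraMap M K) (algebraMap M K s * y) (scaleRoots p s) = 0 :=
    scaleRoots_eval₂_eq_zero _ hpy
  rw [mul_comm, hms, eval₂_at_apply] at h5
  have h6 : eval m (scaleRoots p s) = 0 := inj (by rw [h5, map_zero])
  have h7 := mem_span_of_eval_scaleRoots M hM s m hs p hp h6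
  obtain ⟨c, hc⟩ := Ideal.mem_span_singleton'.mp h7
  refine ⟨c, ?_⟩
  have hunit : IsUnit (algebraMap M K s) := IsLocalization.map_units K s
  apply hunit.mul_right_cancel
  rw [hms, ← map_mul, hc]

end Groth.Agent.H74.CycCovNormal
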