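import Groth.Agent.H74.DeRhamPoly
import Mathlib

/-!
# The algebraic Poincaré lemma for `k[x₁, …, xₙ]` in characteristic zero
-/

set_option autoImplicit false

open MvPolynomial ExteriorAlgebra KaehlerDifferential

namespace Groth.Agent.H74.DeRhamMvPoly

universe u

variable (k : Type u) [Field k] (n : ℕ)

local notation "A" => MvPolynomial (Fin n) k
local notation "E" => ExteriorAlgebra (MvPolynomial (Fin n) k) (Ω[MvPolynomial (Fin n) k⁄k])

/-- The Euler vector field `∑ xᵢ ∂/∂xᵢ`. -/
noncomputable def euler : Derivation k A A := mkDerivation k (fun i => (X i : A))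

theorem euler_X (i : Fin n) : euler k n (X i) = X i := mkDerivation_X _ _ _

theorem euler_monomial (s : Fin n →₀ ℕ) (r : k) :
    euler k n (monomial s r) = (s.sum fun _ e => e) • monomial s r := by
  rw [euler, mkDerivation_monomial]
  have h : ∀ i ∈ s.support, monomial (s - Finsupp.single i 1) ((s i : ℕ) : k) • (X i : A) =
      monomial s ((s i : ℕ) : k) := by
    intro i hi
    have hle : Finsupp.single i 1 ≤ s := by
      rw [Finsupp.single_le_iff]
      exact Nat.one_le_iff_ne_zero.2 (Finsupp.mem_support_iff.1 hi)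
    rw [smul_eq_mul, X, monomial_mul, mul_one, tsub_add_cancel_of_le hle]
  rw [Finsupp.sum, Finset.sum_congr rfl h, Finsupp.sum, ← map_sum, smul_monomial, smul_monomial,
    smul_eq_mul, nsmul_eq_mul, Nat.cast_sum, mul_comm]

theorem coeff_euler (m : Fin n →₀ ℕ) (f : A) :
    coeff m (euler k n f) = (m.sum fun _ e => e) • coeff m f := by
  induction f using MvPolynomial.induction_on' with
  | monomial s r =>
    rw [euler_monomial, coeff_smul, coeff_monomial]
    split_ifs with h
    · subst h; rfl
    · rw [smul_zero, smul_zero]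
  | add p q hp hq => rw [map_add, coeff_add, coeff_add, hp, hq, smul_add]

theorem eq_C_of_euler_eq_zero [CharZero k] (f : A) (h : euler k n f = 0) : f = C (coeff 0 f) := by
  ext m
  rw [coeff_C]
  split_ifs with hm
  · rw [hm]
  · have h1 := coeff_euler k n m f
    rw [h, coeff_zero] at h1
    have h2 : (m.sum fun _ e => e) ≠ 0 := by
      intro h0
      apply hm
      rw [Finsupp.sum, Finset.sum_eq_zero_iff] at h0
      ext i
      by_cases hi : i ∈ m.support
      · exact (h0 i hi).symm ▸ rfl
      · rw [Finsupp.notMem_support_iff.1 hi]; rfl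
    rw [nsmul_eq_mul] at h1
    rcases mul_eq_zero.1 h1.symm with h3 | h3
    · exact absurd (Nat.cast_eq_zero.1 h3) h2
    · exact h3

/-- The Lie derivative along the Euler vector field. -/
noncomputable def L : E →ₗ[k] E := Groth.Agent.H74.LieDer.lie k A (euler k n)

open Groth.Agent.H74.DeRhamPoly in
/-- The multiplicative monoid of bihomogeneous elements: form-degree `i`, weight `j`, and weight
zero only in form-degree zero. -/
noncomputable def Sm : Submonoid E where
  carrier := {g | ∃ i j : ℕ, g ∈ ⋀[A]^i (Ω[A⁄k]) ∧ L k n g = j • g ∧ (j = 0 → i = 0)}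
  one_mem' := by
    refine ⟨0, 0, ?_, ?_, fun _ => rfl⟩
    · have := mem_pow_zero_algebraMap (M := Ω[A⁄k]) (1 : A)
      rwa [map_one] at this
    · rw [zero_smul]; exact Groth.Agent.H74.LieDer.lie_one k A _
  mul_mem' := by
    rintro g g' ⟨i, j, hg, hL, h0⟩ ⟨i', j', hg', hL', h0'⟩
    refine ⟨i + i', j + j', mul_mem_pow_add hg hg', ?_, fun hjj => ?_⟩
    · rw [L, Groth.Agent.H74.LieDer.lie_mul]
      change L k n g * g' + g * L k n g' = _
      rw [hL, hL', smul_mul_assoc, mul_smul_comm, add_smul]
    · rw [h0 (by omega), h0' (by omega)]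

open Groth.Agent.H74.DeRhamPoly in
theorem algebraMap_monomial_mem (s : Fin n →₀ ℕ) (r : k) :
    algebraMap A E (monomial s r) ∈ Sm k n := by
  refine ⟨0, s.sum fun _ e => e, mem_pow_zero_algebraMap _, ?_, fun _ => rfl⟩
  rw [L, Groth.Agent.H74.LieDer.lie_algebraMap, euler_monomial, map_nsmul]

open Groth.Agent.H74.DeRhamPoly in
theorem ι_D_X_mem (i : Fin n) : ι A (D k A (X i)) ∈ Sm k n := by
  refine ⟨1, 1, mem_pow_one_ι _, ?_, fun h => by omega⟩
  rw [L, Groth.Agent.H74.LieDer.lie_ι_D, euler_X, one_smul]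

theorem algebraMap_mem_closure (f : A) :
    algebraMap A E f ∈ Subring.closure (Sm k n : Set E) := by
  induction f using MvPolynomial.induction_on' with
  | add p q hp hq => rw [map_add]; exact add_mem hp hq
  | monomial s r => exact Subring.subset_closure (algebraMap_monomial_mem k n s r)

theorem ι_D_mem_closure (f : A) :
    ι A (D k A f) ∈ Subring.closure (Sm k n : Set E) := by
  induction f using MvPolynomial.induction_on with
  | C a =>
    rw [← MvPolynomial.algebraMap_eq, Derivation.map_algebraMap, map_zero]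
    exact zero_mem _
  | add p q hp hq => rw [map_add, map_add]; exact add_mem hp hq
  | mul_X p i h =>
    rw [Derivation.leibniz, map_add, map_smul, map_smul, Algebra.smul_def, Algebra.smul_def]
    exact add_mem (mul_mem (algebraMap_mem_closure k n _)
      (Subring.subset_closure (ι_D_X_mem k n i))) (mul_mem (algebraMap_mem_closure k n _) h)

theorem ι_mem_closure (ω : Ω[A⁄k]) :
    ι A ω ∈ Subring.closure (Sm k n : Set E) := by
  induction Groth.Agent.H39.span_D_top k A ω using Submodule.span_induction with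
  | mem x hx =>
    obtain ⟨b, rfl⟩ := hx
    exact ι_D_mem_closure k n b
  | zero => rw [map_zero]; exact zero_mem _
  | add x y _ _ hx hy => rw [map_add]; exact add_mem hx hy
  | smul a x _ hx =>
    rw [map_smul, Algebra.smul_def]
    exact mul_mem (algebraMap_mem_closure k n a) hx

theorem mem_closure (Y : E) : Y ∈ Subring.closure (Sm k n : Set E) := by
  induction Y using ExteriorAlgebra.induction with
  | algebraMap f => exact algebraMap_mem_closure k n f
  | ι ω => exact ι_mem_closure k n ω
  | mul a b ha hb => exact mul_mem ha hb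
  | add a b ha hb => exact add_mem ha hb

theorem mem_addClosure (Y : E) : Y ∈ AddSubgroup.closure (Sm k n : Set E) := by
  have := (Subring.mem_closure_iff).1 (mem_closure k n Y)
  rwa [Submonoid.closure_eq] at this

variable [CharZero k]

open Groth.Agent.H74.LieDer Groth.Agent.H74.DeRhamPoly in
/-- On forms of positive degree the spectral projectors eventually vanish. -/
theorem exists_P_eq_zero (p : ℕ) (Y : E) (hY : Y ∈ ⋀[A]^(p + 1) (Ω[A⁄k])) :
    ∃ N : ℕ, ∀ M, N ≤ M → P (L k n) M Y = 0 := by
  have key : ∀ Y : E, ∃ N : ℕ, ∀ M, N ≤ M →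
      P (L k n) M (Groth.Agent.H74.ExtPowBC.proj A (Ω[A⁄k]) (p + 1) Y : E) = 0 := by
    intro Y
    induction mem_addClosure k n Y using AddSubgroup.closure_induction with
    | mem g hg =>
      obtain ⟨i', j, hgi, hL, h0⟩ := hg
      by_cases hii : i' = p + 1
      · subst hii
        rw [proj_of_mem _ _ hgi]
        have hj : 1 ≤ j := by
          by_contra hj
          have := h0 (by omega)
          omega
        exact ⟨j, fun M hM => P_of_eigen _ hL hj hM⟩
      · rw [proj_of_mem_ne _ _ hii hgi]
        exact ⟨0, fun M _ => by rw [Submodule.coe_zero, map_zero]⟩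
    | zero =>
      exact ⟨0, fun M _ => by rw [map_zero, Submodule.coe_zero, map_zero]⟩
    | add x y _ _ hx hy =>
      obtain ⟨N, h⟩ := hx
      obtain ⟨N', h'⟩ := hy
      refine ⟨max N N', fun M hM => ?_⟩
      rw [map_add, Submodule.coe_add, map_add,
        h M (le_trans (le_max_left _ _) hM), h' M (le_trans (le_max_right _ _) hM), add_zero]
    | neg x _ hx =>
      obtain ⟨N, h⟩ := hx
      refine ⟨N, fun M hM => ?_⟩
      rw [map_neg, Submodule.coe_neg, map_neg, h M hM, neg_zero]
  obtain ⟨N, h⟩ := key Y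
  rw [proj_of_mem _ _ hY] at h
  exact ⟨N, h⟩

open Groth.Agent.H74.LieDer in
/-- The Poincaré lemma: closed forms of positive degree are exact. -/
theorem poincare (p : ℕ) (ω : E) (hω : ω ∈ ⋀[A]^(p + 1) (Ω[A⁄k]))
    (hd : Groth.Agent.H39.dR k A ω = 0) :
    ∃ θ ∈ ⋀[A]^p (Ω[A⁄k]), Groth.Agent.H39.dR k A θ = ω := by
  obtain ⟨N, h⟩ := exists_P_eq_zero k n p ω hω
  have hQ : Q (L k n) N ω ∈ ⋀[A]^(p + 1) (Ω[A⁄k]) := by
    have := Q_mem (L k n) ((⋀[A]^(p + 1) (Ω[A⁄k])).restrictScalars k)
      (fun x hx => lie_mem k A (euler k n) hx) N (x := ω) hω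
    exact this
  refine ⟨cv k A (euler k n) (Q (L k n) N ω), cv_mem k A _ hQ, ?_⟩
  have h1 := sub_P (L k n) N ω
  rw [h N le_rfl, sub_zero] at h1
  have h2 : Groth.Agent.H39.dR k A (Q (L k n) N ω) = 0 := by
    rw [comm_Q (L k n) (L k n) (Groth.Agent.H39.dR k A)
      (fun x => (lie_dR k A (euler k n) x).symm), hd, map_zero]
  have h3 : L k n (Q (L k n) N ω) = Groth.Agent.H39.dR k A (cv k A (euler k n) (Q (L k n) N ω)) +
      cv k A (euler k n) (Groth.Agent.H39.dR k A (Q (L k n) N ω)) := rfl
  rw [h3, h2, map_zero, add_zero] at h1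
  exact h1.symm

open Groth.Agent.H74.LieDer in
/-- Closed functions are constant. -/
theorem const_of_closed (a : A) (h : Groth.Agent.H39.dR k A (algebraMap A E a) = 0) :
    ∃ c : k, a = C c := by
  refine ⟨coeff 0 a, eq_C_of_euler_eq_zero k n a ?_⟩
  rw [Groth.Agent.H39.dR_algebraMap] at h
  have h1 := cv_ι_D k A (euler k n) a
  rw [h, map_zero] at h1
  exact (ExteriorAlgebra.algebraMap_eq_zero_iff _ _).1 h1.symm

end Groth.Agent.H74.DeRhamMvPoly
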