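import Groth.Agent.H74.DeRhamPoly
import Groth.Agent.S15293
import Groth.Agent.S15294
import Mathlib

/-!
# `A → A[X]` is a quasi-isomorphism on de Rham complexes over a `ℚ`-algebra
-/

set_option autoImplicit false

open Polynomial ExteriorAlgebra KaehlerDifferential

namespace Groth.Agent.H74.DeRhamPoly

universe u

variable (R A : Type u) [CommRing R] [CommRing A] [Algebra R A]

local notation "EA" => ExteriorAlgebra A (Ω[A⁄R])
local notation "EB" => ExteriorAlgebra A[X] (Ω[A[X]⁄R])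

open Groth.Agent.H74.LieDer in
/-- The homotopy: a closed `i`-form on `A[X]` differs from a form coming from `A` by an exact form. -/
theorem exists_htpy [Algebra ℚ R] (i : ℕ) (Y : EB) (hY : Y ∈ ⋀[A[X]]^i (Ω[A[X]⁄R]))
    (hdY : Groth.Agent.H39.dR R A[X] Y = 0) :
    ∃ x : EA, x ∈ ⋀[A]^i (Ω[A⁄R]) ∧ ∃ Z : EB, (i = 0 → Z = 0) ∧
      (∀ k, i = k + 1 → Z ∈ ⋀[A[X]]^k (Ω[A[X]⁄R])) ∧
      Y - Psi R A A[X] x = Groth.Agent.H39.dR R A[X] Z := by
  obtain ⟨N, x, hx, h⟩ := exists_proj R A i Y hY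
  have hQ : Q (L R A) N Y ∈ ⋀[A[X]]^i (Ω[A[X]⁄R]) := by
    have := Q_mem (L R A) ((⋀[A[X]]^i (Ω[A[X]⁄R])).restrictScalars R)
      (fun x hx => lie_mem R A[X] (theta R A) hx) N (x := Y) hY
    exact this
  refine ⟨x, hx, cv R A[X] (theta R A) (Q (L R A) N Y), fun hi => ?_, fun k hk => ?_, ?_⟩
  · subst hi
    exact cv_eq_zero_of_mem_zero R A[X] _ hQ
  · subst hk
    exact cv_mem R A[X] _ hQ
  · rw [← h N le_rfl, sub_P]
    change lie R A[X] (theta R A) _ = _
    rw [lie_apply]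
    have : Groth.Agent.H39.dR R A[X] (Q (L R A) N Y) = 0 := by
      rw [comm_Q (L R A) (L R A) (Groth.Agent.H39.dR R A[X])
        (fun x => (lie_dR R A[X] (theta R A) x).symm), hdY, map_zero]
    rw [this, map_zero, add_zero]

/-- A retraction of the de Rham complexes induced by `X ↦ 0`. -/
theorem exists_retraction :
    ∃ φ : ∀ p : ℕ, ↥(⋀[A[X]]^p (Ω[A[X]⁄R])) →+ ↥(⋀[A]^p (Ω[A⁄R])),
      DeRham.IsCxMap (D R A[X]) (D R A) (Polynomial.evalRingHom (0 : A)) φ := by
  let _ : Algebra A[X] A := (Polynomial.evalRingHom (0 : A)).toAlgebra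
  have _ : IsScalarTower R A[X] A := IsScalarTower.of_algebraMap_eq fun r => by
    change _ = Polynomial.evalRingHom (0 : A) _
    rw [IsScalarTower.algebraMap_apply R A A[X], Polynomial.algebraMap_apply,
      Algebra.algebraMap_self_apply, Polynomial.coe_evalRingHom, Polynomial.eval_C]
  exact Groth.Agent.S15293.result R R A[X] A

theorem main [Algebra ℚ R]
    (d : ∀ p : ℕ, ↥(⋀[A]^p (Ω[A⁄R])) →ₗ[R] ↥(⋀[A]^(p + 1) (Ω[A⁄R])))
    (hd : DeRham.IsDiff (KaehlerDifferential.D R A) d)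
    (d' : ∀ p : ℕ, ↥(⋀[A[X]]^p (Ω[A[X]⁄R])) →ₗ[R] ↥(⋀[A[X]]^(p + 1) (Ω[A[X]⁄R])))
    (hd' : DeRham.IsDiff (KaehlerDifferential.D R A[X]) d')
    (ψ : ∀ p : ℕ, ↥(⋀[A]^p (Ω[A⁄R])) →+ ↥(⋀[A[X]]^p (Ω[A[X]⁄R])))
    (hψ : DeRham.IsCxMap (KaehlerDifferential.D R A) (KaehlerDifferential.D R A[X])
      (algebraMap A A[X]) ψ)
    (hcomm : ∀ (p : ℕ) (x : ↥(⋀[A]^p (Ω[A⁄R]))), ψ (p + 1) (d p x) = d' p (ψ p x)) (i : ℕ) :
    (∀ y ∈ DeRham.cocycles d' i, ∃ x ∈ DeRham.cocycles d i,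
        y - ψ i x ∈ DeRham.coboundaries d' i) ∧
      (∀ x ∈ DeRham.cocycles d i, ψ i x ∈ DeRham.coboundaries d' i →
        x ∈ DeRham.coboundaries d i) := by
  obtain ⟨φ, hφ⟩ := exists_retraction R A
  -- φ commutes with the differentials
  have hφd : ∀ (p : ℕ) (y : ↥(⋀[A[X]]^p (Ω[A[X]⁄R]))), φ (p + 1) (d' p y) = d p (φ p y) := by
    intro p y
    induction y using Groth.Agent.H76.deRham_gen_induction R A[X] p with
    | zero => simp
    | add x y hx hy => rw [map_add, map_add, map_add, map_add, hx, hy]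
    | gen b₀ b =>
      rw [hd'.1 p b₀ b, Groth.Agent.H76.deRham_ιMulti_cons_eq_gen, hφ (p + 1), hφ p, hd.1 p,
        Groth.Agent.H76.deRham_ιMulti_cons_eq_gen, map_one]
      congr 1
      funext i
      refine Fin.cases ?_ (fun j => ?_) i <;> simp
  -- φ is a retraction of ψ
  have hφψ : ∀ (p : ℕ) (x : ↥(⋀[A]^p (Ω[A⁄R]))), φ p (ψ p x) = x := by
    intro p x
    induction x using Groth.Agent.H76.deRham_gen_induction R A p with
    | zero => simp
    | add x y hx hy => rw [map_add, map_add, hx, hy]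
    | gen b₀ b =>
      rw [hψ p b₀ b, hφ p]
      simp only [Polynomial.algebraMap_apply, Algebra.algebraMap_self_apply,
        Polynomial.coe_evalRingHom, Polynomial.eval_C]
  refine ⟨fun y hy => ?_, fun x hx hψx => ?_⟩
  · -- surjectivity on cohomology
    have hdy : d' i y = 0 := hy
    have hY : Groth.Agent.H39.dR R A[X] (y : EB) = 0 := by
      rw [← Groth.Agent.H74.DeRhamQuot.coe_dA d' hd' i y, hdy, Submodule.coe_zero]
    obtain ⟨x, hx, Z, hZ0, hZk, hYZ⟩ := exists_htpy R A i (y : EB) y.2 hY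
    have hψx : ((ψ i ⟨x, hx⟩ : ↥(⋀[A[X]]^i (Ω[A[X]⁄R]))) : EB) = Psi R A A[X] x :=
      coe_cxMap ψ hψ i ⟨x, hx⟩
    have hcob : y - ψ i ⟨x, hx⟩ ∈ DeRham.coboundaries d' i := by
      cases i with
      | zero =>
        have : y - ψ 0 ⟨x, hx⟩ = 0 := by
          apply Subtype.ext
          rw [Submodule.coe_sub, hψx, hYZ, hZ0 rfl, map_zero, Submodule.coe_zero]
        rw [this]
        exact zero_mem _
      | succ k =>
        refine ⟨⟨Z, hZk k rfl⟩, ?_⟩
        apply Subtype.ext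
        rw [Groth.Agent.H74.DeRhamQuot.coe_dA d' hd' k, Submodule.coe_sub, hψx, hYZ]
    refine ⟨⟨x, hx⟩, ?_, hcob⟩
    -- the form x is closed
    change d i ⟨x, hx⟩ = 0
    have h1 : d' i (ψ i ⟨x, hx⟩) = 0 := by
      have h2 : d' i (y - ψ i ⟨x, hx⟩) = 0 := by
        cases i with
        | zero =>
          have : y - ψ 0 ⟨x, hx⟩ = 0 := by
            have := hcob
            simpa [DeRham.coboundaries] using this
          rw [this, map_zero]
        | succ k =>
          obtain ⟨z, hz⟩ := hcob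
          rw [← hz]
          exact LinearMap.congr_fun (hd'.2 k) z
      rw [map_sub, hdy, zero_sub, neg_eq_zero] at h2
      exact h2
    rw [← hφψ (i + 1) (d i ⟨x, hx⟩), hcomm, h1, map_zero]
  · -- injectivity on cohomology
    cases i with
    | zero =>
      have : ψ 0 x = 0 := by simpa [DeRham.coboundaries] using hψx
      have hx0 : x = 0 := by rw [← hφψ 0 x, this, map_zero]
      rw [hx0]
      exact zero_mem _
    | succ k =>
      obtain ⟨z, hz⟩ := hψx
      refine ⟨φ k z, ?_⟩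
      rw [← hφd, hz, hφψ]

end Groth.Agent.H74.DeRhamPoly
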