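import Mathlib

/-!
# Frobenius is nilpotent on `W(𝔞)` for `𝔞` of bounded nil exponent and `p` nilpotent
(helper74, for S14865/S14866)
-/

set_option autoImplicit false

namespace Groth.Agent.H74.WittFrobNil

open WittVector MvPolynomial

variable {p : ℕ} [hp : Fact p.Prime] {S : Type*} [CommRing S]

local notation "𝕎" => WittVector p

omit hp in
/-- Evaluation of the auxiliary Frobenius polynomial at a Witt vector with coefficients in `𝔟`
lies in `𝔟`. -/
lemma aeval_frobeniusPolyAux_mem (𝔟 : Ideal S) (x : ℕ → S) (hx : ∀ n, x n ∈ 𝔟) (n : ℕ) :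
    aeval x (frobeniusPolyAux p n) ∈ 𝔟 := by
  induction n using Nat.strong_induction_on with
  | _ n ih =>
    rw [frobeniusPolyAux_eq, map_sub, aeval_X, map_sum]
    refine sub_mem (hx _) (Submodule.sum_mem _ fun i hi => ?_)
    rw [map_sum]
    refine Submodule.sum_mem _ fun j _ => ?_
    rw [map_mul, map_mul, map_pow _ (frobeniusPolyAux p i), pow_succ]
    apply Ideal.mul_mem_right
    apply Ideal.mul_mem_left
    apply Ideal.mul_mem_left
    exact ih i (Finset.mem_range.1 hi)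

lemma coeff_frobenius_sub_pow_mem (𝔟 : Ideal S) (x : 𝕎 S) (hx : ∀ n, x.coeff n ∈ 𝔟) (n : ℕ) :
    (frobenius x).coeff n - x.coeff n ^ p ∈ Ideal.span {(p : S)} * 𝔟 := by
  rw [coeff_frobenius, frobeniusPoly, map_add, map_mul, map_pow, aeval_X, add_sub_cancel_left]
  refine Ideal.mul_mem_mul ?_ (aeval_frobeniusPolyAux_mem 𝔟 x.coeff hx n)
  rw [Ideal.mem_span_singleton]
  have : (aeval x.coeff) (C (p : ℤ) : MvPolynomial ℕ ℤ) = (p : S) := by
    rw [aeval_C]; simp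
  rw [this]

variable (p) in
/-- The operator on ideals `𝔟 ↦ (x^p : x ∈ 𝔟) + p𝔟`. -/
def T (𝔟 : Ideal S) : Ideal S :=
  Ideal.span ((fun x => x ^ p) '' (𝔟 : Set S)) ⊔ Ideal.span {(p : S)} * 𝔟

lemma coeff_frobenius_mem_T (𝔟 : Ideal S) (x : 𝕎 S) (hx : ∀ n, x.coeff n ∈ 𝔟) (n : ℕ) :
    (frobenius x).coeff n ∈ T p 𝔟 := by
  have h1 := coeff_frobenius_sub_pow_mem 𝔟 x hx n
  have h2 : x.coeff n ^ p ∈ Ideal.span ((fun x => x ^ p) '' (𝔟 : Set S)) :=
    Ideal.subset_span ⟨x.coeff n, hx n, rfl⟩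
  have : (frobenius x).coeff n = x.coeff n ^ p + ((frobenius x).coeff n - x.coeff n ^ p) := by ring
  rw [this]
  exact Submodule.add_mem_sup h2 h1

omit hp in
lemma T_mono {𝔟 𝔟' : Ideal S} (h : 𝔟 ≤ 𝔟') : T p 𝔟 ≤ T p 𝔟' := by
  unfold T
  exact sup_le_sup (Ideal.span_mono (Set.image_mono h)) (Ideal.mul_mono_right h)

lemma T_le (𝔟 : Ideal S) : T p 𝔟 ≤ 𝔟 := by
  unfold T
  rw [sup_le_iff]
  constructor
  · rw [Ideal.span_le]
    rintro _ ⟨x, hx, rfl⟩
    exact Ideal.pow_mem_of_mem _ hx _ hp.out.pos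
  · exact Ideal.mul_le_right

lemma iterate_T_le (𝔟 : Ideal S) (k : ℕ) : (T p)^[k] 𝔟 ≤ 𝔟 := by
  induction k with
  | zero => exact le_rfl
  | succ k ih =>
    rw [Function.iterate_succ_apply']
    exact le_trans (T_le _) ih

/-- `z ∈ (A) + (p)` implies `z^p ∈ (a^p : a ∈ A) + (p)`. -/
lemma pow_mem_of_mem_span_sup (A : Set S) {z : S}
    (hz : z ∈ Ideal.span A ⊔ Ideal.span {(p : S)}) :
    z ^ p ∈ Ideal.span ((fun x => x ^ p) '' A) ⊔ Ideal.span {(p : S)} := by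
  set tgt := Ideal.span ((fun x => x ^ p) '' A) ⊔ Ideal.span {(p : S)} with htgt
  have hp_mem : ∀ r : S, (p : S) * r ∈ tgt := fun r =>
    Ideal.mul_mem_right _ _ (Ideal.mem_sup_right (Ideal.mem_span_singleton_self _))
  have hadd : ∀ a b : S, a ^ p ∈ tgt → b ^ p ∈ tgt → (a + b) ^ p ∈ tgt := by
    intro a b ha hb
    obtain ⟨r, hr⟩ := exists_add_pow_prime_eq hp.out a b
    rw [hr]
    refine add_mem (add_mem ha hb) ?_
    rw [mul_assoc, mul_assoc]
    exact hp_mem _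
  obtain ⟨u, hu, v, hv, rfl⟩ := Submodule.mem_sup.1 hz
  apply hadd
  · -- `u ^ p ∈ tgt`
    have : ∀ u ∈ Ideal.span A, u ^ p ∈ tgt := by
      intro u hu
      induction hu using Submodule.span_induction with
      | mem a ha => exact Ideal.mem_sup_left (Ideal.subset_span ⟨a, ha, rfl⟩)
      | zero => rw [zero_pow hp.out.ne_zero]; exact zero_mem _
      | add a b _ _ ha hb => exact hadd a b ha hb
      | smul s a _ ha => rw [smul_eq_mul, mul_pow]; exact Ideal.mul_mem_left _ _ ha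
    exact this u hu
  · have : v ^ p ∈ Ideal.span {(p : S)} := Ideal.pow_mem_of_mem _ hv _ hp.out.pos
    exact Ideal.mem_sup_right this

lemma T_span_sup_le (A : Set S) :
    T p (Ideal.span A ⊔ Ideal.span {(p : S)}) ≤
      Ideal.span ((fun x => x ^ p) '' A) ⊔ Ideal.span {(p : S)} := by
  unfold T
  rw [sup_le_iff]
  constructor
  · rw [Ideal.span_le]
    rintro _ ⟨z, hz, rfl⟩
    exact pow_mem_of_mem_span_sup A hz
  · exact le_trans (Ideal.mul_le_left (I := Ideal.span {(p : S)})) le_sup_right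

/-- Phase 1. -/
lemma iterate_T_le_phase1 (𝔞 : Ideal S) (k : ℕ) :
    (T p)^[k] 𝔞 ≤ Ideal.span ((fun x => x ^ p ^ k) '' (𝔞 : Set S)) ⊔ Ideal.span {(p : S)} := by
  induction k with
  | zero =>
    simp only [Function.iterate_zero, id_eq, pow_zero, pow_one, Set.image_id', Ideal.span_eq]
    exact le_sup_left
  | succ k ih =>
    rw [Function.iterate_succ_apply']
    refine le_trans (T_mono ih) (le_trans (T_span_sup_le _) ?_)
    rw [Set.image_image]
    apply le_of_eq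
    congr 2
    ext x
    simp only [Set.mem_image]
    constructor
    · rintro ⟨a, ha, rfl⟩; exact ⟨a, ha, by rw [← pow_mul, ← pow_succ]⟩
    · rintro ⟨a, ha, rfl⟩; exact ⟨a, ha, by rw [← pow_mul, ← pow_succ]⟩

/-- Phase 2. -/
lemma iterate_T_le_phase2 (𝔟 : Ideal S) (h𝔟 : 𝔟 ≤ Ideal.span {(p : S)}) (j : ℕ) :
    (T p)^[j] 𝔟 ≤ Ideal.span {(p : S) ^ (j + 1)} := by
  induction j with
  | zero => simpa using h𝔟
  | succ j ih =>
    rw [Function.iterate_succ_apply']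
    refine le_trans (T_mono ih) ?_
    unfold T
    rw [sup_le_iff]
    constructor
    · rw [Ideal.span_le]
      rintro _ ⟨z, hz, rfl⟩
      rw [SetLike.mem_coe, Ideal.mem_span_singleton] at hz ⊢
      obtain ⟨s, rfl⟩ := hz
      change (p : S) ^ (j + 1 + 1) ∣ ((p : S) ^ (j + 1) * s) ^ p
      rw [mul_pow, ← pow_mul]
      apply Dvd.dvd.mul_right
      apply pow_dvd_pow
      have := hp.out.two_le
      nlinarith
    · rw [Ideal.span_singleton_mul_span_singleton, ← pow_succ']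

theorem exists_iterate_T_eq_bot (𝔞 : Ideal S) (N : ℕ) (hN : ∀ a ∈ 𝔞, a ^ N = 0)
    (M : ℕ) (hM : (p : S) ^ M = 0) : ∃ m, (T p)^[m] 𝔞 = ⊥ := by
  refine ⟨M + N, ?_⟩
  rw [Function.iterate_add_apply]
  have h1 : (T p)^[N] 𝔞 ≤ Ideal.span {(p : S)} := by
    refine le_trans (iterate_T_le_phase1 𝔞 N) ?_
    rw [sup_le_iff]
    refine ⟨?_, le_rfl⟩
    rw [Ideal.span_le]
    rintro _ ⟨a, ha, rfl⟩
    have : a ^ p ^ N = 0 :=
      pow_eq_zero_of_le (Nat.lt_pow_self hp.out.one_lt).le (hN a ha)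
    change a ^ p ^ N ∈ _
    rw [this]
    exact zero_mem _
  have h2 := iterate_T_le_phase2 _ h1 M
  rw [pow_succ, hM, zero_mul, Ideal.span_singleton_eq_bot.2 rfl] at h2
  exact le_bot_iff.1 h2

/-- The ideal `W(𝔟)` of Witt vectors with all coefficients in `𝔟`. -/
noncomputable def Wid (p : ℕ) [Fact p.Prime] {S : Type*} [CommRing S] (𝔟 : Ideal S) :
    Ideal (WittVector p S) :=
  RingHom.ker (WittVector.map (p := p) (Ideal.Quotient.mk 𝔟))

lemma mem_Wid {𝔟 : Ideal S} {x : 𝕎 S} : x ∈ Wid p 𝔟 ↔ ∀ n, x.coeff n ∈ 𝔟 := by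
  unfold Wid
  rw [RingHom.mem_ker, WittVector.ext_iff]
  simp only [WittVector.map_coeff, WittVector.zero_coeff, Ideal.Quotient.eq_zero_iff_mem]

lemma frobenius_mem_Wid {𝔟 : Ideal S} {x : 𝕎 S} (hx : x ∈ Wid p 𝔟) :
    frobenius x ∈ Wid p (T p 𝔟) :=
  mem_Wid.2 fun n => coeff_frobenius_mem_T 𝔟 x (mem_Wid.1 hx) n

lemma Wid_bot : Wid p (⊥ : Ideal S) = ⊥ := by
  rw [eq_bot_iff]
  intro x hx
  rw [Submodule.mem_bot]
  ext n
  simpa using mem_Wid.1 hx n

lemma Wid_mono {𝔟 𝔟' : Ideal S} (h : 𝔟 ≤ 𝔟') : Wid p 𝔟 ≤ Wid p 𝔟' :=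
  fun _ hx => mem_Wid.2 fun n => h (mem_Wid.1 hx n)

lemma ker_map_eq_Wid {R : Type*} [CommRing R] (φ : S →+* R) :
    RingHom.ker (WittVector.map (p := p) φ) = Wid p (RingHom.ker φ) := by
  ext x
  rw [mem_Wid, RingHom.mem_ker, WittVector.ext_iff]
  simp only [WittVector.map_coeff, WittVector.zero_coeff, RingHom.mem_ker]

end Groth.Agent.H74.WittFrobNil
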