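import Mathlib
import Groth.Agent.H74.WittFrobNil

/-!
# The shift operator on Witt vectors modulo ideals of the form `W(𝔟)`
(helper74, for S16543/S16544)
-/

set_option autoImplicit false

namespace Groth.Agent.H74.WittShift

open WittVector Groth.Agent.H74.WittFrobNil

variable {p : ℕ} [hp : Fact p.Prime] {S : Type*} [CommRing S]

local notation "𝕎" => WittVector p

/-! ### Teichmüller representatives are additive modulo the product -/

open Polynomial in
/-- In the universal case `ℤ[A][B]`, the higher coefficients of `[A] + [B]` are multiples of `AB`. -/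
theorem universal_coeff_teichmuller_add (n : ℕ) (hn : 0 < n) :
    (C (X : ℤ[X]) * (X : ℤ[X][X])) ∣
      (teichmuller p (C (X : ℤ[X]) : ℤ[X][X]) + teichmuller p (X : ℤ[X][X])).coeff n := by
  set f := (teichmuller p (C (X : ℤ[X]) : ℤ[X][X]) + teichmuller p (X : ℤ[X][X])).coeff n with hf
  -- setting `B = 0`
  have h1 : (evalRingHom (0 : ℤ[X])) f = 0 := by
    rw [hf, ← WittVector.map_coeff, map_add, map_teichmuller, map_teichmuller]
    have : (evalRingHom (0 : ℤ[X])) (X : ℤ[X][X]) = 0 := by simp
    rw [this, teichmuller_zero, add_zero]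
    exact teichmuller_coeff_pos p _ n hn
  have h1' : f.coeff 0 = 0 := by
    rw [coeff_zero_eq_eval_zero]
    exact h1
  obtain ⟨g, hg⟩ := X_dvd_iff.2 h1'
  -- setting `A = 0`
  have h2 : (mapRingHom (evalRingHom (0 : ℤ))) f = 0 := by
    rw [hf, ← WittVector.map_coeff, map_add, map_teichmuller, map_teichmuller]
    have : (mapRingHom (evalRingHom (0 : ℤ))) (C (X : ℤ[X]) : ℤ[X][X]) = 0 := by simp
    rw [this, teichmuller_zero, zero_add]
    exact teichmuller_coeff_pos p _ n hn
  have h3 : (mapRingHom (evalRingHom (0 : ℤ))) g = 0 := by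
    rw [hg, map_mul] at h2
    have hX : (mapRingHom (evalRingHom (0 : ℤ))) (X : ℤ[X][X]) = X := by simp
    rw [hX] at h2
    exact (mul_eq_zero.1 h2).resolve_left X_ne_zero
  have h4 : (C (X : ℤ[X]) : ℤ[X][X]) ∣ g := by
    rw [C_dvd_iff_dvd_coeff]
    intro i
    rw [X_dvd_iff, coeff_zero_eq_eval_zero]
    have := congrArg (fun q : ℤ[X] => q.coeff i) h3
    simpa using this
  obtain ⟨h, hh⟩ := h4
  exact ⟨h, by rw [hg, hh]; ring⟩

/-- The higher coefficients of `[a] + [b]` are multiples of `ab`. -/
theorem coeff_teichmuller_add_mem (a b : S) (n : ℕ) (hn : 0 < n) :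
    (teichmuller p a + teichmuller p b).coeff n ∈ Ideal.span {a * b} := by
  open Polynomial in
  let ev : ℤ[X][X] →+* S := eval₂RingHom (eval₂RingHom (Int.castRingHom S) a) b
  have hA : ev (C (X : ℤ[X])) = a := by simp [ev]
  have hB : ev (X : ℤ[X][X]) = b := by simp [ev]
  obtain ⟨h, hh⟩ := universal_coeff_teichmuller_add (p := p) n hn
  have := congrArg ev hh
  rw [← WittVector.map_coeff, map_add, map_teichmuller, map_teichmuller, hA, hB, map_mul, map_mul,
    hA, hB] at this
  rw [this]
  exact Ideal.mul_mem_right _ _ (Ideal.mem_span_singleton_self _)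

/-! ### The decomposition `x = [x₀] + V (shift x)` -/

theorem eq_teichmuller_add_verschiebung (x : 𝕎 S) :
    x = teichmuller p (x.coeff 0) + verschiebung (x.shift 1) := by
  ext n
  rw [coeff_add_of_disjoint]
  · cases n with
    | zero => rw [teichmuller_coeff_zero, verschiebung_coeff_zero, add_zero]
    | succ n =>
      rw [teichmuller_coeff_pos p _ _ n.succ_pos, verschiebung_coeff_succ, shift_coeff, zero_add,
        add_comm]
  · intro n
    cases n with
    | zero => right; exact verschiebung_coeff_zero _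
    | succ n => left; exact teichmuller_coeff_pos p _ _ n.succ_pos

theorem coeff_teichmuller_add_verschiebung (a : S) (z : 𝕎 S) (n : ℕ) :
    (teichmuller p a + verschiebung z).coeff n =
      (teichmuller p a).coeff n + (verschiebung z).coeff n := by
  apply coeff_add_of_disjoint
  intro n
  cases n with
  | zero => right; exact verschiebung_coeff_zero _
  | succ n => left; exact teichmuller_coeff_pos p _ _ n.succ_pos

theorem shift_teichmuller_add_verschiebung (a : S) (z : 𝕎 S) :
    (teichmuller p a + verschiebung z).shift 1 = z := by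
  ext n
  rw [shift_coeff, coeff_teichmuller_add_verschiebung, add_comm 1 n,
    teichmuller_coeff_pos p _ _ n.succ_pos, verschiebung_coeff_succ, zero_add]

theorem coeff_zero_teichmuller_add_verschiebung (a : S) (z : 𝕎 S) :
    (teichmuller p a + verschiebung z).coeff 0 = a := by
  rw [coeff_teichmuller_add_verschiebung, teichmuller_coeff_zero, verschiebung_coeff_zero, add_zero]

theorem shift_verschiebung (z : 𝕎 S) : (verschiebung z).shift 1 = z := by
  have := shift_teichmuller_add_verschiebung (p := p) (0 : S) z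
  rwa [teichmuller_zero, zero_add] at this

theorem shift_teichmuller (a : S) : (teichmuller p a).shift 1 = 0 := by
  have := shift_teichmuller_add_verschiebung (p := p) a (0 : 𝕎 S)
  rwa [map_zero, add_zero] at this

theorem teichmuller_mem_Wid {𝔟 : Ideal S} {a : S} (ha : a ∈ 𝔟) : teichmuller p a ∈ Wid p 𝔟 := by
  rw [mem_Wid]
  intro n
  cases n with
  | zero => rwa [teichmuller_coeff_zero]
  | succ n => rw [teichmuller_coeff_pos p _ _ n.succ_pos]; exact zero_mem _

theorem shift_mem_Wid {𝔟 : Ideal S} {x : 𝕎 S} (hx : x ∈ Wid p 𝔟) : x.shift 1 ∈ Wid p 𝔟 := by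
  rw [mem_Wid] at hx ⊢
  intro n
  rw [shift_coeff]
  exact hx _

theorem verschiebung_mem_Wid {𝔟 : Ideal S} {x : 𝕎 S} (hx : x ∈ Wid p 𝔟) :
    verschiebung x ∈ Wid p 𝔟 := by
  rw [mem_Wid] at hx ⊢
  intro n
  cases n with
  | zero => rw [verschiebung_coeff_zero]; exact zero_mem _
  | succ n => rw [verschiebung_coeff_succ]; exact hx n

/-- `shift` is additive up to an error with coefficients in `(x₀ y₀)`. -/
theorem shift_add (x y : 𝕎 S) :
    (x + y).shift 1 - x.shift 1 - y.shift 1 ∈ Wid p (Ideal.span {x.coeff 0 * y.coeff 0}) := by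
  set d := (teichmuller p (x.coeff 0) + teichmuller p (y.coeff 0)).shift 1 with hd
  have hd' : d ∈ Wid p (Ideal.span {x.coeff 0 * y.coeff 0}) := by
    rw [mem_Wid]
    intro n
    rw [hd, shift_coeff]
    exact coeff_teichmuller_add_mem _ _ _ (by omega)
  have h1 : teichmuller p (x.coeff 0) + teichmuller p (y.coeff 0) =
      teichmuller p (x.coeff 0 + y.coeff 0) + verschiebung d := by
    have := eq_teichmuller_add_verschiebung (teichmuller p (x.coeff 0) + teichmuller p (y.coeff 0))
    rwa [WittVector.add_coeff_zero, teichmuller_coeff_zero, teichmuller_coeff_zero] at this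
  have h2 : x + y = teichmuller p (x.coeff 0 + y.coeff 0) +
      verschiebung (d + x.shift 1 + y.shift 1) := by
    have hx := eq_teichmuller_add_verschiebung x
    have hy := eq_teichmuller_add_verschiebung y
    have e1 : verschiebung (d + x.shift 1 + y.shift 1) =
        verschiebung d + verschiebung (x.shift 1) + verschiebung (y.shift 1) := by
      rw [map_add, map_add]
    rw [e1]
    calc x + y = (teichmuller p (x.coeff 0) + teichmuller p (y.coeff 0)) +
          verschiebung (x.shift 1) + verschiebung (y.shift 1) := by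
          conv_lhs => rw [hx, hy]
          ring
      _ = _ := by rw [h1]; ring
  have h3 : (x + y).shift 1 = d + x.shift 1 + y.shift 1 := by
    conv_lhs => rw [h2]
    exact shift_teichmuller_add_verschiebung _ _
  rw [h3]
  have : d + x.shift 1 + y.shift 1 - x.shift 1 - y.shift 1 = d := by ring
  rw [this]
  exact hd'

/-- `shift` of a product. -/
theorem shift_mul (w x : 𝕎 S) :
    (w * x).shift 1 =
      w.shift 1 * frobenius (teichmuller p (x.coeff 0)) + frobenius w * x.shift 1 := by
  have h1 : w * x = teichmuller p (w.coeff 0 * x.coeff 0) +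
      verschiebung (w.shift 1 * frobenius (teichmuller p (x.coeff 0)) +
        frobenius w * x.shift 1) := by
    have hx := eq_teichmuller_add_verschiebung x
    have hw := eq_teichmuller_add_verschiebung w
    rw [map_add, verschiebung_mul_frobenius, mul_comm (frobenius w), verschiebung_mul_frobenius,
      map_mul]
    calc w * x = w * teichmuller p (x.coeff 0) + w * verschiebung (x.shift 1) := by
          rw [← mul_add, ← hx]
      _ = (teichmuller p (w.coeff 0) + verschiebung (w.shift 1)) * teichmuller p (x.coeff 0) +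
            w * verschiebung (x.shift 1) := by rw [← hw]
      _ = _ := by ring
  conv_lhs => rw [h1]
  exact shift_teichmuller_add_verschiebung _ _

/-! ### The step from `W(𝔟)` to `W(𝔟')` with `𝔟² + p𝔟 ⊆ 𝔟'` -/

section Step

variable {𝔟 𝔟' : Ideal S} (H : 𝔟 * 𝔟 ≤ 𝔟') (Hp : ∀ a ∈ 𝔟, (p : S) * a ∈ 𝔟')

include H Hp in
theorem T_le_of : T p 𝔟 ≤ 𝔟' := by
  unfold T
  rw [sup_le_iff]
  constructor
  · rw [Ideal.span_le]
    rintro _ ⟨x, hx, rfl⟩
    have h2 : 2 ≤ p := hp.out.two_le
    have : x ^ p = x * x * x ^ (p - 2) := by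
      rw [← pow_two, ← pow_add]
      congr 1
      omega
    change x ^ p ∈ 𝔟'
    rw [this]
    exact 𝔟'.mul_mem_right _ (H (Ideal.mul_mem_mul hx hx))
  · rw [Ideal.mul_le]
    intro r hr s hs
    obtain ⟨c, rfl⟩ := Ideal.mem_span_singleton'.1 hr
    rw [mul_assoc]
    exact 𝔟'.mul_mem_left _ (Hp s hs)

include H Hp in
theorem frobenius_mem {k : 𝕎 S} (hk : k ∈ Wid p 𝔟) : frobenius k ∈ Wid p 𝔟' :=
  Wid_mono (T_le_of H Hp) (frobenius_mem_Wid hk)

include H Hp in
theorem p_mul_mem {k : 𝕎 S} (hk : k ∈ Wid p 𝔟) : (p : 𝕎 S) * k ∈ Wid p 𝔟' := by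
  rw [mul_comm, ← frobenius_verschiebung]
  exact frobenius_mem H Hp (verschiebung_mem_Wid hk)

include H Hp in
theorem verschiebung_mul_mem (z : 𝕎 S) {k : 𝕎 S} (hk : k ∈ Wid p 𝔟) :
    verschiebung z * k ∈ Wid p 𝔟' := by
  rw [← verschiebung_mul_frobenius]
  exact verschiebung_mem_Wid (Ideal.mul_mem_left _ _ (frobenius_mem H Hp hk))

include H in
theorem shift_add_mem {k k' : 𝕎 S} (hk : k ∈ Wid p 𝔟) (hk' : k' ∈ Wid p 𝔟) :
    (k + k').shift 1 - k.shift 1 - k'.shift 1 ∈ Wid p 𝔟' := by
  refine Wid_mono ?_ (shift_add k k')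
  rw [Ideal.span_le, Set.singleton_subset_iff]
  exact H (Ideal.mul_mem_mul (mem_Wid.1 hk 0) (mem_Wid.1 hk' 0))

include H Hp in
theorem shift_mul_mem (w : 𝕎 S) {k : 𝕎 S} (hk : k ∈ Wid p 𝔟) :
    (w * k).shift 1 - frobenius w * k.shift 1 ∈ Wid p 𝔟' := by
  rw [shift_mul, add_sub_cancel_right]
  exact Ideal.mul_mem_left _ _ (frobenius_mem H Hp (teichmuller_mem_Wid (mem_Wid.1 hk 0)))

end Step

theorem eq_verschiebung_shift {k : 𝕎 S} (hk : k.coeff 0 = 0) : k = verschiebung (k.shift 1) := by
  have := eq_teichmuller_add_verschiebung k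
  rwa [hk, teichmuller_zero, zero_add] at this

end Groth.Agent.H74.WittShift
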