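import Groth.Agent.H74.DispIter
import Groth.Agent.H74.WittShift
import Mathlib

/-!
# Faithfulness of base change of displays along nilpotent thickenings: the abstract vanishing lemma
(helper74, for S16543/S16544)
-/

set_option autoImplicit false
set_option linter.style.haveILetI false

open TensorProduct WittVector

namespace Groth.Agent.H74.DispFaithful

open Groth.Agent.H74.DispIter

universe u v w

section Abstract

variable {p : ℕ} [hp : Fact p.Prime] {S : Type u} [CommRing S]
variable {P : Type v} [AddCommGroup P] [Module (WittVector p S) P]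
variable {E : Type w} [AddCommGroup E] [Module (WittVector p S) E]

local notation "σ" => (WittVector.frobenius : WittVector p S →+* WittVector p S)

/-- `γ_0 = G ∘ δ`, a `σ`-semilinear map. -/
noncomputable def gam0 (G : E →ₛₗ[σ] E) (δ : P →ₗ[WittVector p S] E) : P →ₛₗ[σ] E where
  toFun := fun x => G (δ x)
  map_add' := fun x y => by rw [map_add, map_add]
  map_smul' := fun a x => by rw [map_smul, map_smulₛₗ]

theorem gam0_apply (G : E →ₛₗ[σ] E) (δ : P →ₗ[WittVector p S] E) (x : P) :
    gam0 G δ x = G (δ x) := rfl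

/-- `γ_n = G^{n+1} ∘ δ`, a `σ^{n+1}`-semilinear map. -/
noncomputable def gam (G : E →ₛₗ[σ] E) (δ : P →ₗ[WittVector p S] E) :
    (n : ℕ) → (P →ₛₗ[gpow σ n] E)
  | 0 => gam0 G δ
  | n + 1 =>
    { toFun := fun x => G (gam G δ n x)
      map_add' := fun x y => by rw [map_add, map_add]
      map_smul' := fun a x => by rw [map_smulₛₗ, map_smulₛₗ]; rfl }

theorem gam_succ_apply (G : E →ₛₗ[σ] E) (δ : P →ₗ[WittVector p S] E) (n : ℕ) (x : P) :
    gam G δ (n + 1) x = G (gam G δ n x) := rfl

theorem lift_push (G : E →ₛₗ[σ] E) {g : WittVector p S →+* WittVector p S}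
    (γ : P →ₛₗ[g] E) (Gγ : P →ₛₗ[(σ).comp g] E) (h : ∀ x, Gγ x = G (γ x)) (t : Dieu.BC g P) :
    Dieu.BC.lift ((σ).comp g) Gγ (Dieu.BC.push g σ t) = G (Dieu.BC.lift g γ t) := by
  induction t using Dieu.BC.induction_on g with
  | zero => simp only [map_zero]
  | tmul b x =>
    rw [Dieu.BC.push_tmul, Dieu.BC.lift_tmul, Dieu.BC.lift_tmul, map_smulₛₗ, h]
  | add z₁ z₂ h₁ h₂ => simp only [map_add, h₁, h₂]

variable {D : W4c1extbt610.Display3n p S P}
  {Vs : P →ₗ[WittVector p S]
    Dieu.BC (WittVector.frobenius : WittVector p S →+* WittVector p S) P}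

theorem base_case (hVs : Dieu.IsVSharp D Vs) (G : E →ₛₗ[σ] E) (δ : P →ₗ[WittVector p S] E)
    (hG : ∀ y : D.Q, G (δ y) = δ (D.Vinv y)) (x : P) :
    δ x = Dieu.BC.lift σ (gam0 G δ) (Vs x) := by
  have : δ = (Dieu.BC.lift σ (gam0 G δ)).comp Vs := by
    apply LinearMap.ext_on D.span_range_Vinv
    rintro _ ⟨y, rfl⟩
    have h1 := hVs.app_smul_Vinv 1 y
    rw [one_smul] at h1
    rw [LinearMap.comp_apply, h1, Dieu.BC.lift_tmul, one_smul, gam0_apply, hG]
  exact congrArg (fun f => f x) this

theorem iterate (hVs : Dieu.IsVSharp D Vs) (G : E →ₛₗ[σ] E) (δ : P →ₗ[WittVector p S] E)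
    (hG : ∀ y : D.Q, G (δ y) = δ (D.Vinv y)) (n : ℕ) (x : P) :
    δ x = Dieu.BC.lift (gpow σ n) (gam G δ n) (it Vs n x) := by
  induction n generalizing x with
  | zero => exact base_case hVs G δ hG x
  | succ n ih =>
    let A : Dieu.BC σ P →ₗ[WittVector p S] E :=
      (Dieu.BC.lift (gpow σ (n + 1)) (gam G δ (n + 1))).comp (ext σ (it Vs n))
    have key : A = Dieu.BC.lift σ (gam0 G δ) := by
      apply Dieu.BC.ext
      intro y
      have e1 : ext σ (it Vs n) (Dieu.BC.tmul σ 1 y) =
          (1 : WittVector p S) • Dieu.BC.push (gpow σ n) σ (it Vs n y) := ext_tmul σ (it Vs n) 1 y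
      have e2 : A (Dieu.BC.tmul σ 1 y) =
          Dieu.BC.lift (gpow σ (n + 1)) (gam G δ (n + 1))
            ((1 : WittVector p S) • Dieu.BC.push (gpow σ n) σ (it Vs n y)) :=
        congrArg (Dieu.BC.lift (gpow σ (n + 1)) (gam G δ (n + 1))) e1
      have e3 := lift_push G (gam G δ n) (gam G δ (n + 1)) (fun x => rfl) (it Vs n y)
      rw [e2, Dieu.BC.lift_tmul, one_smul, gam0_apply, ih y, one_smul]
      exact e3
    have : A (Vs x) = Dieu.BC.lift σ (gam0 G δ) (Vs x) := by rw [key]
    exact (base_case hVs G δ hG x).trans this.symm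

/-- **The abstract vanishing lemma.**  A linear map `δ` from a display to a module killed by
`I_S + pW`, intertwining `V⁻¹` with a Frobenius-semilinear endomorphism `G`, is zero. -/
theorem eq_zero_of_intertwine (hVs : Dieu.IsVSharp D Vs) (hnil : Dieu.IsVNilpotent Vs)
    (hE : ∀ a ∈ W4c1extbt610.IV p S ⊔ Ideal.span {(p : WittVector p S)}, ∀ e : E, a • e = 0)
    (G : E →ₛₗ[σ] E) (δ : P →ₗ[WittVector p S] E)
    (hG : ∀ y : D.Q, G (δ y) = δ (D.Vinv y)) : δ = 0 := by
  obtain ⟨n, hn⟩ := hnil
  ext x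
  rw [LinearMap.zero_apply, iterate hVs G δ hG n x]
  have h1 := (it_mem_iff Vs n _ x).1 (hn x)
  have h2 := Groth.Agent.H74.NormalDecomp.map_mem_smul_top _
    (Dieu.BC.lift (gpow σ n) (gam G δ n)) h1
  refine Submodule.smul_induction_on h2 (fun a ha e _ => hE a ha e) (fun a b ha hb => ?_)
  rw [ha, hb, add_zero]

end Abstract

/-! ### The concrete step -/

section Concrete

variable {p : ℕ} [hp : Fact p.Prime] {S : Type u} [CommRing S]

local notation "σ" => (WittVector.frobenius : WittVector p S →+* WittVector p S)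

/-- The properties of a pair of ideals `K' ≤ K` of `W(S)` needed for the step. -/
structure ShiftData (K K' : Ideal (WittVector p S)) : Prop where
  le : K' ≤ K
  shift_mem : ∀ k ∈ K, k.shift 1 ∈ K
  shift_mem' : ∀ k ∈ K', k.shift 1 ∈ K'
  add : ∀ k ∈ K, ∀ k' ∈ K, (k + k').shift 1 - k.shift 1 - k'.shift 1 ∈ K'
  smul : ∀ (w : WittVector p S), ∀ k ∈ K, (w * k).shift 1 - frobenius w * k.shift 1 ∈ K'
  frob : ∀ k ∈ K, frobenius k ∈ K'
  p_mul : ∀ k ∈ K, (p : WittVector p S) * k ∈ K'
  V_mul : ∀ (z : WittVector p S), ∀ k ∈ K, verschiebung z * k ∈ K'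

theorem shiftData_Wid {𝔟 𝔟' : Ideal S} (hle : 𝔟' ≤ 𝔟) (H : 𝔟 * 𝔟 ≤ 𝔟')
    (Hp : ∀ a ∈ 𝔟, (p : S) * a ∈ 𝔟') :
    ShiftData (Groth.Agent.H74.WittFrobNil.Wid p 𝔟) (Groth.Agent.H74.WittFrobNil.Wid p 𝔟') where
  le := Groth.Agent.H74.WittFrobNil.Wid_mono hle
  shift_mem := fun _ hk => Groth.Agent.H74.WittShift.shift_mem_Wid hk
  shift_mem' := fun _ hk => Groth.Agent.H74.WittShift.shift_mem_Wid hk
  add := fun _ hk _ hk' => Groth.Agent.H74.WittShift.shift_add_mem H hk hk'
  smul := fun w _ hk => Groth.Agent.H74.WittShift.shift_mul_mem H Hp w hk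
  frob := fun _ hk => Groth.Agent.H74.WittShift.frobenius_mem H Hp hk
  p_mul := fun _ hk => Groth.Agent.H74.WittShift.p_mul_mem H Hp hk
  V_mul := fun z _ hk => Groth.Agent.H74.WittShift.verschiebung_mul_mem H Hp z hk

variable {K K' : Ideal (WittVector p S)}

namespace ShiftData

variable (h : ShiftData K K')

include h in
theorem IV_mul {a : WittVector p S} (ha : a ∈ W4c1extbt610.IV p S) {k : WittVector p S}
    (hk : k ∈ K) : a * k ∈ K' := by
  obtain ⟨z, rfl⟩ := Groth.Agent.H74.DispVSharp.exists_verschiebung_of_mem_IV ha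
  exact h.V_mul z k hk

include h in
theorem kill {a : WittVector p S}
    (ha : a ∈ W4c1extbt610.IV p S ⊔ Ideal.span {(p : WittVector p S)}) {k : WittVector p S}
    (hk : k ∈ K) : a * k ∈ K' := by
  obtain ⟨a₁, ha₁, a₂, ha₂, rfl⟩ := Submodule.mem_sup.1 ha
  obtain ⟨c, rfl⟩ := Ideal.mem_span_singleton'.1 ha₂
  rw [add_mul, mul_assoc]
  exact K'.add_mem (h.IV_mul ha₁ hk) (K'.mul_mem_left _ (h.p_mul k hk))

include h in
/-- finite-sum version of additivity and semilinearity of the shift -/
theorem sum_shift {ι : Type*} (s : Finset ι) (w k : ι → WittVector p S) (hk : ∀ l, k l ∈ K) :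
    (∑ l ∈ s, w l * k l).shift 1 - ∑ l ∈ s, frobenius (w l) * (k l).shift 1 ∈ K' := by
  classical
  induction s using Finset.induction_on with
  | empty =>
    simp only [Finset.sum_empty, sub_zero]
    have : (0 : WittVector p S).shift 1 = 0 := by
      ext n; rw [shift_coeff, zero_coeff, zero_coeff]
    rw [this]; exact zero_mem _
  | insert a s ha ih =>
    rw [Finset.sum_insert ha, Finset.sum_insert ha]
    have h1 := h.add (w a * k a) (K.mul_mem_left _ (hk a)) (∑ l ∈ s, w l * k l)
      (K.sum_mem fun l _ => K.mul_mem_left _ (hk l))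
    have h2 := h.smul (w a) (k a) (hk a)
    have := K'.add_mem (K'.add_mem h1 h2) ih
    convert this using 1
    ring

end ShiftData

/-- The quotient module `K / K'`. -/
abbrev Nbar (K K' : Ideal (WittVector p S)) : Type u :=
  ↥K ⧸ (Submodule.comap K.subtype K' : Submodule (WittVector p S) ↥K)

theorem mk_eq_mk_iff {a b : ↥K} :
    (Submodule.Quotient.mk a : Nbar K K') = Submodule.Quotient.mk b ↔ (a : WittVector p S) - b ∈ K' := by
  rw [Submodule.Quotient.eq]
  rfl

theorem mk_eq_zero_iff {a : ↥K} :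
    (Submodule.Quotient.mk a : Nbar K K') = 0 ↔ (a : WittVector p S) ∈ K' := by
  rw [Submodule.Quotient.mk_eq_zero]
  rfl

/-- the shift, as a semilinear map `K → K/K'` -/
noncomputable def sh0 (h : ShiftData K K') : ↥K →ₛₗ[σ] Nbar K K' where
  toFun k := Submodule.Quotient.mk ⟨(k : WittVector p S).shift 1, h.shift_mem _ k.2⟩
  map_add' k k' := by
    rw [← Submodule.Quotient.mk_add, mk_eq_mk_iff]
    have := h.add k k.2 k' k'.2
    convert this using 1
    simp only [Submodule.coe_add]
    ring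
  map_smul' w k := by
    rw [← Submodule.Quotient.mk_smul, mk_eq_mk_iff]
    exact h.smul w k k.2

/-- the shift, as a semilinear endomorphism of `K/K'` -/
noncomputable def shbar (h : ShiftData K K') : Nbar K K' →ₛₗ[σ] Nbar K K' :=
  Submodule.liftQ _ (sh0 h) (by
    intro k hk
    rw [LinearMap.mem_ker]
    change (Submodule.Quotient.mk ⟨(k : WittVector p S).shift 1, h.shift_mem _ k.2⟩ : Nbar K K') = 0
    rw [mk_eq_zero_iff]
    exact h.shift_mem' _ hk)

theorem shbar_mk (h : ShiftData K K') (k : ↥K) :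
    shbar h (Submodule.Quotient.mk k) =
      Submodule.Quotient.mk ⟨(k : WittVector p S).shift 1, h.shift_mem _ k.2⟩ := rfl

theorem Nbar_kill (h : ShiftData K K') {a : WittVector p S}
    (ha : a ∈ W4c1extbt610.IV p S ⊔ Ideal.span {(p : WittVector p S)}) (m : Nbar K K') :
    a • m = 0 := by
  obtain ⟨k, rfl⟩ := Submodule.Quotient.mk_surjective _ m
  rw [← Submodule.Quotient.mk_smul, mk_eq_zero_iff]
  exact h.kill ha k.2

/-! ### Coordinates on a finite projective module -/

section Coord

variable {P' : Type v} [AddCommGroup P'] [Module (WittVector p S) P']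
variable {n : ℕ} (i : P' →ₗ[WittVector p S] (Fin n → WittVector p S))
  (r : (Fin n → WittVector p S) →ₗ[WittVector p S] P')

theorem eq_sum (hri : r ∘ₗ i = LinearMap.id) (z : P') :
    z = ∑ l, i z l • r (Pi.single l 1) := by
  have h1 : z = r (i z) := (congrArg (fun f => f z) hri).symm
  have h2 : i z = ∑ l, i z l • (Pi.single l (1 : WittVector p S) : Fin n → WittVector p S) := by
    ext j
    simp [Finset.sum_apply, Pi.single_apply]
  conv_lhs => rw [h1, h2, map_sum]
  simp only [map_smul]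

theorem coord_mem (𝔠 : Ideal (WittVector p S)) {z : P'}
    (hz : z ∈ 𝔠 • (⊤ : Submodule (WittVector p S) P')) (l : Fin n) : i z l ∈ 𝔠 := by
  have := Groth.Agent.H74.NormalDecomp.map_mem_smul_top 𝔠
    ((LinearMap.proj l : (Fin n → WittVector p S) →ₗ[WittVector p S] WittVector p S).comp i) hz
  have e : 𝔠 • (⊤ : Submodule (WittVector p S) (WittVector p S)) = 𝔠 := by
    change 𝔠 • (⊤ : Ideal (WittVector p S)) = 𝔠
    rw [smul_eq_mul, Ideal.mul_top]
  rw [e] at this
  exact this

theorem mem_of_coord (hri : r ∘ₗ i = LinearMap.id) (𝔠 : Ideal (WittVector p S)) {z : P'}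
    (hz : ∀ l, i z l ∈ 𝔠) : z ∈ 𝔠 • (⊤ : Submodule (WittVector p S) P') := by
  rw [eq_sum i r hri z]
  exact Submodule.sum_mem _ fun l _ => Submodule.smul_mem_smul (hz l) Submodule.mem_top

variable (D' : W4c1extbt610.Display3n p S P')

/-- `Γ(z) = ∑ shift(z_l) • F'(u_l)` -/
noncomputable def Gam (z : P') : P' := ∑ l, (i z l).shift 1 • D'.F (r (Pi.single l 1))

variable {i r D'}

theorem shift_zero : (0 : WittVector p S).shift 1 = 0 := by
  ext n; rw [shift_coeff, zero_coeff, zero_coeff]

theorem Gam_zero : Gam i r D' 0 = 0 := by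
  unfold Gam
  simp only [map_zero, Pi.zero_apply, shift_zero, zero_smul, Finset.sum_const_zero]

theorem Gam_add (h : ShiftData K K') {z z' : P'}
    (hz : z ∈ K • (⊤ : Submodule (WittVector p S) P'))
    (hz' : z' ∈ K • (⊤ : Submodule (WittVector p S) P')) :
    Gam i r D' (z + z') - Gam i r D' z - Gam i r D' z' ∈
      K' • (⊤ : Submodule (WittVector p S) P') := by
  unfold Gam
  rw [← Finset.sum_sub_distrib, ← Finset.sum_sub_distrib]
  refine Submodule.sum_mem _ fun l _ => ?_
  rw [← sub_smul, ← sub_smul, map_add, Pi.add_apply]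
  exact Submodule.smul_mem_smul (h.add _ (coord_mem i K hz l) _ (coord_mem i K hz' l))
    Submodule.mem_top

theorem Gam_sum (h : ShiftData K K') {ι : Type*} (s : Finset ι) (z : ι → P')
    (hz : ∀ j, z j ∈ K • (⊤ : Submodule (WittVector p S) P')) :
    Gam i r D' (∑ j ∈ s, z j) - ∑ j ∈ s, Gam i r D' (z j) ∈
      K' • (⊤ : Submodule (WittVector p S) P') := by
  classical
  induction s using Finset.induction_on with
  | empty => simp only [Finset.sum_empty, Gam_zero, sub_zero]; exact zero_mem _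
  | insert a s ha ih =>
    rw [Finset.sum_insert ha, Finset.sum_insert ha]
    have h1 := Gam_add (i := i) (r := r) (D' := D') h (hz a)
      (Submodule.sum_mem _ fun j _ => hz j : ∑ j ∈ s, z j ∈ _)
    have := add_mem h1 ih
    convert this using 1
    abel

theorem Gam_smul (h : ShiftData K K') (hri : r ∘ₗ i = LinearMap.id) {c : WittVector p S}
    (hc : c ∈ K) (x : P') :
    Gam i r D' (c • x) - c.shift 1 • D'.F x ∈ K' • (⊤ : Submodule (WittVector p S) P') := by
  have h1 : c.shift 1 • D'.F x =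
      ∑ l, (frobenius (i x l) * c.shift 1) • D'.F (r (Pi.single l 1)) := by
    conv_lhs => rw [eq_sum i r hri x, map_sum, Finset.smul_sum]
    refine Finset.sum_congr rfl fun l _ => ?_
    rw [map_smulₛₗ, smul_smul, mul_comm]
  unfold Gam
  rw [h1, ← Finset.sum_sub_distrib]
  refine Submodule.sum_mem _ fun l _ => ?_
  rw [← sub_smul, map_smul, Pi.smul_apply, smul_eq_mul, mul_comm c]
  exact Submodule.smul_mem_smul (h.smul _ _ hc) Submodule.mem_top

/-- `V⁻¹` of a finite sum of scalar multiples of elements of `Q`. -/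
theorem Vinv_sum {ι : Type*} (s : Finset ι) (c : ι → WittVector p S) (y : ι → D'.Q)
    (hmem : ∑ j ∈ s, c j • (y j : P') ∈ D'.Q) :
    D'.Vinv ⟨∑ j ∈ s, c j • (y j : P'), hmem⟩ = ∑ j ∈ s, frobenius (c j) • D'.Vinv (y j) := by
  have : (⟨∑ j ∈ s, c j • (y j : P'), hmem⟩ : D'.Q) = ∑ j ∈ s, c j • y j := by
    apply Subtype.ext
    rw [Submodule.coe_sum]
    rfl
  rw [this, map_sum]
  refine Finset.sum_congr rfl fun j _ => ?_
  rw [map_smulₛₗ]

variable {L T : Submodule (WittVector p S) P'}

/-- On `L ∩ K P'` both `V⁻¹` and `Γ` vanish modulo `K' P'`. -/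
theorem L_part (h : ShiftData K K') (hri : r ∘ₗ i = LinearMap.id) (hLT : IsCompl L T)
    (hLQ : L ≤ D'.Q) {z : P'} (hzL : z ∈ L)
    (hzK : z ∈ K • (⊤ : Submodule (WittVector p S) P')) :
    D'.Vinv ⟨z, hLQ hzL⟩ ∈ K' • (⊤ : Submodule (WittVector p S) P') ∧
      Gam i r D' z ∈ K' • (⊤ : Submodule (WittVector p S) P') := by
  set πL := L.projection T hLT with hπL
  let lam : Fin n → D'.Q := fun l => ⟨πL (r (Pi.single l 1)), hLQ (Submodule.projection_apply_mem hLT _)⟩
  have hz : z = ∑ l, i z l • (lam l : P') := by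
    have h1 : πL z = z := Submodule.projection_apply_of_mem_left hLT hzL
    conv_lhs => rw [← h1, eq_sum i r hri z, map_sum]
    refine Finset.sum_congr rfl fun l _ => ?_
    rw [map_smul]
  have hmem : ∑ l, i z l • (lam l : P') ∈ D'.Q := hz ▸ hLQ hzL
  constructor
  · have e : (⟨z, hLQ hzL⟩ : D'.Q) = ⟨∑ l, i z l • (lam l : P'), hmem⟩ := Subtype.ext hz
    rw [e, Vinv_sum]
    exact Submodule.sum_mem _ fun l _ =>
      Submodule.smul_mem_smul (h.frob _ (coord_mem i K hzK l)) Submodule.mem_top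
  · have h1 := Gam_sum (i := i) (r := r) (D' := D') h Finset.univ
      (fun l => i z l • (lam l : P'))
      (fun l => Submodule.smul_mem_smul (coord_mem i K hzK l) Submodule.mem_top)
    rw [← hz] at h1
    have h2 : ∑ l, Gam i r D' (i z l • (lam l : P')) ∈
        K' • (⊤ : Submodule (WittVector p S) P') := by
      refine Submodule.sum_mem _ fun l _ => ?_
      have h3 := Gam_smul (i := i) (r := r) (D' := D') h hri (coord_mem i K hzK l) (lam l : P')
      have h4 : (i z l).shift 1 • D'.F (lam l : P') ∈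
          K' • (⊤ : Submodule (WittVector p S) P') := by
        rw [Groth.Agent.H74.DispVSharp.F_eq_p_smul_Vinv, smul_smul, mul_comm]
        exact Submodule.smul_mem_smul (h.p_mul _ (h.shift_mem _ (coord_mem i K hzK l)))
          Submodule.mem_top
      have := add_mem h3 h4
      rwa [sub_add_cancel] at this
    have := add_mem h1 h2
    rwa [sub_add_cancel] at this

/-- On `I T ∩ K P'`, `V⁻¹` agrees with `Γ` modulo `K' P'`. -/
theorem T_part (h : ShiftData K K') (hri : r ∘ₗ i = LinearMap.id) (hLT : IsCompl L T)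
    {τ : P'} (hτ : τ ∈ W4c1extbt610.IV p S • T) (hτQ : τ ∈ D'.Q)
    (hτK : τ ∈ K • (⊤ : Submodule (WittVector p S) P')) :
    D'.Vinv ⟨τ, hτQ⟩ - Gam i r D' τ ∈ K' • (⊤ : Submodule (WittVector p S) P') := by
  set πT := T.projection L hLT.symm with hπT
  have hτT : τ ∈ T := by
    refine Submodule.smul_induction_on hτ (fun a _ t ht => T.smul_mem a ht) (fun a b ha hb => T.add_mem ha hb)
  have hτI : τ ∈ W4c1extbt610.IV p S • (⊤ : Submodule (WittVector p S) P') :=
    Submodule.smul_mono le_rfl le_top hτ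
  let t : Fin n → P' := fun l => πT (r (Pi.single l 1))
  have hz : τ = ∑ l, i τ l • t l := by
    have h1 : πT τ = τ := Submodule.projection_apply_of_mem_left hLT.symm hτT
    conv_lhs => rw [← h1, eq_sum i r hri τ, map_sum]
    refine Finset.sum_congr rfl fun l _ => ?_
    rw [map_smul]
  have hc : ∀ l, i τ l = verschiebung ((i τ l).shift 1) := by
    intro l
    apply Groth.Agent.H74.WittShift.eq_verschiebung_shift
    have := coord_mem i (W4c1extbt610.IV p S) hτI l
    rw [Groth.Agent.H74.NormalDecomp.IV_eq_ker] at this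
    exact this
  let y : Fin n → D'.Q := fun l => ⟨verschiebung ((i τ l).shift 1) • t l,
    D'.IV_smul_le (Submodule.smul_mem_smul (W4c1extbt610.verschiebung_mem_IV p S _)
      Submodule.mem_top)⟩
  have hz' : τ = ∑ l, (1 : WittVector p S) • (y l : P') := by
    conv_lhs => rw [hz]
    refine Finset.sum_congr rfl fun l _ => ?_
    rw [one_smul]
    change i τ l • t l = verschiebung ((i τ l).shift 1) • t l
    rw [← hc l]
  have hmem : ∑ l, (1 : WittVector p S) • (y l : P') ∈ D'.Q := hz' ▸ hτQ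
  have e : (⟨τ, hτQ⟩ : D'.Q) = ⟨∑ l, (1 : WittVector p S) • (y l : P'), hmem⟩ := Subtype.ext hz'
  have hV : D'.Vinv ⟨τ, hτQ⟩ = ∑ l, (i τ l).shift 1 • D'.F (t l) := by
    rw [e, Vinv_sum]
    refine Finset.sum_congr rfl fun l _ => ?_
    rw [map_one, one_smul]
    exact D'.Vinv_verschiebung_smul _ _
  have h1 := Gam_sum (i := i) (r := r) (D' := D') h Finset.univ (fun l => i τ l • t l)
    (fun l => Submodule.smul_mem_smul (coord_mem i K hτK l) Submodule.mem_top)
  rw [← hz] at h1
  have h2 : ∑ l, Gam i r D' (i τ l • t l) - ∑ l, (i τ l).shift 1 • D'.F (t l) ∈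
      K' • (⊤ : Submodule (WittVector p S) P') := by
    rw [← Finset.sum_sub_distrib]
    exact Submodule.sum_mem _ fun l _ =>
      Gam_smul (i := i) (r := r) (D' := D') h hri (coord_mem i K hτK l) (t l)
  rw [hV]
  have := add_mem h1 h2
  have e2 : Gam i r D' τ - ∑ l, Gam i r D' (i τ l • t l) +
      (∑ l, Gam i r D' (i τ l • t l) - ∑ l, (i τ l).shift 1 • D'.F (t l)) =
      -(∑ l, (i τ l).shift 1 • D'.F (t l) - Gam i r D' τ) := by abel
  rw [e2] at this
  exact (Submodule.neg_mem_iff _).1 this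

/-- **Key claim**: on `Q' ∩ K P'`, `V⁻¹` agrees with `Γ` modulo `K' P'`. -/
theorem Vinv_sub_Gam_mem (h : ShiftData K K') (hri : r ∘ₗ i = LinearMap.id) {q : P'}
    (hq : q ∈ D'.Q) (hqK : q ∈ K • (⊤ : Submodule (WittVector p S) P')) :
    D'.Vinv ⟨q, hq⟩ - Gam i r D' q ∈ K' • (⊤ : Submodule (WittVector p S) P') := by
  obtain ⟨L, T, hLT, hQ⟩ := D'.exists_normal
  have hLQ : L ≤ D'.Q := hQ ▸ le_sup_left
  have hITQ : W4c1extbt610.IV p S • T ≤ D'.Q := hQ ▸ le_sup_right
  set πL := L.projection T hLT with hπL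
  set πT := T.projection L hLT.symm with hπT
  have hsum : πL q + πT q = q := Submodule.projection_add_projection_eq_self hLT q
  have hL : πL q ∈ L := Submodule.projection_apply_mem hLT q
  have hτ : πT q ∈ W4c1extbt610.IV p S • T := by
    have hq' : q ∈ L ⊔ W4c1extbt610.IV p S • T := hQ ▸ hq
    obtain ⟨l, hl, z, hz, rfl⟩ := Submodule.mem_sup.1 hq'
    have hzT : z ∈ T := by
      refine Submodule.smul_induction_on hz (fun a _ t ht => T.smul_mem a ht)
        (fun a b ha hb => T.add_mem ha hb)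
    rw [map_add, Submodule.projection_apply_of_mem_right hLT.symm hl,
      Submodule.projection_apply_of_mem_left hLT.symm hzT, zero_add]
    exact hz
  have hLK : πL q ∈ K • (⊤ : Submodule (WittVector p S) P') :=
    Groth.Agent.H74.NormalDecomp.map_mem_smul_top K πL hqK
  have hTK : πT q ∈ K • (⊤ : Submodule (WittVector p S) P') :=
    Groth.Agent.H74.NormalDecomp.map_mem_smul_top K πT hqK
  obtain ⟨a1, a2⟩ := L_part (i := i) (r := r) (D' := D') h hri hLT hLQ hL hLK
  have a3 := T_part (i := i) (r := r) (D' := D') h hri hLT hτ (hITQ hτ) hTK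
  have a4 := Gam_add (i := i) (r := r) (D' := D') h hLK hTK
  rw [hsum] at a4
  have e : (⟨q, hq⟩ : D'.Q) = ⟨πL q, hLQ hL⟩ + ⟨πT q, hITQ hτ⟩ := Subtype.ext hsum.symm
  rw [e, map_add]
  have := sub_mem (sub_mem (add_mem a1 a3) a2) a4
  convert this using 1
  abel

end Coord

/-! ### The step -/

section Step

variable {P : Type v} [AddCommGroup P] [Module (WittVector p S) P]
variable {P' : Type w} [AddCommGroup P'] [Module (WittVector p S) P']

/-- **The step**: a homomorphism from a display with values in `K P'` has values in `K' P'`. -/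
theorem step (h : ShiftData K K') (D : W4c1extbt610.Display3n p S P)
    (D' : W4c1extbt610.Display3n p S P')
    {Vs : P →ₗ[WittVector p S] Dieu.BC σ P} (hVs : Dieu.IsVSharp D Vs)
    (hnil : Dieu.IsVNilpotent Vs) (δ : P →ₗ[WittVector p S] P')
    (hδ : W4c1extbt610.IsHom D D' δ)
    (hK : ∀ x, δ x ∈ K • (⊤ : Submodule (WittVector p S) P')) :
    ∀ x, δ x ∈ K' • (⊤ : Submodule (WittVector p S) P') := by
  classical
  haveI := D'.finite
  haveI := D'.projective
  obtain ⟨n, π, hπ⟩ := Module.Finite.exists_fin' (WittVector p S) P'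
  obtain ⟨i, hi⟩ := Module.projective_lifting_property π LinearMap.id hπ
  let δbar : P →ₗ[WittVector p S] (Fin n → Nbar K K') :=
    { toFun := fun x l => Submodule.Quotient.mk ⟨i (δ x) l, coord_mem i K (hK x) l⟩
      map_add' := fun x y => by
        ext l
        rw [Pi.add_apply, ← Submodule.Quotient.mk_add, mk_eq_mk_iff]
        simp only [map_add, Pi.add_apply, Submodule.coe_add, sub_self]
        exact zero_mem _
      map_smul' := fun a x => by
        ext l
        rw [Pi.smul_apply, ← Submodule.Quotient.mk_smul, mk_eq_mk_iff]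
        simp only [map_smul, Pi.smul_apply, RingHom.id_apply, Submodule.coe_smul, sub_self]
        exact zero_mem _ }
  let G : (Fin n → Nbar K K') →ₛₗ[σ] (Fin n → Nbar K K') :=
    { toFun := fun e j => ∑ l, (i (D'.F (π (Pi.single l 1))) j) • shbar h (e l)
      map_add' := fun e e' => by
        ext j
        simp only [Pi.add_apply, map_add, smul_add, Finset.sum_add_distrib]
      map_smul' := fun a e => by
        ext j
        simp only [Pi.smul_apply, map_smulₛₗ, Finset.smul_sum]
        refine Finset.sum_congr rfl fun l _ => ?_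
        rw [smul_comm] }
  have hE : ∀ a ∈ W4c1extbt610.IV p S ⊔ Ideal.span {(p : WittVector p S)},
      ∀ e : Fin n → Nbar K K', a • e = 0 := by
    intro a ha e
    ext l
    rw [Pi.smul_apply, Pi.zero_apply]
    exact Nbar_kill h ha _
  have hG : ∀ y : D.Q, G (δbar y) = δbar (D.Vinv y) := by
    intro y
    ext j
    have hq : δ y ∈ D'.Q := hδ.mapsTo y y.2
    have hkc := Vinv_sub_Gam_mem (i := i) (r := π) (D' := D') h hi hq (hK y)
    have hc := coord_mem i K' hkc j
    change ∑ l, (i (D'.F (π (Pi.single l 1))) j) •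
        shbar h (Submodule.Quotient.mk ⟨i (δ y) l, coord_mem i K (hK y) l⟩) =
      Submodule.Quotient.mk ⟨i (δ (D.Vinv y)) j, coord_mem i K (hK _) j⟩
    simp only [shbar_mk, ← Submodule.Quotient.mk_smul]
    rw [show ∀ f : Fin n → ↥K, (∑ l, (Submodule.Quotient.mk (f l) : Nbar K K')) =
      Submodule.Quotient.mk (∑ l, f l) from fun f =>
        (map_sum (Submodule.mkQ (Submodule.comap K.subtype K')) f Finset.univ).symm, mk_eq_mk_iff]
    have e1 : δ (D.Vinv y) = D'.Vinv ⟨δ y, hq⟩ := hδ.comm_Vinv y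
    have e2 : i (Gam i π D' (δ y)) j =
        ∑ l, i (D'.F (π (Pi.single l 1))) j * (i (δ y) l).shift 1 := by
      unfold Gam
      rw [map_sum, Finset.sum_apply]
      refine Finset.sum_congr rfl fun l _ => ?_
      rw [map_smul, Pi.smul_apply, smul_eq_mul, mul_comm]
    rw [map_sub, Pi.sub_apply, e2, ← e1] at hc
    have := K'.neg_mem hc
    convert this using 1
    simp only [Submodule.coe_sum, Submodule.coe_smul, smul_eq_mul]
    ring
  have hzero := eq_zero_of_intertwine hVs hnil hE G δbar hG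
  intro x
  apply mem_of_coord i π hi K'
  intro l
  have := congrFun (congrArg (fun f => f x) hzero) l
  exact mk_eq_zero_iff.1 this

end Step

/-! ### The core vanishing theorem -/

section Core

open Groth.Agent.H74.WittFrobNil

variable {P : Type v} [AddCommGroup P] [Module (WittVector p S) P]
variable {P' : Type w} [AddCommGroup P'] [Module (WittVector p S) P']

/-- **Core**: a homomorphism from a display to a 3n-display with values in `W(J) P'`, for a
nilpotent ideal `J` containing `p`, is zero. -/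
theorem core (J : Ideal S) (hJ : IsNilpotent J) (hpJ : (p : S) ∈ J)
    (D : W4c1extbt610.Display3n p S P) (D' : W4c1extbt610.Display3n p S P')
    (hD : Dieu.IsDisplay D) (δ : P →ₗ[WittVector p S] P')
    (hδ : W4c1extbt610.IsHom D D' δ)
    (h0 : ∀ x, δ x ∈ Wid p J • (⊤ : Submodule (WittVector p S) P')) : δ = 0 := by
  obtain ⟨Vs, hVs, hnil⟩ := hD
  have key : ∀ k : ℕ, ∀ x, δ x ∈ Wid p (J ^ (k + 1)) • (⊤ : Submodule (WittVector p S) P') := by
    intro k
    induction k with
    | zero => simpa only [zero_add, pow_one] using h0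
    | succ k ih =>
      have hsd : ShiftData (Wid p (J ^ (k + 1))) (Wid p (J ^ (k + 1 + 1))) := by
        apply shiftData_Wid
        · exact Ideal.pow_le_pow_right (Nat.le_succ _)
        · rw [← pow_add]
          exact Ideal.pow_le_pow_right (by omega)
        · intro a ha
          rw [pow_succ']
          exact Ideal.mul_mem_mul hpJ ha
      exact step hsd D D' hVs hnil δ hδ ih
  obtain ⟨m, hm⟩ := hJ
  ext x
  have h1 := key m x
  have h2 : J ^ (m + 1) = ⊥ := by
    rw [pow_succ, hm, Ideal.zero_eq_bot, Ideal.bot_mul]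
  rw [h2, Wid_bot, Submodule.bot_smul, Submodule.mem_bot] at h1
  rw [h1, LinearMap.zero_apply]

end Core

end Concrete

end Groth.Agent.H74.DispFaithful
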