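import Groth.Agent.H74.DispBaseChange
import Groth.Agent.H74.DispFaithful
import Mathlib

/-!
# Existence and uniqueness of the base change of a 3n-display (helper74, S16538)
-/

set_option autoImplicit false
set_option linter.style.haveILetI false

open TensorProduct WittVector

namespace Groth.Agent.H74.DispBCExists

open Groth.Agent.H74.DispFaithful Groth.Agent.H74.DispBaseChange

universe u v

/-! ### Witt vector lemmas: the shift on `I = V(W)` -/

section WittI

variable {p : ℕ} [hp : Fact p.Prime] {A : Type u} [CommRing A]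

theorem coeff_zero_of_mem_IV {a : WittVector p A} (ha : a ∈ W4c1extbt610.IV p A) :
    a.coeff 0 = 0 := by
  rw [Groth.Agent.H74.NormalDecomp.IV_eq_ker] at ha
  exact ha

theorem eq_V_shift {a : WittVector p A} (ha : a ∈ W4c1extbt610.IV p A) :
    a = verschiebung (a.shift 1) :=
  Groth.Agent.H74.WittShift.eq_verschiebung_shift (coeff_zero_of_mem_IV ha)

theorem shift_add_of_mem {a b : WittVector p A} (ha : a ∈ W4c1extbt610.IV p A)
    (hb : b ∈ W4c1extbt610.IV p A) : (a + b).shift 1 = a.shift 1 + b.shift 1 := by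
  conv_lhs => rw [eq_V_shift ha, eq_V_shift hb, ← map_add]
  exact Groth.Agent.H74.WittShift.shift_verschiebung _

theorem shift_mul_of_mem (w : WittVector p A) {a : WittVector p A}
    (ha : a ∈ W4c1extbt610.IV p A) : (w * a).shift 1 = frobenius w * a.shift 1 := by
  conv_lhs => rw [eq_V_shift ha, mul_comm, ← verschiebung_mul_frobenius]
  rw [Groth.Agent.H74.WittShift.shift_verschiebung, mul_comm]

theorem shift_sum_of_mem {ι : Type*} (s : Finset ι) (a : ι → WittVector p A)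
    (ha : ∀ j, a j ∈ W4c1extbt610.IV p A) :
    (∑ j ∈ s, a j).shift 1 = ∑ j ∈ s, (a j).shift 1 := by
  classical
  induction s using Finset.induction_on with
  | empty => simp only [Finset.sum_empty]; exact Groth.Agent.H74.DispFaithful.shift_zero
  | insert b s hb ih =>
    rw [Finset.sum_insert hb, Finset.sum_insert hb,
      shift_add_of_mem (ha b) ((W4c1extbt610.IV p A).sum_mem fun j _ => ha j), ih]

end WittI

/-! ### Base change of a Frobenius-semilinear map -/

section BcSemi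

variable {p : ℕ} [hp : Fact p.Prime] {S R : Type u} [CommRing S] [CommRing R] (f : S →+* R)
variable {P : Type v} [AddCommGroup P] [Module (WittVector p S) P]
variable {N : Type v} [AddCommGroup N] [Module (WittVector p S) N]

local notation "σS" => (WittVector.frobenius : WittVector p S →+* WittVector p S)
local notation "σR" => (WittVector.frobenius : WittVector p R →+* WittVector p R)
local notation "Wf" => (WittVector.map f : WittVector p S →+* WittVector p R)

/-- `x ↦ 1 ⊗ φ x`, semilinear for `W(f) ∘ σ`. -/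
noncomputable def iotaComp (φ : P →ₛₗ[σS] N) : P →ₛₗ[(Wf).comp σS] Dieu.BC Wf N where
  toFun x := Dieu.BC.tmul Wf 1 (φ x)
  map_add' x y := by rw [map_add, Dieu.BC.tmul_add]
  map_smul' a x := by
    rw [map_smulₛₗ, ← Dieu.BC.tmul_apply_eq, Dieu.BC.tmul_eq_smul_tmul_one]
    rfl

/-- The base change `w ⊗ x ↦ σ w ⊗ φ x` of a Frobenius-semilinear map. -/
noncomputable def bcSemi (φ : P →ₛₗ[σS] N) : Dieu.BC Wf P →ₛₗ[σR] Dieu.BC Wf N :=
  ((Dieu.BC.lift ((Wf).comp σS) (iotaComp f φ)).comp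
    (Dieu.BC.castHom (frob_square f).symm)).comp (Dieu.BC.push Wf σR)

theorem bcSemi_tmul (φ : P →ₛₗ[σS] N) (w : WittVector p R) (x : P) :
    bcSemi f φ (Dieu.BC.tmul Wf w x) = Dieu.BC.tmul Wf (frobenius w) (φ x) := by
  rw [bcSemi, LinearMap.comp_apply, LinearMap.comp_apply, Dieu.BC.push_tmul,
    Dieu.BC.castHom_tmul, Dieu.BC.lift_tmul]
  change frobenius w • Dieu.BC.tmul Wf 1 (φ x) = _
  rw [Dieu.BC.smul_tmul, mul_one]

end BcSemi

/-! ### The setup: a normal decomposition and coordinates -/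

section SetupSec

variable {p : ℕ} [hp : Fact p.Prime] {S R : Type u} [CommRing S] [CommRing R]
variable {P : Type v} [AddCommGroup P] [Module (WittVector p S) P]

local notation "σS" => (WittVector.frobenius : WittVector p S →+* WittVector p S)
local notation "σR" => (WittVector.frobenius : WittVector p R →+* WittVector p R)

/-- A normal decomposition together with coordinates on `P`. -/
structure Setup (D : W4c1extbt610.Display3n p S P) where
  L : Submodule (WittVector p S) P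
  T : Submodule (WittVector p S) P
  hLT : IsCompl L T
  hQ : D.Q = L ⊔ W4c1extbt610.IV p S • T
  n : ℕ
  i : P →ₗ[WittVector p S] (Fin n → WittVector p S)
  π : (Fin n → WittVector p S) →ₗ[WittVector p S] P
  hi : π ∘ₗ i = LinearMap.id

theorem exists_setup (D : W4c1extbt610.Display3n p S P) : Nonempty (Setup D) := by
  obtain ⟨L, T, hLT, hQ⟩ := D.exists_normal
  haveI := D.finite
  haveI := D.projective
  obtain ⟨n, π, hπ⟩ := Module.Finite.exists_fin' (WittVector p S) P
  obtain ⟨i, hi⟩ := Module.projective_lifting_property π LinearMap.id hπ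
  exact ⟨⟨L, T, hLT, hQ, n, i, π, hi⟩⟩

namespace Setup

variable {D : W4c1extbt610.Display3n p S P} (s : Setup D)

/-- projection onto `L` -/
noncomputable def πL : P →ₗ[WittVector p S] P := s.L.projection s.T s.hLT

/-- projection onto `T` -/
noncomputable def πT : P →ₗ[WittVector p S] P := s.T.projection s.L s.hLT.symm

theorem πL_add_πT (x : P) : s.πL x + s.πT x = x :=
  Submodule.projection_add_projection_eq_self s.hLT x

theorem πL_mem (x : P) : s.πL x ∈ s.L := Submodule.projection_apply_mem s.hLT x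

theorem πT_mem (x : P) : s.πT x ∈ s.T := Submodule.projection_apply_mem s.hLT.symm x

theorem L_le : s.L ≤ D.Q := s.hQ ▸ le_sup_left

theorem IT_le : W4c1extbt610.IV p S • s.T ≤ D.Q := s.hQ ▸ le_sup_right

theorem πL_mem_Q (x : P) : s.πL x ∈ D.Q := s.L_le (s.πL_mem x)

theorem πT_πT (x : P) : s.πT (s.πT x) = s.πT x :=
  Submodule.projection_apply_of_mem_left s.hLT.symm (s.πT_mem x)

theorem πL_πT (x : P) : s.πL (s.πT x) = 0 :=
  Submodule.projection_apply_of_mem_right s.hLT (s.πT_mem x)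

theorem πT_πL (x : P) : s.πT (s.πL x) = 0 :=
  Submodule.projection_apply_of_mem_right s.hLT.symm (s.πL_mem x)

theorem πL_πL (x : P) : s.πL (s.πL x) = s.πL x :=
  Submodule.projection_apply_of_mem_left s.hLT (s.πL_mem x)

theorem mem_T_of_mem_IT {z : P} (hz : z ∈ W4c1extbt610.IV p S • s.T) : z ∈ s.T :=
  Submodule.smul_induction_on hz (fun a _ t ht => s.T.smul_mem a ht)
    (fun a b ha hb => s.T.add_mem ha hb)

/-- for `q ∈ Q`, the `T`-component lies in `I T` -/
theorem πT_mem_IT {q : P} (hq : q ∈ D.Q) : s.πT q ∈ W4c1extbt610.IV p S • s.T := by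
  have hq' : q ∈ s.L ⊔ W4c1extbt610.IV p S • s.T := s.hQ ▸ hq
  obtain ⟨l, hl, z, hz, rfl⟩ := Submodule.mem_sup.1 hq'
  rw [πT, map_add, Submodule.projection_apply_of_mem_right s.hLT.symm hl,
    Submodule.projection_apply_of_mem_left s.hLT.symm (s.mem_T_of_mem_IT hz), zero_add]
  exact hz

theorem πT_mem_Q {q : P} (hq : q ∈ D.Q) : s.πT q ∈ D.Q := s.IT_le (s.πT_mem_IT hq)

/-- the coordinates of the `T`-component -/
noncomputable def c : P →ₗ[WittVector p S] (Fin s.n → WittVector p S) := s.i ∘ₗ s.πT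

/-- the generators of `T` -/
noncomputable def t (j : Fin s.n) : P := s.πT (s.π (Pi.single j 1))

theorem t_mem (j : Fin s.n) : s.t j ∈ s.T := s.πT_mem _

theorem πT_eq (x : P) : s.πT x = ∑ j, s.c x j • s.t j := by
  have h1 := eq_sum s.i s.π s.hi (s.πT x)
  have h2 := congrArg s.πT h1
  rw [s.πT_πT, map_sum] at h2
  rw [h2]
  refine Finset.sum_congr rfl fun j _ => ?_
  rw [map_smul]
  rfl

theorem c_mem_IV {q : P} (hq : q ∈ D.Q) (j : Fin s.n) : s.c q j ∈ W4c1extbt610.IV p S :=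
  coord_mem s.i _ (Submodule.smul_mono le_rfl le_top (s.πT_mem_IT hq)) j

/-- `V⁻¹ ∘ π_L`, a Frobenius-semilinear endomorphism of `P` -/
noncomputable def VL : P →ₛₗ[σS] P :=
  D.Vinv.comp (LinearMap.codRestrict D.Q s.πL s.πL_mem_Q)

theorem VL_apply (x : P) : s.VL x = D.Vinv ⟨s.πL x, s.πL_mem_Q x⟩ := rfl

/-- `V⁻¹` of a finite sum of Verschiebung multiples. -/
theorem Vinv_sum_V {ι : Type*} (J : Finset ι) (b : ι → WittVector p S) (x : ι → P)
    (h : ∑ j ∈ J, verschiebung (b j) • x j ∈ D.Q) :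
    D.Vinv ⟨∑ j ∈ J, verschiebung (b j) • x j, h⟩ = ∑ j ∈ J, b j • D.F (x j) := by
  let y : ι → D.Q := fun j => ⟨verschiebung (b j) • x j,
    D.IV_smul_le (Submodule.smul_mem_smul (W4c1extbt610.verschiebung_mem_IV p S _)
      Submodule.mem_top)⟩
  have e : (⟨∑ j ∈ J, verschiebung (b j) • x j, h⟩ : D.Q) = ∑ j ∈ J, y j := by
    apply Subtype.ext
    rw [Submodule.coe_sum]
  rw [e, map_sum]
  refine Finset.sum_congr rfl fun j _ => ?_
  exact D.Vinv_verschiebung_smul _ _

/-- `V⁻¹ q = V⁻¹ (π_L q) + ∑ shift(c_j q) F t_j` for `q ∈ Q`. -/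
theorem Vinv_eq (q : D.Q) :
    D.Vinv q = s.VL q + ∑ j, (s.c q j).shift 1 • D.F (s.t j) := by
  have h1 : q = ⟨s.πL q, s.πL_mem_Q q⟩ + ⟨s.πT q, s.πT_mem_Q q.2⟩ :=
    Subtype.ext (s.πL_add_πT q).symm
  have h2 : s.πT q = ∑ j, verschiebung ((s.c q j).shift 1) • s.t j := by
    rw [s.πT_eq]
    refine Finset.sum_congr rfl fun j _ => ?_
    rw [← eq_V_shift (s.c_mem_IV q.2 j)]
  have h3 : ∑ j, verschiebung ((s.c q j).shift 1) • s.t j ∈ D.Q := h2 ▸ s.πT_mem_Q q.2
  have h4 : (⟨s.πT q, s.πT_mem_Q q.2⟩ : D.Q) =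
      ⟨∑ j, verschiebung ((s.c q j).shift 1) • s.t j, h3⟩ := Subtype.ext h2
  conv_lhs => rw [h1, map_add, h4, Vinv_sum_V]
  rfl

/-! #### The base-changed coordinates -/

variable (f : S →+* R)

local notation "Wf" => (WittVector.map f : WittVector p S →+* WittVector p R)
local notation "w0" => (WittVector.constantCoeff : WittVector p R →+* R)

/-- `x ↦ (W(f)(c_j x))_j` -/
noncomputable def cSemi : P →ₛₗ[Wf] (Fin s.n → WittVector p R) where
  toFun x j := Wf (s.c x j)
  map_add' x y := by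
    ext1 j
    simp only [map_add, Pi.add_apply]
  map_smul' a x := by
    ext1 j
    simp only [map_smul, Pi.smul_apply, smul_eq_mul, map_mul]

/-- the coordinates `ĉ : P_R → W(R)^n` of the `T`-component -/
noncomputable def chat : Dieu.BC Wf P →ₗ[WittVector p R] (Fin s.n → WittVector p R) :=
  Dieu.BC.lift Wf (s.cSemi f)

theorem chat_tmul (w : WittVector p R) (x : P) (j : Fin s.n) :
    s.chat f (Dieu.BC.tmul Wf w x) j = w * Wf (s.c x j) := by
  rw [chat, Dieu.BC.lift_tmul]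
  rfl

/-- the projections of `P_R` -/
noncomputable def eL : Dieu.BC Wf P →ₗ[WittVector p R] Dieu.BC Wf P := Dieu.BC.map Wf s.πL

noncomputable def eT : Dieu.BC Wf P →ₗ[WittVector p R] Dieu.BC Wf P := Dieu.BC.map Wf s.πT

theorem eL_add_eT (z : Dieu.BC Wf P) : s.eL f z + s.eT f z = z := by
  induction z using Dieu.BC.induction_on Wf with
  | zero => simp only [map_zero, add_zero]
  | tmul w x =>
    rw [eL, eT, Dieu.BC.map_tmul, Dieu.BC.map_tmul, ← Dieu.BC.tmul_add, s.πL_add_πT]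
  | add z₁ z₂ h₁ h₂ =>
    rw [map_add, map_add]
    conv_rhs => rw [← h₁, ← h₂]
    abel

theorem tmul_smul (a : WittVector p S) (w : WittVector p R) (x : P) :
    Dieu.BC.tmul Wf w (a • x) = Wf a • Dieu.BC.tmul Wf w x := by
  rw [← Dieu.BC.tmul_mul_apply, Dieu.BC.smul_tmul, mul_comm]

theorem tmul_sum {ι : Type*} (J : Finset ι) (w : WittVector p R) (x : ι → P) :
    Dieu.BC.tmul Wf w (∑ j ∈ J, x j) = ∑ j ∈ J, Dieu.BC.tmul Wf w (x j) := by
  classical
  induction J using Finset.induction_on with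
  | empty => simp only [Finset.sum_empty, Dieu.BC.tmul_zero]
  | insert b J hb ih => rw [Finset.sum_insert hb, Finset.sum_insert hb, Dieu.BC.tmul_add, ih]

theorem eT_eq (z : Dieu.BC Wf P) :
    s.eT f z = ∑ j, s.chat f z j • Dieu.BC.tmul Wf 1 (s.t j) := by
  induction z using Dieu.BC.induction_on Wf with
  | zero => simp only [map_zero, Pi.zero_apply, zero_smul, Finset.sum_const_zero]
  | tmul w x =>
    rw [eT, Dieu.BC.map_tmul, s.πT_eq, tmul_sum]
    refine Finset.sum_congr rfl fun j _ => ?_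
    rw [tmul_smul, chat_tmul, Dieu.BC.smul_tmul, Dieu.BC.smul_tmul, mul_one, mul_comm]
  | add z₁ z₂ h₁ h₂ =>
    rw [map_add, h₁, h₂, ← Finset.sum_add_distrib]
    refine Finset.sum_congr rfl fun j _ => ?_
    rw [map_add, Pi.add_apply, add_smul]

/-- `x ↦ w₀ (W(f) (c_j x))` -/
noncomputable def nuP (j : Fin s.n) : P →ₛₗ[(w0).comp Wf] R where
  toFun x := w0 (Wf (s.c x j))
  map_add' x y := by simp only [map_add, Pi.add_apply]
  map_smul' a x := by
    simp only [map_smul, Pi.smul_apply, smul_eq_mul, map_mul]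
    rfl

theorem nuP_apply (j : Fin s.n) (x : P) : s.nuP f j x = w0 (Wf (s.c x j)) := rfl

theorem le_ker_nuP (j : Fin s.n) : D.Q ≤ LinearMap.ker (s.nuP f j) := by
  intro q hq
  rw [LinearMap.mem_ker, nuP_apply]
  have h1 := s.c_mem_IV hq j
  obtain ⟨b, hb⟩ := Groth.Agent.H74.DispVSharp.exists_verschiebung_of_mem_IV h1
  rw [hb, map_verschiebung]
  exact verschiebung_coeff_zero (WittVector.map f b)

/-- the induced map on `P/Q` -/
noncomputable def nu (j : Fin s.n) : (P ⧸ D.Q) →ₛₗ[(w0).comp Wf] R :=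
  Submodule.liftQ D.Q (s.nuP f j) (s.le_ker_nuP f j)

theorem nu_mk (j : Fin s.n) (x : P) : s.nu f j (D.Q.mkQ x) = w0 (Wf (s.c x j)) := rfl

theorem mu_bcQuotMap (j : Fin s.n) (z : Dieu.BC Wf P) :
    Dieu.BC.lift ((w0).comp Wf) (s.nu f j) (Dieu.bcQuotMap f D.Q z) = w0 (s.chat f z j) := by
  induction z using Dieu.BC.induction_on Wf with
  | zero => simp only [map_zero, Pi.zero_apply]
  | tmul w x =>
    rw [Dieu.bcQuotMap_tmul, Dieu.BC.lift_tmul, nu_mk, chat_tmul, map_mul, smul_eq_mul]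
  | add z₁ z₂ h₁ h₂ => simp only [map_add, h₁, h₂, Pi.add_apply]

theorem chat_mem_IV {z : Dieu.BC Wf P} (hz : Dieu.bcQuotMap f D.Q z = 0) (j : Fin s.n) :
    s.chat f z j ∈ W4c1extbt610.IV p R := by
  rw [Groth.Agent.H74.NormalDecomp.IV_eq_ker, RingHom.mem_ker, ← mu_bcQuotMap, hz, map_zero]

/-! #### The formula for `V_R⁻¹` -/

/-- `Q_R` -/
noncomputable def QR (D : W4c1extbt610.Display3n p S P) :
    Submodule (WittVector p R) (Dieu.BC Wf P) :=
  LinearMap.ker (Dieu.bcQuotMap f D.Q)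

theorem mem_QR {z : Dieu.BC Wf P} : z ∈ QR f D ↔ Dieu.bcQuotMap f D.Q z = 0 := LinearMap.mem_ker

/-- the formula for `V_R⁻¹` -/
noncomputable def vform (z : Dieu.BC Wf P) : Dieu.BC Wf P :=
  bcSemi f s.VL z + ∑ j, (s.chat f z j).shift 1 • Dieu.BC.tmul Wf 1 (D.F (s.t j))

theorem vform_add {z z' : Dieu.BC Wf P} (hz : z ∈ QR f D) (hz' : z' ∈ QR f D) :
    s.vform f (z + z') = s.vform f z + s.vform f z' := by
  unfold vform
  rw [map_add, map_add]
  have : ∀ j, (s.chat f z j + s.chat f z' j).shift 1 =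
      (s.chat f z j).shift 1 + (s.chat f z' j).shift 1 := fun j =>
    shift_add_of_mem (s.chat_mem_IV f ((mem_QR f).1 hz) j) (s.chat_mem_IV f ((mem_QR f).1 hz') j)
  simp only [Pi.add_apply, this, add_smul, Finset.sum_add_distrib]
  abel

theorem vform_smul (w : WittVector p R) {z : Dieu.BC Wf P} (hz : z ∈ QR f D) :
    s.vform f (w • z) = frobenius w • s.vform f z := by
  unfold vform
  rw [map_smulₛₗ, map_smul, smul_add, Finset.smul_sum]
  congr 1
  refine Finset.sum_congr rfl fun j _ => ?_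
  rw [Pi.smul_apply, smul_eq_mul, shift_mul_of_mem w (s.chat_mem_IV f ((mem_QR f).1 hz) j),
    mul_smul]

/-- `V_R⁻¹` -/
noncomputable def VinvR : ↥(QR f D) →ₛₗ[σR] Dieu.BC Wf P where
  toFun z := s.vform f z.1
  map_add' z z' := s.vform_add f z.2 z'.2
  map_smul' w z := s.vform_smul f w z.2

theorem VinvR_apply (z : ↥(QR f D)) : s.VinvR f z = s.vform f z.1 := rfl

theorem shift_map (a : WittVector p S) : (Wf a).shift 1 = Wf (a.shift 1) := by
  ext n
  rw [shift_coeff, map_coeff, map_coeff, shift_coeff]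

theorem map_mem_IV {a : WittVector p S} (ha : a ∈ W4c1extbt610.IV p S) :
    Wf a ∈ W4c1extbt610.IV p R := by
  obtain ⟨b, rfl⟩ := Groth.Agent.H74.DispVSharp.exists_verschiebung_of_mem_IV ha
  rw [map_verschiebung]
  exact W4c1extbt610.verschiebung_mem_IV p R _

/-- relation (26), first part -/
theorem vform_tmul_Q (w : WittVector p R) (y : D.Q) :
    s.vform f (Dieu.BC.tmul Wf w (y : P)) = Dieu.BC.tmul Wf (frobenius w) (D.Vinv y) := by
  unfold vform
  rw [bcSemi_tmul, s.Vinv_eq y, Dieu.BC.tmul_add, tmul_sum]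
  congr 1
  refine Finset.sum_congr rfl fun j _ => ?_
  rw [chat_tmul, shift_mul_of_mem w (map_mem_IV f (s.c_mem_IV y.2 j)), shift_map, tmul_smul,
    Dieu.BC.smul_tmul, Dieu.BC.smul_tmul, mul_one, mul_comm]

/-- relation (26), second part -/
theorem vform_tmul_V (w : WittVector p R) (x : P) :
    s.vform f (Dieu.BC.tmul Wf (verschiebung w) x) = Dieu.BC.tmul Wf w (D.F x) := by
  unfold vform
  have h1 : bcSemi f s.VL (Dieu.BC.tmul Wf (verschiebung w) x) =
      Dieu.BC.tmul Wf w (D.F (s.πL x)) := by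
    rw [bcSemi_tmul, frobenius_verschiebung]
    have : D.F (s.πL x) = (p : WittVector p S) • s.VL x :=
      Groth.Agent.H74.DispVSharp.F_eq_p_smul_Vinv D ⟨s.πL x, s.πL_mem_Q x⟩
    rw [this, ← Dieu.BC.tmul_mul_apply, map_natCast]
  have h2 : ∑ j, (s.chat f (Dieu.BC.tmul Wf (verschiebung w) x) j).shift 1 •
      Dieu.BC.tmul Wf 1 (D.F (s.t j)) = Dieu.BC.tmul Wf w (D.F (s.πT x)) := by
    rw [s.πT_eq x, map_sum, tmul_sum]
    refine Finset.sum_congr rfl fun j _ => ?_
    rw [chat_tmul, ← verschiebung_mul_frobenius,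
      Groth.Agent.H74.WittShift.shift_verschiebung, map_smulₛₗ, tmul_smul, Dieu.BC.smul_tmul,
      Dieu.BC.smul_tmul, mul_one]
    congr 1
    rw [mul_comm]
    congr 1
    exact (RingHom.congr_fun (frob_square f) (s.c x j)).symm
  rw [h1, h2, ← Dieu.BC.tmul_add, ← map_add, s.πL_add_πT]

/-! #### The 3n-display structure on `P_R` -/

theorem IV_smul_le_QR :
    W4c1extbt610.IV p R • (⊤ : Submodule (WittVector p R) (Dieu.BC Wf P)) ≤ QR f D := by
  intro z hz
  refine Submodule.smul_induction_on hz (fun a ha x _ => ?_) (fun x y hx hy => (QR f D).add_mem hx hy)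
  rw [mem_QR, map_smulₛₗ]
  have : (w0) a = 0 := coeff_zero_of_mem_IV ha
  rw [this, zero_smul]

theorem tmul_mem_QR (w : WittVector p R) (y : D.Q) : Dieu.BC.tmul Wf w (y : P) ∈ QR f D := by
  rw [mem_QR, Dieu.bcQuotMap_tmul]
  have : D.Q.mkQ (y : P) = 0 := (Submodule.Quotient.mk_eq_zero _).2 y.2
  rw [this, Dieu.BC.tmul_zero]

theorem eL_mem_QR (z : Dieu.BC Wf P) : s.eL f z ∈ QR f D := by
  induction z using Dieu.BC.induction_on Wf with
  | zero => rw [map_zero]; exact zero_mem _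
  | tmul w x =>
    rw [eL, Dieu.BC.map_tmul]
    exact tmul_mem_QR f w ⟨s.πL x, s.πL_mem_Q x⟩
  | add z₁ z₂ h₁ h₂ => rw [map_add]; exact add_mem h₁ h₂

theorem eL_eL (z : Dieu.BC Wf P) : s.eL f (s.eL f z) = s.eL f z := by
  induction z using Dieu.BC.induction_on Wf with
  | zero => simp only [map_zero]
  | tmul w x => rw [eL, Dieu.BC.map_tmul, Dieu.BC.map_tmul, s.πL_πL]
  | add z₁ z₂ h₁ h₂ => simp only [map_add, h₁, h₂]

theorem eL_eT (z : Dieu.BC Wf P) : s.eL f (s.eT f z) = 0 := by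
  induction z using Dieu.BC.induction_on Wf with
  | zero => simp only [map_zero]
  | tmul w x => rw [eL, eT, Dieu.BC.map_tmul, Dieu.BC.map_tmul, s.πL_πT, Dieu.BC.tmul_zero]
  | add z₁ z₂ h₁ h₂ => simp only [map_add, h₁, h₂, add_zero]

theorem tmul_t_mem (j : Fin s.n) :
    Dieu.BC.tmul Wf 1 (s.t j) ∈ LinearMap.range (s.eT f) :=
  ⟨Dieu.BC.tmul Wf 1 (s.π (Pi.single j 1)), by rw [eT, Dieu.BC.map_tmul]; rfl⟩

theorem vform_zero : s.vform f 0 = 0 := by
  unfold vform
  simp only [map_zero, Pi.zero_apply, Groth.Agent.H74.DispFaithful.shift_zero, zero_smul,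
    Finset.sum_const_zero, add_zero]

theorem vform_V_smul (w : WittVector p R) (z : Dieu.BC Wf P) :
    s.vform f (verschiebung w • z) = w • bcSemi f D.F z := by
  induction z using Dieu.BC.induction_on Wf with
  | zero => rw [smul_zero, map_zero, smul_zero, vform_zero]
  | tmul u x =>
    rw [Dieu.BC.smul_tmul, ← verschiebung_mul_frobenius, vform_tmul_V,
      bcSemi_tmul, Dieu.BC.smul_tmul]
  | add z₁ z₂ h₁ h₂ =>
    have m₁ : verschiebung w • z₁ ∈ QR f D := IV_smul_le_QR f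
      (Submodule.smul_mem_smul (W4c1extbt610.verschiebung_mem_IV p R w) Submodule.mem_top)
    have m₂ : verschiebung w • z₂ ∈ QR f D := IV_smul_le_QR f
      (Submodule.smul_mem_smul (W4c1extbt610.verschiebung_mem_IV p R w) Submodule.mem_top)
    rw [smul_add, s.vform_add f m₁ m₂, h₁, h₂, map_add, smul_add]

/-- the base change -/
noncomputable def DR : W4c1extbt610.Display3n p R (Dieu.BC Wf P) where
  Q := QR f D
  F := bcSemi f D.F
  Vinv := s.VinvR f
  finite := haveI := D.finite; Groth.Agent.H74.DispRank.finite_BC Wf P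
  projective := haveI := D.projective; Groth.Agent.H74.DispRank.projective_BC Wf P
  IV_smul_le := IV_smul_le_QR f
  exists_normal := by
    refine ⟨LinearMap.range (s.eL f), LinearMap.range (s.eT f), ?_, ?_⟩
    · rw [isCompl_iff]
      constructor
      · rw [Submodule.disjoint_def]
        rintro z ⟨a, rfl⟩ ⟨b, hb⟩
        have h1 : s.eL f (s.eL f a) = 0 := by rw [← hb, eL_eT]
        rwa [eL_eL] at h1
      · rw [codisjoint_iff, eq_top_iff]
        intro z _
        rw [← s.eL_add_eT f z]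
        exact Submodule.add_mem_sup ⟨z, rfl⟩ ⟨z, rfl⟩
    · apply le_antisymm
      · intro z hz
        rw [← s.eL_add_eT f z]
        refine Submodule.add_mem_sup ⟨z, rfl⟩ ?_
        rw [s.eT_eq f z]
        exact Submodule.sum_mem _ fun j _ =>
          Submodule.smul_mem_smul (s.chat_mem_IV f ((mem_QR f).1 hz) j) (s.tmul_t_mem f j)
      · refine sup_le ?_ ?_
        · rintro _ ⟨z, rfl⟩
          exact s.eL_mem_QR f z
        · exact le_trans (Submodule.smul_mono le_rfl le_top) (IV_smul_le_QR f)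
  span_range_Vinv := by
    set M := Submodule.span (WittVector p R) (Set.range (s.VinvR f)) with hM
    have h1 : ∀ y : D.Q, Dieu.BC.tmul Wf 1 (D.Vinv y) ∈ M := by
      intro y
      refine Submodule.subset_span ⟨⟨Dieu.BC.tmul Wf 1 (y : P), tmul_mem_QR f 1 y⟩, ?_⟩
      rw [VinvR_apply, vform_tmul_Q, map_one]
    have h2 : ∀ x : P, Dieu.BC.tmul Wf 1 x ∈ M := by
      intro x
      have hx : x ∈ Submodule.span (WittVector p S) (Set.range D.Vinv) := by
        rw [D.span_range_Vinv]; trivial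
      refine Submodule.span_induction ?_ ?_ ?_ ?_ hx
      · rintro _ ⟨y, rfl⟩
        exact h1 y
      · rw [Dieu.BC.tmul_zero]; exact zero_mem _
      · intro a b _ _ ha hb
        rw [Dieu.BC.tmul_add]; exact add_mem ha hb
      · intro a b _ hb
        rw [tmul_smul]; exact M.smul_mem _ hb
    rw [eq_top_iff]
    intro z _
    induction z using Dieu.BC.induction_on Wf with
    | zero => exact zero_mem _
    | tmul w x =>
      rw [Dieu.BC.tmul_eq_smul_tmul_one]
      exact M.smul_mem _ (h2 x)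
    | add z₁ z₂ h₁ h₂ => exact add_mem (h₁ trivial) (h₂ trivial)
  Vinv_verschiebung_smul := fun w z => s.vform_V_smul f w z

theorem isBC : Dieu.IsDispBaseChange f D (s.DR f) where
  Q_eq := rfl
  F_tmul := fun w x => bcSemi_tmul f D.F w x
  Vinv_tmul := fun w y _ => s.vform_tmul_Q f w y
  Vinv_verschiebung_tmul := fun w x _ => s.vform_tmul_V f w x

/-! #### Uniqueness -/

variable {f}

theorem Vinv_eL (DR' : W4c1extbt610.Display3n p R (Dieu.BC Wf P))
    (h : Dieu.IsDispBaseChange f D DR') (z : Dieu.BC Wf P) (hz : s.eL f z ∈ DR'.Q) :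
    DR'.Vinv ⟨s.eL f z, hz⟩ = bcSemi f s.VL z := by
  have hQ : ∀ z, s.eL f z ∈ DR'.Q := fun z => by rw [h.Q_eq]; exact s.eL_mem_QR f z
  suffices H : ∀ z, DR'.Vinv ⟨s.eL f z, hQ z⟩ = bcSemi f s.VL z from H z
  intro z
  induction z using Dieu.BC.induction_on Wf with
  | zero =>
    have : (⟨s.eL f 0, hQ 0⟩ : DR'.Q) = 0 := Subtype.ext (map_zero _)
    rw [this, map_zero, map_zero]
  | tmul w x =>
    have e : s.eL f (Dieu.BC.tmul Wf w x) = Dieu.BC.tmul Wf w (s.πL x) := by
      rw [eL, Dieu.BC.map_tmul]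
    have hm : Dieu.BC.tmul Wf w (s.πL x) ∈ DR'.Q := e ▸ hQ _
    have e2 : (⟨s.eL f (Dieu.BC.tmul Wf w x), hQ _⟩ : DR'.Q) =
        ⟨Dieu.BC.tmul Wf w (s.πL x), hm⟩ := Subtype.ext e
    rw [e2, h.Vinv_tmul w ⟨s.πL x, s.πL_mem_Q x⟩ hm, bcSemi_tmul]
    rfl
  | add z₁ z₂ h₁ h₂ =>
    have : (⟨s.eL f (z₁ + z₂), hQ _⟩ : DR'.Q) = ⟨s.eL f z₁, hQ _⟩ + ⟨s.eL f z₂, hQ _⟩ :=
      Subtype.ext (map_add _ _ _)
    rw [this, map_add, h₁, h₂, map_add]

theorem Vinv_eT (DR' : W4c1extbt610.Display3n p R (Dieu.BC Wf P))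
    (h : Dieu.IsDispBaseChange f D DR') {z : Dieu.BC Wf P} (hzQ : z ∈ DR'.Q)
    (hz : s.eT f z ∈ DR'.Q) :
    DR'.Vinv ⟨s.eT f z, hz⟩ =
      ∑ j, (s.chat f z j).shift 1 • Dieu.BC.tmul Wf 1 (D.F (s.t j)) := by
  have hzQ' : Dieu.bcQuotMap f D.Q z = 0 := by
    rw [h.Q_eq] at hzQ
    exact hzQ
  have hm : ∀ j, Dieu.BC.tmul Wf (verschiebung ((s.chat f z j).shift 1)) (s.t j) ∈ DR'.Q := by
    intro j
    rw [Dieu.BC.tmul_eq_smul_tmul_one]
    exact DR'.IV_smul_le (Submodule.smul_mem_smul (W4c1extbt610.verschiebung_mem_IV p R _)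
      Submodule.mem_top)
  let y : Fin s.n → DR'.Q := fun j =>
    ⟨Dieu.BC.tmul Wf (verschiebung ((s.chat f z j).shift 1)) (s.t j), hm j⟩
  have e : (⟨s.eT f z, hz⟩ : DR'.Q) = ∑ j, y j := by
    apply Subtype.ext
    rw [Submodule.coe_sum]
    change s.eT f z = _
    rw [s.eT_eq f z]
    refine Finset.sum_congr rfl fun j _ => ?_
    change _ = Dieu.BC.tmul Wf (verschiebung ((s.chat f z j).shift 1)) (s.t j)
    rw [← eq_V_shift (s.chat_mem_IV f hzQ' j), Dieu.BC.smul_tmul, mul_one]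
  rw [e, map_sum]
  refine Finset.sum_congr rfl fun j _ => ?_
  rw [h.Vinv_verschiebung_tmul _ _ (hm j), Dieu.BC.tmul_eq_smul_tmul_one]

theorem Vinv_eq_vform (DR' : W4c1extbt610.Display3n p R (Dieu.BC Wf P))
    (h : Dieu.IsDispBaseChange f D DR') (z : Dieu.BC Wf P) (hz : z ∈ DR'.Q) :
    DR'.Vinv ⟨z, hz⟩ = s.vform f z := by
  have hL : s.eL f z ∈ DR'.Q := by rw [h.Q_eq]; exact s.eL_mem_QR f z
  have hT : s.eT f z ∈ DR'.Q := by
    have := DR'.Q.sub_mem hz hL
    have e : z - s.eL f z = s.eT f z := by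
      rw [sub_eq_iff_eq_add, add_comm, s.eL_add_eT f z]
    rwa [e] at this
  have e : (⟨z, hz⟩ : DR'.Q) = ⟨s.eL f z, hL⟩ + ⟨s.eT f z, hT⟩ :=
    Subtype.ext (s.eL_add_eT f z).symm
  rw [e, map_add, s.Vinv_eL DR' h z hL, s.Vinv_eT DR' h hz hT]
  rfl

end Setup

theorem display_ext {A : Type u} [CommRing A] {M : Type v} [AddCommGroup M]
    [Module (WittVector p A) M] (D₁ D₂ : W4c1extbt610.Display3n p A M) (hQ : D₁.Q = D₂.Q)
    (hF : D₁.F = D₂.F)
    (hV : ∀ (z : M) (h₁ : z ∈ D₁.Q) (h₂ : z ∈ D₂.Q), D₁.Vinv ⟨z, h₁⟩ = D₂.Vinv ⟨z, h₂⟩) :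
    D₁ = D₂ := by
  cases D₁ with
  | mk Q₁ F₁ V₁ _ _ _ _ _ _ =>
  cases D₂ with
  | mk Q₂ F₂ V₂ _ _ _ _ _ _ =>
  simp only at hQ hF hV
  subst hQ
  subst hF
  have : V₁ = V₂ := by
    ext ⟨z, hz⟩
    exact hV z hz hz
  subst this
  rfl

/-- **Base change of a 3n-display exists and is unique.** -/
theorem existsUnique_baseChange (f : S →+* R) (D : W4c1extbt610.Display3n p S P) :
    ∃! DR : W4c1extbt610.Display3n p R
      (Dieu.BC (WittVector.map f : WittVector p S →+* WittVector p R) P),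
      Dieu.IsDispBaseChange f D DR := by
  obtain ⟨s⟩ := exists_setup D
  refine ⟨s.DR f, s.isBC f, fun DR' h => ?_⟩
  apply display_ext
  · rw [h.Q_eq]; rfl
  · apply LinearMap.ext
    intro z
    induction z using Dieu.BC.induction_on (WittVector.map f : WittVector p S →+* WittVector p R) with
    | zero => simp only [map_zero]
    | tmul w x =>
      rw [h.F_tmul]
      exact (bcSemi_tmul f D.F w x).symm
    | add z₁ z₂ h₁ h₂ => simp only [map_add, h₁, h₂]
  · intro z h₁ h₂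
    rw [s.Vinv_eq_vform DR' h z h₁]
    rfl


end SetupSec

end Groth.Agent.H74.DispBCExists
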