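import Groth.Agent.H74.DispIter
import Mathlib

/-!
# Base change of displays is compatible with `V^#` and the nilpotence condition
-/

set_option autoImplicit false
set_option linter.style.haveILetI false

open TensorProduct

namespace Groth.Agent.H74.DispBaseChange

universe u v

open Groth.Agent.H74.DispIter

section General

variable {A A' : Type u} [CommRing A] [CommRing A'] (α : A →+* A')
variable {P : Type v} [AddCommGroup P] [Module A P]

/-- `x ↦ 1 ⊗ (1 ⊗ x)` as a `(g' ∘ α)`-semilinear map. -/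
noncomputable def psi (g' : A' →+* A') : P →ₛₗ[g'.comp α] Dieu.BC g' (Dieu.BC α P) where
  toFun x := Dieu.BC.tmul g' 1 (Dieu.BC.tmul α 1 x)
  map_add' x y := by rw [Dieu.BC.tmul_add, Dieu.BC.tmul_add]
  map_smul' a x := by
    rw [← Dieu.BC.tmul_apply_eq, Dieu.BC.tmul_eq_smul_tmul_one α (α a), ← Dieu.BC.tmul_apply_eq,
      Dieu.BC.tmul_eq_smul_tmul_one g' (g' (α a))]
    rfl

/-- The comparison map `BC g P → BC g' (BC α P)`, `t ⊗ y ↦ α t ⊗ (1 ⊗ y)`, for a commuting square
`α ∘ g = g' ∘ α`. -/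
noncomputable def kap {g : A →+* A} {g' : A' →+* A'} (hg : α.comp g = g'.comp α) :
    Dieu.BC g P →ₛₗ[α] Dieu.BC g' (Dieu.BC α P) :=
  ((Dieu.BC.lift (g'.comp α) (psi α g')).comp (Dieu.BC.castHom hg)).comp (Dieu.BC.push g α)

theorem kap_tmul {g : A →+* A} {g' : A' →+* A'} (hg : α.comp g = g'.comp α) (t : A) (y : P) :
    kap α hg (Dieu.BC.tmul g t y) = Dieu.BC.tmul g' (α t) (Dieu.BC.tmul α 1 y) := by
  rw [kap, LinearMap.comp_apply, LinearMap.comp_apply, Dieu.BC.push_tmul, Dieu.BC.castHom_tmul,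
    Dieu.BC.lift_tmul]
  change α t • Dieu.BC.tmul g' 1 (Dieu.BC.tmul α 1 y) = _
  rw [Dieu.BC.smul_tmul, mul_one]

theorem comp_square {g h : A →+* A} {g' h' : A' →+* A'} (hg : α.comp g = g'.comp α)
    (hh : α.comp h = h'.comp α) : α.comp (h.comp g) = (h'.comp g').comp α := by
  rw [← RingHom.comp_assoc, hh, RingHom.comp_assoc, hg, RingHom.comp_assoc]

theorem push_kap {g h : A →+* A} {g' h' : A' →+* A'} (hg : α.comp g = g'.comp α)
    (hh : α.comp h = h'.comp α) (z : Dieu.BC g P) :
    Dieu.BC.push g' h' (kap α hg z) = kap α (comp_square α hg hh) (Dieu.BC.push g h z) := by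
  induction z using Dieu.BC.induction_on g with
  | zero => simp only [map_zero]
  | tmul t y =>
    rw [kap_tmul, Dieu.BC.push_tmul, Dieu.BC.push_tmul, kap_tmul]
    congr 1
    exact (RingHom.congr_fun hh t).symm
  | add z₁ z₂ h₁ h₂ => simp only [map_add, h₁, h₂]

theorem ext_kap {g h : A →+* A} {g' h' : A' →+* A'} (hg : α.comp g = g'.comp α)
    (hh : α.comp h = h'.comp α) (T : P →ₗ[A] Dieu.BC g P)
    (T' : Dieu.BC α P →ₗ[A'] Dieu.BC g' (Dieu.BC α P))
    (hT : ∀ x : P, T' (Dieu.BC.tmul α 1 x) = kap α hg (T x)) (z : Dieu.BC h P) :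
    ext h' T' (kap α hh z) = kap α (comp_square α hg hh) (ext h T z) := by
  induction z using Dieu.BC.induction_on h with
  | zero => simp only [map_zero]
  | tmul u x =>
    rw [kap_tmul, ext_tmul, ext_tmul, hT, push_kap α hg hh, map_smulₛₗ]
  | add z₁ z₂ h₁ h₂ => simp only [map_add, h₁, h₂]

theorem kap_mem {g : A →+* A} {g' : A' →+* A'} (hg : α.comp g = g'.comp α) (𝔞 : Ideal A)
    {z : Dieu.BC g P} (hz : z ∈ 𝔞 • (⊤ : Submodule A (Dieu.BC g P))) :
    kap α hg z ∈ (𝔞.map α) • (⊤ : Submodule A' (Dieu.BC g' (Dieu.BC α P))) := by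
  refine Submodule.smul_induction_on hz (fun r hr y _ => ?_) (fun a b ha hb => ?_)
  · rw [map_smulₛₗ]
    exact Submodule.smul_mem_smul (Ideal.mem_map_of_mem α hr) Submodule.mem_top
  · rw [map_add]; exact add_mem ha hb

/-- the squares for the iterated twists -/
theorem gpow_square {σ : A →+* A} {σ' : A' →+* A'} (hσ : α.comp σ = σ'.comp α) (n : ℕ) :
    α.comp (gpow σ n) = (gpow σ' n).comp α := by
  induction n with
  | zero => exact hσ
  | succ n ih => exact comp_square α ih hσ

/-- compatibility of the iterates with the comparison maps -/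
theorem it_kap {σ : A →+* A} {σ' : A' →+* A'} (hσ : α.comp σ = σ'.comp α)
    (Vs : P →ₗ[A] Dieu.BC σ P) (U : Dieu.BC α P →ₗ[A'] Dieu.BC σ' (Dieu.BC α P))
    (hU : ∀ x : P, U (Dieu.BC.tmul α 1 x) = kap α hσ (Vs x)) (n : ℕ) (x : P) :
    it U n (Dieu.BC.tmul α 1 x) = kap α (gpow_square α hσ n) (it Vs n x) := by
  induction n generalizing x with
  | zero => exact hU x
  | succ n ih =>
    change ext σ' (it U n) (U (Dieu.BC.tmul α 1 x)) = kap α _ (ext σ (it Vs n) (Vs x))
    rw [hU, ext_kap α (gpow_square α hσ n) hσ (it Vs n) (it U n) ih]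

end General

section Witt

open WittVector

variable {p : ℕ} [hp : Fact p.Prime] {S R : Type u} [CommRing S] [CommRing R] (f : S →+* R)
variable {P : Type v} [AddCommGroup P] [Module (WittVector p S) P]

local notation "σS" => (WittVector.frobenius : WittVector p S →+* WittVector p S)
local notation "σR" => (WittVector.frobenius : WittVector p R →+* WittVector p R)
local notation "Wf" => (WittVector.map f : WittVector p S →+* WittVector p R)

theorem frob_square : (Wf).comp σS = (σR).comp Wf := by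
  ext x : 1
  exact (frobenius_isPoly p).map f x

theorem map_IV_sup_le :
    (W4c1extbt610.IV p S ⊔ Ideal.span {(p : WittVector p S)}).map Wf ≤
      W4c1extbt610.IV p R ⊔ Ideal.span {(p : WittVector p R)} := by
  rw [Ideal.map_le_iff_le_comap]
  refine sup_le ?_ ?_
  · unfold W4c1extbt610.IV
    rw [Ideal.span_le]
    rintro _ ⟨w, rfl⟩
    rw [SetLike.mem_coe, Ideal.mem_comap, map_verschiebung]
    exact Ideal.mem_sup_left (W4c1extbt610.verschiebung_mem_IV p R _)
  · rw [Ideal.span_le, Set.singleton_subset_iff, SetLike.mem_coe, Ideal.mem_comap, map_natCast]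
    exact Ideal.mem_sup_right (Ideal.mem_span_singleton_self _)

theorem isDisplay_baseChange (hpn : IsNilpotent (p : S)) (D : W4c1extbt610.Display3n p S P)
    (hD : Dieu.IsDisplay D)
    (DR : W4c1extbt610.Display3n p R (Dieu.BC Wf P)) (hDR : Dieu.IsDispBaseChange f D DR) :
    Dieu.IsDisplay DR := by
  obtain ⟨Vs, hVs, n₀, hn₀⟩ := hD
  have hpR : IsNilpotent (p : R) := by
    have := hpn.map f
    rwa [map_natCast] at this
  obtain ⟨U, hU, -⟩ := Groth.Agent.H74.DispVSharp.existsUnique_vSharp hpR DR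
  -- `1 ⊗ y ∈ Q_R` for `y ∈ Q`
  have hmem : ∀ y : D.Q, Dieu.BC.tmul Wf 1 (y : P) ∈ DR.Q := by
    intro y
    rw [hDR.Q_eq, LinearMap.mem_ker, Dieu.bcQuotMap_tmul]
    have : D.Q.mkQ (y : P) = 0 := (Submodule.Quotient.mk_eq_zero _).2 y.2
    rw [this, Dieu.BC.tmul_zero]
  -- compatibility of `U` with `V^#` on generators
  have hcomp : ∀ x : P, U (Dieu.BC.tmul Wf 1 x) = kap Wf (frob_square f) (Vs x) := by
    intro x
    have hx : x ∈ Submodule.span (WittVector p S) (Set.range D.Vinv) := by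
      rw [D.span_range_Vinv]; trivial
    induction hx using Submodule.span_induction with
    | mem x hx =>
      obtain ⟨y, rfl⟩ := hx
      have h1 := hDR.Vinv_tmul 1 y (hmem y)
      rw [map_one] at h1
      have h2 := hU.app_smul_Vinv 1 ⟨_, hmem y⟩
      rw [one_smul, h1] at h2
      have h3 := hVs.app_smul_Vinv 1 y
      rw [one_smul] at h3
      rw [h2, h3, kap_tmul, map_one]
    | zero => rw [Dieu.BC.tmul_zero, map_zero, map_zero, map_zero]
    | add x y _ _ hx hy => rw [Dieu.BC.tmul_add, map_add, hx, hy, map_add, map_add]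
    | smul a x _ hx =>
      rw [← Dieu.BC.tmul_apply_eq, Dieu.BC.tmul_eq_smul_tmul_one, map_smul, hx, map_smul,
        map_smulₛₗ]
  refine ⟨U, hU, n₀, fun z => ?_⟩
  rw [it_mem_iff]
  induction z using Dieu.BC.induction_on Wf with
  | zero => rw [map_zero]; exact zero_mem _
  | tmul b x =>
    rw [Dieu.BC.tmul_eq_smul_tmul_one, map_smul]
    refine Submodule.smul_mem _ _ ?_
    rw [it_kap Wf (frob_square f) Vs U hcomp n₀ x]
    have h1 := (it_mem_iff Vs n₀ _ x).1 (hn₀ x)
    exact Submodule.smul_mono_left (map_IV_sup_le f)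
      (kap_mem Wf (gpow_square Wf (frob_square f) n₀) _ h1)
  | add z₁ z₂ h₁ h₂ => rw [map_add]; exact add_mem h₁ h₂

end Witt

end Groth.Agent.H74.DispBaseChange
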