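import Groth.Agent.H74.DispBaseChange
import Groth.Agent.H82.WittDesc
import Mathlib

/-!
# Descent of homomorphisms of displays along a faithfully flat ring map
-/

set_option autoImplicit false
set_option linter.style.haveILetI false

open TensorProduct WittVector

namespace Groth.Agent.H74.DispDescent

universe u v

section Teich

variable {p : ℕ} [hp : Fact p.Prime] {S : Type u} [CommRing S]
variable {N : Type v} [AddCommGroup N] [Module (WittVector p S) N]

theorem sub_teichmuller_mem_IV (a : WittVector p S) :
    a - teichmuller p (constantCoeff a) ∈ W4c1extbt610.IV p S := by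
  rw [Groth.Agent.H74.NormalDecomp.IV_eq_ker, RingHom.mem_ker, map_sub]
  change constantCoeff a - (teichmuller p (constantCoeff a)).coeff 0 = 0
  rw [teichmuller_coeff_zero, sub_self]

theorem smul_eq_of_constantCoeff_eq (hN : ∀ a ∈ W4c1extbt610.IV p S, ∀ n : N, a • n = 0)
    {a b : WittVector p S} (hab : constantCoeff a = constantCoeff b) (n : N) : a • n = b • n := by
  have h : a - b ∈ W4c1extbt610.IV p S := by
    rw [Groth.Agent.H74.NormalDecomp.IV_eq_ker, RingHom.mem_ker, map_sub, hab, sub_self]
  have := hN _ h n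
  rwa [sub_smul, sub_eq_zero] at this

theorem constantCoeff_teichmuller (s : S) : constantCoeff (teichmuller p s) = s :=
  teichmuller_coeff_zero p s

/-- The `S`-module structure on a `W(S)`-module killed by `I_S`, through the Teichmüller lift. -/
@[reducible] noncomputable def modS (hN : ∀ a ∈ W4c1extbt610.IV p S, ∀ n : N, a • n = 0) :
    Module S N where
  smul s n := teichmuller p s • n
  one_smul n := by
    change teichmuller p (1 : S) • n = n
    rw [map_one, one_smul]
  mul_smul s t n := by
    change teichmuller p (s * t) • n = teichmuller p s • (teichmuller p t • n)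
    rw [map_mul, mul_smul]
  smul_zero s := smul_zero _
  smul_add s m n := smul_add _ m n
  add_smul s t n := by
    change teichmuller p (s + t) • n = teichmuller p s • n + teichmuller p t • n
    rw [← add_smul]
    refine smul_eq_of_constantCoeff_eq hN ?_ n
    rw [RingHom.map_add, constantCoeff_teichmuller, constantCoeff_teichmuller,
      constantCoeff_teichmuller]
  zero_smul n := by
    change teichmuller p (0 : S) • n = 0
    rw [teichmuller_zero, zero_smul]

theorem modS_smul (hN : ∀ a ∈ W4c1extbt610.IV p S, ∀ n : N, a • n = 0) (a : WittVector p S)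
    (n : N) : letI := modS hN; (constantCoeff a : S) • n = a • n := by
  letI := modS hN
  change teichmuller p (constantCoeff a) • n = a • n
  exact smul_eq_of_constantCoeff_eq hN (constantCoeff_teichmuller _) n

variable {R : Type u} [CommRing R] [Algebra S R] [Module.FaithfullyFlat S R]

local notation "Wf" => (WittVector.map (algebraMap S R) : WittVector p S →+* WittVector p R)
local notation "w0" => (WittVector.constantCoeff : WittVector p R →+* R)

/-- `n ↦ 1 ⊗ n : N → R ⊗_{W(S)} N` is injective for `N` killed by `I_S`. -/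
theorem tmul_eq_zero (hN : ∀ a ∈ W4c1extbt610.IV p S, ∀ n : N, a • n = 0) (n : N)
    (h : Dieu.BC.tmul ((w0).comp Wf) 1 n = 0) : n = 0 := by
  letI := modS hN
  let F : Dieu.Res ((w0).comp Wf) →+ N →+ R ⊗[S] N :=
    { toFun := fun t =>
        { toFun := fun n => t.val ⊗ₜ[S] n
          map_zero' := TensorProduct.tmul_zero _ _
          map_add' := fun x y => TensorProduct.tmul_add _ _ _ }
      map_zero' := by
        ext n
        exact TensorProduct.zero_tmul _ _
      map_add' := fun s t => by
        ext n
        exact TensorProduct.add_tmul _ _ _ }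
  have hF : ∀ (a : WittVector p S) (t : Dieu.Res ((w0).comp Wf)) (n : N),
      F (a • t) n = F t (a • n) := by
    intro a t n
    change (a • t).val ⊗ₜ[S] n = t.val ⊗ₜ[S] (a • n)
    rw [Dieu.Res.val_smul, ← modS_smul hN a n, TensorProduct.tmul_smul, TensorProduct.smul_tmul',
      Algebra.smul_def]
    have hc : ((w0).comp Wf) a = algebraMap S R (constantCoeff a) := by
      change (WittVector.map (algebraMap S R) a).coeff 0 = _
      rw [WittVector.map_coeff]
      rfl
    rw [hc]
  let ρ := TensorProduct.liftAddHom F hF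
  have h1 : (1 : R) ⊗ₜ[S] n = ρ (Dieu.BC.tmul ((w0).comp Wf) 1 n) := rfl
  have h2 := Module.FaithfullyFlat.tensorProduct_mk_injective (A := S) (B := R) N
  apply h2
  rw [map_zero]
  change (1 : R) ⊗ₜ[S] n = 0
  rw [h1, h]
  exact map_zero ρ

end Teich

section Cast

variable {A B : Type u} [CommRing A] [CommRing B] {P : Type v} [AddCommGroup P] [Module A P]

theorem castHom_castHom' {g g' g'' : A →+* B} (e : g = g') (e' : g' = g'') (z : Dieu.BC g P) :
    Dieu.BC.castHom e' (Dieu.BC.castHom e z) = Dieu.BC.castHom (e.trans e') z := by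
  subst e; subst e'; rfl

end Cast

section Main

open Groth.Agent.H74.DispIter

variable (p : ℕ) [Fact p.Prime]
variable (S R : Type u) [CommRing S] [CommRing R] [Algebra S R] [Module.FaithfullyFlat S R]

local notation "Wf" => (WittVector.map (algebraMap S R) : WittVector p S →+* WittVector p R)
local notation "ι₁" => (WittVector.map (Algebra.TensorProduct.includeLeftRingHom : R →+* TensorProduct S R R) : WittVector p R →+* WittVector p (TensorProduct S R R))
local notation "ι₂" => (WittVector.map ((Algebra.TensorProduct.includeRight : R →ₐ[S] TensorProduct S R R) : R →+* TensorProduct S R R) : WittVector p R →+* WittVector p (TensorProduct S R R))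

theorem main (hp : IsNilpotent (p : S))
    (e₁ : (WittVector.map (Algebra.TensorProduct.includeLeftRingHom : R →+* TensorProduct S R R) : WittVector p R →+* WittVector p (TensorProduct S R R)).comp (WittVector.map (algebraMap S R) : WittVector p S →+* WittVector p R) = (WittVector.map (algebraMap S (TensorProduct S R R)) : WittVector p S →+* WittVector p (TensorProduct S R R)))
    (e₂ : (WittVector.map ((Algebra.TensorProduct.includeRight : R →ₐ[S] TensorProduct S R R) : R →+* TensorProduct S R R) : WittVector p R →+* WittVector p (TensorProduct S R R)).comp (WittVector.map (algebraMap S R) : WittVector p S →+* WittVector p R) = (WittVector.map (algebraMap S (TensorProduct S R R)) : WittVector p S →+* WittVector p (TensorProduct S R R)))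
    (P P' : Type v) [AddCommGroup P] [Module (WittVector p S) P] [AddCommGroup P'] [Module (WittVector p S) P']
    (D : W4c1extbt610.Display3n p S P) (D' : W4c1extbt610.Display3n p S P')
    (hD : Dieu.IsDisplay D) (hD' : Dieu.IsDisplay D')
    (DR : W4c1extbt610.Display3n p R (Dieu.BC (WittVector.map (algebraMap S R) : WittVector p S →+* WittVector p R) P)) (hDR : Dieu.IsDispBaseChange (algebraMap S R) D DR)
    (DR' : W4c1extbt610.Display3n p R (Dieu.BC (WittVector.map (algebraMap S R) : WittVector p S →+* WittVector p R) P')) (hDR' : Dieu.IsDispBaseChange (algebraMap S R) D' DR')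
    (χ : Dieu.BC (WittVector.map (algebraMap S R) : WittVector p S →+* WittVector p R) P →ₗ[WittVector p R] Dieu.BC (WittVector.map (algebraMap S R) : WittVector p S →+* WittVector p R) P') (hχ : W4c1extbt610.IsHom DR DR' χ)
    (hdesc : ∀ (z₁ : Dieu.BC (WittVector.map (Algebra.TensorProduct.includeLeftRingHom : R →+* TensorProduct S R R) : WittVector p R →+* WittVector p (TensorProduct S R R)) (Dieu.BC (WittVector.map (algebraMap S R) : WittVector p S →+* WittVector p R) P)) (z₂ : Dieu.BC (WittVector.map ((Algebra.TensorProduct.includeRight : R →ₐ[S] TensorProduct S R R) : R →+* TensorProduct S R R) : WittVector p R →+* WittVector p (TensorProduct S R R)) (Dieu.BC (WittVector.map (algebraMap S R) : WittVector p S →+* WittVector p R) P)),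
      (Dieu.BC.castHom (P := P) e₁).comp (Dieu.BC.lift (WittVector.map (Algebra.TensorProduct.includeLeftRingHom : R →+* TensorProduct S R R) : WittVector p R →+* WittVector p (TensorProduct S R R)) (Dieu.BC.push (WittVector.map (algebraMap S R) : WittVector p S →+* WittVector p R) (WittVector.map (Algebra.TensorProduct.includeLeftRingHom : R →+* TensorProduct S R R) : WittVector p R →+* WittVector p (TensorProduct S R R)))) z₁ = (Dieu.BC.castHom (P := P) e₂).comp (Dieu.BC.lift (WittVector.map ((Algebra.TensorProduct.includeRight : R →ₐ[S] TensorProduct S R R) : R →+* TensorProduct S R R) : WittVector p R →+* WittVector p (TensorProduct S R R)) (Dieu.BC.push (WittVector.map (algebraMap S R) : WittVector p S →+* WittVector p R) (WittVector.map ((Algebra.TensorProduct.includeRight : R →ₐ[S] TensorProduct S R R) : R →+* TensorProduct S R R) : WittVector p R →+* WittVector p (TensorProduct S R R)))) z₂ →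
        (Dieu.BC.castHom (P := P') e₁).comp (Dieu.BC.lift (WittVector.map (Algebra.TensorProduct.includeLeftRingHom : R →+* TensorProduct S R R) : WittVector p R →+* WittVector p (TensorProduct S R R)) (Dieu.BC.push (WittVector.map (algebraMap S R) : WittVector p S →+* WittVector p R) (WittVector.map (Algebra.TensorProduct.includeLeftRingHom : R →+* TensorProduct S R R) : WittVector p R →+* WittVector p (TensorProduct S R R)))) (Dieu.BC.map (WittVector.map (Algebra.TensorProduct.includeLeftRingHom : R →+* TensorProduct S R R) : WittVector p R →+* WittVector p (TensorProduct S R R)) χ z₁) =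
          (Dieu.BC.castHom (P := P') e₂).comp (Dieu.BC.lift (WittVector.map ((Algebra.TensorProduct.includeRight : R →ₐ[S] TensorProduct S R R) : R →+* TensorProduct S R R) : WittVector p R →+* WittVector p (TensorProduct S R R)) (Dieu.BC.push (WittVector.map (algebraMap S R) : WittVector p S →+* WittVector p R) (WittVector.map ((Algebra.TensorProduct.includeRight : R →ₐ[S] TensorProduct S R R) : R →+* TensorProduct S R R) : WittVector p R →+* WittVector p (TensorProduct S R R)))) (Dieu.BC.map (WittVector.map ((Algebra.TensorProduct.includeRight : R →ₐ[S] TensorProduct S R R) : R →+* TensorProduct S R R) : WittVector p R →+* WittVector p (TensorProduct S R R)) χ z₂)) :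
    ∃! ψ : P →ₗ[WittVector p S] P', W4c1extbt610.IsHom D D' ψ ∧ Dieu.BC.map (WittVector.map (algebraMap S R) : WittVector p S →+* WittVector p R) ψ = χ := by
  classical
  haveI := D'.projective
  haveI : Module.Flat (WittVector p S) P' := Module.Flat.of_projective
  have e : (ι₁).comp Wf = (ι₂).comp Wf := e₁.trans e₂.symm
  obtain ⟨hinj, hrange⟩ := Groth.Agent.H82.WittDesc.main_witt p S R P' e
  -- every `χ (1 ⊗ x)` descends
  have hex : ∀ x : P, ∃ y : P', Dieu.BC.tmul Wf 1 y = χ (Dieu.BC.tmul Wf 1 x) := by
    intro x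
    have h1 := hdesc (Dieu.BC.tmul ι₁ 1 (Dieu.BC.tmul Wf 1 x)) (Dieu.BC.tmul ι₂ 1 (Dieu.BC.tmul Wf 1 x))
      (by
        simp only [LinearMap.comp_apply, Dieu.BC.lift_tmul, one_smul, Dieu.BC.push_tmul, map_one,
          Dieu.BC.castHom_tmul])
    simp only [LinearMap.comp_apply, Dieu.BC.map_tmul, Dieu.BC.lift_tmul, one_smul] at h1
    have h2 := congrArg (Dieu.BC.castHom e₂.symm) h1
    rw [castHom_castHom', castHom_castHom'] at h2
    have h3 : Dieu.BC.castHom e (Dieu.BC.push Wf ι₁ (χ (Dieu.BC.tmul Wf 1 x))) =
        Dieu.BC.push Wf ι₂ (χ (Dieu.BC.tmul Wf 1 x)) := h2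
    obtain ⟨y, hy⟩ := (hrange _).1 h3
    exact ⟨y, hy⟩
  choose ψ₀ hψ₀ using hex
  have hι : ∀ y y' : P', Dieu.BC.tmul Wf 1 y = Dieu.BC.tmul Wf 1 y' → y = y' :=
    fun y y' h => hinj h
  let ψ : P →ₗ[WittVector p S] P' :=
    { toFun := ψ₀
      map_add' := fun x y => by
        apply hι
        rw [hψ₀, Dieu.BC.tmul_add, map_add, Dieu.BC.tmul_add, hψ₀, hψ₀]
      map_smul' := fun a x => by
        apply hι
        rw [hψ₀, RingHom.id_apply, ← Dieu.BC.tmul_apply_eq, Dieu.BC.tmul_eq_smul_tmul_one, map_smul,
          ← hψ₀, ← Dieu.BC.tmul_apply_eq, Dieu.BC.tmul_eq_smul_tmul_one Wf (Wf a)] }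
  have hψ : ∀ x, Dieu.BC.tmul Wf 1 (ψ x) = χ (Dieu.BC.tmul Wf 1 x) := hψ₀
  have hmap : Dieu.BC.map Wf ψ = χ := by
    apply Dieu.BC.ext
    intro x
    rw [Dieu.BC.map_tmul, hψ]
  -- `1 ⊗ y ∈ Q_R` for `y ∈ Q`
  have hmem : ∀ y : D.Q, Dieu.BC.tmul Wf 1 (y : P) ∈ DR.Q := by
    intro y
    rw [hDR.Q_eq, LinearMap.mem_ker, Dieu.bcQuotMap_tmul]
    have : D.Q.mkQ (y : P) = 0 := (Submodule.Quotient.mk_eq_zero _).2 y.2
    rw [this, Dieu.BC.tmul_zero]
  have hmem' : ∀ y : D'.Q, Dieu.BC.tmul Wf 1 (y : P') ∈ DR'.Q := by
    intro y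
    rw [hDR'.Q_eq, LinearMap.mem_ker, Dieu.bcQuotMap_tmul]
    have : D'.Q.mkQ (y : P') = 0 := (Submodule.Quotient.mk_eq_zero _).2 y.2
    rw [this, Dieu.BC.tmul_zero]
  have hmaps : ∀ q : P, q ∈ D.Q → ψ q ∈ D'.Q := by
    intro q hq
    have h1 : χ (Dieu.BC.tmul Wf 1 q) ∈ DR'.Q := hχ.mapsTo _ (hmem ⟨q, hq⟩)
    rw [← hψ, hDR'.Q_eq, LinearMap.mem_ker, Dieu.bcQuotMap_tmul, map_one] at h1
    have hN : ∀ a ∈ W4c1extbt610.IV p S, ∀ n : P' ⧸ D'.Q, a • n = 0 := by
      intro a ha n
      obtain ⟨x, rfl⟩ := D'.Q.mkQ_surjective n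
      rw [← map_smul, Submodule.mkQ_apply, Submodule.Quotient.mk_eq_zero]
      exact D'.IV_smul_le (Submodule.smul_mem_smul ha Submodule.mem_top)
    have h2 := tmul_eq_zero hN _ h1
    exact (Submodule.Quotient.mk_eq_zero _).1 h2
  have hhom : W4c1extbt610.IsHom D D' ψ := by
    refine ⟨hmaps, fun x => ?_, fun q => ?_⟩
    · apply hι
      rw [hψ, ← map_one (WittVector.frobenius : WittVector p R →+* WittVector p R),
        ← hDR.F_tmul, hχ.comm_F, ← hψ, hDR'.F_tmul]
    · apply hι
      have h1 := hDR.Vinv_tmul 1 q (hmem q)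
      have h2 := hDR'.Vinv_tmul 1 ⟨ψ q, hmaps q q.2⟩ (hmem' ⟨ψ q, hmaps q q.2⟩)
      rw [map_one] at h1 h2
      rw [hψ, ← h1, hχ.comm_Vinv, ← h2]
      congr 1
      apply Subtype.ext
      exact (hψ q).symm
  refine ⟨ψ, ⟨hhom, hmap⟩, ?_⟩
  rintro ψ' ⟨-, hψ'⟩
  ext x
  apply hι
  have := congrArg (fun g => g (Dieu.BC.tmul Wf 1 x)) (hψ'.trans hmap.symm)
  simpa only [Dieu.BC.map_tmul] using this

end Main

end Groth.Agent.H74.DispDescent
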