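import Mathlib

/-!
# Auxiliary results on exterior powers

* `alt_add_smul`: expansion of an alternating map on vectors `u i + c i • t` (all perturbations
  proportional to the same vector `t`).
* For a module `M = L ⊕ T` with `L` free of rank `m` and `T` free of rank one, the induced
  decomposition `⋀^r M = Lr ⊕ Tr` (wedges not involving / involving the generator of `T`), with
  `Tr` free of rank `m.choose (r - 1)`, and the description of the span of wedges of elements of
  `L ⊔ I • T` as `Lr ⊔ I • Tr`.
-/

set_option autoImplicit false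

namespace Groth.Agent.H74.ExtPowAux

open Module Set Set.powersetCard

section Expand

variable {A M N : Type*} [CommRing A] [AddCommGroup M] [Module A M] [AddCommGroup N] [Module A N]

theorem alt_add_smul_aux {r : ℕ} (f : M [⋀^Fin r]→ₗ[A] N) (c : Fin r → A) (t : M)
    (s : Finset (Fin r)) :
    ∀ u : Fin r → M, f (fun i => u i + (if i ∈ s then c i else 0) • t) =
      f u + ∑ j ∈ s, c j • f (Function.update u j t) := by
  classical
  induction s using Finset.induction_on with
  | empty => intro u; simp
  | insert k s hk ih =>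
    intro u
    set g' : Fin r → M := fun i => u i + (if i ∈ s then c i else 0) • t with hg'
    have hg'k : g' k = u k := by simp [hg', hk]
    have e1 : (fun i => u i + (if i ∈ insert k s then c i else 0) • t) =
        Function.update g' k (u k + c k • t) := by
      funext i
      by_cases h : i = k
      · subst h; simp
      · simp [hg', Finset.mem_insert, h]
    have e2 : Function.update g' k (u k) = g' := by
      rw [← hg'k]; exact Function.update_eq_self k g'
    have e3 : Function.update g' k t =
        fun i => (Function.update u k t) i + (if i ∈ s then c i else 0) • t := by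
      funext i
      by_cases h : i = k
      · subst h; simp [hk]
      · simp [Function.update_of_ne h, hg']
    have e4 : ∑ j ∈ s, c j • f (Function.update (Function.update u k t) j t) = 0 := by
      apply Finset.sum_eq_zero
      intro j hj
      have hjk : j ≠ k := fun h => hk (h ▸ hj)
      rw [f.map_eq_zero_of_eq _ (i := j) (j := k) _ hjk, smul_zero]
      simp [Function.update_of_ne hjk.symm]
    rw [e1, AlternatingMap.map_update_add, AlternatingMap.map_update_smul, e2, e3, ih u,
      ih (Function.update u k t), Finset.sum_insert hk, e4, add_zero]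
    abel

/-- Expansion of an alternating map on `u i + c i • t`: only the terms with at most one `t` survive. -/
theorem alt_add_smul {r : ℕ} (f : M [⋀^Fin r]→ₗ[A] N) (u : Fin r → M) (c : Fin r → A) (t : M) :
    f (fun i => u i + c i • t) = f u + ∑ j, c j • f (Function.update u j t) := by
  have := alt_add_smul_aux f c t Finset.univ u
  simpa using this

end Expand

section Decomp

variable {A : Type*} [CommRing A] {M : Type*} [AddCommGroup M] [Module A M]
variable {L T : Submodule A M} (hLT : IsCompl L T) {m : ℕ} (bL : Basis (Fin m) A L)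
  (bT : Basis (Fin 1) A T)

/-- The basis of `M = L ⊕ T` obtained from bases of `L` (first `m` vectors) and `T` (last vector). -/
noncomputable def bas : Basis (Fin (m + 1)) A M :=
  ((bL.prod bT).map (Submodule.prodEquivOfIsCompl L T hLT)).reindex finSumFinEquiv

theorem bas_castSucc (i : Fin m) : bas hLT bL bT i.castSucc = (bL i : M) := by
  have h : finSumFinEquiv.symm (Fin.castSucc i : Fin (m + 1)) = Sum.inl i :=
    finSumFinEquiv_symm_apply_castAdd i
  rw [bas, Basis.reindex_apply, h, Basis.map_apply, Submodule.coe_prodEquivOfIsCompl',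
    Basis.prod_apply_inl_fst, Basis.prod_apply_inl_snd]
  simp

theorem last_eq_natAdd : (Fin.last m : Fin (m + 1)) = Fin.natAdd m (0 : Fin 1) := by
  ext; simp

theorem bas_last : bas hLT bL bT (Fin.last m) = (bT 0 : M) := by
  have h : finSumFinEquiv.symm (Fin.last m : Fin (m + 1)) = Sum.inr (0 : Fin 1) := by
    rw [last_eq_natAdd]; exact finSumFinEquiv_symm_apply_natAdd 0
  rw [bas, Basis.reindex_apply, h, Basis.map_apply, Submodule.coe_prodEquivOfIsCompl',
    Basis.prod_apply_inr_fst, Basis.prod_apply_inr_snd]
  simp

theorem bas_repr (x : M) (j : Fin (m + 1)) :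
    (bas hLT bL bT).repr x j =
      (bL.prod bT).repr ((Submodule.prodEquivOfIsCompl L T hLT).symm x) (finSumFinEquiv.symm j) := by
  rw [bas, Basis.repr_reindex_apply, Basis.map_repr]
  rfl

theorem repr_last_of_mem_L {x : M} (hx : x ∈ L) : (bas hLT bL bT).repr x (Fin.last m) = 0 := by
  have h : finSumFinEquiv.symm (Fin.last m : Fin (m + 1)) = Sum.inr (0 : Fin 1) := by
    rw [last_eq_natAdd]; exact finSumFinEquiv_symm_apply_natAdd 0
  rw [bas_repr, h, Basis.prod_repr_inr]
  have := Submodule.prodEquivOfIsCompl_symm_apply_left L T hLT ⟨x, hx⟩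
  rw [show ((⟨x, hx⟩ : L) : M) = x from rfl] at this
  rw [this]
  simp

theorem repr_castSucc_of_mem_T {x : M} (hx : x ∈ T) (i : Fin m) :
    (bas hLT bL bT).repr x i.castSucc = 0 := by
  have h : finSumFinEquiv.symm (Fin.castSucc i : Fin (m + 1)) = Sum.inl i :=
    finSumFinEquiv_symm_apply_castAdd i
  rw [bas_repr, h, Basis.prod_repr_inl]
  have := Submodule.prodEquivOfIsCompl_symm_apply_right L T hLT ⟨x, hx⟩
  rw [show ((⟨x, hx⟩ : T) : M) = x from rfl] at this
  rw [this]
  simp

theorem bas_mem_L {j : Fin (m + 1)} (hj : j ≠ Fin.last m) : bas hLT bL bT j ∈ L := by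
  obtain ⟨i, rfl⟩ := Fin.exists_castSucc_eq.mpr hj
  rw [bas_castSucc]
  exact (bL i).2

theorem bas_last_mem_T : bas hLT bL bT (Fin.last m) ∈ T := by
  rw [bas_last]; exact (bT 0).2

theorem mem_T_eq_smul {x : M} (hx : x ∈ T) :
    x = (bT.repr ⟨x, hx⟩ 0) • bas hLT bL bT (Fin.last m) := by
  have h := bT.sum_repr ⟨x, hx⟩
  rw [Fin.sum_univ_one] at h
  have h2 := congrArg (Subtype.val) h
  rw [bas_last]
  simpa using h2.symm

theorem smul_T_le (I : Ideal A) {z : M} (hz : z ∈ I • T) :
    ∃ a ∈ I, z = a • bas hLT bL bT (Fin.last m) := by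
  refine Submodule.smul_induction_on hz ?_ ?_
  · intro a ha t ht
    refine ⟨a * bT.repr ⟨t, ht⟩ 0, I.mul_mem_right _ ha, ?_⟩
    conv_lhs => rw [mem_T_eq_smul hLT bL bT ht]
    rw [smul_smul]
  · rintro x y ⟨a, ha, rfl⟩ ⟨b, hb, rfl⟩
    exact ⟨a + b, I.add_mem ha hb, (add_smul _ _ _).symm⟩

variable (r : ℕ)

/-- The index set of the wedges involving the last basis vector. -/
def St : Set (powersetCard (Fin (m + 1)) r) := {s | Fin.last m ∈ s}

/-- Span of the basis wedges not involving the generator of `T`. -/
noncomputable def Lr : Submodule A (⋀[A]^r M) :=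
  Submodule.span A (((bas hLT bL bT).exteriorPower r) '' (St (m := m) r)ᶜ)

/-- Span of the basis wedges involving the generator of `T`. -/
noncomputable def Tr : Submodule A (⋀[A]^r M) :=
  Submodule.span A (((bas hLT bL bT).exteriorPower r) '' (St (m := m) r))

theorem isCompl_Lr_Tr : IsCompl (Lr hLT bL bT r) (Tr hLT bL bT r) :=
  ((bas hLT bL bT).exteriorPower r).linearIndependent.isCompl_span_image
    ((bas hLT bL bT).exteriorPower r).span_eq isCompl_compl.symm

theorem mem_span_image_of_repr {ι : Type*} [Fintype ι] {N : Type*} [AddCommGroup N] [Module A N]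
    (B : Basis ι A N) (S : Set ι) {x : N} (h : ∀ s, s ∉ S → B.repr x s = 0) :
    x ∈ Submodule.span A (B '' S) := by
  classical
  rw [← B.sum_repr x]
  apply Submodule.sum_mem
  intro s _
  by_cases hs : s ∈ S
  · exact Submodule.smul_mem _ _ (Submodule.subset_span ⟨s, hs, rfl⟩)
  · rw [h s hs, zero_smul]; exact Submodule.zero_mem _

theorem wedge_mem_Lr (v : Fin r → M) (hv : ∀ i, v i ∈ L) :
    exteriorPower.ιMulti A r v ∈ Lr hLT bL bT r := by
  apply mem_span_image_of_repr
  intro s hs
  have hs' : Fin.last m ∈ s := by simpa [St] using hs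
  rw [exteriorPower.basis_repr_apply, exteriorPower.ιMultiDual_apply_ιMulti]
  obtain ⟨k, hk⟩ := (mem_range_ofFinEmbEquiv_symm_iff_mem s (Fin.last m)).mpr hs'
  apply Matrix.det_eq_zero_of_column_eq_zero k
  intro i
  rw [Matrix.of_apply, hk, Basis.coord_apply]
  exact repr_last_of_mem_L hLT bL bT (hv i)

theorem wedge_mem_Tr (v : Fin r → M) (j : Fin r) (hj : v j ∈ T) :
    exteriorPower.ιMulti A r v ∈ Tr hLT bL bT r := by
  apply mem_span_image_of_repr
  intro s hs
  have hs' : Fin.last m ∉ s := by simpa [St] using hs
  rw [exteriorPower.basis_repr_apply, exteriorPower.ιMultiDual_apply_ιMulti]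
  apply Matrix.det_eq_zero_of_row_eq_zero j
  intro k
  rw [Matrix.of_apply, Basis.coord_apply]
  have hne : (ofFinEmbEquiv.symm s) k ≠ Fin.last m := by
    intro h
    exact hs' ((mem_range_ofFinEmbEquiv_symm_iff_mem s (Fin.last m)).mp ⟨k, h⟩)
  obtain ⟨i, hi⟩ := Fin.exists_castSucc_eq.mpr hne
  rw [← hi]
  exact repr_castSucc_of_mem_T hLT bL bT hj i

theorem basis_eq (s : powersetCard (Fin (m + 1)) r) :
    (bas hLT bL bT).exteriorPower r s =
      exteriorPower.ιMulti A r (fun i => bas hLT bL bT ((ofFinEmbEquiv.symm s) i)) := by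
  rw [exteriorPower.basis_apply]
  rfl

/-- The span of the wedges of elements of `Q = L ⊔ I • T` is `Lr ⊔ I • Tr`. -/
theorem span_wedge_eq (I : Ideal A) (Q : Submodule A M) (hQ : Q = L ⊔ I • T) :
    Submodule.span A (Set.range fun q : Fin r → Q =>
        exteriorPower.ιMulti A r (fun i => (q i : M))) =
      Lr hLT bL bT r ⊔ I • Tr hLT bL bT r := by
  classical
  have hLQ : L ≤ Q := hQ ▸ le_sup_left
  have hITQ : I • T ≤ Q := hQ ▸ le_sup_right
  apply le_antisymm
  · rw [Submodule.span_le]
    rintro _ ⟨q, rfl⟩
    have hq : ∀ i, ∃ l ∈ L, ∃ a ∈ I, (q i : M) = l + a • bas hLT bL bT (Fin.last m) := by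
      intro i
      have hi : (q i : M) ∈ L ⊔ I • T := hQ ▸ (q i).2
      obtain ⟨l, hl, z, hz, hlz⟩ := Submodule.mem_sup.mp hi
      obtain ⟨a, ha, rfl⟩ := smul_T_le hLT bL bT I hz
      exact ⟨l, hl, a, ha, hlz.symm⟩
    choose l hl a ha hla using hq
    have e : (fun i => (q i : M)) = fun i => l i + a i • bas hLT bL bT (Fin.last m) :=
      funext hla
    change exteriorPower.ιMulti A r (fun i => (q i : M)) ∈ _
    rw [e, alt_add_smul]
    refine Submodule.add_mem _ (Submodule.mem_sup_left (wedge_mem_Lr hLT bL bT r l hl))
      (Submodule.mem_sup_right (Submodule.sum_mem _ fun j _ => ?_))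
    refine Submodule.smul_mem_smul (ha j) (wedge_mem_Tr hLT bL bT r _ j ?_)
    rw [Function.update_self]
    exact bas_last_mem_T hLT bL bT
  · apply sup_le
    · rw [Lr, Submodule.span_le]
      rintro _ ⟨s, hs, rfl⟩
      have hs' : Fin.last m ∉ s := by simpa [St] using hs
      rw [basis_eq]
      have hmem : ∀ i, bas hLT bL bT ((ofFinEmbEquiv.symm s) i) ∈ Q := by
        intro i
        apply hLQ
        apply bas_mem_L
        intro h
        exact hs' ((mem_range_ofFinEmbEquiv_symm_iff_mem s (Fin.last m)).mp ⟨i, h⟩)
      exact Submodule.subset_span ⟨fun i => ⟨_, hmem i⟩, rfl⟩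
    · rw [Submodule.smul_le]
      intro a ha x hx
      rw [Tr] at hx
      induction hx using Submodule.span_induction with
      | mem x hx =>
        obtain ⟨s, hs, rfl⟩ := hx
        have hs' : Fin.last m ∈ s := by simpa [St] using hs
        obtain ⟨k, hk⟩ := (mem_range_ofFinEmbEquiv_symm_iff_mem s (Fin.last m)).mpr hs'
        rw [basis_eq]
        set v : Fin r → M := fun i => bas hLT bL bT ((ofFinEmbEquiv.symm s) i) with hv
        have e1 : a • exteriorPower.ιMulti A r v =
            exteriorPower.ιMulti A r (Function.update v k (a • v k)) := by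
          rw [AlternatingMap.map_update_smul, Function.update_eq_self]
        rw [e1]
        have hmem : ∀ i, Function.update v k (a • v k) i ∈ Q := by
          intro i
          by_cases h : i = k
          · subst h
            rw [Function.update_self]
            apply hITQ
            refine Submodule.smul_mem_smul ha ?_
            rw [hv]
            simp only
            rw [hk]
            exact bas_last_mem_T hLT bL bT
          · rw [Function.update_of_ne h]
            apply hLQ
            apply bas_mem_L
            intro h'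
            apply h
            apply (ofFinEmbEquiv.symm s).injective
            rw [h', hk]
        exact Submodule.subset_span ⟨fun i => ⟨_, hmem i⟩, rfl⟩
      | zero => rw [smul_zero]; exact Submodule.zero_mem _
      | add x y _ _ hx hy => rw [smul_add]; exact Submodule.add_mem _ hx hy
      | smul c x _ hx => rw [smul_comm]; exact Submodule.smul_mem _ _ hx

end Decomp

section Count

variable (m k : ℕ)

/-- Insert the last index into a `k`-subset of `Fin m` (pushed to `Fin (m + 1)`). -/
def insertLast (u : powersetCard (Fin m) k) : powersetCard (Fin (m + 1)) (k + 1) :=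
  ⟨insert (Fin.last m) (u.val.map Fin.castSuccEmb), by
    have hnot : Fin.last m ∉ u.val.map Fin.castSuccEmb := by
      rw [Finset.mem_map]
      rintro ⟨a, -, ha⟩
      exact Fin.castSucc_ne_last a ha
    rw [mem_iff, Finset.card_insert_of_notMem hnot, Finset.card_map]
    exact congrArg (· + 1) (Set.powersetCard.card_eq u)⟩

theorem last_mem_insertLast (u : powersetCard (Fin m) k) : Fin.last m ∈ insertLast m k u :=
  Finset.mem_insert_self _ _

theorem insertLast_injective : Function.Injective (insertLast m k) := by
  intro u u' h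
  have hnot : ∀ w : powersetCard (Fin m) k, Fin.last m ∉ w.val.map Fin.castSuccEmb := by
    intro w
    rw [Finset.mem_map]
    rintro ⟨a, -, ha⟩
    exact Fin.castSucc_ne_last a ha
  have h1 : insert (Fin.last m) (u.val.map Fin.castSuccEmb) =
      insert (Fin.last m) (u'.val.map Fin.castSuccEmb) := congrArg Subtype.val h
  have h2 := congrArg (fun s => s.erase (Fin.last m)) h1
  simp only [Finset.erase_insert (hnot u), Finset.erase_insert (hnot u')] at h2
  exact Subtype.ext (Finset.map_injective _ h2)

theorem insertLast_surjective (s : powersetCard (Fin (m + 1)) (k + 1)) (hs : Fin.last m ∈ s) :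
    ∃ u, insertLast m k u = s := by
  classical
  have hs' : Fin.last m ∈ s.val := hs
  let u0 : Finset (Fin m) := Finset.univ.filter (fun i : Fin m => i.castSucc ∈ s.val)
  have hmap : u0.map Fin.castSuccEmb = s.val.erase (Fin.last m) := by
    ext x
    simp only [Finset.mem_map, Finset.mem_filter, Finset.mem_univ, true_and, Finset.mem_erase, u0]
    constructor
    · rintro ⟨i, hi, rfl⟩
      exact ⟨Fin.castSucc_ne_last i, hi⟩
    · rintro ⟨hx, hxs⟩
      obtain ⟨i, rfl⟩ := Fin.exists_castSucc_eq.mpr hx
      exact ⟨i, hxs, rfl⟩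
  have hins : insert (Fin.last m) (u0.map Fin.castSuccEmb) = s.val := by
    rw [hmap, Finset.insert_erase hs']
  have hnot : Fin.last m ∉ u0.map Fin.castSuccEmb := by
    rw [hmap]; exact Finset.notMem_erase _ _
  have hcard : u0.card = k := by
    have h1 : (insert (Fin.last m) (u0.map Fin.castSuccEmb)).card = k + 1 := by
      rw [hins]; exact Set.powersetCard.card_eq s
    rw [Finset.card_insert_of_notMem hnot, Finset.card_map] at h1
    omega
  exact ⟨⟨u0, mem_iff.mpr hcard⟩, Subtype.ext hins⟩

/-- The wedges involving the last index are in bijection with the `k`-subsets of `Fin m`. -/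
noncomputable def stEquiv : powersetCard (Fin m) k ≃ St (m := m) (k + 1) :=
  Equiv.ofBijective (fun u => ⟨insertLast m k u, last_mem_insertLast m k u⟩)
    ⟨fun u u' h => insertLast_injective m k (congrArg Subtype.val h),
      fun s => by
        obtain ⟨u, hu⟩ := insertLast_surjective m k s.1 s.2
        exact ⟨u, Subtype.ext hu⟩⟩

theorem card_St : Nat.card (St (m := m) (k + 1)) = m.choose k := by
  rw [← Nat.card_congr (stEquiv m k), powersetCard.card, Nat.card_fin]

end Count

section Free

variable {A : Type*} [CommRing A] {M : Type*} [AddCommGroup M] [Module A M]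
variable {L T : Submodule A M} (hLT : IsCompl L T) {m : ℕ} (bL : Basis (Fin m) A L)
  (bT : Basis (Fin 1) A T) (r : ℕ)

theorem Tr_eq_span_range :
    Tr hLT bL bT r = Submodule.span A
      (Set.range fun s : St (m := m) r => (bas hLT bL bT).exteriorPower r s) := by
  rw [Tr, Set.image_eq_range]

/-- The basis of `Tr`. -/
noncomputable def basisTr : Basis (St (m := m) r) A
    (Submodule.span A (Set.range fun s : St (m := m) r => (bas hLT bL bT).exteriorPower r s)) :=
  Basis.span (((bas hLT bL bT).exteriorPower r).linearIndependent.comp _ Subtype.val_injective)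

theorem free_Tr : Module.Free A (Tr hLT bL bT r) := by
  rw [Tr_eq_span_range]
  exact Module.Free.of_basis (basisTr hLT bL bT r)

theorem finrank_Tr [Nontrivial A] (k : ℕ) :
    Module.finrank A (Tr hLT bL bT (k + 1)) = m.choose k := by
  rw [Tr_eq_span_range, Module.finrank_eq_nat_card_basis (basisTr hLT bL bT (k + 1)), card_St]

end Free

end Groth.Agent.H74.ExtPowAux
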