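import Mathlib

/-!
# Exterior powers of semilinear maps (helper74)

For a ring endomorphism `σ` of a commutative ring `A` and a `σ`-semilinear map `φ : M → N`, the
`σ`-semilinear map `⋀^r φ : ⋀^r M → ⋀^r N` with `m₁ ∧ ⋯ ∧ m_r ↦ φ m₁ ∧ ⋯ ∧ φ m_r`.
-/

set_option autoImplicit false

namespace Groth.Agent.H74.ExtSemi

variable {A : Type*} [CommRing A] (σ : A →+* A)
variable {M N : Type*} [AddCommGroup M] [Module A M] [AddCommGroup N] [Module A N]

/-- `N` with `A` acting through `σ`. -/
def Tw (_σ : A →+* A) (N : Type*) := N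

instance : AddCommGroup (Tw σ N) := inferInstanceAs (AddCommGroup N)

instance : Module A (Tw σ N) := Module.compHom N σ

/-- the identity `N → Tw σ N` -/
def toTw : N → Tw σ N := id

/-- the identity `Tw σ N → N` -/
def ofTw : Tw σ N → N := id

theorem ofTw_smul (a : A) (x : Tw σ N) : ofTw σ (a • x) = σ a • ofTw σ x := rfl

omit [Module A N] in
theorem ofTw_add (x y : Tw σ N) : ofTw σ (x + y) = ofTw σ x + ofTw σ y := rfl

theorem smul_def (a : A) (x : Tw σ N) : a • x = toTw σ (σ a • ofTw σ x) := rfl

omit [Module A N] in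
theorem add_def (x y : Tw σ N) : x + y = toTw σ (ofTw σ x + ofTw σ y) := rfl

omit [Module A N] in
theorem toTw_inj {x y : N} (h : x = y) : toTw σ x = toTw σ y := congrArg _ h

variable {σ}

/-- The alternating map `(m_i) ↦ φ m₁ ∧ ⋯ ∧ φ m_r` into the twisted exterior power. -/
noncomputable def altSemi (φ : M →ₛₗ[σ] N) (r : ℕ) : M [⋀^Fin r]→ₗ[A] Tw σ (⋀[A]^r N) where
  toFun v := toTw σ (exteriorPower.ιMulti A r (fun i => φ (v i)))
  map_update_add' := by
    intro _ v i x y
    have e : ∀ z, (fun j => φ (Function.update v i z j)) =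
        Function.update (fun j => φ (v j)) i (φ z) := by
      intro z
      funext j
      by_cases h : j = i
      · subst h; simp
      · simp [Function.update_of_ne h]
    rw [add_def]
    apply toTw_inj
    rw [e, e, e, map_add, AlternatingMap.map_update_add]
    rfl
  map_update_smul' := by
    intro _ v i a x
    have e : ∀ z, (fun j => φ (Function.update v i z j)) =
        Function.update (fun j => φ (v j)) i (φ z) := by
      intro z
      funext j
      by_cases h : j = i
      · subst h; simp
      · simp [Function.update_of_ne h]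
    rw [smul_def]
    apply toTw_inj
    rw [e, e, LinearMap.map_smulₛₗ, AlternatingMap.map_update_smul]
    rfl
  map_eq_zero_of_eq' := by
    intro v i j hv hij
    have h0 : exteriorPower.ιMulti A r (fun k => φ (v k)) = 0 :=
      AlternatingMap.map_eq_zero_of_eq _ _ (by simp only [hv]) hij
    rw [h0]
    rfl

/-- The `σ`-semilinear map `⋀^r φ`. -/
noncomputable def extSemi (φ : M →ₛₗ[σ] N) (r : ℕ) : ⋀[A]^r M →ₛₗ[σ] ⋀[A]^r N where
  toFun x := ofTw σ (exteriorPower.alternatingMapLinearEquiv (altSemi φ r) x)
  map_add' x y := by rw [map_add]; rfl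
  map_smul' a x := by rw [map_smul]; rfl

theorem extSemi_ιMulti (φ : M →ₛₗ[σ] N) (r : ℕ) (v : Fin r → M) :
    extSemi φ r (exteriorPower.ιMulti A r v) = exteriorPower.ιMulti A r (fun i => φ (v i)) := by
  change ofTw σ (exteriorPower.alternatingMapLinearEquiv (altSemi φ r)
    (exteriorPower.ιMulti A r v)) = _
  rw [exteriorPower.alternatingMapLinearEquiv_apply_ιMulti]
  rfl

end Groth.Agent.H74.ExtSemi
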