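import Groth.Agent.H74.DispMk
import Groth.Agent.H74.ExtSemi
import Groth.Agent.H74.ExtPowAux
import Mathlib

/-!
# Exterior powers of 3n-displays with tangent module of rank one (helper74, S13684)
-/

set_option autoImplicit false
set_option linter.style.haveILetI false
set_option linter.unusedSectionVars false

open WittVector

namespace Groth.Agent.H74.DispExtPow

open Groth.Agent.H74.DispFaithful Groth.Agent.H74.DispBCExists Groth.Agent.H74.DispMk
  Groth.Agent.H74.ExtSemi Groth.Agent.H74.ExtPowAux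

universe u v

variable {p : ℕ} [hp : Fact p.Prime] {R : Type u} [CommRing R]
variable {P : Type v} [AddCommGroup P] [Module (WittVector p R) P]

/-- A normal decomposition with `T` free of rank one. -/
structure RankOne (D : W4c1extbt610.Display3n p R P) where
  L : Submodule (WittVector p R) P
  T : Submodule (WittVector p R) P
  hLT : IsCompl L T
  hQ : D.Q = L ⊔ W4c1extbt610.IV p R • T
  eT : T ≃ₗ[WittVector p R] WittVector p R

/-- the span of wedges of elements of `Q` -/
noncomputable def S (D : W4c1extbt610.Display3n p R P) (r : ℕ) :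
    Submodule (WittVector p R) (⋀[WittVector p R]^r P) :=
  Submodule.span (WittVector p R)
    (Set.range fun q : Fin r → D.Q => exteriorPower.ιMulti (WittVector p R) r (fun i => (q i : P)))

theorem wedge_mem_S (D : W4c1extbt610.Display3n p R P) (r : ℕ) (v : Fin r → P)
    (hv : ∀ i, v i ∈ D.Q) :
    exteriorPower.ιMulti (WittVector p R) r v ∈ S D r :=
  Submodule.subset_span ⟨fun i => ⟨v i, hv i⟩, rfl⟩

namespace RankOne

variable {D : W4c1extbt610.Display3n p R P} (s : RankOne D)

/-- the generator of `T` -/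
noncomputable def t₀ : P := (s.eT.symm 1 : P)

theorem t₀_mem : s.t₀ ∈ s.T := (s.eT.symm 1).2

/-- projection onto `L` -/
noncomputable def πL : P →ₗ[WittVector p R] P := s.L.projection s.T s.hLT

/-- projection onto `T` -/
noncomputable def πT : P →ₗ[WittVector p R] P := s.T.projection s.L s.hLT.symm

/-- the coordinate along `t₀` -/
noncomputable def τ : P →ₗ[WittVector p R] WittVector p R :=
  s.eT.toLinearMap ∘ₗ s.T.projectionOnto s.L s.hLT.symm

theorem πL_add_πT (x : P) : s.πL x + s.πT x = x :=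
  Submodule.projection_add_projection_eq_self s.hLT x

theorem πL_mem (x : P) : s.πL x ∈ s.L := Submodule.projection_apply_mem s.hLT x

theorem πT_mem (x : P) : s.πT x ∈ s.T := Submodule.projection_apply_mem s.hLT.symm x

theorem πL_of_mem_L {x : P} (hx : x ∈ s.L) : s.πL x = x :=
  Submodule.projection_apply_of_mem_left s.hLT hx

theorem πL_of_mem_T {x : P} (hx : x ∈ s.T) : s.πL x = 0 :=
  Submodule.projection_apply_of_mem_right s.hLT hx

theorem πT_of_mem_T {x : P} (hx : x ∈ s.T) : s.πT x = x :=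
  Submodule.projection_apply_of_mem_left s.hLT.symm hx

theorem πT_of_mem_L {x : P} (hx : x ∈ s.L) : s.πT x = 0 :=
  Submodule.projection_apply_of_mem_right s.hLT.symm hx

theorem πT_eq (x : P) : s.πT x = s.τ x • s.t₀ := by
  set y : s.T := s.T.projectionOnto s.L s.hLT.symm x with hy
  have h1 : s.πT x = (y : P) := rfl
  have h2 : y = s.eT y • s.eT.symm 1 := by
    rw [← map_smul, smul_eq_mul, mul_one, LinearEquiv.symm_apply_apply]
  rw [h1]
  conv_lhs => rw [h2]
  rfl

theorem L_le : s.L ≤ D.Q := s.hQ ▸ le_sup_left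

theorem IT_le : W4c1extbt610.IV p R • s.T ≤ D.Q := s.hQ ▸ le_sup_right

theorem πL_mem_Q (x : P) : s.πL x ∈ D.Q := s.L_le (s.πL_mem x)

theorem τ_of_mem_L {x : P} (hx : x ∈ s.L) : s.τ x = 0 := by
  change s.eT (s.T.projectionOnto s.L s.hLT.symm x) = 0
  have : s.T.projectionOnto s.L s.hLT.symm x = 0 :=
    (Submodule.projectionOnto_apply_eq_zero_iff s.hLT.symm).mpr hx
  rw [this, map_zero]

theorem τ_mem_IV_of_mem_IT {z : P} (hz : z ∈ W4c1extbt610.IV p R • s.T) :
    s.τ z ∈ W4c1extbt610.IV p R := by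
  refine Submodule.smul_induction_on hz ?_ ?_
  · intro a ha t _
    rw [map_smul, smul_eq_mul]
    exact Ideal.mul_mem_right _ _ ha
  · intro x y hx hy
    rw [map_add]
    exact Ideal.add_mem _ hx hy

theorem τ_mem_IV {q : P} (hq : q ∈ D.Q) : s.τ q ∈ W4c1extbt610.IV p R := by
  have hq' : q ∈ s.L ⊔ W4c1extbt610.IV p R • s.T := s.hQ ▸ hq
  obtain ⟨l, hl, z, hz, rfl⟩ := Submodule.mem_sup.1 hq'
  rw [map_add, s.τ_of_mem_L hl, zero_add]
  exact s.τ_mem_IV_of_mem_IT hz

theorem smul_t₀_mem_Q {a : WittVector p R} (ha : a ∈ W4c1extbt610.IV p R) : a • s.t₀ ∈ D.Q :=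
  s.IT_le (Submodule.smul_mem_smul ha s.t₀_mem)

/-- `V⁻¹ ∘ π_L` -/
noncomputable def VL :
    P →ₛₗ[(WittVector.frobenius : WittVector p R →+* WittVector p R)] P :=
  D.Vinv.comp (LinearMap.codRestrict D.Q s.πL s.πL_mem_Q)

theorem VL_apply (x : P) : s.VL x = D.Vinv ⟨s.πL x, s.πL_mem_Q x⟩ := rfl

/-- `φ₀ = V⁻¹ ∘ π_L + F ∘ π_T` -/
noncomputable def φ₀ :
    P →ₛₗ[(WittVector.frobenius : WittVector p R →+* WittVector p R)] P :=
  s.VL + D.F.comp s.πT

theorem φ₀_apply (x : P) : s.φ₀ x = D.Vinv ⟨s.πL x, s.πL_mem_Q x⟩ + D.F (s.πT x) := rfl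

theorem φ₀_of_mem_L {l : P} (hl : l ∈ s.L) : s.φ₀ l = D.Vinv ⟨l, s.L_le hl⟩ := by
  rw [s.φ₀_apply, s.πT_of_mem_L hl, map_zero, add_zero]
  congr 1
  exact Subtype.ext (s.πL_of_mem_L hl)

theorem φ₀_t₀ : s.φ₀ s.t₀ = D.F s.t₀ := by
  rw [s.φ₀_apply, s.πT_of_mem_T s.t₀_mem]
  have : (⟨s.πL s.t₀, s.πL_mem_Q s.t₀⟩ : D.Q) = 0 := Subtype.ext (s.πL_of_mem_T s.t₀_mem)
  rw [this, map_zero, zero_add]

/-- `V⁻¹ q = φ₀ (π_L q) + shift(τ q) • φ₀ t₀`. -/
theorem Vinv_eq (q : D.Q) :
    D.Vinv q = s.φ₀ (s.πL q) + (s.τ q).shift 1 • s.φ₀ s.t₀ := by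
  have hb : s.τ q = verschiebung ((s.τ q).shift 1) := eq_V_shift (s.τ_mem_IV q.2)
  have hmem : verschiebung ((s.τ q).shift 1) • s.t₀ ∈ D.Q :=
    D.IV_smul_le (Submodule.smul_mem_smul (W4c1extbt610.verschiebung_mem_IV p R _)
      Submodule.mem_top)
  have e : q = ⟨s.πL q, s.πL_mem_Q q⟩ + ⟨verschiebung ((s.τ q).shift 1) • s.t₀, hmem⟩ := by
    apply Subtype.ext
    rw [Submodule.coe_add]
    change (q : P) = s.πL q + verschiebung ((s.τ q).shift 1) • s.t₀
    rw [← hb, ← s.πT_eq, s.πL_add_πT]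
  conv_lhs => rw [e, map_add]
  rw [D.Vinv_verschiebung_smul, s.φ₀_t₀, s.φ₀_of_mem_L (s.πL_mem q)]

theorem span_range_φ₀ :
    Submodule.span (WittVector p R) (Set.range s.φ₀) = ⊤ := by
  rw [eq_top_iff, ← D.span_range_Vinv, Submodule.span_le]
  rintro _ ⟨q, rfl⟩
  rw [SetLike.mem_coe, s.Vinv_eq]
  exact Submodule.add_mem _ (Submodule.subset_span ⟨_, rfl⟩)
    (Submodule.smul_mem _ _ (Submodule.subset_span ⟨_, rfl⟩))

/-! ### The exterior power -/

variable (r : ℕ)

/-- the idempotent `⋀^r π_L` -/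
noncomputable def e : ⋀[WittVector p R]^r P →ₗ[WittVector p R] ⋀[WittVector p R]^r P :=
  exteriorPower.map r s.πL

theorem e_ιMulti (v : Fin r → P) :
    s.e r (exteriorPower.ιMulti (WittVector p R) r v) =
      exteriorPower.ιMulti (WittVector p R) r (fun i => s.πL (v i)) :=
  exteriorPower.map_apply_ιMulti _ _

theorem e_idem : IsIdempotentElem (s.e r) := by
  have h : s.πL ∘ₗ s.πL = s.πL := Submodule.isIdempotentElem_projection s.hLT
  change s.e r ∘ₗ s.e r = s.e r
  rw [e, ← exteriorPower.map_comp, h]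

/-- `L' = ⋀^r L` -/
noncomputable def L' : Submodule (WittVector p R) (⋀[WittVector p R]^r P) :=
  LinearMap.range (s.e r)

/-- `T'` : the wedges involving `t₀` -/
noncomputable def T' : Submodule (WittVector p R) (⋀[WittVector p R]^r P) :=
  LinearMap.ker (s.e r)

theorem isCompl' : IsCompl (s.L' r) (s.T' r) := LinearMap.IsIdempotentElem.isCompl (s.e_idem r)

theorem wedge_mem_L' (v : Fin r → P) (hv : ∀ i, v i ∈ s.L) :
    exteriorPower.ιMulti (WittVector p R) r v ∈ s.L' r := by
  refine ⟨exteriorPower.ιMulti (WittVector p R) r v, ?_⟩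
  rw [s.e_ιMulti]
  congr 1
  funext i
  exact s.πL_of_mem_L (hv i)

theorem wedge_mem_T' (v : Fin r → P) (j : Fin r) (hj : v j ∈ s.T) :
    exteriorPower.ιMulti (WittVector p R) r v ∈ s.T' r := by
  change s.e r _ = 0
  rw [s.e_ιMulti]
  exact (exteriorPower.ιMulti (WittVector p R) r).map_coord_zero j (s.πL_of_mem_T hj)

/-- expansion of a wedge along the decomposition -/
theorem wedge_expand (v : Fin r → P) :
    exteriorPower.ιMulti (WittVector p R) r v =
      exteriorPower.ιMulti (WittVector p R) r (fun i => s.πL (v i)) +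
        ∑ j, s.τ (v j) • exteriorPower.ιMulti (WittVector p R) r
          (Function.update (fun i => s.πL (v i)) j s.t₀) := by
  rw [← alt_add_smul]
  congr 1
  funext i
  rw [← s.πT_eq, s.πL_add_πT]

theorem sub_e_ιMulti (v : Fin r → P) :
    exteriorPower.ιMulti (WittVector p R) r v - s.e r (exteriorPower.ιMulti (WittVector p R) r v) =
      ∑ j, s.τ (v j) • exteriorPower.ιMulti (WittVector p R) r
          (Function.update (fun i => s.πL (v i)) j s.t₀) := by
  rw [s.e_ιMulti]
  conv_lhs => rw [s.wedge_expand r v]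
  abel

theorem S_eq : S D r = s.L' r ⊔ W4c1extbt610.IV p R • s.T' r := by
  classical
  apply le_antisymm
  · rw [S, Submodule.span_le]
    rintro _ ⟨q, rfl⟩
    change exteriorPower.ιMulti (WittVector p R) r (fun i => (q i : P)) ∈ _
    rw [s.wedge_expand r]
    refine Submodule.add_mem _ (Submodule.mem_sup_left (s.wedge_mem_L' r _ fun i => s.πL_mem _))
      (Submodule.mem_sup_right (Submodule.sum_mem _ fun j _ => ?_))
    refine Submodule.smul_mem_smul (s.τ_mem_IV (q j).2) (s.wedge_mem_T' r _ j ?_)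
    rw [Function.update_self]
    exact s.t₀_mem
  · apply sup_le
    · -- L' ≤ S
      rintro _ ⟨y, rfl⟩
      have hy : y ∈ Submodule.span (WittVector p R)
          (Set.range (exteriorPower.ιMulti (WittVector p R) r (M := P))) := by
        rw [exteriorPower.ιMulti_span]; exact Submodule.mem_top
      induction hy using Submodule.span_induction with
      | mem y hy =>
        obtain ⟨v, rfl⟩ := hy
        rw [s.e_ιMulti]
        exact wedge_mem_S D r _ fun i => s.πL_mem_Q _
      | zero => rw [map_zero]; exact Submodule.zero_mem _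
      | add a b _ _ ha hb => rw [map_add]; exact Submodule.add_mem _ ha hb
      | smul c a _ ha => rw [map_smul]; exact Submodule.smul_mem _ _ ha
    · rw [Submodule.smul_le]
      intro a ha x hx
      have hx0 : s.e r x = 0 := hx
      have key : ∀ y : ⋀[WittVector p R]^r P, a • (y - s.e r y) ∈ S D r := by
        intro y
        have hy : y ∈ Submodule.span (WittVector p R)
            (Set.range (exteriorPower.ιMulti (WittVector p R) r (M := P))) := by
          rw [exteriorPower.ιMulti_span]; exact Submodule.mem_top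
        induction hy using Submodule.span_induction with
        | mem y hy =>
          obtain ⟨v, rfl⟩ := hy
          rw [s.sub_e_ιMulti, Finset.smul_sum]
          refine Submodule.sum_mem _ fun j _ => ?_
          rw [smul_comm]
          refine Submodule.smul_mem _ _ ?_
          have e1 : a • exteriorPower.ιMulti (WittVector p R) r
                (Function.update (fun i => s.πL (v i)) j s.t₀) =
              exteriorPower.ιMulti (WittVector p R) r
                (Function.update (fun i => s.πL (v i)) j (a • s.t₀)) := by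
            rw [AlternatingMap.map_update_smul]
          rw [e1]
          apply wedge_mem_S
          intro i
          by_cases h : i = j
          · subst h
            rw [Function.update_self]
            exact s.smul_t₀_mem_Q ha
          · rw [Function.update_of_ne h]
            exact s.πL_mem_Q _
        | zero => simp
        | add y z _ _ hy hz =>
          have : a • (y + z - s.e r (y + z)) = a • (y - s.e r y) + a • (z - s.e r z) := by
            rw [map_add, ← smul_add]; congr 1; abel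
          rw [this]; exact Submodule.add_mem _ hy hz
        | smul c y _ hy =>
          have : a • (c • y - s.e r (c • y)) = c • (a • (y - s.e r y)) := by
            rw [map_smul, smul_sub, smul_sub, smul_sub, smul_comm a c y, smul_comm a c (s.e r y)]
          rw [this]; exact Submodule.smul_mem _ _ hy
      have := key x
      rwa [hx0, sub_zero] at this

/-- `Φ = ⋀^r φ₀` -/
noncomputable def ΦE : ⋀[WittVector p R]^r P →ₛₗ[(WittVector.frobenius :
    WittVector p R →+* WittVector p R)] ⋀[WittVector p R]^r P :=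
  extSemi s.φ₀ r

theorem ΦE_ιMulti (v : Fin r → P) :
    s.ΦE r (exteriorPower.ιMulti (WittVector p R) r v) =
      exteriorPower.ιMulti (WittVector p R) r (fun i => s.φ₀ (v i)) :=
  extSemi_ιMulti _ _ _

theorem span_range_ΦE :
    Submodule.span (WittVector p R) (Set.range (s.ΦE r)) = ⊤ := by
  rw [eq_top_iff, ← exteriorPower.ιMulti_span_of_span (WittVector p R) r P s.span_range_φ₀,
    Submodule.span_le]
  rintro _ ⟨a, ha, rfl⟩
  have h : ∀ i, ∃ b, s.φ₀ b = a i := fun i => ha ⟨i, rfl⟩
  choose b hb using h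
  refine Submodule.subset_span ⟨exteriorPower.ιMulti (WittVector p R) r b, ?_⟩
  rw [s.ΦE_ιMulti]
  congr 1
  funext i
  exact hb i

end RankOne

theorem projective_extPow (D : W4c1extbt610.Display3n p R P) (r : ℕ) :
    Module.Projective (WittVector p R) (⋀[WittVector p R]^r P) := by
  haveI := D.finite
  haveI := D.projective
  obtain ⟨n, π, hπ⟩ := Module.Finite.exists_fin' (WittVector p R) P
  obtain ⟨i, hi⟩ := Module.projective_lifting_property π LinearMap.id hπ
  exact Module.Projective.of_split (exteriorPower.map r i) (exteriorPower.map r π)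
    (by rw [← exteriorPower.map_comp, hi, exteriorPower.map_id])

theorem exists_coords (D : W4c1extbt610.Display3n p R P) (r : ℕ) :
    ∃ (n : ℕ) (i : ⋀[WittVector p R]^r P →ₗ[WittVector p R] (Fin n → WittVector p R))
      (π : (Fin n → WittVector p R) →ₗ[WittVector p R] ⋀[WittVector p R]^r P),
      π ∘ₗ i = LinearMap.id := by
  haveI := D.finite
  haveI := projective_extPow D r
  obtain ⟨n, π, hπ⟩ := Module.Finite.exists_fin' (WittVector p R) (⋀[WittVector p R]^r P)
  obtain ⟨i, hi⟩ := Module.projective_lifting_property π LinearMap.id hπ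
  exact ⟨n, i, π, hi⟩

/-- **Existence of the exterior power of a 3n-display with tangent module free of rank one.** -/
theorem exists_isExtPow {D : W4c1extbt610.Display3n p R P} (s : RankOne D) (r : ℕ) :
    ∃ E : W4c1extbt610.Display3n p R (⋀[WittVector p R]^r P), W4c1extbt610.IsExtPow D r E := by
  classical
  obtain ⟨n, i, π, hi⟩ := exists_coords D r
  let md : MkData p R (⋀[WittVector p R]^r P) :=
    ⟨s.L' r, s.T' r, s.isCompl' r, n, i, π, hi, s.ΦE r, s.span_range_ΦE r⟩
  refine ⟨md.toDisplay, (s.S_eq r).symm, ?_⟩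
  intro q hq
  set x : ⋀[WittVector p R]^r P :=
    exteriorPower.ιMulti (WittVector p R) r (fun i => s.πL (q i)) with hx_def
  set y : Fin r → ⋀[WittVector p R]^r P := fun j =>
    exteriorPower.ιMulti (WittVector p R) r (Function.update (fun i => s.πL (q i)) j s.t₀)
    with hy_def
  set b : Fin r → WittVector p R := fun j => (s.τ (q j)).shift 1 with hb_def
  have hb : ∀ j, s.τ (q j) = verschiebung (b j) := fun j => eq_V_shift (s.τ_mem_IV (q j).2)
  have hexp : exteriorPower.ιMulti (WittVector p R) r (fun i => (q i : P)) =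
      x + ∑ j, verschiebung (b j) • y j := by
    rw [s.wedge_expand r]
    congr 1
    refine Finset.sum_congr rfl fun j _ => ?_
    rw [hb j]
  have hx : x ∈ md.L := s.wedge_mem_L' r _ fun i => s.πL_mem _
  have hy : ∀ j, y j ∈ md.T := fun j => s.wedge_mem_T' r _ j (by
    rw [Function.update_self]; exact s.t₀_mem)
  have hmem : x + ∑ j, verschiebung (b j) • y j ∈ md.toDisplay.Q := hexp ▸ hq
  have e : (⟨exteriorPower.ιMulti (WittVector p R) r (fun i => (q i : P)), hq⟩ :
      md.toDisplay.Q) = ⟨x + ∑ j, verschiebung (b j) • y j, hmem⟩ := Subtype.ext hexp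
  rw [e, md.toDisplay_Vinv_sum Finset.univ hx b y hy hmem]
  change s.ΦE r x + ∑ j, b j • s.ΦE r (y j) = _
  have hΦy : ∀ j, s.ΦE r (y j) = exteriorPower.ιMulti (WittVector p R) r
      (Function.update (fun i => s.φ₀ (s.πL (q i))) j (s.φ₀ s.t₀)) := by
    intro j
    rw [hy_def, s.ΦE_ιMulti]
    congr 1
    funext k
    by_cases h : k = j
    · subst h; simp
    · simp [Function.update_of_ne h]
  have hrhs : (fun i => D.Vinv (q i)) =
      fun i => s.φ₀ (s.πL (q i)) + b i • s.φ₀ s.t₀ := by
    funext i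
    exact s.Vinv_eq (q i)
  rw [hrhs, alt_add_smul, hx_def, s.ΦE_ιMulti]
  congr 1
  refine Finset.sum_congr rfl fun j _ => ?_
  rw [hΦy j]

/-- **Uniqueness of the exterior power display.** -/
theorem isExtPow_unique {D : W4c1extbt610.Display3n p R P} {r : ℕ}
    {E E' : W4c1extbt610.Display3n p R (⋀[WittVector p R]^r P)}
    (hE : W4c1extbt610.IsExtPow D r E) (hE' : W4c1extbt610.IsExtPow D r E') : E' = E := by
  obtain ⟨hQ, hV⟩ := hE
  obtain ⟨hQ', hV'⟩ := hE'
  have hQQ : E'.Q = E.Q := hQ'.trans hQ.symm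
  have key : ∀ z (hz : z ∈ S D r), E'.Vinv ⟨z, hQ'.symm ▸ hz⟩ = E.Vinv ⟨z, hQ.symm ▸ hz⟩ := by
    intro z hz
    unfold S at hz
    induction hz using Submodule.span_induction with
    | mem z hz =>
      obtain ⟨q, rfl⟩ := hz
      rw [hV q, hV' q]
    | zero =>
      have e0 : (⟨(0 : ⋀[WittVector p R]^r P), hQ.symm ▸ Submodule.zero_mem _⟩ : E.Q) = 0 := rfl
      have e0' : (⟨(0 : ⋀[WittVector p R]^r P), hQ'.symm ▸ Submodule.zero_mem _⟩ : E'.Q) = 0 :=
        rfl
      rw [e0, e0', map_zero, map_zero]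
    | add a b ha hb iha ihb =>
      have e0 : (⟨a + b, hQ.symm ▸ Submodule.add_mem _ ha hb⟩ : E.Q) =
          ⟨a, hQ.symm ▸ ha⟩ + ⟨b, hQ.symm ▸ hb⟩ := rfl
      have e0' : (⟨a + b, hQ'.symm ▸ Submodule.add_mem _ ha hb⟩ : E'.Q) =
          ⟨a, hQ'.symm ▸ ha⟩ + ⟨b, hQ'.symm ▸ hb⟩ := rfl
      rw [e0, e0', map_add, map_add, iha, ihb]
    | smul c a ha iha =>
      have e0 : (⟨c • a, hQ.symm ▸ Submodule.smul_mem _ c ha⟩ : E.Q) = c • ⟨a, hQ.symm ▸ ha⟩ := rfl
      have e0' : (⟨c • a, hQ'.symm ▸ Submodule.smul_mem _ c ha⟩ : E'.Q) =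
          c • ⟨a, hQ'.symm ▸ ha⟩ := rfl
      rw [e0, e0', LinearMap.map_smulₛₗ E.Vinv, LinearMap.map_smulₛₗ E'.Vinv, iha]
  have hVV : ∀ (z : ⋀[WittVector p R]^r P) (h₁ : z ∈ E'.Q) (h₂ : z ∈ E.Q),
      E'.Vinv ⟨z, h₁⟩ = E.Vinv ⟨z, h₂⟩ := by
    intro z h₁ h₂
    exact key z (by unfold S; rw [← hQ]; exact h₂)
  apply display_ext E' E hQQ ?_ hVV
  apply LinearMap.ext
  intro x
  have h1 := E.Vinv_verschiebung_smul 1 x
  have h2 := E'.Vinv_verschiebung_smul 1 x
  rw [one_smul] at h1 h2
  rw [← h1, ← h2]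
  exact hVV _ _ _

end Groth.Agent.H74.DispExtPow
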