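import Mathlib

/-!
# `W(R)` is `p`-adically and `I_R`-adically complete when `R` is `p`-adically complete

helper74 library for S14855.
-/

set_option autoImplicit false

namespace Groth.Agent.H74.WittComplete

open WittVector Finset

variable {p : ℕ} [hp : Fact p.Prime] {R : Type*} [CommRing R]

local notation "𝕎" => WittVector p

variable (p R) in
/-- The ideal of Witt vectors whose first `m` coefficients lie in `p^N R`. -/
noncomputable def K (m N : ℕ) : Ideal (WittVector p R) :=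
  RingHom.ker ((WittVector.truncate (p := p) m).comp
    (WittVector.map (Ideal.Quotient.mk (Ideal.span {(p : R) ^ N}))))

lemma sub_mem_K {m N : ℕ} {x y : 𝕎 R} :
    x - y ∈ K p R m N ↔ ∀ i < m, x.coeff i - y.coeff i ∈ Ideal.span {(p : R) ^ N} := by
  unfold K
  rw [RingHom.mem_ker, map_sub, sub_eq_zero, TruncatedWittVector.ext_iff]
  constructor
  · intro h i hi
    have := h ⟨i, hi⟩
    simp only [RingHom.comp_apply, WittVector.coeff_truncate, WittVector.map_coeff] at this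
    exact (Ideal.Quotient.eq).1 this
  · intro h i
    simp only [RingHom.comp_apply, WittVector.coeff_truncate, WittVector.map_coeff]
    exact (Ideal.Quotient.eq).2 (h i i.2)

lemma mem_K {m N : ℕ} {x : 𝕎 R} :
    x ∈ K p R m N ↔ ∀ i < m, x.coeff i ∈ Ideal.span {(p : R) ^ N} := by
  have := sub_mem_K (p := p) (R := R) (m := m) (N := N) (x := x) (y := 0)
  simpa using this

lemma iterV_natCast_mul (m k : ℕ) (y : 𝕎 R) :
    (verschiebung^[m]) ((k : 𝕎 R) * y) = (k : 𝕎 R) * (verschiebung^[m]) y := by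
  induction m with
  | zero => simp
  | succ m ih =>
    rw [Function.iterate_succ_apply', Function.iterate_succ_apply', ih, ← nsmul_eq_mul,
      map_nsmul, nsmul_eq_mul]

lemma eq_verschiebung_of_coeff_zero {x : 𝕎 R} (h : x.coeff 0 = 0) :
    ∃ z : 𝕎 R, x = verschiebung z := by
  refine ⟨x.shift 1, ?_⟩
  have := eq_iterate_verschiebung (x := x) (n := 1) (by
    intro i hi
    have : i = 0 := by omega
    subst this; exact h)
  simpa using this

lemma coeff_zero_natCast_pow_mul (n : ℕ) (x : 𝕎 R) :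
    (((p : 𝕎 R)) ^ n * x).coeff 0 = (p : R) ^ n * x.coeff 0 := by
  have : constantCoeff ((p : 𝕎 R) ^ n * x) = (p : R) ^ n * constantCoeff x := by
    rw [map_mul, map_pow, map_natCast]
  exact this

/-- If `p^n = 0` in `S` then `p^(n*m) x` is an `m`-fold Verschiebung. -/
lemma pow_mul_eq_iterV {S : Type*} [CommRing S] (n : ℕ) (hn : (p : S) ^ n = 0) (m : ℕ) (x : 𝕎 S) :
    ∃ y : 𝕎 S, (p : 𝕎 S) ^ (n * m) * x = (verschiebung^[m]) y := by
  induction m with
  | zero => exact ⟨x, by simp⟩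
  | succ m ih =>
    obtain ⟨y, hy⟩ := ih
    have h0 : ((p : 𝕎 S) ^ n * y).coeff 0 = 0 := by
      rw [coeff_zero_natCast_pow_mul, hn, zero_mul]
    obtain ⟨z, hz⟩ := eq_verschiebung_of_coeff_zero h0
    refine ⟨z, ?_⟩
    rw [Nat.mul_succ, pow_add, mul_comm ((p : 𝕎 S) ^ (n * m)), mul_assoc, hy,
      ← Nat.cast_pow, ← iterV_natCast_mul, Nat.cast_pow, hz, ← Function.iterate_succ_apply]

lemma pow_mul_mem_K (m N k : ℕ) (hk : N * m ≤ k) (x : 𝕎 R) :
    (p : 𝕎 R) ^ k * x ∈ K p R m N := by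
  obtain ⟨j, rfl⟩ := Nat.exists_eq_add_of_le hk
  rw [pow_add, mul_assoc]
  set x' := (p : 𝕎 R) ^ j * x
  rw [mem_K]
  intro i hi
  set S := R ⧸ Ideal.span {(p : R) ^ N}
  have hn : (p : S) ^ N = 0 := by
    have : (Ideal.Quotient.mk (Ideal.span {(p : R) ^ N})) ((p : R) ^ N) = 0 :=
      Ideal.Quotient.eq_zero_iff_mem.2 (Ideal.mem_span_singleton_self _)
    rw [map_pow, map_natCast] at this
    exact this
  obtain ⟨y, hy⟩ := pow_mul_eq_iterV (p := p) N hn m
    (WittVector.map (Ideal.Quotient.mk (Ideal.span {(p : R) ^ N})) x')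
  have h1 : (WittVector.map (Ideal.Quotient.mk (Ideal.span {(p : R) ^ N}))
      ((p : 𝕎 R) ^ (N * m) * x')).coeff i = 0 := by
    rw [map_mul, map_pow, map_natCast, hy]
    exact iterate_verschiebung_coeff_eq_zero y hi
  rw [WittVector.map_coeff] at h1
  exact Ideal.Quotient.eq_zero_iff_mem.1 h1

/-- Partial sums of the series `∑ p^k y_k`. -/
noncomputable def S (y : ℕ → 𝕎 R) (n : ℕ) : 𝕎 R := ∑ k ∈ range n, (p : 𝕎 R) ^ k * y k

lemma S_add (y : ℕ → 𝕎 R) (n j : ℕ) :
    S y (n + j) - S y n = (p : 𝕎 R) ^ n * S (fun k => y (n + k)) j := by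
  unfold S
  rw [Finset.sum_range_add_sub_sum_range, Finset.mul_sum]
  refine Finset.sum_congr rfl fun k _ => ?_
  rw [pow_add, mul_assoc]

lemma S_sub_mem_K (y : ℕ → 𝕎 R) {m N a b : ℕ} (ha : N * m ≤ a) (hab : a ≤ b) :
    S y b - S y a ∈ K p R m N := by
  obtain ⟨j, rfl⟩ := Nat.exists_eq_add_of_le hab
  rw [S_add]
  exact pow_mul_mem_K m N a ha _

omit hp in
lemma mem_span_pow_iff {N : ℕ} {a : R} :
    a ∈ ((Ideal.span {(p : R)}) ^ N • (⊤ : Submodule R R)) ↔ a ∈ Ideal.span {(p : R) ^ N} := by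
  rw [smul_eq_mul, Ideal.mul_top, Ideal.span_singleton_pow]

variable [IsAdicComplete (Ideal.span {(p : R)}) R]

lemma exists_lim_coeff (y : ℕ → 𝕎 R) (i : ℕ) :
    ∃ L : R, ∀ N, (S y (N * (i + 1))).coeff i - L ∈ Ideal.span {(p : R) ^ N} := by
  have := IsPrecomplete.prec' (I := Ideal.span {(p : R)}) (M := R)
    (fun N => (S y (N * (i + 1))).coeff i) (by
      intro a b hab
      rw [SModEq.sub_mem, mem_span_pow_iff]
      have h1 : S y (b * (i + 1)) - S y (a * (i + 1)) ∈ K p R (i + 1) a :=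
        S_sub_mem_K y le_rfl (Nat.mul_le_mul_right _ hab)
      have h2 := (sub_mem_K.1 h1) i (Nat.lt_succ_self i)
      have : (S y (a * (i + 1))).coeff i - (S y (b * (i + 1))).coeff i =
          -((S y (b * (i + 1))).coeff i - (S y (a * (i + 1))).coeff i) := by ring
      rw [this]
      exact neg_mem h2)
  obtain ⟨L, hL⟩ := this
  refine ⟨L, fun N => ?_⟩
  have := hL N
  rw [SModEq.sub_mem, mem_span_pow_iff] at this
  exact this

/-- The limit of the series `∑ p^k y_k` in `W(R)`. -/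
noncomputable def lim (y : ℕ → 𝕎 R) : 𝕎 R :=
  WittVector.mk p fun i => Classical.choose (exists_lim_coeff y i)

lemma lim_spec (y : ℕ → 𝕎 R) {m N k : ℕ} (hk : N * m ≤ k) :
    lim y - S y k ∈ K p R m N := by
  rw [sub_mem_K]
  intro i hi
  have h1 := Classical.choose_spec (exists_lim_coeff y i) N
  have h2 : S y k - S y (N * (i + 1)) ∈ K p R (i + 1) N :=
    S_sub_mem_K y le_rfl (le_trans (Nat.mul_le_mul_left _ hi) hk)
  have h3 := (sub_mem_K.1 h2) i (Nat.lt_succ_self i)
  have : (lim y).coeff i - (S y k).coeff i =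
      -((S y (N * (i + 1))).coeff i - Classical.choose (exists_lim_coeff y i)) -
        ((S y k).coeff i - (S y (N * (i + 1))).coeff i) := by
    simp only [lim, WittVector.coeff_mk]
    ring
  rw [this]
  exact sub_mem (neg_mem h1) h3

omit [IsAdicComplete (Ideal.span {(p : R)}) R] in
lemma eq_zero_of_forall_mem_K [IsHausdorff (Ideal.span {(p : R)}) R] {x : 𝕎 R}
    (h : ∀ m N, x ∈ K p R m N) : x = 0 := by
  ext i
  rw [WittVector.zero_coeff]
  apply IsHausdorff.haus' (I := Ideal.span {(p : R)}) (M := R)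
  intro N
  rw [SModEq.zero, mem_span_pow_iff]
  exact (mem_K.1 (h (i + 1) N)) i (Nat.lt_succ_self i)

lemma lim_sub_S (y : ℕ → 𝕎 R) (n : ℕ) :
    lim y - S y n = (p : 𝕎 R) ^ n * lim (fun k => y (n + k)) := by
  rw [← sub_eq_zero]
  apply eq_zero_of_forall_mem_K
  intro m N
  set J := N * m
  have h1 : lim y - S y (n + J) ∈ K p R m N := lim_spec y (by omega)
  have h2 : lim (fun k => y (n + k)) - S (fun k => y (n + k)) J ∈ K p R m N :=
    lim_spec _ le_rfl
  have h3 := S_add y n J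
  have : lim y - S y n - (p : 𝕎 R) ^ n * lim (fun k => y (n + k)) =
      (lim y - S y (n + J)) -
        (p : 𝕎 R) ^ n * (lim (fun k => y (n + k)) - S (fun k => y (n + k)) J) +
        (S y (n + J) - S y n - (p : 𝕎 R) ^ n * S (fun k => y (n + k)) J) := by ring
  rw [this, h3, sub_self, add_zero]
  exact sub_mem h1 (Ideal.mul_mem_left _ _ h2)

lemma coeff_zero_lim (y : ℕ → 𝕎 R) (hy : ∀ k, (y k).coeff 0 = 0) : (lim y).coeff 0 = 0 := by
  apply IsHausdorff.haus' (I := Ideal.span {(p : R)}) (M := R)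
  intro N
  rw [SModEq.zero, mem_span_pow_iff]
  have h1 := Classical.choose_spec (exists_lim_coeff y 0) N
  have h2 : (S y (N * (0 + 1))).coeff 0 = 0 := by
    have : constantCoeff (S y (N * (0 + 1))) = 0 := by
      unfold S
      rw [map_sum]
      refine Finset.sum_eq_zero fun k _ => ?_
      rw [map_mul]
      have : constantCoeff (y k) = 0 := hy k
      rw [this, mul_zero]
    exact this
  rw [h2, zero_sub] at h1
  have : (lim y).coeff 0 = Classical.choose (exists_lim_coeff y 0) := by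
    simp only [lim, WittVector.coeff_mk]
  rw [this]
  simpa using neg_mem h1

omit [IsAdicComplete (Ideal.span {(p : R)}) R] in
lemma mem_span_p_pow_iff {n : ℕ} {x : 𝕎 R} :
    x ∈ ((Ideal.span {(p : 𝕎 R)}) ^ n • (⊤ : Submodule (𝕎 R) (𝕎 R))) ↔
      ∃ z, x = (p : 𝕎 R) ^ n * z := by
  rw [smul_eq_mul, Ideal.mul_top, Ideal.span_singleton_pow, Ideal.mem_span_singleton']
  constructor
  · rintro ⟨a, rfl⟩; exact ⟨a, mul_comm _ _⟩
  · rintro ⟨z, rfl⟩; exact ⟨z, mul_comm _ _⟩

theorem isHausdorff_p : IsHausdorff (Ideal.span {(p : 𝕎 R)}) (𝕎 R) := by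
  constructor
  intro x hx
  apply eq_zero_of_forall_mem_K
  intro m N
  have := hx (N * m)
  rw [SModEq.zero, mem_span_p_pow_iff] at this
  obtain ⟨z, rfl⟩ := this
  exact pow_mul_mem_K m N _ le_rfl z

theorem isPrecomplete_p : IsPrecomplete (Ideal.span {(p : 𝕎 R)}) (𝕎 R) := by
  constructor
  intro f hf
  have hy : ∀ k, ∃ z, f (k + 1) - f k = (p : 𝕎 R) ^ k * z := by
    intro k
    have := hf (Nat.le_succ k)
    rw [SModEq.sub_mem] at this
    have h2 := neg_mem this
    rw [neg_sub, mem_span_p_pow_iff] at h2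
    exact h2
  choose y hy using hy
  have hS : ∀ n, f n - f 0 = S y n := by
    intro n
    induction n with
    | zero => simp [S]
    | succ n ih =>
      unfold S at ih ⊢
      rw [Finset.sum_range_succ, ← ih, ← hy n]; ring
  refine ⟨f 0 + lim y, fun n => ?_⟩
  rw [SModEq.sub_mem]
  have : f n - (f 0 + lim y) = -(lim y - S y n) := by rw [← hS n]; ring
  rw [this, lim_sub_S]
  apply neg_mem
  rw [mem_span_p_pow_iff]
  exact ⟨_, rfl⟩

theorem isAdicComplete_p : IsAdicComplete (Ideal.span {(p : 𝕎 R)}) (𝕎 R) :=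
  { isHausdorff_p, isPrecomplete_p with }

/-! ### The `I_R`-adic topology -/

omit [IsAdicComplete (Ideal.span {(p : R)}) R] in
lemma verschiebung_mul_verschiebung (a b : 𝕎 R) :
    verschiebung a * verschiebung b = (p : 𝕎 R) * verschiebung (a * b) := by
  rw [← verschiebung_mul_frobenius, frobenius_verschiebung, ← mul_assoc, mul_comm _ (p : 𝕎 R),
    ← nsmul_eq_mul, map_nsmul, nsmul_eq_mul]

omit [IsAdicComplete (Ideal.span {(p : R)}) R] in
lemma mem_I_iff {x : 𝕎 R} :
    x ∈ RingHom.ker (constantCoeff : 𝕎 R →+* R) ↔ x.coeff 0 = 0 := Iff.rfl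

omit [IsAdicComplete (Ideal.span {(p : R)}) R] in
lemma mul_mem_of_mem_I {w b : 𝕎 R} (hw : w ∈ RingHom.ker (constantCoeff : 𝕎 R →+* R))
    (hb : b ∈ RingHom.ker (constantCoeff : 𝕎 R →+* R)) :
    ∃ c ∈ RingHom.ker (constantCoeff : 𝕎 R →+* R), w * b = (p : 𝕎 R) * c := by
  obtain ⟨w', rfl⟩ := eq_verschiebung_of_coeff_zero (mem_I_iff.1 hw)
  obtain ⟨b', rfl⟩ := eq_verschiebung_of_coeff_zero (mem_I_iff.1 hb)
  exact ⟨verschiebung (w' * b'), mem_I_iff.2 (verschiebung_coeff_zero _),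
    verschiebung_mul_verschiebung _ _⟩

omit [IsAdicComplete (Ideal.span {(p : R)}) R] in
lemma exists_of_mem_I_pow (k : ℕ) :
    ∀ z ∈ (RingHom.ker (constantCoeff : 𝕎 R →+* R)) ^ (k + 1),
      ∃ w ∈ RingHom.ker (constantCoeff : 𝕎 R →+* R), z = (p : 𝕎 R) ^ k * w := by
  induction k with
  | zero =>
    intro z hz
    exact ⟨z, by simpa using hz, by simp⟩
  | succ k ih =>
    intro z hz
    rw [pow_succ] at hz
    refine Submodule.mul_induction_on hz ?_ ?_
    · intro a ha b hb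
      obtain ⟨w, hw, rfl⟩ := ih a ha
      obtain ⟨c, hc, hcw⟩ := mul_mem_of_mem_I hw hb
      refine ⟨c, hc, ?_⟩
      rw [mul_assoc, hcw, pow_succ, mul_assoc]
    · rintro a b ⟨w, hw, rfl⟩ ⟨w', hw', rfl⟩
      exact ⟨w + w', add_mem hw hw', by ring⟩

omit [IsAdicComplete (Ideal.span {(p : R)}) R] in
lemma pow_mul_mem_I_pow (k : ℕ) {w : 𝕎 R} (hw : w ∈ RingHom.ker (constantCoeff : 𝕎 R →+* R)) :
    (p : 𝕎 R) ^ k * w ∈ (RingHom.ker (constantCoeff : 𝕎 R →+* R)) ^ (k + 1) := by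
  have hV : verschiebung (1 : 𝕎 R) ∈ RingHom.ker (constantCoeff : 𝕎 R →+* R) :=
    mem_I_iff.2 (verschiebung_coeff_zero _)
  have h1 : ∀ j : ℕ, (verschiebung (1 : 𝕎 R)) ^ j * w = (p : 𝕎 R) ^ j * w := by
    intro j
    induction j with
    | zero => simp
    | succ j ih =>
      obtain ⟨w', rfl⟩ := eq_verschiebung_of_coeff_zero (mem_I_iff.1 hw)
      rw [pow_succ, mul_assoc, verschiebung_mul_verschiebung, one_mul, mul_left_comm, ih,
        pow_succ]
      ring
  rw [← h1 k, pow_succ]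
  exact Ideal.mul_mem_mul (Ideal.pow_mem_pow hV k) hw

omit [IsAdicComplete (Ideal.span {(p : R)}) R] in
lemma mem_I_pow_smul_top {n : ℕ} {x : 𝕎 R} :
    x ∈ ((RingHom.ker (constantCoeff : 𝕎 R →+* R)) ^ n • (⊤ : Submodule (𝕎 R) (𝕎 R))) ↔
      x ∈ (RingHom.ker (constantCoeff : 𝕎 R →+* R)) ^ n := by
  rw [smul_eq_mul, Ideal.mul_top]

theorem isHausdorff_I :
    IsHausdorff (RingHom.ker (constantCoeff : 𝕎 R →+* R)) (𝕎 R) := by
  constructor
  intro x hx
  apply IsHausdorff.haus' (I := Ideal.span {(p : 𝕎 R)}) (M := 𝕎 R) (self := isHausdorff_p)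
  intro n
  have := hx (n + 1)
  rw [SModEq.zero, mem_I_pow_smul_top] at this
  obtain ⟨w, -, rfl⟩ := exists_of_mem_I_pow n x this
  rw [SModEq.zero, mem_span_p_pow_iff]
  exact ⟨w, rfl⟩

theorem isPrecomplete_I :
    IsPrecomplete (RingHom.ker (constantCoeff : 𝕎 R →+* R)) (𝕎 R) := by
  constructor
  intro f hf
  have hy : ∀ k, ∃ w ∈ RingHom.ker (constantCoeff : 𝕎 R →+* R),
      f (k + 2) - f (k + 1) = (p : 𝕎 R) ^ k * w := by
    intro k
    have := hf (Nat.le_succ (k + 1))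
    rw [SModEq.sub_mem] at this
    have h2 := neg_mem this
    rw [neg_sub, mem_I_pow_smul_top] at h2
    exact exists_of_mem_I_pow k _ h2
  choose y hyI hy using hy
  have hS : ∀ n, f (n + 1) - f 1 = S y n := by
    intro n
    induction n with
    | zero => simp [S]
    | succ n ih =>
      unfold S at ih ⊢
      rw [Finset.sum_range_succ, ← ih, ← hy n]; ring
  refine ⟨f 1 + lim y, fun n => ?_⟩
  rw [SModEq.sub_mem, mem_I_pow_smul_top]
  cases n with
  | zero => simp
  | succ n =>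
    have : f (n + 1) - (f 1 + lim y) = -(lim y - S y n) := by rw [← hS n]; ring
    rw [this, lim_sub_S]
    apply neg_mem
    apply pow_mul_mem_I_pow
    exact mem_I_iff.2 (coeff_zero_lim _ fun k => mem_I_iff.1 (hyI (n + k)))

theorem isAdicComplete_I :
    IsAdicComplete (RingHom.ker (constantCoeff : 𝕎 R →+* R)) (𝕎 R) :=
  { isHausdorff_I, isPrecomplete_I with }

end Groth.Agent.H74.WittComplete
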