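import Mathlib
import Groth.Agent.H85.IdemLiftAdic
import Groth.Agent.H74.WittComplete
import Groth.Prelude.Def_W4c1extbt610Disp

/-!
# Normal decompositions over an adically complete ring (helper74, for S14858)
-/

set_option autoImplicit false
universe u v

namespace Groth.Agent.H74.NormalDecomp

open Groth.Agent.H85.IdemLiftAdic

section general

variable {A : Type u} [CommRing A] (I : Ideal A)

lemma map_mem_smul_top {M N : Type*} [AddCommGroup M] [Module A M] [AddCommGroup N] [Module A N]
    (f : M →ₗ[A] N) {w : M} (hw : w ∈ I • (⊤ : Submodule A M)) :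
    f w ∈ I • (⊤ : Submodule A N) := by
  refine Submodule.smul_induction_on hw (fun r hr z _ => ?_) (fun a b ha hb => ?_)
  · rw [map_smul]; exact Submodule.smul_mem_smul hr Submodule.mem_top
  · rw [map_add]; exact add_mem ha hb

variable {P : Type v} [AddCommGroup P] [Module A P] [Module.Finite A P] [Module.Projective A P]

/-- An endomorphism of a finite projective module with values in `I P` lies in `I End(P)`. -/
theorem mem_smul_top_end {x : Module.End A P}
    (hx : ∀ v, x v ∈ (I • ⊤ : Submodule A P)) :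
    x ∈ (I • ⊤ : Submodule A (Module.End A P)) := by
  classical
  obtain ⟨n, π, hπ⟩ := Module.Finite.exists_fin' A P
  obtain ⟨s, hs⟩ := Module.projective_lifting_property π LinearMap.id hπ
  have hs' : ∀ w, π (s w) = w := fun w => LinearMap.congr_fun hs w
  have hx' : x = ∑ i : Fin n,
      LinearMap.smulRightₗ ((LinearMap.proj i : (Fin n → A) →ₗ[A] A) ∘ₗ s)
        (x (π (fun j => if i = j then 1 else 0))) := by
    ext v
    rw [LinearMap.sum_apply]
    have := LinearMap.pi_apply_eq_sum_univ (x ∘ₗ π) (s v)
    simp only [LinearMap.comp_apply] at this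
    rw [hs'] at this
    rw [this]
    refine Finset.sum_congr rfl fun i _ => ?_
    rw [LinearMap.smulRightₗ_apply, LinearMap.smulRight_apply, LinearMap.comp_apply,
      LinearMap.proj_apply]
  rw [hx']
  refine Submodule.sum_mem _ fun i _ => ?_
  exact map_mem_smul_top I
    (LinearMap.smulRightₗ ((LinearMap.proj i : (Fin n → A) →ₗ[A] A) ∘ₗ s)) (hx _)

/-- Normal decomposition: lifting a decomposition of `P/IP` to `P`. -/
theorem exists_normal [IsAdicComplete I A] (Q C : Submodule A P)
    (hsup : Q ⊔ C = ⊤) (hinf : Q ⊓ C = I • (⊤ : Submodule A P)) :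
    ∃ L T : Submodule A P, IsCompl L T ∧ Q = L ⊔ I • T := by
  set IM : Submodule A P := I • ⊤ with hIM
  have hIMQ : IM ≤ Q := hinf ▸ inf_le_left
  have hIMC : IM ≤ C := hinf ▸ inf_le_right
  set Qb : Submodule A (P ⧸ IM) := Q.map IM.mkQ with hQb
  set Cb : Submodule A (P ⧸ IM) := C.map IM.mkQ with hCb
  have mem_Qb : ∀ x : P, IM.mkQ x ∈ Qb ↔ x ∈ Q := by
    intro x
    constructor
    · rintro ⟨q, hq, hqx⟩
      have : q - x ∈ IM := by
        rw [← Submodule.Quotient.mk_eq_zero, Submodule.Quotient.mk_sub, sub_eq_zero]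
        exact hqx
      have h2 : x = q - (q - x) := by abel
      rw [h2]
      exact sub_mem hq (hIMQ this)
    · intro hx; exact ⟨x, hx, rfl⟩
  have mem_Cb : ∀ x : P, IM.mkQ x ∈ Cb ↔ x ∈ C := by
    intro x
    constructor
    · rintro ⟨q, hq, hqx⟩
      have : q - x ∈ IM := by
        rw [← Submodule.Quotient.mk_eq_zero, Submodule.Quotient.mk_sub, sub_eq_zero]
        exact hqx
      have h2 : x = q - (q - x) := by abel
      rw [h2]
      exact sub_mem hq (hIMC this)
    · intro hx; exact ⟨x, hx, rfl⟩
  have hcompl : IsCompl Cb Qb := by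
    constructor
    · rw [disjoint_iff, eq_bot_iff]
      intro y hy
      obtain ⟨x, rfl⟩ := IM.mkQ_surjective y
      have h1 : x ∈ C := (mem_Cb x).1 hy.1
      have h2 : x ∈ Q := (mem_Qb x).1 hy.2
      have : x ∈ IM := by rw [← hinf]; exact ⟨h2, h1⟩
      rw [Submodule.mem_bot, Submodule.mkQ_apply, Submodule.Quotient.mk_eq_zero]
      exact this
    · rw [codisjoint_iff, hQb, hCb, ← Submodule.map_sup, sup_comm, hsup, Submodule.map_top,
        Submodule.range_mkQ]
  -- projection onto `Cb` along `Qb`
  let ebar : (P ⧸ IM) →ₗ[A] (P ⧸ IM) := Cb.subtype ∘ₗ Submodule.projectionOnto Cb Qb hcompl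
  have hebar_Q : ∀ y, y ∈ Qb ↔ ebar y = 0 := by
    intro y
    change _ ↔ ((Submodule.projectionOnto Cb Qb hcompl y : Cb) : P ⧸ IM) = 0
    rw [Submodule.coe_eq_zero, Submodule.projectionOnto_apply_eq_zero_iff]
  have hebar : ∀ y, ebar (ebar y) = ebar y := by
    intro y
    change ((Submodule.projectionOnto Cb Qb hcompl
      ((Submodule.projectionOnto Cb Qb hcompl y : Cb) : P ⧸ IM) : Cb) : P ⧸ IM) = _
    rw [Submodule.projectionOnto_apply_left]
    rfl
  obtain ⟨a, ha⟩ := Module.projective_lifting_property IM.mkQ (ebar ∘ₗ IM.mkQ)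
    (Submodule.mkQ_surjective IM)
  have ha' : ∀ v, IM.mkQ (a v) = ebar (IM.mkQ v) := fun v => LinearMap.congr_fun ha v
  have hmem : ∀ v, (a * a - a) v ∈ IM := by
    intro v
    rw [← Submodule.Quotient.mk_eq_zero, ← Submodule.mkQ_apply]
    rw [LinearMap.sub_apply, Module.End.mul_apply, map_sub, ha', ha', hebar, sub_self]
  have hc : IsAdicComplete I (Module.End A P) := isAdicComplete_end I
  obtain ⟨e, he, hea⟩ := exists_isIdempotentElem_sub_mem I a (by
    rw [sq]
    exact mem_smul_top_end I hmem)
  have he' : ∀ v, IM.mkQ (e v) = ebar (IM.mkQ v) := by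
    intro v
    rw [← ha']
    have := apply_mem_of_mem I hea v
    rw [← Submodule.Quotient.mk_eq_zero, ← Submodule.mkQ_apply, LinearMap.sub_apply,
      map_sub, sub_eq_zero] at this
    exact this
  have hee : ∀ v, e (e v) = e v := fun v => by
    have := LinearMap.congr_fun he.eq v
    rwa [Module.End.mul_apply] at this
  refine ⟨LinearMap.ker e, LinearMap.range e,
    (LinearMap.IsIdempotentElem.isCompl he).symm, ?_⟩
  apply le_antisymm
  · intro x hx
    have h1 : x - e x ∈ LinearMap.ker e := by
      rw [LinearMap.mem_ker, map_sub, hee, sub_self]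
    have h2 : e x ∈ IM := by
      rw [← Submodule.Quotient.mk_eq_zero, ← Submodule.mkQ_apply, he']
      exact (hebar_Q _).1 ((mem_Qb x).2 hx)
    have h3 : e x ∈ I • LinearMap.range e := by
      rw [← hee]
      have : ∀ z ∈ IM, e z ∈ I • LinearMap.range e := by
        intro z hz
        refine Submodule.smul_induction_on hz (fun r hr z _ => ?_) (fun a b ha hb => ?_)
        · rw [map_smul]; exact Submodule.smul_mem_smul hr ⟨z, rfl⟩
        · rw [map_add]; exact add_mem ha hb
      exact this _ h2
    have : x = (x - e x) + e x := by abel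
    rw [this]
    exact Submodule.add_mem_sup h1 h3
  · rw [sup_le_iff]
    constructor
    · intro x hx
      rw [LinearMap.mem_ker] at hx
      have h1 : ebar (IM.mkQ x) = 0 := by rw [← he', hx, map_zero]
      exact (mem_Qb x).1 ((hebar_Q _).2 h1)
    · exact le_trans (Submodule.smul_mono le_rfl le_top) hIMQ

end general

section witt

variable (p : ℕ) [hp : Fact p.Prime] (R : Type u) [CommRing R]

theorem IV_eq_ker :
    W4c1extbt610.IV p R = RingHom.ker (WittVector.constantCoeff : WittVector p R →+* R) := by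
  apply le_antisymm
  · unfold W4c1extbt610.IV
    rw [Ideal.span_le]
    rintro _ ⟨w, rfl⟩
    exact WittComplete.mem_I_iff.2 (WittVector.verschiebung_coeff_zero w)
  · intro x hx
    obtain ⟨z, rfl⟩ := WittComplete.eq_verschiebung_of_coeff_zero (WittComplete.mem_I_iff.1 hx)
    exact W4c1extbt610.verschiebung_mem_IV p R z

end witt

end Groth.Agent.H74.NormalDecomp
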