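import Mathlib

/-!
# Finite projective modules over `B = A/J` from idempotent matrices over `A`; uniqueness of lifts
(helper74, for S14867)
-/

set_option autoImplicit false

namespace Groth.Agent.H74.ProjLiftSurj

universe u v

section existence

variable {A : Type u} {B : Type u} [CommRing A] [CommRing B] (ψ : A →+* B)
  {P : Type v} [AddCommGroup P] [Module B P] {n : ℕ}

/-- The lifted module: the range of an idempotent matrix. -/
abbrev Pe (e : Matrix (Fin n) (Fin n) A) : Submodule A (Fin n → A) :=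
  LinearMap.range (Matrix.mulVecLin e)

lemma mulVec_eq_self {e : Matrix (Fin n) (Fin n) A} (he : e * e = e) {x : Fin n → A}
    (hx : x ∈ Pe e) : e.mulVec x = x := by
  obtain ⟨z, rfl⟩ := hx
  rw [Matrix.mulVecLin_apply, Matrix.mulVec_mulVec, he]

instance finite_Pe (e : Matrix (Fin n) (Fin n) A) : Module.Finite A (Pe e) :=
  Module.Finite.range _

lemma projective_Pe {e : Matrix (Fin n) (Fin n) A} (he : e * e = e) :
    Module.Projective A (Pe e) := by
  refine Module.Projective.of_split (Pe e).subtype (Matrix.mulVecLin e).rangeRestrict ?_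
  ext x : 1
  apply Subtype.ext
  change e.mulVec (x : Fin n → A) = x
  exact mulVec_eq_self he x.2

variable (q : (Fin n → B) →ₗ[B] P) (s : P →ₗ[B] (Fin n → B))

/-- The semilinear projection `Pe e → P`. -/
noncomputable def piMap (e : Matrix (Fin n) (Fin n) A) : Pe e →ₛₗ[ψ] P where
  toFun x := q (fun i => ψ ((x : Fin n → A) i))
  map_add' x y := by
    rw [← map_add]
    congr 1
    ext i
    simp
  map_smul' w x := by
    rw [← map_smul]
    congr 1
    ext i
    simp

lemma piMap_apply (e : Matrix (Fin n) (Fin n) A) (x : Pe e) :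
    piMap ψ q e x = q (fun i => ψ ((x : Fin n → A) i)) := rfl

variable {ψ q s}

lemma map_mulVec_eq {e : Matrix (Fin n) (Fin n) A} {M₀ : Matrix (Fin n) (Fin n) B}
    (heM : ψ.mapMatrix e = M₀) (z : Fin n → A) :
    (fun i => ψ (e.mulVec z i)) = M₀.mulVec (fun i => ψ (z i)) := by
  ext i
  rw [RingHom.map_mulVec, ← heM]
  rfl

theorem piMap_surjective (hψ : Function.Surjective ψ) (hqs : ∀ y, q (s y) = y)
    {e : Matrix (Fin n) (Fin n) A} {M₀ : Matrix (Fin n) (Fin n) B}
    (heM : ψ.mapMatrix e = M₀) (hM₀ : ∀ v, M₀.mulVec v = s (q v)) :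
    Function.Surjective (piMap ψ q e) := by
  intro y
  choose z hz using fun i => hψ (s y i)
  refine ⟨⟨e.mulVec z, ⟨z, rfl⟩⟩, ?_⟩
  rw [piMap_apply]
  change q (fun i => ψ (e.mulVec z i)) = y
  rw [map_mulVec_eq heM, hM₀]
  have : (fun i => ψ (z i)) = s y := funext hz
  rw [this, hqs, hqs]

theorem ker_piMap
    {e : Matrix (Fin n) (Fin n) A} (he : e * e = e) {M₀ : Matrix (Fin n) (Fin n) B}
    (heM : ψ.mapMatrix e = M₀) (hM₀ : ∀ v, M₀.mulVec v = s (q v)) :
    LinearMap.ker (piMap ψ q e) = RingHom.ker ψ • (⊤ : Submodule A (Pe e)) := by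
  apply le_antisymm
  · intro x hx
    rw [LinearMap.mem_ker, piMap_apply] at hx
    have hself := mulVec_eq_self he x.2
    have h1 : (fun i => ψ ((x : Fin n → A) i)) = 0 := by
      have := map_mulVec_eq heM (x : Fin n → A)
      rw [hself, hM₀, hx, map_zero] at this
      exact this
    have h2 : ∀ i, (x : Fin n → A) i ∈ RingHom.ker ψ := fun i => congrFun h1 i
    have h3 : x = ∑ i, ((x : Fin n → A) i) •
        (⟨e.mulVec (Pi.single i 1), ⟨Pi.single i 1, rfl⟩⟩ : Pe e) := by
      apply Subtype.ext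
      rw [Submodule.coe_sum]
      simp only [Submodule.coe_smul]
      conv_lhs => rw [← hself, pi_eq_sum_univ' (x : Fin n → A)]
      rw [Matrix.mulVec_sum]
      refine Finset.sum_congr rfl fun i _ => ?_
      rw [Matrix.mulVec_smul]
    rw [h3]
    exact Submodule.sum_mem _ fun i _ => Submodule.smul_mem_smul (h2 i) Submodule.mem_top
  · rw [Submodule.smul_le]
    intro j hj x _
    rw [LinearMap.mem_ker, LinearMap.map_smulₛₗ, (RingHom.mem_ker).1 hj, zero_smul]

end existence

section uniqueness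

variable {A : Type*} {B : Type*} [CommRing A] [CommRing B] {ψ : A →+* B}
  {P : Type*} [AddCommGroup P] [Module B P]
  {P₁ P₂ : Type*} [AddCommGroup P₁] [Module A P₁] [AddCommGroup P₂] [Module A P₂]
  [Module.Finite A P₁] [Module.Projective A P₁] [Module.Finite A P₂] [Module.Projective A P₂]

theorem exists_equiv (hJ : RingHom.ker ψ ≤ Ideal.jacobson ⊥)
    (π₁ : P₁ →ₛₗ[ψ] P) (π₂ : P₂ →ₛₗ[ψ] P)
    (hs₁ : Function.Surjective π₁)
    (hk₁ : LinearMap.ker π₁ = RingHom.ker ψ • (⊤ : Submodule A P₁))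
    (hs₂ : Function.Surjective π₂)
    (hk₂ : LinearMap.ker π₂ = RingHom.ker ψ • (⊤ : Submodule A P₂)) :
    ∃ e : P₁ ≃ₗ[A] P₂, ∀ x : P₁, π₂ (e x) = π₁ x := by
  set JP₂ : Submodule A P₂ := RingHom.ker ψ • ⊤ with hJP₂
  have hmem₂ : ∀ y : P₂, y ∈ JP₂ ↔ π₂ y = 0 := by
    intro y; rw [← hk₂, LinearMap.mem_ker]
  -- the map `P₁ → P₂ / J P₂`
  let y : P₁ → P₂ := fun x => Function.surjInv hs₂ (π₁ x)
  have hy : ∀ x, π₂ (y x) = π₁ x := fun x => Function.surjInv_eq hs₂ _
  let g : P₁ →ₗ[A] P₂ ⧸ JP₂ :=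
    { toFun := fun x => JP₂.mkQ (y x)
      map_add' := fun x x' => by
        rw [← map_add, ← sub_eq_zero, ← map_sub, Submodule.mkQ_apply,
          Submodule.Quotient.mk_eq_zero, hmem₂, map_sub, map_add, hy, hy, hy, map_add, sub_self]
      map_smul' := fun w x => by
        rw [RingHom.id_apply, ← map_smul, ← sub_eq_zero, ← map_sub, Submodule.mkQ_apply,
          Submodule.Quotient.mk_eq_zero, hmem₂, map_sub, LinearMap.map_smulₛₗ, hy, hy,
          LinearMap.map_smulₛₗ, sub_self] }
  obtain ⟨h, hh⟩ := Module.projective_lifting_property JP₂.mkQ g (Submodule.mkQ_surjective _)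
  have hπ : ∀ x, π₂ (h x) = π₁ x := by
    intro x
    have h1 : JP₂.mkQ (h x) = JP₂.mkQ (y x) := LinearMap.congr_fun hh x
    rw [← sub_eq_zero, ← map_sub, Submodule.mkQ_apply, Submodule.Quotient.mk_eq_zero, hmem₂,
      map_sub, hy, sub_eq_zero] at h1
    exact h1
  -- surjectivity
  have hsurj : Function.Surjective h := by
    rw [← LinearMap.range_eq_top, eq_top_iff]
    apply Submodule.le_of_le_smul_of_le_jacobson_bot (Module.Finite.fg_top) hJ
    intro z _
    obtain ⟨x, hx⟩ := hs₁ (π₂ z)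
    have : z - h x ∈ JP₂ := by rw [hmem₂, map_sub, hπ, hx, sub_self]
    have hz : z = h x + (z - h x) := by abel
    rw [hz]
    exact Submodule.add_mem_sup ⟨x, rfl⟩ this
  -- injectivity
  obtain ⟨t, ht⟩ := Module.projective_lifting_property h LinearMap.id hsurj
  have ht' : ∀ z, h (t z) = z := fun z => LinearMap.congr_fun ht z
  set r : P₁ →ₗ[A] P₁ := LinearMap.id - t ∘ₗ h with hr
  have hrange : LinearMap.range r = LinearMap.ker h := by
    apply le_antisymm
    · rintro _ ⟨x, rfl⟩
      rw [LinearMap.mem_ker, hr, LinearMap.sub_apply, LinearMap.id_apply, LinearMap.comp_apply,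
        map_sub, ht', sub_self]
    · intro x hx
      rw [LinearMap.mem_ker] at hx
      refine ⟨x, ?_⟩
      rw [hr, LinearMap.sub_apply, LinearMap.id_apply, LinearMap.comp_apply, hx, map_zero,
        sub_zero]
  have hKfg : (LinearMap.ker h).FG := by
    rw [← hrange, LinearMap.range_eq_map]
    exact Submodule.FG.map _ Module.Finite.fg_top
  have hKle : LinearMap.ker h ≤ RingHom.ker ψ • LinearMap.ker h := by
    intro x hx
    have hx1 : x ∈ RingHom.ker ψ • (⊤ : Submodule A P₁) := by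
      rw [← hk₁, LinearMap.mem_ker, ← hπ, (LinearMap.mem_ker).1 hx, map_zero]
    have hrx : r x = x := by
      rw [hr, LinearMap.sub_apply, LinearMap.id_apply, LinearMap.comp_apply,
        (LinearMap.mem_ker).1 hx, map_zero, sub_zero]
    have : r x ∈ Submodule.map r (RingHom.ker ψ • (⊤ : Submodule A P₁)) := ⟨x, hx1, rfl⟩
    rw [Submodule.map_smul'', Submodule.map_top, hrange, hrx] at this
    exact this
  have hK : LinearMap.ker h = ⊥ :=
    Submodule.eq_bot_of_le_smul_of_le_jacobson_bot _ _ hKfg hKle hJ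
  exact ⟨LinearEquiv.ofBijective h ⟨LinearMap.ker_eq_bot.1 hK, hsurj⟩, hπ⟩

end uniqueness

end Groth.Agent.H74.ProjLiftSurj
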