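import Mathlib

/-!
# `M ⧸ I M` as an `A ⧸ I`-module: projectivity, maps (helper74, for S14860)
-/

set_option autoImplicit false

namespace Groth.Agent.H74.QuotProj

open TensorProduct

variable {A : Type*} [CommRing A] (I : Ideal A)
  (M : Type*) [AddCommGroup M] [Module A M]

lemma mk_smul (w : A) (y : M ⧸ (I • ⊤ : Submodule A M)) :
    (Ideal.Quotient.mk I w) • y = w • y := by
  induction y using Submodule.Quotient.induction_on with
  | _ m => rfl

instance : IsScalarTower A (A ⧸ I) (M ⧸ (I • ⊤ : Submodule A M)) where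
  smul_assoc w b y := by
    obtain ⟨b, rfl⟩ := Ideal.Quotient.mk_surjective b
    rw [mk_smul, Algebra.smul_def, Ideal.Quotient.algebraMap_eq, ← map_mul, mk_smul, mul_smul]

/-- `(A ⧸ I) ⊗ M ≃ M ⧸ I M`, linear over `A ⧸ I`. -/
noncomputable def quotEquiv : ((A ⧸ I) ⊗[A] M) ≃ₗ[A ⧸ I] M ⧸ (I • ⊤ : Submodule A M) :=
  { quotTensorEquivQuotSMul M I with
    map_smul' := by
      intro b t
      obtain ⟨w, rfl⟩ := Ideal.Quotient.mk_surjective b
      simp only [AddHom.toFun_eq_coe, LinearMap.coe_toAddHom, LinearEquiv.coe_coe,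
        RingHom.id_apply]
      rw [mk_smul, ← map_smul]
      congr 1 }

instance projective_quot [Module.Projective A M] :
    Module.Projective (A ⧸ I) (M ⧸ (I • ⊤ : Submodule A M)) :=
  Module.Projective.of_equiv (quotEquiv I M)

variable {M} {N : Type*} [AddCommGroup N] [Module A N]

/-- The map induced on quotients, linear over `A ⧸ I`. -/
noncomputable def mapQ (f : M →ₗ[A] N) :
    (M ⧸ (I • ⊤ : Submodule A M)) →ₗ[A ⧸ I] (N ⧸ (I • ⊤ : Submodule A N)) :=
  { Submodule.mapQ (I • ⊤ : Submodule A M) (I • ⊤ : Submodule A N) f (by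
      rw [Submodule.smul_le]
      intro r hr m _
      rw [Submodule.mem_comap, map_smul]
      exact Submodule.smul_mem_smul hr Submodule.mem_top) with
    map_smul' := by
      intro b y
      obtain ⟨w, rfl⟩ := Ideal.Quotient.mk_surjective b
      simp only [AddHom.toFun_eq_coe, LinearMap.coe_toAddHom, RingHom.id_apply]
      rw [mk_smul, mk_smul, map_smul] }

lemma mapQ_mk (f : M →ₗ[A] N) (m : M) :
    mapQ I f (Submodule.Quotient.mk m) = Submodule.Quotient.mk (f m) := rfl

/-- `I` kills `M ⧸ I M`. -/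
lemma smul_top_quot_eq_bot :
    (I • ⊤ : Submodule A (M ⧸ (I • ⊤ : Submodule A M))) = ⊥ := by
  rw [eq_bot_iff, Submodule.smul_le]
  intro r hr y _
  induction y using Submodule.Quotient.induction_on with
  | _ m =>
    rw [Submodule.mem_bot, ← Submodule.Quotient.mk_smul, Submodule.Quotient.mk_eq_zero]
    exact Submodule.smul_mem_smul hr Submodule.mem_top

end Groth.Agent.H74.QuotProj
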