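import Mathlib

/-!
# Newton iteration for idempotents along a separated complete family of ring homomorphisms
(helper74, for S14867)
-/

set_option autoImplicit false

namespace Groth.Agent.H74.NewtonIdem

open Polynomial

/-- The Newton polynomials `A₀ = X`, `A_{j+1} = 3 A_j² - 2 A_j³`. -/
noncomputable def A : ℕ → ℤ[X]
  | 0 => X
  | j + 1 => 3 * A j ^ 2 - 2 * A j ^ 3

lemma A_succ (j : ℕ) : A (j + 1) = 3 * A j ^ 2 - 2 * A j ^ 3 := rfl

lemma A_succ_sub (j : ℕ) : A (j + 1) - A j = (A j ^ 2 - A j) * (1 - 2 * A j) := by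
  rw [A_succ]; ring

lemma exists_A_sq_sub (j : ℕ) : ∃ C : ℤ[X], A j ^ 2 - A j = (X ^ 2 - X) ^ (2 ^ j) * C := by
  induction j with
  | zero => exact ⟨1, by simp [A]⟩
  | succ j ih =>
    obtain ⟨C, hC⟩ := ih
    refine ⟨C ^ 2 * (4 * A j ^ 2 - 4 * A j - 3), ?_⟩
    have : A (j + 1) ^ 2 - A (j + 1) = (A j ^ 2 - A j) ^ 2 * (4 * A j ^ 2 - 4 * A j - 3) := by
      rw [A_succ]; ring
    rw [this, hC, pow_succ 2 j, pow_mul]
    ring

lemma exists_A_sub_X (j : ℕ) : ∃ D : ℤ[X], A j - X = (X ^ 2 - X) * D := by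
  induction j with
  | zero => exact ⟨0, by simp [A]⟩
  | succ j ih =>
    obtain ⟨D, hD⟩ := ih
    obtain ⟨C, hC⟩ := exists_A_sq_sub j
    refine ⟨D + (X ^ 2 - X) ^ (2 ^ j - 1) * C * (1 - 2 * A j), ?_⟩
    have h1 : A (j + 1) - X = (A j - X) + (A j ^ 2 - A j) * (1 - 2 * A j) := by
      rw [← A_succ_sub]; ring
    have h2 : (X ^ 2 - X : ℤ[X]) ^ (2 ^ j) = (X ^ 2 - X) * (X ^ 2 - X) ^ (2 ^ j - 1) := by
      rw [← pow_succ', Nat.sub_add_cancel Nat.one_le_two_pow]
    rw [h1, hD, hC, h2]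
    ring

variable {E : Type*} [Ring E] {Ek : ℕ → Type*} [∀ k, Ring (Ek k)] (f : ∀ k, E →+* Ek k)

/-- Newton iteration: lifting idempotents. -/
theorem exists_idem
    (hsep : ∀ x : E, (∀ k, f k x = 0) → x = 0)
    (hcomp : ∀ x : ℕ → E, (∀ k, ∀ j, k ≤ j → f k (x j) = f k (x k)) →
      ∃ y, ∀ k, f k y = f k (x k))
    (a : E) (hnil : ∀ k, IsNilpotent (f k (a ^ 2 - a))) :
    ∃ e : E, IsIdempotentElem e ∧ ∀ k, ∃ c : E, f k e = f k (a + (a ^ 2 - a) * c) := by
  set ev : ℤ[X] →ₐ[ℤ] E := Polynomial.aeval a with hev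
  have hevX : ev X = a := by rw [hev, aeval_X]
  have hevε : ev (X ^ 2 - X) = a ^ 2 - a := by rw [map_sub, map_pow, hevX]
  choose mk hmk using hnil
  -- stabilisation at each level
  have hzero : ∀ k j, mk k ≤ j → f k (ev (A j) ^ 2 - ev (A j)) = 0 := by
    intro k j hj
    obtain ⟨C, hC⟩ := exists_A_sq_sub j
    have : ev (A j) ^ 2 - ev (A j) = (a ^ 2 - a) ^ (2 ^ j) * ev C := by
      rw [← map_pow, ← map_sub, hC, map_mul, map_pow, hevε]
    rw [this, map_mul, map_pow]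
    have h2 : mk k ≤ 2 ^ j := le_trans hj (Nat.lt_two_pow_self).le
    rw [pow_eq_zero_of_le h2 (hmk k), zero_mul]
  have hstab1 : ∀ k j, mk k ≤ j → f k (ev (A (j + 1))) = f k (ev (A j)) := by
    intro k j hj
    have : ev (A (j + 1)) - ev (A j) = (ev (A j) ^ 2 - ev (A j)) * ev (1 - 2 * A j) := by
      rw [← map_sub, A_succ_sub, map_mul, map_sub (f := ev) (A j ^ 2), map_pow]
    rw [← sub_eq_zero, ← map_sub, this, map_mul, hzero k j hj, zero_mul]
  have hstab : ∀ k j, mk k ≤ j → f k (ev (A j)) = f k (ev (A (mk k))) := by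
    intro k j hj
    induction j, hj using Nat.le_induction with
    | base => rfl
    | succ j hj ih => rw [hstab1 k j hj, ih]
  -- monotone modulus
  set J : ℕ → ℕ := fun k => (Finset.range (k + 1)).sup mk with hJ
  have hJge : ∀ k, mk k ≤ J k := fun k =>
    Finset.le_sup (f := mk) (Finset.mem_range.2 (Nat.lt_succ_self k))
  have hJmono : ∀ k j, k ≤ j → J k ≤ J j := by
    intro k j hkj
    apply Finset.sup_mono
    intro i hi
    rw [Finset.mem_range] at hi ⊢
    omega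
  obtain ⟨e, he⟩ := hcomp (fun k => ev (A (J k))) (by
    intro k j hkj
    rw [hstab k (J j) (le_trans (hJge k) (hJmono k j hkj)), hstab k (J k) (hJge k)])
  refine ⟨e, ?_, ?_⟩
  · have : e * e - e = 0 := by
      apply hsep
      intro k
      rw [map_sub, map_mul, he k, ← map_mul, ← map_sub, ← sq]
      exact hzero k (J k) (hJge k)
    exact sub_eq_zero.1 this
  · intro k
    obtain ⟨D, hD⟩ := exists_A_sub_X (J k)
    refine ⟨ev D, ?_⟩
    rw [he k]
    congr 1
    have : ev (A (J k)) - a = (a ^ 2 - a) * ev D := by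
      rw [← hevX, ← map_sub, hD, map_mul, hevε, hevX]
    rw [← this]; abel

end Groth.Agent.H74.NewtonIdem
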