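import Mathlib
import Groth.Agent.H74.WittComplete
import Groth.Agent.H74.NewtonIdem

/-!
# Lifting idempotent matrices along `W(S) → W(R)` (helper74, for S14867)
-/

set_option autoImplicit false

namespace Groth.Agent.H74.WittIdemLift

open WittVector

variable {p : ℕ} [hp : Fact p.Prime] {S : Type*} [CommRing S]

local notation "𝕎" => WittVector p

omit hp in
lemma isAdicComplete_of_isNilpotent {A : Type*} [CommRing A] (I : Ideal A) (hI : IsNilpotent I) :
    IsAdicComplete I A := by
  obtain ⟨M, hM⟩ := hI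
  have hbot : (I ^ M • ⊤ : Submodule A A) = ⊥ := by rw [hM]; simp
  refine { haus' := ?_, prec' := ?_ }
  · intro x hx
    have := hx M
    rw [SModEq.zero, hbot, Submodule.mem_bot] at this
    exact this
  · intro f hf
    refine ⟨f M, fun n => ?_⟩
    rcases le_total n M with h | h
    · exact hf h
    · have := hf h
      rw [SModEq.sub_mem, hbot, Submodule.mem_bot, sub_eq_zero] at this
      rw [this]

omit hp in
lemma isAdicComplete_span_p (hpn : IsNilpotent (p : S)) :
    IsAdicComplete (Ideal.span {(p : S)}) S := by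
  apply isAdicComplete_of_isNilpotent
  obtain ⟨M, hM⟩ := hpn
  exact ⟨M, by rw [Ideal.span_singleton_pow, hM]; simp⟩

/-- Witt vectors with nilpotent zeroth coefficient are topologically nilpotent. -/
lemma isNilpotent_truncate (hpn : IsNilpotent (p : S)) (x : 𝕎 S) (hx : IsNilpotent (x.coeff 0))
    (k : ℕ) : IsNilpotent (WittVector.truncate (p := p) k x) := by
  set t := teichmuller p (x.coeff 0) with ht
  set v := x - t with hv
  have hxv : x = t + v := by rw [hv]; ring
  have h1 : IsNilpotent (WittVector.truncate (p := p) k t) := by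
    obtain ⟨e, he⟩ := hx
    refine ⟨e, ?_⟩
    rw [← map_pow, ht, ← map_pow, he, teichmuller_zero, map_zero]
  have hvI : v ∈ RingHom.ker (constantCoeff : 𝕎 S →+* S) := by
    rw [RingHom.mem_ker, hv, map_sub]
    have : constantCoeff t = x.coeff 0 := by
      rw [ht]; exact teichmuller_coeff_zero p _
    rw [this]
    exact sub_self _
  have h2 : IsNilpotent (WittVector.truncate (p := p) k v) := by
    obtain ⟨M, hM⟩ := hpn
    refine ⟨M * k + 1, ?_⟩
    rw [← map_pow]
    obtain ⟨w, -, hw⟩ := WittComplete.exists_of_mem_I_pow (M * k) _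
      (Ideal.pow_mem_pow hvI (M * k + 1))
    obtain ⟨y, hy⟩ := WittComplete.pow_mul_eq_iterV (p := p) M hM k w
    rw [hw, hy, ← RingHom.mem_ker, mem_ker_truncate]
    intro i hi
    exact iterate_verschiebung_coeff_eq_zero y hi
  rw [hxv, map_add]
  exact (Commute.all _ _).isNilpotent_add h1 h2

section matrix

variable {n : ℕ}

omit hp in
/-- A square matrix over a commutative ring with nilpotent entries is nilpotent. -/
lemma isNilpotent_of_entries {B : Type*} [CommRing B] (N : Matrix (Fin n) (Fin n) B)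
    (h : ∀ s t, IsNilpotent (N s t)) : IsNilpotent N := by
  set Z : Ideal B := Ideal.span (Set.range fun st : Fin n × Fin n => N st.1 st.2) with hZ
  have hZfg : Z.FG := Submodule.fg_span (Set.finite_range _)
  have hZnil : Z ≤ nilradical B := by
    rw [hZ, Ideal.span_le]
    rintro _ ⟨st, rfl⟩
    exact h st.1 st.2
  obtain ⟨m, hm⟩ := (Ideal.FG.isNilpotent_iff_le_nilradical hZfg).2 hZnil
  have hmem : ∀ m : ℕ, ∀ s t, (N ^ m) s t ∈ Z ^ m := by
    intro m
    induction m with
    | zero => intro s t; simp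
    | succ m ih =>
      intro s t
      rw [pow_succ, pow_succ, Matrix.mul_apply]
      refine Ideal.sum_mem _ fun u _ => ?_
      exact Ideal.mul_mem_mul (ih s u) (Ideal.subset_span ⟨(u, t), rfl⟩)
  refine ⟨m, ?_⟩
  ext s t
  have := hmem m s t
  rw [hm] at this
  simpa using this

/-- The truncation maps on matrices. -/
noncomputable def fk (p : ℕ) [Fact p.Prime] (S : Type*) [CommRing S] (n k : ℕ) :
    Matrix (Fin n) (Fin n) (WittVector p S) →+*
      Matrix (Fin n) (Fin n) (TruncatedWittVector p k S) :=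
  (WittVector.truncate (p := p) k).mapMatrix

lemma fk_apply (k : ℕ) (x : Matrix (Fin n) (Fin n) (𝕎 S)) (s t : Fin n) :
    fk p S n k x s t = WittVector.truncate (p := p) k (x s t) := rfl

lemma coeff_eq_of_fk_eq {k : ℕ} {x y : Matrix (Fin n) (Fin n) (𝕎 S)}
    (h : fk p S n k x = fk p S n k y) (s t : Fin n) (i : ℕ) (hi : i < k) :
    (x s t).coeff i = (y s t).coeff i := by
  have h1 : WittVector.truncate (p := p) k (x s t) = WittVector.truncate (p := p) k (y s t) := by
    rw [← fk_apply, ← fk_apply, h]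
  have h2 := congrArg (fun z => TruncatedWittVector.coeff ⟨i, hi⟩ z) h1
  simpa using h2

lemma fk_sep (x : Matrix (Fin n) (Fin n) (𝕎 S)) (h : ∀ k, fk p S n k x = 0) : x = 0 := by
  ext s t i
  have := coeff_eq_of_fk_eq (x := x) (y := 0) (by rw [h (i + 1), map_zero]) s t i
    (Nat.lt_succ_self i)
  simpa using this

lemma fk_comp (x : ℕ → Matrix (Fin n) (Fin n) (𝕎 S))
    (h : ∀ k, ∀ j, k ≤ j → fk p S n k (x j) = fk p S n k (x k)) :
    ∃ y, ∀ k, fk p S n k y = fk p S n k (x k) := by
  refine ⟨fun s t => WittVector.mk p fun i => ((x (i + 1)) s t).coeff i, fun k => ?_⟩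
  ext s t i
  rw [fk_apply, fk_apply, WittVector.coeff_truncate, WittVector.coeff_truncate,
    WittVector.coeff_mk]
  have hi : (i : ℕ) + 1 ≤ k := i.2
  exact (coeff_eq_of_fk_eq (h ((i : ℕ) + 1) k hi) s t i (Nat.lt_succ_self _)).symm

variable {R : Type*} [CommRing R] (φ : S →+* R)

/-- Idempotent matrices lift along `W(S) → W(R)` when `ker φ` is nil and `p` is nilpotent in `S`. -/
theorem exists_idem_lift (hφ : Function.Surjective φ)
    (hnil : ∀ a : S, φ a = 0 → IsNilpotent a) (hpn : IsNilpotent (p : S))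
    (M₀ : Matrix (Fin n) (Fin n) (𝕎 R)) (hM₀ : M₀ * M₀ = M₀) :
    ∃ e : Matrix (Fin n) (Fin n) (𝕎 S), e * e = e ∧
      (WittVector.map (p := p) φ).mapMatrix e = M₀ := by
  set g := (WittVector.map (p := p) φ).mapMatrix (m := Fin n) with hg
  have hsurj := WittVector.map_surjective (p := p) φ hφ
  choose lift hlift using hsurj
  set a : Matrix (Fin n) (Fin n) (𝕎 S) := fun s t => lift (M₀ s t) with ha
  have hga : g a = M₀ := by
    apply Matrix.ext
    intro s t
    rw [hg, RingHom.mapMatrix_apply, Matrix.map_apply, ha]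
    exact hlift _
  have hgε : g (a ^ 2 - a) = 0 := by
    rw [map_sub, map_pow, hga, sq, hM₀, sub_self]
  have hentry : ∀ s t, IsNilpotent (((a ^ 2 - a) s t).coeff 0) := by
    intro s t
    apply hnil
    have := congrFun (congrFun hgε s) t
    rw [hg, RingHom.mapMatrix_apply, Matrix.map_apply, Matrix.zero_apply] at this
    have h2 : ((WittVector.map φ) ((a ^ 2 - a) s t)).coeff 0 = 0 := by
      rw [this, WittVector.zero_coeff]
    rw [WittVector.map_coeff] at h2
    exact h2
  obtain ⟨e, he, hec⟩ := NewtonIdem.exists_idem (fk p S n) fk_sep fk_comp a (by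
    intro k
    apply isNilpotent_of_entries
    intro s t
    rw [fk_apply]
    exact isNilpotent_truncate hpn _ (hentry s t) k)
  refine ⟨e, he.eq, ?_⟩
  ext s t i
  obtain ⟨c, hc⟩ := hec (i + 1)
  have h1 := coeff_eq_of_fk_eq hc s t i (Nat.lt_succ_self i)
  have h2 : g (a + (a ^ 2 - a) * c) = M₀ := by
    rw [map_add, map_mul, hgε, zero_mul, add_zero, hga]
  have h3 : ((g (a + (a ^ 2 - a) * c)) s t).coeff i = φ (((a + (a ^ 2 - a) * c) s t).coeff i) := by
    rw [hg, RingHom.mapMatrix_apply, Matrix.map_apply, WittVector.map_coeff]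
  have h4 : ((g e) s t).coeff i = φ ((e s t).coeff i) := by
    rw [hg, RingHom.mapMatrix_apply, Matrix.map_apply, WittVector.map_coeff]
  rw [h4, h1, ← h3, h2]

end matrix

/-- `W(𝔞)` lies in the Jacobson radical when `𝔞` is nil and `p` is nilpotent. -/
theorem ker_map_le_jacobson {R : Type*} [CommRing R] (φ : S →+* R)
    (hnil : ∀ a : S, φ a = 0 → IsNilpotent a) (hpn : IsNilpotent (p : S)) :
    RingHom.ker (WittVector.map (p := p) φ) ≤ Ideal.jacobson ⊥ := by
  intro x hx
  have := isAdicComplete_span_p (p := p) hpn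
  have : IsAdicComplete (RingHom.ker (constantCoeff : 𝕎 S →+* S)) (𝕎 S) :=
    WittComplete.isAdicComplete_I
  have hI := IsAdicComplete.le_jacobson_bot (RingHom.ker (constantCoeff : 𝕎 S →+* S))
  have hx0 : IsNilpotent (x.coeff 0) := by
    apply hnil
    rw [RingHom.mem_ker] at hx
    have := congrArg (fun z : 𝕎 R => z.coeff 0) hx
    simpa [WittVector.map_coeff] using this
  set t := teichmuller p (x.coeff 0) with ht
  have h1 : t ∈ Ideal.jacobson (⊥ : Ideal (𝕎 S)) := by
    apply Ideal.radical_le_jacobson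
    obtain ⟨e, he⟩ := hx0
    refine ⟨e, ?_⟩
    rw [ht, ← map_pow, he, teichmuller_zero]
    exact Ideal.zero_mem _
  have h2 : x - t ∈ Ideal.jacobson (⊥ : Ideal (𝕎 S)) := by
    apply hI
    rw [RingHom.mem_ker, map_sub]
    have : constantCoeff t = x.coeff 0 := by
      rw [ht]; exact teichmuller_coeff_zero p _
    rw [this]
    exact sub_self _
  have : x = t + (x - t) := by ring
  rw [this]
  exact add_mem h1 h2

end Groth.Agent.H74.WittIdemLift
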