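import Mathlib
import Groth.Agent.H74.WittComplete
import Groth.Agent.H74.WittIdemLift
import Groth.Agent.H74.ProjLiftSurj
import Groth.Agent.H74.QuotProj
import Groth.Agent.H74.NormalDecomp

/-!
# Finite projective `W(R)`-modules via their truncations (helper74, for S14860)
-/

set_option autoImplicit false

namespace Groth.Agent.H74.WittProjTrunc

open WittVector

variable {p : ℕ} [hp : Fact p.Prime] {R : Type*} [CommRing R]

local notation "𝕎" => WittVector p

variable (p R) in
/-- The kernel of the `n`-th truncation. -/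
noncomputable abbrev In (n : ℕ) : Ideal (WittVector p R) :=
  RingHom.ker (WittVector.truncate (p := p) (R := R) n)

lemma sub_mem_In_iff {n : ℕ} {x y : 𝕎 R} :
    x - y ∈ In p R n ↔ ∀ j < n, x.coeff j = y.coeff j := by
  rw [RingHom.mem_ker, map_sub, sub_eq_zero, TruncatedWittVector.ext_iff]
  constructor
  · intro h j hj
    simpa using h ⟨j, hj⟩
  · intro h j
    simpa using h j j.2

lemma In_zero : In p R 0 = ⊤ := by
  rw [eq_top_iff]
  intro x _
  rw [mem_ker_truncate]
  intro i hi
  omega

lemma In_one : In p R 1 = RingHom.ker (constantCoeff : 𝕎 R →+* R) := by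
  ext x
  rw [mem_ker_truncate, WittComplete.mem_I_iff]
  constructor
  · intro h; exact h 0 Nat.one_pos
  · intro h i hi
    have : i = 0 := by omega
    subst this; exact h

lemma In_anti {m n : ℕ} (h : m ≤ n) : In p R n ≤ In p R m := by
  intro x hx
  rw [mem_ker_truncate] at hx ⊢
  intro i hi
  exact hx i (lt_of_lt_of_le hi h)

lemma iterV_mem_In (n : ℕ) (y : 𝕎 R) : (verschiebung^[n]) y ∈ In p R n := by
  rw [mem_ker_truncate]
  intro i hi
  exact iterate_verschiebung_coeff_eq_zero y hi

lemma exists_pow_le (hpn : IsNilpotent (p : R)) (n : ℕ) : ∃ m, (In p R 1) ^ m ≤ In p R n := by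
  obtain ⟨M, hM⟩ := hpn
  refine ⟨M * n + 1, ?_⟩
  intro z hz
  rw [In_one] at hz
  obtain ⟨w, -, rfl⟩ := WittComplete.exists_of_mem_I_pow (M * n) z hz
  obtain ⟨y, hy⟩ := WittComplete.pow_mul_eq_iterV (p := p) M hM n w
  rw [hy]
  exact iterV_mem_In n y

lemma In_mul_pow_le {M : ℕ} (hM : (p : R) ^ M = 0) (n : ℕ) :
    In p R n * (In p R 1) ^ (M + 1) ≤ In p R (n + 1) := by
  rw [Ideal.mul_le]
  intro z hz u hu
  rw [In_one] at hu
  obtain ⟨w, -, rfl⟩ := WittComplete.exists_of_mem_I_pow M u hu
  rw [mem_ker_truncate] at hz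
  have hz' := eq_iterate_verschiebung hz
  rw [hz', iterate_verschiebung_mul_left]
  have h1 : (frobenius^[n]) ((p : 𝕎 R) ^ M * w) = (p : 𝕎 R) ^ M * (frobenius^[n]) w := by
    induction n with
    | zero => rfl
    | succ n ih =>
      rw [Function.iterate_succ_apply', Function.iterate_succ_apply']
      have : (frobenius^[n]) ((p : 𝕎 R) ^ M * w) = (p : 𝕎 R) ^ M * (frobenius^[n]) w := by
        clear ih hz hz'
        induction n with
        | zero => rfl
        | succ n ih => rw [Function.iterate_succ_apply', Function.iterate_succ_apply', ih,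
            map_mul, map_pow, map_natCast]
      rw [this, map_mul, map_pow, map_natCast]
  rw [h1, ← mul_assoc, mul_comm (z.shift n), mul_assoc]
  have h0 : ((p : 𝕎 R) ^ M * (z.shift n * (frobenius^[n]) w)).coeff 0 = 0 := by
    rw [WittComplete.coeff_zero_natCast_pow_mul, hM, zero_mul]
  obtain ⟨y, hy⟩ := WittComplete.eq_verschiebung_of_coeff_zero h0
  rw [hy, ← Function.iterate_succ_apply]
  exact iterV_mem_In (n + 1) y

/-! ### Separatedness of finite projective modules -/

theorem iInf_smul_top_eq_bot (P : Type*) [AddCommGroup P] [Module (𝕎 R) P]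
    [Module.Finite (𝕎 R) P] [Module.Projective (𝕎 R) P] :
    (⨅ n : ℕ, (In p R n • (⊤ : Submodule (𝕎 R) P))) = ⊥ := by
  obtain ⟨r, q, hq⟩ := Module.Finite.exists_fin' (𝕎 R) P
  obtain ⟨s, hs⟩ := Module.projective_lifting_property q LinearMap.id hq
  have hqs : ∀ y, q (s y) = y := fun y => LinearMap.congr_fun hs y
  rw [eq_bot_iff]
  intro x hx
  rw [Submodule.mem_iInf] at hx
  rw [Submodule.mem_bot, ← hqs x]
  have : s x = 0 := by
    ext i : 1
    have h1 : ∀ n, (s x) i ∈ In p R n := by
      intro n
      have := NormalDecomp.map_mem_smul_top (In p R n)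
        ((LinearMap.proj i : (Fin r → 𝕎 R) →ₗ[𝕎 R] 𝕎 R) ∘ₗ s) (hx n)
      rw [smul_eq_mul, Ideal.mul_top] at this
      exact this
    have h2 : (s x) i ∈ ⨅ n : ℕ, In p R n := by
      rw [Submodule.mem_iInf]; exact h1
    rw [TruncatedWittVector.iInf_ker_truncate] at h2
    exact h2
  rw [this, map_zero]

/-! ### Modules `Pe e` -/

section Pe

open ProjLiftSurj

variable {A : Type*} [CommRing A] {r : ℕ} {e : Matrix (Fin r) (Fin r) A}

lemma coord_mem_of_mem_smul_top (I : Ideal A) {y : Pe e}
    (hy : y ∈ I • (⊤ : Submodule A (Pe e))) (i : Fin r) : (y : Fin r → A) i ∈ I := by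
  have := NormalDecomp.map_mem_smul_top I
    ((LinearMap.proj i : (Fin r → A) →ₗ[A] A) ∘ₗ (Pe e).subtype) hy
  rw [smul_eq_mul, Ideal.mul_top] at this
  exact this

lemma mem_smul_top_of_coord_mem (he : e * e = e) (I : Ideal A) {y : Pe e}
    (hy : ∀ i, (y : Fin r → A) i ∈ I) : y ∈ I • (⊤ : Submodule A (Pe e)) := by
  have hself := mulVec_eq_self he y.2
  have h3 : y = ∑ i, ((y : Fin r → A) i) •
      (⟨e.mulVec (Pi.single i 1), ⟨Pi.single i 1, rfl⟩⟩ : Pe e) := by
    apply Subtype.ext
    rw [Submodule.coe_sum]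
    simp only [Submodule.coe_smul]
    conv_lhs => rw [← hself, pi_eq_sum_univ' (y : Fin r → A)]
    rw [Matrix.mulVec_sum]
    refine Finset.sum_congr rfl fun i _ => ?_
    rw [Matrix.mulVec_smul]
  rw [h3]
  exact Submodule.sum_mem _ fun i _ => Submodule.smul_mem_smul (hy i) Submodule.mem_top

end Pe

/-! ### Completeness of `Pe e` for the filtration `In n` -/

section complete

open ProjLiftSurj

variable {r : ℕ} {e : Matrix (Fin r) (Fin r) (WittVector p R)}

theorem exists_limit (he : e * e = e) (q : ℕ → Pe e)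
    (hq : ∀ n : ℕ, (q (n + 1) - q n : Pe e) ∈ In p R n • (⊤ : Submodule (𝕎 R) (Pe e))) :
    ∃ q' : Pe e, ∀ n : ℕ, (q' - q n : Pe e) ∈ In p R n • (⊤ : Submodule (𝕎 R) (Pe e)) := by
  -- coordinates stabilise
  have hstab : ∀ n m, n ≤ m → ∀ i j, j < n →
      ((q m : Fin r → 𝕎 R) i).coeff j = ((q n : Fin r → 𝕎 R) i).coeff j := by
    intro n m hnm
    induction m, hnm using Nat.le_induction with
    | base => intros; rfl
    | succ m hnm ih =>
      intro i j hj
      rw [← ih i j hj]
      have h1 := coord_mem_of_mem_smul_top _ (hq m) i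
      have h2 : ((q (m + 1) - q m : Pe e) : Fin r → 𝕎 R) i =
          (q (m + 1) : Fin r → 𝕎 R) i - (q m : Fin r → 𝕎 R) i := rfl
      rw [h2] at h1
      exact sub_mem_In_iff.1 h1 j (lt_of_lt_of_le hj hnm)
  set v : Fin r → 𝕎 R := fun i =>
    WittVector.mk p fun j => ((q (j + 1) : Fin r → 𝕎 R) i).coeff j with hv
  have hvn : ∀ n i, v i - (q n : Fin r → 𝕎 R) i ∈ In p R n := by
    intro n i
    rw [sub_mem_In_iff]
    intro j hj
    rw [hv]
    simp only [WittVector.coeff_mk]
    exact (hstab (j + 1) n hj i j (Nat.lt_succ_self j)).symm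
  have hev : e.mulVec v = v := by
    have : e.mulVec v - v = 0 := by
      ext i : 1
      have h1 : ∀ n, (e.mulVec v - v) i ∈ In p R n := by
        intro n
        have hself := mulVec_eq_self he (q n).2
        have h2 : (e.mulVec v - v) i =
            (e.mulVec (v - (q n : Fin r → 𝕎 R))) i - (v - (q n : Fin r → 𝕎 R)) i := by
          rw [Matrix.mulVec_sub, hself]
          simp only [Pi.sub_apply]
          ring
        rw [h2]
        refine sub_mem ?_ (hvn n i)
        rw [Matrix.mulVec, dotProduct]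
        exact Ideal.sum_mem _ fun k _ => Ideal.mul_mem_left _ _ (hvn n k)
      have h2 : (e.mulVec v - v) i ∈ ⨅ n : ℕ, In p R n := by
        rw [Submodule.mem_iInf]; exact h1
      rw [TruncatedWittVector.iInf_ker_truncate] at h2
      exact h2
    exact sub_eq_zero.1 this
  refine ⟨⟨v, ⟨v, hev⟩⟩, fun n => ?_⟩
  apply mem_smul_top_of_coord_mem he
  intro i
  exact hvn n i

end complete

/-! ### Surjectivity -/

section surj

open ProjLiftSurj

variable {r : ℕ} {e : Matrix (Fin r) (Fin r) (WittVector p R)}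
  {P : Type*} [AddCommGroup P] [Module (WittVector p R) P]

lemma top_le_range_sup_pow (f : Pe e →ₗ[WittVector p R] P)
    (h1 : (⊤ : Submodule (WittVector p R) P) ≤
      LinearMap.range f ⊔ In p R 1 • (⊤ : Submodule (WittVector p R) P)) (m : ℕ) :
    (⊤ : Submodule (WittVector p R) P) ≤
      LinearMap.range f ⊔ (In p R 1) ^ m • (⊤ : Submodule (WittVector p R) P) := by
  induction m with
  | zero => rw [pow_zero, Ideal.one_eq_top, Submodule.top_smul]; exact le_sup_right
  | succ m ih =>
    refine le_trans ih (sup_le le_sup_left ?_)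
    calc (In p R 1) ^ m • (⊤ : Submodule (WittVector p R) P)
        ≤ (In p R 1) ^ m • (LinearMap.range f ⊔
            In p R 1 • (⊤ : Submodule (WittVector p R) P)) := Submodule.smul_mono le_rfl h1
      _ = (In p R 1) ^ m • LinearMap.range f ⊔
            (In p R 1) ^ m • (In p R 1 • (⊤ : Submodule (WittVector p R) P)) :=
          Submodule.smul_sup _ _ _
      _ ≤ LinearMap.range f ⊔ (In p R 1) ^ (m + 1) • (⊤ : Submodule (WittVector p R) P) := by
          refine sup_le_sup Submodule.smul_le_right ?_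
          rw [← Submodule.mul_smul, ← pow_succ]

lemma In_smul_top_le (hpn : IsNilpotent (p : R)) (f : Pe e →ₗ[WittVector p R] P)
    (h1 : (⊤ : Submodule (WittVector p R) P) ≤
      LinearMap.range f ⊔ In p R 1 • (⊤ : Submodule (WittVector p R) P)) (n : ℕ) :
    In p R n • (⊤ : Submodule (WittVector p R) P) ≤
      Submodule.map f (In p R n • (⊤ : Submodule (WittVector p R) (Pe e))) ⊔
        In p R (n + 1) • (⊤ : Submodule (WittVector p R) P) := by
  obtain ⟨M, hM⟩ := hpn
  calc In p R n • (⊤ : Submodule (WittVector p R) P)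
      ≤ In p R n • (LinearMap.range f ⊔
          (In p R 1) ^ (M + 1) • (⊤ : Submodule (WittVector p R) P)) :=
        Submodule.smul_mono le_rfl (top_le_range_sup_pow f h1 (M + 1))
    _ = In p R n • LinearMap.range f ⊔
          In p R n • ((In p R 1) ^ (M + 1) • (⊤ : Submodule (WittVector p R) P)) :=
        Submodule.smul_sup _ _ _
    _ ≤ _ := by
        refine sup_le_sup ?_ ?_
        · rw [Submodule.map_smul'', Submodule.map_top]
        · rw [← Submodule.mul_smul]
          exact Submodule.smul_mono (In_mul_pow_le hM n) le_rfl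

theorem surjective_of (hpn : IsNilpotent (p : R)) (he : e * e = e)
    (hsep : (⨅ n : ℕ, (In p R n • (⊤ : Submodule (WittVector p R) P))) = ⊥)
    (f : Pe e →ₗ[WittVector p R] P)
    (h1 : (⊤ : Submodule (WittVector p R) P) ≤
      LinearMap.range f ⊔ In p R 1 • (⊤ : Submodule (WittVector p R) P)) :
    Function.Surjective f := by
  intro x
  -- one step of the approximation
  have hstep : ∀ (n : ℕ) (q : Pe e),
      x - f q ∈ In p R n • (⊤ : Submodule (WittVector p R) P) →
      ∃ q' : Pe e, x - f q' ∈ In p R (n + 1) • (⊤ : Submodule (WittVector p R) P) ∧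
        (q' - q : Pe e) ∈ In p R n • (⊤ : Submodule (WittVector p R) (Pe e)) := by
    intro n q hq
    have := In_smul_top_le hpn f h1 n hq
    obtain ⟨y, ⟨δ, hδ, rfl⟩, z, hz, hyz⟩ := Submodule.mem_sup.1 this
    refine ⟨q + δ, ?_, ?_⟩
    · have : x - f (q + δ) = z := by
        have e1 : z = (x - f q) - f δ := by rw [← hyz]; abel
        rw [map_add, e1]; abel
      rw [this]; exact hz
    · rw [add_sub_cancel_left]; exact hδ
  -- the sequence
  have hzero : x - f 0 ∈ In p R 0 • (⊤ : Submodule (WittVector p R) P) := by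
    rw [In_zero, Submodule.top_smul]; trivial
  let seq : ∀ n : ℕ, {q : Pe e // x - f q ∈ In p R n • (⊤ : Submodule (WittVector p R) P)} :=
    fun n => Nat.rec ⟨0, hzero⟩
      (fun n q => ⟨Classical.choose (hstep n q.1 q.2),
        (Classical.choose_spec (hstep n q.1 q.2)).1⟩) n
  have hseq : ∀ n, ((seq (n + 1)).1 - (seq n).1 : Pe e) ∈
      In p R n • (⊤ : Submodule (WittVector p R) (Pe e)) := fun n =>
    (Classical.choose_spec (hstep n (seq n).1 (seq n).2)).2
  obtain ⟨q', hq'⟩ := exists_limit he (fun n => (seq n).1) hseq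
  refine ⟨q', ?_⟩
  have : f q' - x ∈ ⨅ n : ℕ, (In p R n • (⊤ : Submodule (WittVector p R) P)) := by
    rw [Submodule.mem_iInf]
    intro n
    have h2 : f q' - x = f (q' - (seq n).1) - (x - f (seq n).1) := by
      rw [map_sub]; abel
    rw [h2]
    exact sub_mem (NormalDecomp.map_mem_smul_top _ f (hq' n)) (seq n).2
  rw [hsep, Submodule.mem_bot, sub_eq_zero] at this
  exact this

end surj

/-! ### Injectivity -/

section inj

open ProjLiftSurj

variable {r : ℕ} {e : Matrix (Fin r) (Fin r) (WittVector p R)}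
  {P : Type*} [AddCommGroup P] [Module (WittVector p R) P]

theorem injective_of (hpn : IsNilpotent (p : R)) (he : e * e = e)
    (f : Pe e →ₗ[WittVector p R] P) (hf : Function.Surjective f)
    (hK : LinearMap.ker f ≤ In p R 1 • (⊤ : Submodule (WittVector p R) (Pe e)))
    (hproj : ∀ n : ℕ, Module.Projective (WittVector p R ⧸ In p R n)
      (P ⧸ (In p R n • ⊤ : Submodule (WittVector p R) P))) :
    Function.Injective f := by
  have := projective_Pe he
  rw [← LinearMap.ker_eq_bot, eq_bot_iff]
  intro x hx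
  rw [← iInf_smul_top_eq_bot (p := p) (R := R) (Pe e), Submodule.mem_iInf]
  intro n
  have := hproj n
  set fn := QuotProj.mapQ (In p R n) f with hfn
  have hfn_surj : Function.Surjective fn := by
    intro y
    induction y using Submodule.Quotient.induction_on with
    | _ z =>
      obtain ⟨w, rfl⟩ := hf z
      exact ⟨Submodule.Quotient.mk w, rfl⟩
  obtain ⟨σ, hσ⟩ := Module.projective_lifting_property fn LinearMap.id hfn_surj
  have hσ' : ∀ y, fn (σ y) = y := fun y => LinearMap.congr_fun hσ y
  set fnW := fn.restrictScalars (WittVector p R) with hfnW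
  set σW := σ.restrictScalars (WittVector p R) with hσW
  set rr : (Pe e ⧸ (In p R n • ⊤ : Submodule (WittVector p R) (Pe e))) →ₗ[WittVector p R]
      (Pe e ⧸ (In p R n • ⊤ : Submodule (WittVector p R) (Pe e))) :=
    LinearMap.id - σW ∘ₗ fnW with hrr
  have hra : ∀ y, fnW (rr y) = 0 := by
    intro y
    rw [hrr, LinearMap.sub_apply, LinearMap.id_apply, LinearMap.comp_apply, map_sub]
    change fn y - fn (σ (fn y)) = 0
    rw [hσ', sub_self]
  have hrb : ∀ y, fnW y = 0 → rr y = y := by
    intro y hy
    rw [hrr, LinearMap.sub_apply, LinearMap.id_apply, LinearMap.comp_apply, hy, map_zero,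
      sub_zero]
  have hrange : LinearMap.range rr ≤ LinearMap.ker fnW := by
    rintro _ ⟨y, rfl⟩
    exact hra y
  -- (c)
  have hKn1 : LinearMap.ker fnW ≤ In p R 1 • ⊤ := by
    intro y hy
    rw [LinearMap.mem_ker] at hy
    induction y using Submodule.Quotient.induction_on with
    | _ x' =>
      have h1 : f x' ∈ (In p R n • ⊤ : Submodule (WittVector p R) P) := by
        have : (Submodule.Quotient.mk (f x') : P ⧸ (In p R n • ⊤ : Submodule _ P)) = 0 := hy
        exact (Submodule.Quotient.mk_eq_zero _).1 this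
      have h2 : (In p R n • ⊤ : Submodule (WittVector p R) P) =
          Submodule.map f (In p R n • ⊤) := by
        rw [Submodule.map_smul'', Submodule.map_top, LinearMap.range_eq_top.2 hf]
      rw [h2] at h1
      obtain ⟨z, hz, hzx⟩ := h1
      have h3 : x' - z ∈ In p R 1 • (⊤ : Submodule (WittVector p R) (Pe e)) := by
        apply hK
        rw [LinearMap.mem_ker, map_sub, hzx, sub_self]
      have h4 : (Submodule.Quotient.mk x' :
          Pe e ⧸ (In p R n • ⊤ : Submodule (WittVector p R) (Pe e))) =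
          (In p R n • ⊤ : Submodule (WittVector p R) (Pe e)).mkQ (x' - z) := by
        rw [map_sub, Submodule.mkQ_apply, Submodule.mkQ_apply,
          (Submodule.Quotient.mk_eq_zero _).2 hz, sub_zero]
      rw [h4]
      exact NormalDecomp.map_mem_smul_top _ _ h3
  -- (d)
  have hpow : ∀ j : ℕ, LinearMap.ker fnW ≤ (In p R 1) ^ j • ⊤ := by
    intro j
    induction j with
    | zero => rw [pow_zero, Ideal.one_eq_top, Submodule.top_smul]; exact le_top
    | succ j ih =>
      intro y hy
      have h1 : rr y = y := hrb y hy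
      have h2 : rr y ∈ Submodule.map rr ((In p R 1) ^ j • ⊤) := ⟨y, ih hy, rfl⟩
      rw [Submodule.map_smul'', Submodule.map_top, h1] at h2
      have h3 : (In p R 1) ^ j • LinearMap.range rr ≤ (In p R 1) ^ (j + 1) • ⊤ := by
        calc (In p R 1) ^ j • LinearMap.range rr
            ≤ (In p R 1) ^ j • (In p R 1 • ⊤) :=
              Submodule.smul_mono le_rfl (le_trans hrange hKn1)
          _ = (In p R 1) ^ (j + 1) • ⊤ := by rw [← Submodule.mul_smul, ← pow_succ]
      exact h3 h2
  obtain ⟨m, hm⟩ := exists_pow_le hpn n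
  have hbot : LinearMap.ker fnW = ⊥ := by
    rw [eq_bot_iff]
    refine le_trans (hpow m) (le_trans (Submodule.smul_mono hm le_rfl) ?_)
    rw [QuotProj.smul_top_quot_eq_bot]
  have hx' : (Submodule.Quotient.mk x :
      Pe e ⧸ (In p R n • ⊤ : Submodule (WittVector p R) (Pe e))) ∈ LinearMap.ker fnW := by
    rw [LinearMap.mem_ker]
    change fn (Submodule.Quotient.mk x) = 0
    rw [hfn, QuotProj.mapQ_mk, (LinearMap.mem_ker).1 hx]
    rfl
  rw [hbot, Submodule.mem_bot] at hx'
  exact (Submodule.Quotient.mk_eq_zero _).1 hx'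

end inj

/-! ### Main theorem -/

section main

open ProjLiftSurj

theorem finite_projective_of_truncations (hpn : IsNilpotent (p : R))
    (P : Type*) [AddCommGroup P] [Module (WittVector p R) P]
    (hsep : (⨅ n : ℕ, (In p R n • (⊤ : Submodule (WittVector p R) P))) = ⊥)
    (hfp : ∀ n : ℕ, Module.Finite (WittVector p R ⧸ In p R n)
        (P ⧸ (In p R n • ⊤ : Submodule (WittVector p R) P)) ∧
      Module.Projective (WittVector p R ⧸ In p R n)
        (P ⧸ (In p R n • ⊤ : Submodule (WittVector p R) P))) :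
    Module.Finite (WittVector p R) P ∧ Module.Projective (WittVector p R) P := by
  set ψ := Ideal.Quotient.mk (In p R 1) with hψ
  have := (hfp 1).1
  have := (hfp 1).2
  obtain ⟨r, q, hq⟩ := Module.Finite.exists_fin' (WittVector p R ⧸ In p R 1)
    (P ⧸ (In p R 1 • ⊤ : Submodule (WittVector p R) P))
  obtain ⟨s, hs⟩ := Module.projective_lifting_property q LinearMap.id hq
  have hqs : ∀ y, q (s y) = y := fun y => LinearMap.congr_fun hs y
  set M₀ := LinearMap.toMatrix' (s ∘ₗ q) with hM₀def
  have hM₀ : ∀ v, M₀.mulVec v = s (q v) := by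
    intro v
    rw [hM₀def, ← Matrix.toLin'_apply, Matrix.toLin'_toMatrix']
    rfl
  have hM₀idem : M₀ * M₀ = M₀ := by
    rw [hM₀def, ← LinearMap.toMatrix'_comp]
    congr 1
    apply LinearMap.ext
    intro v
    change s (q (s (q v))) = s (q v)
    rw [hqs]
  -- lift the entries
  have hψsurj : Function.Surjective ψ := Ideal.Quotient.mk_surjective
  choose lift hlift using hψsurj
  set a : Matrix (Fin r) (Fin r) (WittVector p R) := fun i j => lift (M₀ i j) with ha
  have hga : ψ.mapMatrix a = M₀ := by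
    apply Matrix.ext
    intro i j
    rw [RingHom.mapMatrix_apply, Matrix.map_apply, ha]
    exact hlift _
  have hgε : ψ.mapMatrix (a ^ 2 - a) = 0 := by
    rw [map_sub, map_pow, hga, sq, hM₀idem, sub_self]
  have hentry : ∀ i j, IsNilpotent (((a ^ 2 - a) i j).coeff 0) := by
    intro i j
    have := congrFun (congrFun hgε i) j
    rw [RingHom.mapMatrix_apply, Matrix.map_apply, Matrix.zero_apply, hψ,
      Ideal.Quotient.eq_zero_iff_mem, In_one, WittComplete.mem_I_iff] at this
    rw [this]
    exact IsNilpotent.zero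
  obtain ⟨e, he, hec⟩ := NewtonIdem.exists_idem (WittIdemLift.fk p R r)
    WittIdemLift.fk_sep WittIdemLift.fk_comp a (by
      intro k
      apply WittIdemLift.isNilpotent_of_entries
      intro i j
      rw [WittIdemLift.fk_apply]
      exact WittIdemLift.isNilpotent_truncate hpn _ (hentry i j) k)
  have he' : e * e = e := he.eq
  have heM : ψ.mapMatrix e = M₀ := by
    obtain ⟨c, hc⟩ := hec 1
    have h2 : ψ.mapMatrix (a + (a ^ 2 - a) * c) = M₀ := by
      rw [map_add, map_mul, hgε, zero_mul, add_zero, hga]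
    rw [← h2]
    apply Matrix.ext
    intro i j
    rw [RingHom.mapMatrix_apply, Matrix.map_apply, RingHom.mapMatrix_apply, Matrix.map_apply,
      hψ, Ideal.Quotient.eq, RingHom.mem_ker, map_sub, sub_eq_zero, ← WittIdemLift.fk_apply,
      ← WittIdemLift.fk_apply, hc]
  -- the module `Q` and the map `f`
  have := projective_Pe he'
  set π := piMap ψ q e with hπ
  have hπsurj : Function.Surjective π := piMap_surjective Ideal.Quotient.mk_surjective hqs heM hM₀
  have hπker : LinearMap.ker π = In p R 1 • (⊤ : Submodule (WittVector p R) (Pe e)) := by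
    rw [hπ, ker_piMap he' heM hM₀, hψ, Ideal.mk_ker]
  let g : Pe e →ₗ[WittVector p R] (P ⧸ (In p R 1 • ⊤ : Submodule (WittVector p R) P)) :=
    { toFun := π
      map_add' := map_add π
      map_smul' := fun w x => by
        rw [LinearMap.map_smulₛₗ, RingHom.id_apply]
        exact QuotProj.mk_smul _ _ w _ }
  obtain ⟨f, hf⟩ := Module.projective_lifting_property
    (In p R 1 • ⊤ : Submodule (WittVector p R) P).mkQ g (Submodule.mkQ_surjective _)
  have hfπ : ∀ x, (In p R 1 • ⊤ : Submodule (WittVector p R) P).mkQ (f x) = π x :=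
    fun x => LinearMap.congr_fun hf x
  have h1 : (⊤ : Submodule (WittVector p R) P) ≤
      LinearMap.range f ⊔ In p R 1 • (⊤ : Submodule (WittVector p R) P) := by
    intro x _
    obtain ⟨y, hy⟩ := hπsurj ((In p R 1 • ⊤ : Submodule (WittVector p R) P).mkQ x)
    have h2 : x - f y ∈ (In p R 1 • ⊤ : Submodule (WittVector p R) P) := by
      rw [← Submodule.Quotient.mk_eq_zero, ← Submodule.mkQ_apply, map_sub, hfπ, hy, sub_self]
    have h3 : x = f y + (x - f y) := by abel
    rw [h3]
    exact Submodule.add_mem_sup ⟨y, rfl⟩ h2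
  have hsurj := surjective_of hpn he' hsep f h1
  have hK : LinearMap.ker f ≤ In p R 1 • (⊤ : Submodule (WittVector p R) (Pe e)) := by
    intro x hx
    rw [← hπker, LinearMap.mem_ker, ← hfπ, (LinearMap.mem_ker).1 hx, map_zero]
  have hinj := injective_of hpn he' f hsurj hK (fun n => (hfp n).2)
  set eqv := LinearEquiv.ofBijective f ⟨hinj, hsurj⟩
  exact ⟨Module.Finite.equiv eqv, Module.Projective.of_equiv eqv⟩

end main

end Groth.Agent.H74.WittProjTrunc
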