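import Groth.Agent.H74.DispVSharp
import Groth.Agent.H74.WittProjTrunc
import Mathlib

/-!
# Iterates of twisted-linear maps `P → A ⊗_{g,A} P` and the composition law for `Dieu.vSharpPow`
-/

set_option autoImplicit false
set_option linter.style.haveILetI false

open TensorProduct

namespace Groth.Agent.H74.DispIter

universe u v

section General

variable {A : Type u} [CommRing A] {P : Type v} [AddCommGroup P] [Module A P]

/-- The extension `T^h : BC h P → BC (h ∘ g) P`, `u ⊗ x ↦ u • push_h (T x)`, of `T : P → BC g P`. -/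
noncomputable def ext {g : A →+* A} (h : A →+* A) (T : P →ₗ[A] Dieu.BC g P) :
    Dieu.BC h P →ₗ[A] Dieu.BC (h.comp g) P :=
  (Dieu.BC.lift h (Dieu.BC.push g h)).comp (Dieu.BC.map h T)

theorem ext_tmul {g : A →+* A} (h : A →+* A) (T : P →ₗ[A] Dieu.BC g P) (u : A) (x : P) :
    ext h T (Dieu.BC.tmul h u x) = u • Dieu.BC.push g h (T x) := by
  rw [ext, LinearMap.comp_apply, Dieu.BC.map_tmul, Dieu.BC.lift_tmul]

theorem castHom_castHom {g g' g'' : A →+* A} (e : g = g') (e' : g' = g'') (z : Dieu.BC g P) :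
    Dieu.BC.castHom e' (Dieu.BC.castHom e z) = Dieu.BC.castHom (e.trans e') z := by
  subst e; subst e'; rfl

theorem castHom_rfl {g : A →+* A} (z : Dieu.BC g P) : Dieu.BC.castHom (rfl : g = g) z = z := rfl

theorem ext_castHom {g g' : A →+* A} (e : g = g') (h : A →+* A) (T : P →ₗ[A] Dieu.BC g P)
    (z : Dieu.BC h P) :
    ext h ((Dieu.BC.castHom e).comp T) z =
      Dieu.BC.castHom (congrArg (fun f => h.comp f) e) (ext h T z) := by
  subst e; rfl

theorem push_push {g : A →+* A} (h k : A →+* A) (z : Dieu.BC g P) :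
    Dieu.BC.push (h.comp g) k (Dieu.BC.push g h z) =
      Dieu.BC.castHom (RingHom.comp_assoc g h k) (Dieu.BC.push g (k.comp h) z) := by
  induction z using Dieu.BC.induction_on g with
  | zero => simp only [map_zero]
  | tmul b x =>
    rw [Dieu.BC.push_tmul, Dieu.BC.push_tmul, Dieu.BC.push_tmul, Dieu.BC.castHom_tmul]
    rfl
  | add z₁ z₂ h₁ h₂ => simp only [map_add, h₁, h₂]

/-- Associativity of the extension. -/
theorem ext_ext {g : A →+* A} (h k : A →+* A) (T : P →ₗ[A] Dieu.BC g P)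
    (U : P →ₗ[A] Dieu.BC h P) (z : Dieu.BC k P) :
    ext k ((ext h T).comp U) z =
      Dieu.BC.castHom (RingHom.comp_assoc g h k) (ext (k.comp h) T (ext k U z)) := by
  have key : ∀ y : Dieu.BC h P, Dieu.BC.push (h.comp g) k (ext h T y) =
      Dieu.BC.castHom (RingHom.comp_assoc g h k) (ext (k.comp h) T (Dieu.BC.push h k y)) := by
    intro y
    induction y using Dieu.BC.induction_on h with
    | zero => simp only [map_zero]
    | tmul u x =>
      rw [ext_tmul, map_smulₛₗ, push_push, Dieu.BC.push_tmul, ext_tmul, map_smul]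
    | add z₁ z₂ h₁ h₂ => simp only [map_add, h₁, h₂]
  induction z using Dieu.BC.induction_on k with
  | zero => simp only [map_zero]
  | tmul u x =>
    rw [ext_tmul, LinearMap.comp_apply, key, ext_tmul, map_smul, map_smul]
  | add z₁ z₂ h₁ h₂ => simp only [map_add, h₁, h₂]

/-! ### Membership in `𝔞 • ⊤` -/

theorem push_mem {g : A →+* A} (h : A →+* A) (𝔞 : Ideal A) {z : Dieu.BC g P}
    (hz : z ∈ 𝔞 • (⊤ : Submodule A (Dieu.BC g P))) :
    Dieu.BC.push g h z ∈ (𝔞.map h) • (⊤ : Submodule A (Dieu.BC (h.comp g) P)) := by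
  refine Submodule.smul_induction_on hz (fun r hr y _ => ?_) (fun a b ha hb => ?_)
  · rw [map_smulₛₗ]
    exact Submodule.smul_mem_smul (Ideal.mem_map_of_mem h hr) Submodule.mem_top
  · rw [map_add]; exact add_mem ha hb

theorem ext_mem {g : A →+* A} (h : A →+* A) (T : P →ₗ[A] Dieu.BC g P) (𝔞 : Ideal A)
    (hT : ∀ x, T x ∈ 𝔞 • (⊤ : Submodule A (Dieu.BC g P))) (z : Dieu.BC h P) :
    ext h T z ∈ (𝔞.map h) • (⊤ : Submodule A (Dieu.BC (h.comp g) P)) := by
  induction z using Dieu.BC.induction_on h with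
  | zero => rw [map_zero]; exact zero_mem _
  | tmul u x =>
    rw [ext_tmul]
    exact Submodule.smul_mem _ _ (push_mem h 𝔞 (hT x))
  | add z₁ z₂ h₁ h₂ => rw [map_add]; exact add_mem h₁ h₂

theorem ext_mem_mul {g : A →+* A} (h : A →+* A) (T : P →ₗ[A] Dieu.BC g P) (𝔞 𝔟 : Ideal A)
    (hT : ∀ x, T x ∈ 𝔞 • (⊤ : Submodule A (Dieu.BC g P))) {z : Dieu.BC h P}
    (hz : z ∈ 𝔟 • (⊤ : Submodule A (Dieu.BC h P))) :
    ext h T z ∈ (𝔟 * 𝔞.map h) • (⊤ : Submodule A (Dieu.BC (h.comp g) P)) := by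
  refine Submodule.smul_induction_on hz (fun r hr y _ => ?_) (fun a b ha hb => ?_)
  · rw [map_smul, Submodule.mul_smul]
    exact Submodule.smul_mem_smul hr (ext_mem h T 𝔞 hT y)
  · rw [map_add]; exact add_mem ha hb

theorem castHom_mem {g g' : A →+* A} (e : g = g') (𝔞 : Ideal A) {z : Dieu.BC g P}
    (hz : z ∈ 𝔞 • (⊤ : Submodule A (Dieu.BC g P))) :
    Dieu.BC.castHom e z ∈ 𝔞 • (⊤ : Submodule A (Dieu.BC g' P)) :=
  Groth.Agent.H74.NormalDecomp.map_mem_smul_top 𝔞 (Dieu.BC.castHom e) hz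

/-! ### Clean iterates -/

/-- `σ^(n+1)` defined by `σ ∘ (σ ∘ ⋯)`. -/
def gpow (σ : A →+* A) : ℕ → (A →+* A)
  | 0 => σ
  | n + 1 => σ.comp (gpow σ n)

theorem gpow_eq (σ : A →+* A) (n : ℕ) : gpow σ n = σ ^ (n + 1) := by
  induction n with
  | zero => exact (pow_one σ).symm
  | succ n ih =>
    change σ.comp (gpow σ n) = _
    rw [ih]
    exact Dieu.comp_pow_eq_pow_succ σ (n + 1)

/-- The iterates `V^{(n+1)#}` with values in `BC (gpow σ n) P`. -/
noncomputable def it {σ : A →+* A} (Vs : P →ₗ[A] Dieu.BC σ P) :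
    (n : ℕ) → (P →ₗ[A] Dieu.BC (gpow σ n) P)
  | 0 => Vs
  | n + 1 => (ext σ (it Vs n)).comp Vs

/-- The composition law for the iterates. -/
theorem it_add {σ : A →+* A} (Vs : P →ₗ[A] Dieu.BC σ P) (a b : ℕ) :
    ∃ e : (gpow σ b).comp (gpow σ a) = gpow σ (a + b + 1), ∀ x : P,
      it Vs (a + b + 1) x = Dieu.BC.castHom e (ext (gpow σ b) (it Vs a) (it Vs b x)) := by
  induction b with
  | zero => exact ⟨rfl, fun x => rfl⟩
  | succ b ih =>
    obtain ⟨e, he⟩ := ih
    refine ⟨?_, fun x => ?_⟩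
    · change (σ.comp (gpow σ b)).comp (gpow σ a) = σ.comp (gpow σ (a + b + 1))
      rw [RingHom.comp_assoc, e]
    · change ext σ (it Vs (a + b + 1)) (Vs x) = _
      have h1 : it Vs (a + b + 1) =
          (Dieu.BC.castHom e).comp ((ext (gpow σ b) (it Vs a)).comp (it Vs b)) :=
        LinearMap.ext he
      rw [h1, ext_castHom, ext_ext, castHom_castHom]
      rfl

end General

section Witt

open WittVector

variable {p : ℕ} [hp : Fact p.Prime] {R : Type u} [CommRing R]
variable {P : Type v} [AddCommGroup P] [Module (WittVector p R) P]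

local notation "σ" => (WittVector.frobenius : WittVector p R →+* WittVector p R)

theorem vSharpPow_eq (Vs : P →ₗ[WittVector p R] Dieu.BC σ P) (n : ℕ) (x : P) :
    Dieu.vSharpPow Vs n x = Dieu.BC.castHom (gpow_eq σ n) (it Vs n x) := by
  induction n generalizing x with
  | zero => rfl
  | succ n ih =>
    rw [Dieu.vSharpPow_succ_apply]
    have h1 : Dieu.vSharpPow Vs n = (Dieu.BC.castHom (gpow_eq σ n)).comp (it Vs n) :=
      LinearMap.ext ih
    have h2 := ext_castHom (gpow_eq σ n) σ (it Vs n) (Vs x)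
    rw [ext, LinearMap.comp_apply] at h2
    rw [h1, h2, castHom_castHom]
    rfl

theorem it_mem_iff (Vs : P →ₗ[WittVector p R] Dieu.BC σ P) (n : ℕ) (𝔞 : Ideal (WittVector p R))
    (x : P) :
    Dieu.vSharpPow Vs n x ∈ 𝔞 • (⊤ : Submodule (WittVector p R) (Dieu.BC (σ ^ (n + 1)) P)) ↔
      it Vs n x ∈ 𝔞 • (⊤ : Submodule (WittVector p R) (Dieu.BC (gpow σ n) P)) := by
  rw [vSharpPow_eq]
  constructor
  · intro h
    have := castHom_mem (gpow_eq σ n).symm 𝔞 h
    rwa [castHom_castHom] at this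
  · intro h
    exact castHom_mem (gpow_eq σ n) 𝔞 h

/-- All iterated Frobenii map `I_R + pW` into `pW`. -/
theorem gpow_mem (n : ℕ) {a : WittVector p R}
    (ha : a ∈ W4c1extbt610.IV p R ⊔ Ideal.span {(p : WittVector p R)}) :
    gpow σ n a ∈ Ideal.span {(p : WittVector p R)} := by
  induction n with
  | zero =>
    obtain ⟨i, hi, c, hc, rfl⟩ := Submodule.mem_sup.1 ha
    obtain ⟨w, rfl⟩ := Groth.Agent.H74.DispVSharp.exists_verschiebung_of_mem_IV hi
    obtain ⟨c', rfl⟩ := Ideal.mem_span_singleton'.1 hc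
    change frobenius (verschiebung w + c' * (p : WittVector p R)) ∈ _
    rw [map_add, frobenius_verschiebung, map_mul, map_natCast]
    exact add_mem (Ideal.mul_mem_left _ _ (Ideal.mem_span_singleton_self _))
      (Ideal.mul_mem_left _ _ (Ideal.mem_span_singleton_self _))
  | succ n ih =>
    obtain ⟨c', hc'⟩ := Ideal.mem_span_singleton'.1 ih
    change frobenius (gpow σ n a) ∈ _
    rw [← hc', map_mul, map_natCast]
    exact Ideal.mul_mem_left _ _ (Ideal.mem_span_singleton_self _)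

theorem map_gpow_le (n : ℕ) :
    (W4c1extbt610.IV p R ⊔ Ideal.span {(p : WittVector p R)}).map (gpow σ n) ≤
      Ideal.span {(p : WittVector p R)} := by
  rw [Ideal.map_le_iff_le_comap]
  intro a ha
  exact gpow_mem n ha

/-- From the nilpotence condition modulo `I_R + pW` to nilpotence modulo `p^k`. -/
theorem exists_it_mem_pow (Vs : P →ₗ[WittVector p R] Dieu.BC σ P) (hnil : Dieu.IsVNilpotent Vs)
    (k : ℕ) : ∃ N : ℕ, ∀ x : P, it Vs N x ∈
      Ideal.span {(p : WittVector p R) ^ k} •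
        (⊤ : Submodule (WittVector p R) (Dieu.BC (gpow σ N) P)) := by
  obtain ⟨n₀, hn₀⟩ := hnil
  have h0 : ∀ x : P, it Vs n₀ x ∈ (W4c1extbt610.IV p R ⊔ Ideal.span {(p : WittVector p R)}) •
      (⊤ : Submodule (WittVector p R) (Dieu.BC (gpow σ n₀) P)) :=
    fun x => (it_mem_iff Vs n₀ _ x).1 (hn₀ x)
  induction k with
  | zero =>
    refine ⟨n₀, fun x => ?_⟩
    rw [pow_zero, Ideal.span_singleton_one, Submodule.top_smul]
    trivial
  | succ k ih =>
    obtain ⟨N, hN⟩ := ih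
    obtain ⟨e, he⟩ := it_add Vs n₀ N
    refine ⟨n₀ + N + 1, fun x => ?_⟩
    rw [he x]
    apply castHom_mem
    have h1 := ext_mem_mul (gpow σ N) (it Vs n₀) _ _ h0 (hN x)
    refine Submodule.smul_mono_left ?_ h1
    rw [pow_succ, ← Ideal.span_singleton_mul_span_singleton]
    exact Ideal.mul_mono_right (map_gpow_le N)

/-- Zink: the nilpotence condition implies nilpotence modulo every `I_n`. -/
theorem exists_vSharpPow_mem_ker_truncate (hpn : IsNilpotent (p : R))
    (Vs : P →ₗ[WittVector p R] Dieu.BC σ P) (hnil : Dieu.IsVNilpotent Vs) (n : ℕ) :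
    ∃ N : ℕ, ∀ x : P, Dieu.vSharpPow Vs N x ∈
      (RingHom.ker (WittVector.truncate (p := p) (R := R) n)) •
        (⊤ : Submodule (WittVector p R) (Dieu.BC (σ ^ (N + 1)) P)) := by
  obtain ⟨M, hM⟩ := hpn
  obtain ⟨N, hN⟩ := exists_it_mem_pow Vs hnil (M * n)
  refine ⟨N, fun x => ?_⟩
  rw [it_mem_iff]
  refine Submodule.smul_mono_left ?_ (hN x)
  rw [Ideal.span_le, Set.singleton_subset_iff]
  obtain ⟨y, hy⟩ := Groth.Agent.H74.WittComplete.pow_mul_eq_iterV (p := p) M hM n (1 : WittVector p R)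
  rw [mul_one] at hy
  rw [SetLike.mem_coe, hy]
  exact Groth.Agent.H74.WittProjTrunc.iterV_mem_In n y

end Witt

end Groth.Agent.H74.DispIter
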