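import Mathlib

/-!
# Fixed points of `β ↦ U β` with `U β ∘ F₁ = F₂ ∘ β` (helper74, for S14865/S14866)
-/

set_option autoImplicit false

namespace Groth.Agent.H74.FrobFix

variable {W : Type*} [CommRing W] {σ : W →+* W}
  {P₁ P₂ : Type*} [AddCommGroup P₁] [Module W P₁] [AddCommGroup P₂] [Module W P₂]
  {ι₁ : Type*}
  (b₁ c₁ : Module.Basis ι₁ W P₁)
  (F₁ : P₁ →ₛₗ[σ] P₁) (F₂ : P₂ →ₛₗ[σ] P₂)

/-- The operator `U`. -/
noncomputable def U (β : P₁ →ₗ[W] P₂) : P₁ →ₗ[W] P₂ :=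
  c₁.constr W (fun i => F₂ (β (b₁ i)))

lemma U_basis (β : P₁ →ₗ[W] P₂) (i : ι₁) : U b₁ c₁ F₂ β (c₁ i) = F₂ (β (b₁ i)) := by
  unfold U
  rw [Module.Basis.constr_basis]

variable {b₁ c₁ F₁}

lemma U_apply_F (hc : ∀ i, c₁ i = F₁ (b₁ i)) (β : P₁ →ₗ[W] P₂) (x : P₁) :
    U b₁ c₁ F₂ β (F₁ x) = F₂ (β x) := by
  have : (U b₁ c₁ F₂ β).comp F₁ = F₂.comp β := by
    apply b₁.ext
    intro i
    rw [LinearMap.comp_apply, LinearMap.comp_apply, ← hc, U_basis]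
  exact LinearMap.congr_fun this x

lemma U_add (β β' : P₁ →ₗ[W] P₂) :
    U b₁ c₁ F₂ (β + β') = U b₁ c₁ F₂ β + U b₁ c₁ F₂ β' := by
  apply c₁.ext
  intro i
  rw [LinearMap.add_apply, U_basis, U_basis, U_basis, LinearMap.add_apply, map_add]

lemma U_zero : U b₁ c₁ F₂ (0 : P₁ →ₗ[W] P₂) = 0 := by
  apply c₁.ext
  intro i
  rw [U_basis, LinearMap.zero_apply, map_zero, LinearMap.zero_apply]

lemma U_eq_self_of_comm (hc : ∀ i, c₁ i = F₁ (b₁ i)) (β : P₁ →ₗ[W] P₂)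
    (hβ : ∀ x, F₂ (β x) = β (F₁ x)) : U b₁ c₁ F₂ β = β := by
  apply c₁.ext
  intro i
  rw [U_basis, hβ, hc]

omit [Module W P₁] in
lemma F_mem {𝔡 𝔡' : Ideal W} (h : ∀ x ∈ 𝔡, σ x ∈ 𝔡') {y : P₂}
    (hy : y ∈ 𝔡 • (⊤ : Submodule W P₂)) : F₂ y ∈ 𝔡' • (⊤ : Submodule W P₂) := by
  refine Submodule.smul_induction_on hy (fun r hr z _ => ?_) (fun a b ha hb => ?_)
  · rw [LinearMap.map_smulₛₗ]
    exact Submodule.smul_mem_smul (h r hr) Submodule.mem_top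
  · rw [map_add]; exact add_mem ha hb

lemma mem_of_basis (𝔡 : Ideal W) (γ : P₁ →ₗ[W] P₂)
    (h : ∀ i, γ (c₁ i) ∈ 𝔡 • (⊤ : Submodule W P₂)) (x : P₁) :
    γ x ∈ 𝔡 • (⊤ : Submodule W P₂) := by
  have hx : x ∈ Submodule.span W (Set.range c₁) := by rw [c₁.span_eq]; trivial
  have : Submodule.span W (Set.range c₁) ≤ (𝔡 • (⊤ : Submodule W P₂)).comap γ := by
    rw [Submodule.span_le]
    rintro _ ⟨i, rfl⟩
    exact h i
  exact this hx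

lemma U_mem {𝔡 𝔡' : Ideal W} (h : ∀ x ∈ 𝔡, σ x ∈ 𝔡') (β : P₁ →ₗ[W] P₂)
    (hβ : ∀ x, β x ∈ 𝔡 • (⊤ : Submodule W P₂)) (x : P₁) :
    U b₁ c₁ F₂ β x ∈ 𝔡' • (⊤ : Submodule W P₂) := by
  apply mem_of_basis
  intro i
  rw [U_basis]
  exact F_mem F₂ h (hβ _)

section main

variable (𝔠 : ℕ → Ideal W) (hσ : ∀ k, ∀ x ∈ 𝔠 k, σ x ∈ 𝔠 (k + 1)) (hle : ∀ k, 𝔠 k ≤ 𝔠 0)
  (m : ℕ) (hm : 𝔠 m = ⊥) (hc : ∀ i, c₁ i = F₁ (b₁ i))

include hσ in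
lemma iterate_mem (η : P₁ →ₗ[W] P₂) (hη : ∀ x, η x ∈ 𝔠 0 • (⊤ : Submodule W P₂)) (k : ℕ) :
    ∀ x, (U b₁ c₁ F₂)^[k] η x ∈ 𝔠 k • (⊤ : Submodule W P₂) := by
  induction k with
  | zero => exact hη
  | succ k ih =>
    intro x
    rw [Function.iterate_succ_apply']
    exact U_mem F₂ (hσ k) _ ih x

include hσ hm in
lemma iterate_eq_zero (η : P₁ →ₗ[W] P₂) (hη : ∀ x, η x ∈ 𝔠 0 • (⊤ : Submodule W P₂)) :
    (U b₁ c₁ F₂)^[m] η = 0 := by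
  ext x
  have := iterate_mem (b₁ := b₁) (c₁ := c₁) F₂ 𝔠 hσ η hη m x
  rw [hm, Submodule.bot_smul, Submodule.mem_bot] at this
  rw [this, LinearMap.zero_apply]

include hσ hm hc in
/-- Uniqueness. -/
theorem eq_zero_of_comm (β : P₁ →ₗ[W] P₂) (hβ : ∀ x, β x ∈ 𝔠 0 • (⊤ : Submodule W P₂))
    (hF : ∀ x, F₂ (β x) = β (F₁ x)) : β = 0 := by
  have h1 : ∀ k, (U b₁ c₁ F₂)^[k] β = β := by
    intro k
    induction k with
    | zero => rfl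
    | succ k ih => rw [Function.iterate_succ_apply', ih, U_eq_self_of_comm F₂ hc β hF]
  rw [← h1 m]
  exact iterate_eq_zero (b₁ := b₁) (c₁ := c₁) F₂ 𝔠 hσ m hm β hβ

include hσ hle hm hc in
/-- Existence. -/
theorem exists_comm (α₀ : P₁ →ₗ[W] P₂)
    (hα₀ : ∀ x, F₂ (α₀ x) - α₀ (F₁ x) ∈ 𝔠 0 • (⊤ : Submodule W P₂)) :
    ∃ α : P₁ →ₗ[W] P₂, (∀ x, α x - α₀ x ∈ 𝔠 0 • (⊤ : Submodule W P₂)) ∧
      ∀ x, F₂ (α x) = α (F₁ x) := by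
  set η : P₁ →ₗ[W] P₂ := U b₁ c₁ F₂ α₀ - α₀ with hη_def
  have hη : ∀ x, η x ∈ 𝔠 0 • (⊤ : Submodule W P₂) := by
    apply mem_of_basis
    intro i
    rw [hη_def, LinearMap.sub_apply, U_basis, hc]
    exact hα₀ _
  set Sk : ℕ → (P₁ →ₗ[W] P₂) := fun n => ∑ k ∈ Finset.range n, (U b₁ c₁ F₂)^[k] η with hS
  have hUsum : ∀ n, U b₁ c₁ F₂ (Sk n) + η = Sk (n + 1) := by
    intro n
    induction n with
    | zero => simp [hS, U_zero]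
    | succ n ih =>
      have e1 : Sk (n + 1) = Sk n + (U b₁ c₁ F₂)^[n] η := by
        simp only [hS, Finset.sum_range_succ]
      have e2 : Sk (n + 1 + 1) = Sk (n + 1) + (U b₁ c₁ F₂)^[n + 1] η := by
        simp only [hS, Finset.sum_range_succ]
      have e3 : U b₁ c₁ F₂ (Sk (n + 1)) = U b₁ c₁ F₂ (Sk n) + (U b₁ c₁ F₂)^[n + 1] η := by
        rw [e1, U_add, Function.iterate_succ_apply']
      rw [e2, e3, ← ih]
      abel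
  have hlast : Sk (m + 1) = Sk m := by
    have : Sk (m + 1) = Sk m + (U b₁ c₁ F₂)^[m] η := by
      simp only [hS, Finset.sum_range_succ]
    rw [this, iterate_eq_zero (b₁ := b₁) (c₁ := c₁) F₂ 𝔠 hσ m hm η hη, add_zero]
  have hSmem : ∀ x, Sk m x ∈ 𝔠 0 • (⊤ : Submodule W P₂) := by
    intro x
    simp only [hS, LinearMap.sum_apply]
    refine Submodule.sum_mem _ fun k _ => ?_
    exact Submodule.smul_mono (hle k) le_rfl (iterate_mem (b₁ := b₁) (c₁ := c₁) F₂ 𝔠 hσ η hη k x)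
  refine ⟨α₀ + Sk m, fun x => ?_, fun x => ?_⟩
  · rw [LinearMap.add_apply, add_sub_cancel_left]
    exact hSmem x
  · have hU : U b₁ c₁ F₂ (α₀ + Sk m) = α₀ + Sk m := by
      rw [U_add]
      have h1 : U b₁ c₁ F₂ α₀ = α₀ + η := by rw [hη_def]; abel
      rw [h1, add_assoc, add_comm η, hUsum, hlast]
    rw [← U_apply_F F₂ hc, hU]

end main

end Groth.Agent.H74.FrobFix
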