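import Mathlib
import Groth.Agent.H74.FrobFix
import Groth.Agent.H74.WittFrobNil

/-!
# Lifting Frobenius-equivariant maps (helper74, S14865/S14866)
-/

set_option autoImplicit false

namespace Groth.Agent.H74.DispLift

open Groth.Agent.H74.WittFrobNil Groth.Agent.H74.FrobFix

variable (p : ℕ) [hp : Fact p.Prime] {S R : Type*} [CommRing S] [CommRing R] (φ : S →+* R)
  (hpn : IsNilpotent (p : S)) (N : ℕ) (hN : ∀ a : S, φ a = 0 → a ^ N = 0)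

/-- The filtration of a Frobenius-stable ideal `𝔠 ≤ W(𝔞)`. -/
noncomputable def cseq (𝔠 : Ideal (WittVector p S)) (k : ℕ) : Ideal (WittVector p S) :=
  𝔠 ⊓ Wid p ((T p)^[k] (RingHom.ker φ))

variable {p φ}

lemma cseq_zero {𝔠 : Ideal (WittVector p S)} (h𝔠 : 𝔠 ≤ RingHom.ker (WittVector.map (p := p) φ)) :
    cseq p φ 𝔠 0 = 𝔠 := by
  unfold cseq
  rw [Function.iterate_zero, id_eq, ← ker_map_eq_Wid]
  exact inf_eq_left.2 h𝔠

lemma cseq_frob {𝔠 : Ideal (WittVector p S)} (h𝔠F : ∀ x ∈ 𝔠, WittVector.frobenius x ∈ 𝔠) (k : ℕ) :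
    ∀ x ∈ cseq p φ 𝔠 k, WittVector.frobenius x ∈ cseq p φ 𝔠 (k + 1) := by
  intro x hx
  refine ⟨h𝔠F x hx.1, ?_⟩
  rw [Function.iterate_succ_apply']
  exact frobenius_mem_Wid hx.2

lemma cseq_le {𝔠 : Ideal (WittVector p S)} (h𝔠 : 𝔠 ≤ RingHom.ker (WittVector.map (p := p) φ))
    (k : ℕ) : cseq p φ 𝔠 k ≤ cseq p φ 𝔠 0 := by
  rw [cseq_zero h𝔠]
  exact inf_le_left

include hpn hN in
lemma exists_cseq_eq_bot (𝔠 : Ideal (WittVector p S)) : ∃ m, cseq p φ 𝔠 m = ⊥ := by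
  obtain ⟨M, hM⟩ := hpn
  obtain ⟨m, hm⟩ := exists_iterate_T_eq_bot (p := p) (RingHom.ker φ) N
    (fun a ha => hN a ha) M hM
  refine ⟨m, ?_⟩
  unfold cseq
  rw [hm, Wid_bot, inf_bot_eq]

variable {P₁ P₂ : Type*} [AddCommGroup P₁] [Module (WittVector p S) P₁]
  [AddCommGroup P₂] [Module (WittVector p S) P₂] {ι₁ : Type*}
  (b₁ : Module.Basis ι₁ (WittVector p S) P₁)
  (F₁ : P₁ →ₛₗ[(WittVector.frobenius : WittVector p S →+* WittVector p S)] P₁)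
  (F₂ : P₂ →ₛₗ[(WittVector.frobenius : WittVector p S →+* WittVector p S)] P₂)
  (hF₁ : LinearIndependent (WittVector p S) (fun i => F₁ (b₁ i)) ∧
      Submodule.span (WittVector p S) (Set.range fun i => F₁ (b₁ i)) = ⊤)

include hpn hN hF₁ in
theorem exists_lift (𝔠 : Ideal (WittVector p S))
    (h𝔠 : 𝔠 ≤ RingHom.ker (WittVector.map (p := p) φ))
    (h𝔠F : ∀ x ∈ 𝔠, WittVector.frobenius x ∈ 𝔠)
    (α₀ : P₁ →ₗ[WittVector p S] P₂)
    (hα₀ : ∀ x : P₁, F₂ (α₀ x) - α₀ (F₁ x) ∈ 𝔠 • (⊤ : Submodule (WittVector p S) P₂)) :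
    ∃ α : P₁ →ₗ[WittVector p S] P₂,
      (∀ x : P₁, α x - α₀ x ∈ 𝔠 • (⊤ : Submodule (WittVector p S) P₂)) ∧
        ∀ x : P₁, F₂ (α x) = α (F₁ x) := by
  obtain ⟨m, hm⟩ := exists_cseq_eq_bot hpn N hN 𝔠
  set c₁ : Module.Basis ι₁ (WittVector p S) P₁ := Module.Basis.mk hF₁.1 hF₁.2.ge with hc₁
  have hc : ∀ i, c₁ i = F₁ (b₁ i) := fun i => by rw [hc₁, Module.Basis.mk_apply]
  have h0 := cseq_zero h𝔠
  have := exists_comm (b₁ := b₁) (c₁ := c₁) (F₁ := F₁) F₂ (cseq p φ 𝔠) (cseq_frob h𝔠F)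
    (cseq_le h𝔠) m hm hc α₀ (by rw [h0]; exact hα₀)
  rw [h0] at this
  exact this

include hpn hN hF₁ in
theorem unique_lift (β : P₁ →ₗ[WittVector p S] P₂)
    (hβ : ∀ x : P₁, β x ∈ RingHom.ker (WittVector.map (p := p) φ) •
      (⊤ : Submodule (WittVector p S) P₂))
    (hF : ∀ x : P₁, F₂ (β x) = β (F₁ x)) : β = 0 := by
  set J := RingHom.ker (WittVector.map (p := p) φ) with hJ
  have hJF : ∀ x ∈ J, WittVector.frobenius x ∈ J := by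
    intro x hx
    rw [hJ, ker_map_eq_Wid] at hx ⊢
    exact Wid_mono (T_le _) (frobenius_mem_Wid hx)
  obtain ⟨m, hm⟩ := exists_cseq_eq_bot hpn N hN J
  set c₁ : Module.Basis ι₁ (WittVector p S) P₁ := Module.Basis.mk hF₁.1 hF₁.2.ge with hc₁
  have hc : ∀ i, c₁ i = F₁ (b₁ i) := fun i => by rw [hc₁, Module.Basis.mk_apply]
  have h0 := cseq_zero (p := p) (φ := φ) (𝔠 := J) le_rfl
  exact eq_zero_of_comm (b₁ := b₁) (c₁ := c₁) (F₁ := F₁) F₂ (cseq p φ J) (cseq_frob hJF)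
    m hm hc β (by rw [h0]; exact hβ) hF

end Groth.Agent.H74.DispLift
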