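import Groth.Prelude.Def_Disp2
import Groth.Agent.H74.WittComplete
import Groth.Agent.H74.WittFrobNil
import Groth.Agent.H74.WittIdemLift
import Groth.Agent.H74.NormalDecomp
import Mathlib

/-!
# Scalar extension `Dieu.BC` as a base change, and ranks of Frobenius pullbacks over `W(R)`

* `isBaseChange g P` : `x ↦ 1 ⊗ x : P → Dieu.BC g P` is a base change (for the algebra structure `g.toAlgebra`).
* `finite_BC`, `projective_BC`, `rankAtStalk_BC`.
* `comap_frobenius_eq` : for `p` nilpotent in `R`, the Frobenius of `W(R)` fixes every maximal ideal.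
* `bijective_of_surjective` : a surjective `W`-linear map `BC σ M → P` with `M ≃ P` finite projective
  is bijective.
-/

set_option autoImplicit false
set_option linter.style.haveILetI false

open TensorProduct

namespace Groth.Agent.H74.DispRank

universe u v w

section BC

variable {A : Type u} {B : Type v} [CommRing A] [CommRing B] (g : A →+* B)
variable (P : Type w) [AddCommGroup P] [Module A P]

/-- The `A`-module structure on `BC g P` through `g`. -/
@[reducible] noncomputable def modA : Module A (Dieu.BC g P) := Module.compHom (Dieu.BC g P) g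

/-- `x ↦ 1 ⊗ x` as an `A`-linear map. -/
noncomputable def ιA : letI := modA g P; P →ₗ[A] Dieu.BC g P :=
  letI := modA g P
  { toFun := fun x => Dieu.BC.tmul g 1 x
    map_add' := fun x y => Dieu.BC.tmul_add g 1 x y
    map_smul' := fun a x => by
      rw [← Dieu.BC.tmul_apply_eq, Dieu.BC.tmul_eq_smul_tmul_one]; rfl }

theorem isBaseChange :
    letI := g.toAlgebra
    letI := modA g P
    letI : IsScalarTower A B (Dieu.BC g P) := ⟨fun a b z => by
      change (g a * b) • z = g a • (b • z)
      rw [mul_smul]⟩
    IsBaseChange B (ιA g P) := by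
  letI := g.toAlgebra
  letI := modA g P
  letI : IsScalarTower A B (Dieu.BC g P) := ⟨fun a b z => by
    change (g a * b) • z = g a • (b • z)
    rw [mul_smul]⟩
  refine IsBaseChange.of_lift_unique (ιA g P) ?_
  intro Q _ _ _ _ h
  letI : AddCommGroup Q := Module.addCommMonoidToAddCommGroup B
  let φ : P →ₛₗ[g] Q :=
    { toFun := fun x => h x
      map_add' := fun x y => map_add h x y
      map_smul' := fun a x => by
        rw [map_smul, ← algebraMap_smul B a (h x)]; rfl }
  refine ⟨Dieu.BC.lift g φ, ?_, ?_⟩
  · ext x
    change Dieu.BC.lift g φ (Dieu.BC.tmul g 1 x) = h x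
    rw [Dieu.BC.lift_tmul, one_smul]; rfl
  · intro g' hg'
    apply Dieu.BC.ext
    intro x
    rw [Dieu.BC.lift_tmul, one_smul]
    have := LinearMap.congr_fun hg' x
    exact this

/-- `BC g P` is `B ⊗[A] P`. -/
noncomputable def equivTensor :
    letI := g.toAlgebra
    (B ⊗[A] P) ≃ₗ[B] Dieu.BC g P :=
  letI := g.toAlgebra
  letI := modA g P
  letI : IsScalarTower A B (Dieu.BC g P) := ⟨fun a b z => by
    change (g a * b) • z = g a • (b • z)
    rw [mul_smul]⟩
  (isBaseChange g P).equiv

theorem finite_BC [Module.Finite A P] : Module.Finite B (Dieu.BC g P) := by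
  letI := g.toAlgebra
  exact Module.Finite.equiv (equivTensor g P)

theorem projective_BC [Module.Projective A P] : Module.Projective B (Dieu.BC g P) := by
  letI := g.toAlgebra
  exact Module.Projective.of_equiv (equivTensor g P)

theorem rankAtStalk_BC [Module.Finite A P] [Module.Flat A P] (q : PrimeSpectrum B) :
    Module.rankAtStalk (Dieu.BC g P) q = Module.rankAtStalk P (q.comap g) := by
  letI := g.toAlgebra
  letI := modA g P
  letI : IsScalarTower A B (Dieu.BC g P) := ⟨fun a b z => by
    change (g a * b) • z = g a • (b • z)
    rw [mul_smul]⟩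
  exact Module.rankAtStalk_isBaseChange (isBaseChange g P) q

end BC

section Witt

variable {p : ℕ} [hp : Fact p.Prime] {R : Type u} [CommRing R]

open WittVector

/-- `σ x - x ^ p` lies in `I_R + p W`. -/
theorem frobenius_sub_pow_mem (x : WittVector p R) :
    frobenius x - x ^ p ∈ W4c1extbt610.IV p R ⊔ Ideal.span {(p : WittVector p R)} := by
  have h0 : (frobenius x - x ^ p).coeff 0 ∈ Ideal.span {(p : R)} := by
    have h1 := Groth.Agent.H74.WittFrobNil.coeff_frobenius_sub_pow_mem (p := p) (⊤ : Ideal R) x
      (fun _ => Submodule.mem_top) 0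
    rw [Ideal.mul_top] at h1
    have h2 : (frobenius x - x ^ p).coeff 0 = (frobenius x).coeff 0 - x.coeff 0 ^ p := by
      have : ∀ y : WittVector p R, y.coeff 0 = constantCoeff y := fun y => rfl
      rw [this, this, this, map_sub, map_pow]
    rw [h2]; exact h1
  obtain ⟨r, hr⟩ := Ideal.mem_span_singleton'.1 h0
  have h3 : frobenius x - x ^ p - (p : WittVector p R) * teichmuller p r ∈
      W4c1extbt610.IV p R := by
    rw [Groth.Agent.H74.NormalDecomp.IV_eq_ker, RingHom.mem_ker, map_sub, map_mul, map_natCast]
    change (frobenius x - x ^ p).coeff 0 - (p : R) * (teichmuller p r).coeff 0 = 0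
    rw [teichmuller_coeff_zero, ← hr, mul_comm, sub_self]
  have h4 : (p : WittVector p R) * teichmuller p r ∈ Ideal.span {(p : WittVector p R)} :=
    Ideal.mul_mem_right _ _ (Ideal.mem_span_singleton_self _)
  have := Submodule.add_mem_sup h3 h4
  rwa [sub_add_cancel] at this

/-- For `p` nilpotent in `R`, every maximal ideal of `W(R)` contains `I_R + p W`. -/
theorem IV_sup_le_maximal (hpn : IsNilpotent (p : R)) (m : Ideal (WittVector p R)) [m.IsMaximal] :
    W4c1extbt610.IV p R ⊔ Ideal.span {(p : WittVector p R)} ≤ m := by
  have := Groth.Agent.H74.WittIdemLift.isAdicComplete_span_p (p := p) hpn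
  have hc : IsAdicComplete (RingHom.ker (constantCoeff : WittVector p R →+* R)) (WittVector p R) :=
    Groth.Agent.H74.WittComplete.isAdicComplete_I
  have hI : W4c1extbt610.IV p R ≤ m := by
    rw [Groth.Agent.H74.NormalDecomp.IV_eq_ker]
    refine le_trans (IsAdicComplete.le_jacobson_bot _) ?_
    rw [Ideal.jacobson, sInf_le_iff]
    intro b hb
    exact hb ⟨bot_le, inferInstance⟩
  refine sup_le hI ?_
  rw [Ideal.span_le, Set.singleton_subset_iff]
  obtain ⟨n, hn⟩ := hpn
  have hpn' : (p : WittVector p R) ^ n ∈ m := by
    apply hI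
    rw [Groth.Agent.H74.NormalDecomp.IV_eq_ker, RingHom.mem_ker, map_pow, map_natCast, hn]
  exact (Ideal.IsMaximal.isPrime inferInstance).mem_of_pow_mem n hpn'

/-- For `p` nilpotent in `R`, the Frobenius of `W(R)` fixes every maximal ideal. -/
theorem comap_frobenius_eq (hpn : IsNilpotent (p : R)) (m : Ideal (WittVector p R)) [m.IsMaximal] :
    m.comap (frobenius : WittVector p R →+* WittVector p R) = m := by
  have hm := IV_sup_le_maximal hpn m
  have hprime : m.IsPrime := Ideal.IsMaximal.isPrime inferInstance
  ext x
  rw [Ideal.mem_comap]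
  have hx := hm (frobenius_sub_pow_mem x)
  constructor
  · intro h
    have : x ^ p ∈ m := by
      have := m.sub_mem h hx
      rwa [sub_sub_cancel] at this
    exact hprime.mem_of_pow_mem p this
  · intro h
    have : x ^ p ∈ m := Ideal.pow_mem_of_mem m h p hp.out.pos
    have := m.add_mem hx this
    rwa [sub_add_cancel] at this

/-- A surjective linear map from a Frobenius pullback of a finite projective module `M` onto a
module isomorphic to `M` is bijective (for `p` nilpotent in `R`). -/
theorem bijective_of_surjective (hpn : IsNilpotent (p : R))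
    {M : Type v} [AddCommGroup M] [Module (WittVector p R) M] [Module.Finite (WittVector p R) M]
    [Module.Projective (WittVector p R) M]
    {N : Type w} [AddCommGroup N] [Module (WittVector p R) N] (e : M ≃ₗ[WittVector p R] N)
    (Φ : Dieu.BC (frobenius : WittVector p R →+* WittVector p R) M →ₗ[WittVector p R] N)
    (hΦ : Function.Surjective Φ) : Function.Bijective Φ := by
  haveI : Module.Finite (WittVector p R) N := Module.Finite.equiv e
  haveI : Module.Projective (WittVector p R) N := Module.Projective.of_equiv e
  haveI h1 := finite_BC (frobenius : WittVector p R →+* WittVector p R) M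
  haveI h2 := projective_BC (frobenius : WittVector p R →+* WittVector p R) M
  haveI h3 : Module.Flat (WittVector p R)
      (Dieu.BC (frobenius : WittVector p R →+* WittVector p R) M) := Module.Flat.of_projective
  haveI h4 : Module.Flat (WittVector p R) N := Module.Flat.of_projective
  haveI h5 : Module.Flat (WittVector p R) M := Module.Flat.of_projective
  have key : ∀ (m : Ideal (WittVector p R)) [m.IsMaximal],
      Module.rankAtStalk (Dieu.BC (frobenius : WittVector p R →+* WittVector p R) M)
        ⟨m, inferInstance⟩ = Module.rankAtStalk N ⟨m, inferInstance⟩ := by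
    intro m hm
    rw [rankAtStalk_BC, ← Module.rankAtStalk_eq_of_equiv e]
    congr 1
    apply PrimeSpectrum.ext
    exact comap_frobenius_eq hpn m
  exact Module.bijective_of_surjective_of_rankAtStalk_eq (R := WittVector p R) hΦ key

end Witt

end Groth.Agent.H74.DispRank
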