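import Groth.Agent.H74.DispIter
import Groth.Agent.H74.DispRank
import Mathlib

/-!
# The matrix criterion for the nilpotence condition of a display (helper74, S16546)
-/

set_option autoImplicit false
set_option linter.style.haveILetI false
set_option linter.unusedSectionVars false

open TensorProduct WittVector

namespace Groth.Agent.H74.DispMatrix

open Groth.Agent.H74.DispIter

universe u v w

/-! ### Part C: matrix algebra over `W` and `R/p` -/

section PartC

variable {p : ℕ} [hp : Fact p.Prime] {R : Type u} [CommRing R]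

local notation "σ" => (WittVector.frobenius : WittVector p R →+* WittVector p R)

/-- reduction `W → R/p` -/
noncomputable def rho : WittVector p R →+* R ⧸ Ideal.span {(p : R)} :=
  (Ideal.Quotient.mk _).comp (WittVector.constantCoeff : WittVector p R →+* R)

theorem ker_rho : RingHom.ker (rho (p := p) (R := R)) =
    W4c1extbt610.IV p R ⊔ Ideal.span {(p : WittVector p R)} := by
  apply le_antisymm
  · intro a ha
    rw [RingHom.mem_ker, rho, RingHom.comp_apply, Ideal.Quotient.eq_zero_iff_mem] at ha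
    obtain ⟨r, hr⟩ := Ideal.mem_span_singleton'.1 ha
    have h1 : a - (p : WittVector p R) * teichmuller p r ∈ W4c1extbt610.IV p R := by
      rw [Groth.Agent.H74.NormalDecomp.IV_eq_ker, RingHom.mem_ker, map_sub, map_mul, map_natCast]
      change constantCoeff a - (p : R) * (teichmuller p r).coeff 0 = 0
      rw [teichmuller_coeff_zero, ← hr, mul_comm, sub_self]
    have : a = (a - (p : WittVector p R) * teichmuller p r) +
        teichmuller p r * (p : WittVector p R) := by ring
    rw [this]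
    exact Submodule.add_mem_sup h1 (Ideal.mul_mem_left _ _ (Ideal.mem_span_singleton_self _))
  · refine sup_le ?_ ?_
    · intro a ha
      rw [Groth.Agent.H74.NormalDecomp.IV_eq_ker, RingHom.mem_ker] at ha
      rw [RingHom.mem_ker, rho, RingHom.comp_apply, ha, map_zero]
    · rw [Ideal.span_le, Set.singleton_subset_iff, SetLike.mem_coe, RingHom.mem_ker, rho,
        RingHom.comp_apply, map_natCast, Ideal.Quotient.eq_zero_iff_mem]
      exact Ideal.mem_span_singleton_self _

theorem rho_eq_zero_iff {a : WittVector p R} :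
    rho a = 0 ↔ a ∈ W4c1extbt610.IV p R ⊔ Ideal.span {(p : WittVector p R)} := by
  rw [← ker_rho, RingHom.mem_ker]

theorem rho_frobenius (a : WittVector p R) : rho (frobenius a) = rho a ^ p := by
  have := rho_eq_zero_iff.2 (Groth.Agent.H74.DispRank.frobenius_sub_pow_mem a)
  rwa [map_sub, map_pow, sub_eq_zero] at this

theorem rho_frobenius_pow (i : ℕ) (a : WittVector p R) :
    rho ((σ ^ i) a) = rho a ^ p ^ i := by
  induction i with
  | zero => simp
  | succ i ih =>
    rw [pow_succ', RingHom.mul_def, RingHom.comp_apply, rho_frobenius, ih, ← pow_mul, pow_succ]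

theorem rho_frobenius_eq_zero {a : WittVector p R} (h : rho a = 0) : rho (frobenius a) = 0 := by
  rw [rho_frobenius, h, zero_pow hp.out.ne_zero]

variable {ιT ιL : Type w} [Fintype ιT] [Fintype ιL] [DecidableEq ιT] [DecidableEq ιL]

variable (β : Matrix (ιT ⊕ ιL) (ιT ⊕ ιL) (WittVector p R))

/-- `C⁰_{i,m} = β_{i,m} ε_i` with `ε = p` on `T`-rows and `1` on `L`-rows -/
noncomputable def C0 : Matrix (ιT ⊕ ιL) (ιT ⊕ ιL) (WittVector p R) :=
  fun i m => β i m * Sum.elim (fun _ => (p : WittVector p R)) (fun _ => 1) i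

/-- the coordinate matrices of the iterates of `V^#` -/
noncomputable def Cn : ℕ → Matrix (ιT ⊕ ιL) (ιT ⊕ ιL) (WittVector p R)
  | 0 => C0 β
  | n + 1 => (Cn n).map σ * C0 β

noncomputable def XW : ℕ → Matrix ιL ιL (WittVector p R)
  | 0 => β.toBlocks₂₂
  | n + 1 => (XW n).map σ * β.toBlocks₂₂

noncomputable def YW : ℕ → Matrix ιL ιT (WittVector p R)
  | 0 => β.toBlocks₂₁
  | n + 1 => (XW β n).map σ * β.toBlocks₂₁

/-- `ρ ∘ σ^j` -/
noncomputable def rhoj (j : ℕ) : WittVector p R →+* R ⧸ Ideal.span {(p : R)} :=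
  (rho (p := p) (R := R)).comp (σ ^ j)

theorem rhoj_comp (j : ℕ) (a : WittVector p R) : rhoj j (frobenius a) = rhoj (j + 1) a := by
  rw [rhoj, rhoj, RingHom.comp_apply, RingHom.comp_apply, pow_succ, RingHom.mul_def,
    RingHom.comp_apply]

theorem rhoj_p (j : ℕ) : rhoj (p := p) (R := R) j (p : WittVector p R) = 0 := by
  rw [map_natCast, ← map_natCast (rho (p := p) (R := R)), rho_eq_zero_iff]
  exact Ideal.mem_sup_right (Ideal.mem_span_singleton_self _)

omit hp in
theorem p_eq_zero : ((p : ℕ) : R ⧸ Ideal.span {(p : R)}) = 0 := by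
  rw [← map_natCast (Ideal.Quotient.mk (Ideal.span {(p : R)})), Ideal.Quotient.eq_zero_iff_mem]
  exact Ideal.mem_span_singleton_self _

theorem C0_map (j : ℕ) :
    (C0 β).map (rhoj j) =
      Matrix.fromBlocks 0 0 (β.toBlocks₂₁.map (rhoj j)) (β.toBlocks₂₂.map (rhoj j)) := by
  ext i m
  rcases i with a | k <;> rcases m with b | l <;>
    simp [C0, Matrix.fromBlocks, Matrix.toBlocks₂₁, Matrix.toBlocks₂₂, p_eq_zero]

theorem map_map_frob {m n : Type*} (M : Matrix m n (WittVector p R)) (j : ℕ) :
    (M.map σ).map (rhoj j) = M.map (rhoj (j + 1)) := by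
  ext a b
  simp only [Matrix.map_apply]
  exact rhoj_comp j _

theorem Cn_map (n j : ℕ) :
    (Cn β n).map (rhoj j) =
      Matrix.fromBlocks 0 0 ((YW β n).map (rhoj j)) ((XW β n).map (rhoj j)) := by
  induction n generalizing j with
  | zero => exact C0_map β j
  | succ n ih =>
    change ((Cn β n).map σ * C0 β).map (rhoj j) = _
    rw [Matrix.map_mul, map_map_frob, ih (j + 1), C0_map, Matrix.fromBlocks_multiply]
    change _ = Matrix.fromBlocks 0 0 (((XW β n).map σ * β.toBlocks₂₁).map (rhoj j))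
      (((XW β n).map σ * β.toBlocks₂₂).map (rhoj j))
    rw [Matrix.map_mul, Matrix.map_mul, map_map_frob]
    simp only [Matrix.zero_mul, Matrix.mul_zero, add_zero, zero_add]

theorem rhoj_zero : rhoj (p := p) (R := R) 0 = rho := by
  ext a
  simp [rhoj]

theorem Cn_map_rho_eq_zero_iff (n : ℕ) :
    (Cn β n).map rho = 0 ↔ (YW β n).map rho = 0 ∧ (XW β n).map rho = 0 := by
  have h := Cn_map β n 0
  rw [rhoj_zero] at h
  rw [h]
  constructor
  · intro h0
    have := congrArg Matrix.toBlocks₂₁ h0
    have h2 := congrArg Matrix.toBlocks₂₂ h0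
    rw [Matrix.toBlocks_fromBlocks₂₁] at this
    rw [Matrix.toBlocks_fromBlocks₂₂] at h2
    exact ⟨this, h2⟩
  · rintro ⟨h1, h2⟩
    rw [h1, h2]
    exact Matrix.fromBlocks_zero

/-- the product over `W` whose reduction appears in the statement -/
noncomputable def ZW (N : ℕ) : Matrix ιL ιL (WittVector p R) :=
  ((List.range N).reverse.map fun i : ℕ => β.toBlocks₂₂.map ⇑(σ ^ i)).prod

theorem ZW_succ (N : ℕ) : ZW β (N + 1) = β.toBlocks₂₂.map ⇑(σ ^ N) * ZW β N := by
  unfold ZW
  rw [List.range_succ, List.reverse_append, List.reverse_singleton, List.singleton_append,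
    List.map_cons, List.prod_cons]

theorem XW_succ' (n : ℕ) : XW β (n + 1) = β.toBlocks₂₂.map ⇑(σ ^ (n + 1)) * XW β n := by
  induction n with
  | zero =>
    change (β.toBlocks₂₂).map σ * β.toBlocks₂₂ = _
    rw [pow_one]
    rfl
  | succ n ih =>
    change (XW β (n + 1)).map σ * β.toBlocks₂₂ = _
    rw [ih, Matrix.map_mul, Matrix.mul_assoc]
    congr 1
    ext a b
    simp only [Matrix.map_apply]
    rw [pow_succ' σ (n + 1), RingHom.mul_def, RingHom.comp_apply]

theorem XW_eq_ZW (n : ℕ) : XW β n = ZW β (n + 1) := by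
  induction n with
  | zero =>
    rw [ZW_succ]
    unfold ZW
    simp only [List.range_zero, List.reverse_nil, List.map_nil, List.prod_nil, mul_one, pow_zero]
    ext a b
    rfl
  | succ n ih => rw [XW_succ', ZW_succ, ih]

theorem ZW_map_rho (N : ℕ) :
    (ZW β N).map rho = ((List.range N).reverse.map fun i : ℕ =>
      (Matrix.of fun k l : ιL => Ideal.Quotient.mk (Ideal.span {(p : R)})
        (WittVector.constantCoeff (β (Sum.inr k) (Sum.inr l)))).map
          fun x : R ⧸ Ideal.span {(p : R)} => x ^ p ^ i).prod := by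
  unfold ZW
  rw [← RingHom.mapMatrix_apply, map_list_prod, List.map_map]
  congr 1
  apply List.map_congr_left
  intro i _
  ext a b
  simp only [Function.comp_apply, RingHom.mapMatrix_apply, Matrix.map_apply, Matrix.of_apply,
    Matrix.toBlocks₂₂]
  rw [rho_frobenius_pow]
  rfl

end PartC

/-! ### Part A: coordinates on `W ⊗_g P` for a free module `P` -/

section PartA

variable {A : Type u} [CommRing A] {P : Type v} [AddCommGroup P] [Module A P]
variable {ι : Type w} [Fintype ι] [DecidableEq ι] (b : Module.Basis ι A P) (g : A →+* A)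

/-- the `i`-th coordinate functional on `A ⊗_g P` -/
noncomputable def eps (i : ι) : Dieu.BC g P →ₗ[A] A :=
  Dieu.BC.lift g ((Dieu.semilinearOfRingHom g).comp (b.coord i))

theorem eps_tmul (i : ι) (c : A) (x : P) :
    eps b g i (Dieu.BC.tmul g c x) = c * g (b.repr x i) := by
  rw [eps, Dieu.BC.lift_tmul]
  rfl

theorem eps_basis (i m : ι) :
    eps b g i (Dieu.BC.tmul g 1 (b m)) = if m = i then 1 else 0 := by
  rw [eps_tmul, one_mul, Module.Basis.repr_self_apply]
  split_ifs <;> simp

theorem tmul_sum' {κ : Type*} (J : Finset κ) (c : A) (x : κ → P) :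
    Dieu.BC.tmul g c (∑ j ∈ J, x j) = ∑ j ∈ J, Dieu.BC.tmul g c (x j) := by
  classical
  induction J using Finset.induction_on with
  | empty => simp only [Finset.sum_empty, Dieu.BC.tmul_zero]
  | insert a J ha ih => rw [Finset.sum_insert ha, Finset.sum_insert ha, Dieu.BC.tmul_add, ih]

theorem expand (z : Dieu.BC g P) : z = ∑ i, eps b g i z • Dieu.BC.tmul g 1 (b i) := by
  induction z using Dieu.BC.induction_on g with
  | zero => simp only [map_zero, zero_smul, Finset.sum_const_zero]
  | tmul c x =>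
    conv_lhs => rw [← b.sum_repr x, tmul_sum']
    refine Finset.sum_congr rfl fun i _ => ?_
    rw [← Dieu.BC.tmul_mul_apply, eps_tmul, Dieu.BC.smul_tmul, mul_one]
  | add z₁ z₂ h₁ h₂ =>
    conv_lhs => rw [h₁, h₂, ← Finset.sum_add_distrib]
    refine Finset.sum_congr rfl fun i _ => ?_
    rw [map_add, add_smul]

theorem eps_sum (a : ι → A) (i : ι) :
    eps b g i (∑ m, a m • Dieu.BC.tmul g 1 (b m)) = a i := by
  rw [map_sum]
  simp only [map_smul, eps_basis, smul_eq_mul, mul_ite, mul_one, mul_zero]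
  rw [Finset.sum_ite_eq' Finset.univ i]
  simp

theorem mem_iff (𝔞 : Ideal A) (z : Dieu.BC g P) :
    z ∈ 𝔞 • (⊤ : Submodule A (Dieu.BC g P)) ↔ ∀ i, eps b g i z ∈ 𝔞 := by
  constructor
  · intro hz i
    have := Groth.Agent.H74.NormalDecomp.map_mem_smul_top 𝔞 (eps b g i) hz
    have e : 𝔞 • (⊤ : Submodule A A) = 𝔞 := by
      change 𝔞 • (⊤ : Ideal A) = 𝔞
      rw [smul_eq_mul, Ideal.mul_top]
    rwa [e] at this
  · intro h
    rw [expand b g z]
    exact Submodule.sum_mem _ fun i _ => Submodule.smul_mem_smul (h i) Submodule.mem_top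

end PartA

/-! ### Part B: `V^#` and its iterates in coordinates -/

section PartB

variable {p : ℕ} [hp : Fact p.Prime] {R : Type u} [CommRing R]
variable {P : Type v} [AddCommGroup P] [Module (WittVector p R) P]
variable {D : W4c1extbt610.Display3n p R P}
variable {L T : Submodule (WittVector p R) P} (hLT : IsCompl L T) (hLQ : L ≤ D.Q)
variable {ιT ιL : Type w} [Fintype ιT] [Fintype ιL] [DecidableEq ιT] [DecidableEq ιL]
variable (bT : Module.Basis ιT (WittVector p R) T) (bL : Module.Basis ιL (WittVector p R) L)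
variable (α β : Matrix (ιT ⊕ ιL) (ιT ⊕ ιL) (WittVector p R))

local notation "σ" => (WittVector.frobenius : WittVector p R →+* WittVector p R)

/-- the family `(t_j), (l_k)` -/
noncomputable def ee : ιT ⊕ ιL → P := Sum.elim (fun a : ιT => (bT a : P)) (fun a : ιL => (bL a : P))

/-- the basis of `P` -/
noncomputable def bP : Module.Basis (ιT ⊕ ιL) (WittVector p R) P :=
  (bT.prod bL).map (Submodule.prodEquivOfIsCompl T L hLT.symm)

theorem bP_apply (i : ιT ⊕ ιL) : bP hLT bT bL i = ee bT bL i := by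
  rw [bP, Module.Basis.map_apply, Submodule.coe_prodEquivOfIsCompl']
  rcases i with a | a
  · rw [Module.Basis.prod_apply_inl_fst, Module.Basis.prod_apply_inl_snd, Submodule.coe_zero,
      add_zero]
    rfl
  · rw [Module.Basis.prod_apply_inr_fst, Module.Basis.prod_apply_inr_snd, Submodule.coe_zero,
      zero_add]
    rfl

variable {Vs : P →ₗ[WittVector p R]
    Dieu.BC (WittVector.frobenius : WittVector p R →+* WittVector p R) P}
  (hVs : Dieu.IsVSharp D Vs)
  (hF : ∀ j : ιT, D.F (bT j : P) =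
      Finset.univ.sum fun i : ιT ⊕ ιL => α i (Sum.inl j) • ee bT bL i)
  (hV : ∀ k : ιL, D.Vinv ⟨(bL k : P), hLQ (bL k).2⟩ =
      Finset.univ.sum fun i : ιT ⊕ ιL => α i (Sum.inr k) • ee bT bL i)
  (hαβ : α * β = 1)

include hVs hF hV in
theorem Vs_Phi (i : ιT ⊕ ιL) :
    Vs (∑ a, α a i • ee bT bL a) =
      Sum.elim (fun _ => (p : WittVector p R)) (fun _ => 1) i • Dieu.BC.tmul σ 1 (ee bT bL i) := by
  rcases i with j | k
  · rw [← hF j]
    have := hVs.app_smul_F 1 (bT j : P)
    rw [one_smul] at this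
    rw [this]
    rfl
  · rw [← hV k]
    have := hVs.app_smul_Vinv 1 ⟨(bL k : P), hLQ (bL k).2⟩
    rw [one_smul] at this
    rw [this, Sum.elim_inr, one_smul]
    rfl

include hαβ in
theorem ee_eq (m : ιT ⊕ ιL) :
    ee bT bL m = ∑ i, β i m • ∑ a, α a i • ee bT bL a := by
  simp only [Finset.smul_sum, smul_smul]
  rw [Finset.sum_comm]
  have : ∀ a, ∑ i, (β i m * α a i) • ee bT bL a = ((α * β) a m) • ee bT bL a := by
    intro a
    rw [← Finset.sum_smul, Matrix.mul_apply]
    congr 1
    refine Finset.sum_congr rfl fun i _ => mul_comm _ _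
  simp only [this, hαβ, Matrix.one_apply, ite_smul, one_smul, zero_smul]
  rw [Finset.sum_ite_eq' Finset.univ m]
  simp

include hVs hF hV hαβ in
theorem Vs_ee (m : ιT ⊕ ιL) :
    Vs (ee bT bL m) = ∑ i, C0 β i m • Dieu.BC.tmul σ 1 (ee bT bL i) := by
  conv_lhs => rw [ee_eq bT bL α β hαβ m, map_sum]
  refine Finset.sum_congr rfl fun i _ => ?_
  rw [map_smul, Vs_Phi hLQ bT bL α hVs hF hV i, smul_smul]
  rfl

include hVs hF hV hαβ in
theorem it_ee (n : ℕ) (m : ιT ⊕ ιL) :
    it Vs n (ee bT bL m) = ∑ i, Cn β n i m • Dieu.BC.tmul (gpow σ n) 1 (ee bT bL i) := by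
  induction n generalizing m with
  | zero => exact Vs_ee hLQ bT bL α β hVs hF hV hαβ m
  | succ n ih =>
    change ext σ (it Vs n) (Vs (ee bT bL m)) = _
    rw [Vs_ee hLQ bT bL α β hVs hF hV hαβ m, map_sum]
    have h1 : ∀ i, ext σ (it Vs n) (C0 β i m • Dieu.BC.tmul σ 1 (ee bT bL i)) =
        ∑ a, (frobenius (Cn β n a i) * C0 β i m) •
          Dieu.BC.tmul (gpow σ (n + 1)) 1 (ee bT bL a) := by
      intro i
      rw [map_smul, ext_tmul, one_smul, ih i, map_sum, Finset.smul_sum]
      refine Finset.sum_congr rfl fun a _ => ?_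
      rw [map_smulₛₗ, Dieu.BC.push_tmul, map_one, smul_smul, mul_comm]
      rfl
    rw [Finset.sum_congr rfl fun i _ => h1 i]
    refine Finset.sum_comm.trans (Finset.sum_congr rfl fun a _ => ?_)
    have h2 : ∑ i, frobenius (Cn β n a i) * C0 β i m = Cn β (n + 1) a m := by
      change _ = ((Cn β n).map σ * C0 β) a m
      rw [Matrix.mul_apply]
      rfl
    exact (Finset.sum_smul (s := Finset.univ)
      (f := fun i => frobenius (Cn β n a i) * C0 β i m)
      (x := Dieu.BC.tmul (gpow σ (n + 1)) 1 (ee bT bL a))).symm.trans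
        (congrArg (· • Dieu.BC.tmul (gpow σ (n + 1)) 1 (ee bT bL a)) h2)

include hLT hVs hF hV hαβ in
/-- the nilpotence condition in coordinates -/
theorem nil_iff : Dieu.IsVNilpotent Vs ↔ ∃ n, (Cn β n).map rho = 0 := by
  have key : ∀ n, (∀ x : P, it Vs n x ∈
      (W4c1extbt610.IV p R ⊔ Ideal.span {(p : WittVector p R)}) •
        (⊤ : Submodule (WittVector p R) (Dieu.BC (gpow σ n) P))) ↔ (Cn β n).map rho = 0 := by
    intro n
    have hcoord : ∀ m a, eps (bP hLT bT bL) (gpow σ n) a (it Vs n (ee bT bL m)) = Cn β n a m := by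
      intro m a
      rw [it_ee hLQ bT bL α β hVs hF hV hαβ n m]
      have : ∀ i, Dieu.BC.tmul (gpow σ n) 1 (ee bT bL i) =
          Dieu.BC.tmul (gpow σ n) 1 (bP hLT bT bL i) := fun i => by rw [bP_apply]
      simp only [this]
      exact eps_sum (bP hLT bT bL) (gpow σ n) (fun i => Cn β n i m) a
    constructor
    · intro h
      ext a m
      rw [Matrix.map_apply, Matrix.zero_apply, rho_eq_zero_iff, ← hcoord m a]
      exact (mem_iff (bP hLT bT bL) (gpow σ n) _ _).1 (h (ee bT bL m)) a
    · intro h x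
      have hx : x ∈ Submodule.span (WittVector p R) (Set.range (bP hLT bT bL)) := by
        rw [(bP hLT bT bL).span_eq]; trivial
      refine Submodule.span_induction ?_ ?_ ?_ ?_ hx
      · rintro _ ⟨m, rfl⟩
        rw [mem_iff (bP hLT bT bL) (gpow σ n), bP_apply]
        intro a
        rw [hcoord m a, ← rho_eq_zero_iff]
        have := congrFun (congrFun h a) m
        rwa [Matrix.map_apply, Matrix.zero_apply] at this
      · rw [map_zero]; exact zero_mem _
      · intro y z _ _ hy hz
        rw [map_add]; exact add_mem hy hz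
      · intro c y _ hy
        rw [map_smul]; exact Submodule.smul_mem _ _ hy
  constructor
  · rintro ⟨n, hn⟩
    exact ⟨n, (key n).1 fun x => (it_mem_iff Vs n _ x).1 (hn x)⟩
  · rintro ⟨n, hn⟩
    exact ⟨n, fun x => (it_mem_iff Vs n _ x).2 ((key n).2 hn x)⟩

end PartB

/-! ### The criterion -/

section Main

variable {p : ℕ} [hp : Fact p.Prime] {R : Type u} [CommRing R]
variable {P : Type v} [AddCommGroup P] [Module (WittVector p R) P]
variable {ιT ιL : Type w} [Fintype ιT] [Fintype ιL] [DecidableEq ιT] [DecidableEq ιL]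

theorem exists_iff (β : Matrix (ιT ⊕ ιL) (ιT ⊕ ιL) (WittVector p R)) :
    (∃ n, (Cn β n).map rho = 0) ↔ ∃ N : ℕ, 0 < N ∧ (ZW β N).map rho = 0 := by
  constructor
  · rintro ⟨n, hn⟩
    refine ⟨n + 1, Nat.succ_pos n, ?_⟩
    rw [← XW_eq_ZW]
    exact ((Cn_map_rho_eq_zero_iff β n).1 hn).2
  · rintro ⟨N, hN, h⟩
    obtain ⟨n, rfl⟩ := Nat.exists_eq_succ_of_ne_zero hN.ne'
    rw [← XW_eq_ZW] at h
    refine ⟨n + 1, (Cn_map_rho_eq_zero_iff β (n + 1)).2 ⟨?_, ?_⟩⟩
    · change ((XW β n).map (WittVector.frobenius : WittVector p R →+* WittVector p R) *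
        β.toBlocks₂₁).map rho = 0
      rw [Matrix.map_mul]
      have : ((XW β n).map (WittVector.frobenius : WittVector p R →+* WittVector p R)).map rho
          = 0 := by
        ext a b
        have := congrFun (congrFun h a) b
        rw [Matrix.map_apply, Matrix.zero_apply] at this
        rw [Matrix.map_apply, Matrix.map_apply, Matrix.zero_apply]
        exact rho_frobenius_eq_zero this
      rw [this, Matrix.zero_mul]
    · rw [XW_succ', Matrix.map_mul, h, Matrix.mul_zero]

theorem main (hpn : IsNilpotent (p : R)) (D : W4c1extbt610.Display3n p R P)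
    (L T : Submodule (WittVector p R) P) (hLT : IsCompl L T) (hLQ : L ≤ D.Q)
    (bT : Module.Basis ιT (WittVector p R) T) (bL : Module.Basis ιL (WittVector p R) L)
    (α β : Matrix (ιT ⊕ ιL) (ιT ⊕ ιL) (WittVector p R)) (hαβ : α * β = 1)
    (hF : ∀ j : ιT, D.F (bT j : P) =
      Finset.univ.sum fun i : ιT ⊕ ιL => α i (Sum.inl j) •
        Sum.elim (fun a : ιT => (bT a : P)) (fun a : ιL => (bL a : P)) i)
    (hV : ∀ k : ιL, D.Vinv ⟨(bL k : P), hLQ (bL k).2⟩ =
      Finset.univ.sum fun i : ιT ⊕ ιL => α i (Sum.inr k) •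
        Sum.elim (fun a : ιT => (bT a : P)) (fun a : ιL => (bL a : P)) i) :
    Dieu.IsDisplay D ↔
      ∃ N : ℕ, 0 < N ∧
        (((List.range N).reverse.map fun i : ℕ =>
            (Matrix.of fun k l : ιL =>
                Ideal.Quotient.mk (Ideal.span {(p : R)})
                  (WittVector.constantCoeff (β (Sum.inr k) (Sum.inr l)))).map
              fun x : R ⧸ Ideal.span {(p : R)} => x ^ p ^ i).prod
          = 0) := by
  obtain ⟨Vs, hVs, huniq⟩ := Groth.Agent.H74.DispVSharp.existsUnique_vSharp hpn D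
  have h1 : Dieu.IsDisplay D ↔ Dieu.IsVNilpotent Vs := by
    constructor
    · rintro ⟨Vs', hVs', hnil'⟩
      rwa [huniq Vs' hVs'] at hnil'
    · intro h
      exact ⟨Vs, hVs, h⟩
  rw [h1, nil_iff hLT hLQ bT bL α β hVs hF hV hαβ, exists_iff]
  simp only [ZW_map_rho]

end Main

end Groth.Agent.H74.DispMatrix
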