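import Groth.Agent.H74.DispBCExists
import Mathlib

/-!
# Construction of a 3n-display from a normal decomposition and a semilinear map (helper74)

Given a module `M` over `W = W(A)` which is a retract of `W^n`, a decomposition `M = L ⊕ T` and a
Frobenius-semilinear `Φ : M → M` whose image spans `M`, we construct the 3n-display with
`Q = L ⊔ I • T`, `V⁻¹ = Φ` on `L`, `V⁻¹ (V w • t) = w • Φ t` for `t ∈ T`
(Zink's construction of a 3n-display from `(L, T, Φ)`).
-/

set_option autoImplicit false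
set_option linter.style.haveILetI false

open WittVector

namespace Groth.Agent.H74.DispMk

open Groth.Agent.H74.DispFaithful Groth.Agent.H74.DispBCExists

universe u v

variable {p : ℕ} [hp : Fact p.Prime] {A : Type u} [CommRing A]
variable {M : Type v} [AddCommGroup M] [Module (WittVector p A) M]

/-- The data from which a 3n-display is built. -/
structure MkData (p : ℕ) [hp : Fact p.Prime] (A : Type u) [CommRing A]
    (M : Type v) [AddCommGroup M] [Module (WittVector p A) M] where
  L : Submodule (WittVector p A) M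
  T : Submodule (WittVector p A) M
  hLT : IsCompl L T
  n : ℕ
  i : M →ₗ[WittVector p A] (Fin n → WittVector p A)
  π : (Fin n → WittVector p A) →ₗ[WittVector p A] M
  hi : π ∘ₗ i = LinearMap.id
  Φ : M →ₛₗ[(WittVector.frobenius : WittVector p A →+* WittVector p A)] M
  hΦ : Submodule.span (WittVector p A) (Set.range Φ) = ⊤

namespace MkData

variable (s : MkData p A M)

/-- the submodule `Q = L ⊔ I T` -/
noncomputable def Q : Submodule (WittVector p A) M := s.L ⊔ W4c1extbt610.IV p A • s.T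

/-- projection onto `L` -/
noncomputable def πL : M →ₗ[WittVector p A] M := s.L.projection s.T s.hLT

/-- projection onto `T` -/
noncomputable def πT : M →ₗ[WittVector p A] M := s.T.projection s.L s.hLT.symm

theorem πL_add_πT (x : M) : s.πL x + s.πT x = x :=
  Submodule.projection_add_projection_eq_self s.hLT x

theorem πL_mem (x : M) : s.πL x ∈ s.L := Submodule.projection_apply_mem s.hLT x

theorem πT_mem (x : M) : s.πT x ∈ s.T := Submodule.projection_apply_mem s.hLT.symm x

theorem πL_of_mem_L {x : M} (hx : x ∈ s.L) : s.πL x = x :=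
  Submodule.projection_apply_of_mem_left s.hLT hx

theorem πL_of_mem_T {x : M} (hx : x ∈ s.T) : s.πL x = 0 :=
  Submodule.projection_apply_of_mem_right s.hLT hx

theorem πT_of_mem_T {x : M} (hx : x ∈ s.T) : s.πT x = x :=
  Submodule.projection_apply_of_mem_left s.hLT.symm hx

theorem πT_of_mem_L {x : M} (hx : x ∈ s.L) : s.πT x = 0 :=
  Submodule.projection_apply_of_mem_right s.hLT.symm hx

theorem L_le : s.L ≤ s.Q := le_sup_left

theorem IT_le : W4c1extbt610.IV p A • s.T ≤ s.Q := le_sup_right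

theorem mem_T_of_mem_IT {z : M} (hz : z ∈ W4c1extbt610.IV p A • s.T) : z ∈ s.T :=
  Submodule.smul_induction_on hz (fun a _ _ ht => s.T.smul_mem a ht)
    (fun _ _ ha hb => s.T.add_mem ha hb)

theorem πT_mem_IT {q : M} (hq : q ∈ s.Q) : s.πT q ∈ W4c1extbt610.IV p A • s.T := by
  obtain ⟨l, hl, z, hz, rfl⟩ := Submodule.mem_sup.1 hq
  rw [map_add, s.πT_of_mem_L hl, s.πT_of_mem_T (s.mem_T_of_mem_IT hz), zero_add]
  exact hz

/-- coordinates of the `T`-component -/
noncomputable def c : M →ₗ[WittVector p A] (Fin s.n → WittVector p A) := s.i ∘ₗ s.πT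

/-- generators of `T` -/
noncomputable def t (j : Fin s.n) : M := s.πT (s.π (Pi.single j 1))

theorem t_mem (j : Fin s.n) : s.t j ∈ s.T := s.πT_mem _

theorem πT_eq (x : M) : s.πT x = ∑ j, s.c x j • s.t j := by
  have h1 := eq_sum s.i s.π s.hi (s.πT x)
  have h2 := congrArg s.πT h1
  rw [s.πT_of_mem_T (s.πT_mem x), map_sum] at h2
  rw [h2]
  refine Finset.sum_congr rfl fun j _ => ?_
  rw [map_smul]
  rfl

theorem c_mem_IV {q : M} (hq : q ∈ s.Q) (j : Fin s.n) : s.c q j ∈ W4c1extbt610.IV p A :=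
  coord_mem s.i _ (Submodule.smul_mono le_rfl le_top (s.πT_mem_IT hq)) j

theorem c_of_mem_L {x : M} (hx : x ∈ s.L) : s.c x = 0 := by
  change s.i (s.πT x) = 0
  rw [s.πT_of_mem_L hx, map_zero]

/-- `Φ (π_T x) = ∑ σ(c_j x) Φ(t_j)` -/
theorem Φ_πT (x : M) : s.Φ (s.πT x) = ∑ j, frobenius (s.c x j) • s.Φ (s.t j) := by
  rw [s.πT_eq, map_sum]
  refine Finset.sum_congr rfl fun j _ => ?_
  rw [LinearMap.map_smulₛₗ]

/-- the formula for `V⁻¹` -/
noncomputable def vform (q : M) : M :=
  s.Φ (s.πL q) + ∑ j, (s.c q j).shift 1 • s.Φ (s.t j)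

theorem vform_add {q q' : M} (hq : q ∈ s.Q) (hq' : q' ∈ s.Q) :
    s.vform (q + q') = s.vform q + s.vform q' := by
  unfold vform
  have e : ∀ j, (s.c (q + q') j).shift 1 = (s.c q j).shift 1 + (s.c q' j).shift 1 := by
    intro j
    rw [map_add, Pi.add_apply, shift_add_of_mem (s.c_mem_IV hq j) (s.c_mem_IV hq' j)]
  have e' : ∑ j, (s.c (q + q') j).shift 1 • s.Φ (s.t j) =
      ∑ j, (s.c q j).shift 1 • s.Φ (s.t j) + ∑ j, (s.c q' j).shift 1 • s.Φ (s.t j) := by
    rw [← Finset.sum_add_distrib]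
    refine Finset.sum_congr rfl fun j _ => ?_
    rw [e j, add_smul]
  rw [e', map_add, map_add]
  abel

theorem vform_smul (w : WittVector p A) {q : M} (hq : q ∈ s.Q) :
    s.vform (w • q) = frobenius w • s.vform q := by
  unfold vform
  have e : ∀ j, (s.c (w • q) j).shift 1 = frobenius w * (s.c q j).shift 1 := by
    intro j
    rw [map_smul, Pi.smul_apply, smul_eq_mul, shift_mul_of_mem w (s.c_mem_IV hq j)]
  have e' : ∑ j, (s.c (w • q) j).shift 1 • s.Φ (s.t j) =
      frobenius w • ∑ j, (s.c q j).shift 1 • s.Φ (s.t j) := by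
    rw [Finset.smul_sum]
    refine Finset.sum_congr rfl fun j _ => ?_
    rw [e j, mul_smul]
  rw [e', map_smul, LinearMap.map_smulₛₗ, smul_add]

/-- the semilinear map `V⁻¹ : Q → M` -/
noncomputable def Vinv :
    ↥s.Q →ₛₗ[(WittVector.frobenius : WittVector p A →+* WittVector p A)] M where
  toFun q := s.vform q.1
  map_add' q q' := s.vform_add q.2 q'.2
  map_smul' w q := s.vform_smul w q.2

/-- the semilinear map `F` -/
noncomputable def F : M →ₛₗ[(WittVector.frobenius : WittVector p A →+* WittVector p A)] M where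
  toFun x := (p : WittVector p A) • s.Φ (s.πL x) + s.Φ (s.πT x)
  map_add' x y := by
    simp only [map_add, smul_add]; abel
  map_smul' w x := by
    simp only [map_smul, LinearMap.map_smulₛₗ, smul_add]
    rw [smul_comm]

theorem F_apply (x : M) : s.F x = (p : WittVector p A) • s.Φ (s.πL x) + s.Φ (s.πT x) := rfl

theorem V_smul_mem_Q (w : WittVector p A) (x : M) : verschiebung w • x ∈ s.Q := by
  rw [← s.πL_add_πT x, smul_add]
  exact Submodule.add_mem _ (s.L_le (s.L.smul_mem _ (s.πL_mem x)))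
    (s.IT_le (Submodule.smul_mem_smul (W4c1extbt610.verschiebung_mem_IV p A w) (s.πT_mem x)))

theorem vform_V_smul (w : WittVector p A) (x : M) :
    s.vform (verschiebung w • x) = w • s.F x := by
  unfold vform
  have e : ∀ j, (s.c (verschiebung w • x) j).shift 1 = w * frobenius (s.c x j) := by
    intro j
    rw [map_smul, Pi.smul_apply, smul_eq_mul, ← verschiebung_mul_frobenius,
      Groth.Agent.H74.WittShift.shift_verschiebung]
  have e' : ∑ j, (s.c (verschiebung w • x) j).shift 1 • s.Φ (s.t j) =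
      w • ∑ j, frobenius (s.c x j) • s.Φ (s.t j) := by
    rw [Finset.smul_sum]
    refine Finset.sum_congr rfl fun j _ => ?_
    rw [e j, mul_smul]
  rw [e', map_smul, LinearMap.map_smulₛₗ, frobenius_verschiebung, mul_smul, s.F_apply, s.Φ_πT,
    smul_add]

/-- **The 3n-display attached to `(L, T, Φ)`.** -/
noncomputable def toDisplay : W4c1extbt610.Display3n p A M where
  Q := s.Q
  F := s.F
  Vinv := s.Vinv
  finite := by
    refine Module.Finite.of_surjective s.π fun x => ⟨s.i x, ?_⟩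
    exact congrArg (fun f => f x) s.hi
  projective := Module.Projective.of_split s.i s.π s.hi
  IV_smul_le := by
    rw [Submodule.smul_le]
    intro a ha x _
    rw [← s.πL_add_πT x, smul_add]
    exact Submodule.add_mem _ (s.L_le (s.L.smul_mem _ (s.πL_mem x)))
      (s.IT_le (Submodule.smul_mem_smul ha (s.πT_mem x)))
  exists_normal := ⟨s.L, s.T, s.hLT, rfl⟩
  span_range_Vinv := by
    rw [eq_top_iff, ← s.hΦ, Submodule.span_le]
    rintro _ ⟨x, rfl⟩
    have h1 : s.Φ (s.πL x) = s.Vinv ⟨s.πL x, s.L_le (s.πL_mem x)⟩ := by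
      change _ = s.vform (s.πL x)
      unfold vform
      rw [s.πL_of_mem_L (s.πL_mem x), s.c_of_mem_L (s.πL_mem x)]
      simp [shift_zero]
    have h2 : s.Φ (s.πT x) = s.Vinv ⟨verschiebung 1 • s.πT x, s.V_smul_mem_Q 1 _⟩ := by
      change _ = s.vform (verschiebung 1 • s.πT x)
      rw [s.vform_V_smul, one_smul, s.F_apply, s.πL_of_mem_T (s.πT_mem x),
        s.πT_of_mem_T (s.πT_mem x), map_zero, smul_zero, zero_add]
    have h3 : s.Φ x = s.Φ (s.πL x) + s.Φ (s.πT x) := by
      rw [← map_add, s.πL_add_πT]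
    rw [SetLike.mem_coe, h3, h1, h2]
    exact Submodule.add_mem _ (Submodule.subset_span ⟨_, rfl⟩) (Submodule.subset_span ⟨_, rfl⟩)
  Vinv_verschiebung_smul w x := s.vform_V_smul w x

theorem toDisplay_Q : s.toDisplay.Q = s.L ⊔ W4c1extbt610.IV p A • s.T := rfl

theorem toDisplay_Vinv_L {l : M} (hl : l ∈ s.L) (h : l ∈ s.toDisplay.Q) :
    s.toDisplay.Vinv ⟨l, h⟩ = s.Φ l := by
  change s.vform l = _
  unfold vform
  rw [s.πL_of_mem_L hl, s.c_of_mem_L hl]
  simp [shift_zero]

theorem toDisplay_Vinv_T {y : M} (hy : y ∈ s.T) (w : WittVector p A)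
    (h : verschiebung w • y ∈ s.toDisplay.Q) :
    s.toDisplay.Vinv ⟨verschiebung w • y, h⟩ = w • s.Φ y := by
  change s.vform (verschiebung w • y) = _
  rw [s.vform_V_smul, s.F_apply, s.πL_of_mem_T hy, s.πT_of_mem_T hy, map_zero, smul_zero, zero_add]

/-- `V⁻¹ (x + ∑ V(w_j) y_j) = Φ x + ∑ w_j Φ(y_j)` for `x ∈ L`, `y_j ∈ T`. -/
theorem toDisplay_Vinv_sum {ι : Type*} (J : Finset ι) {x : M} (hx : x ∈ s.L)
    (w : ι → WittVector p A) (y : ι → M) (hy : ∀ j, y j ∈ s.T)
    (h : x + ∑ j ∈ J, verschiebung (w j) • y j ∈ s.toDisplay.Q) :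
    s.toDisplay.Vinv ⟨x + ∑ j ∈ J, verschiebung (w j) • y j, h⟩ =
      s.Φ x + ∑ j ∈ J, w j • s.Φ (y j) := by
  have hxQ : x ∈ s.toDisplay.Q := s.L_le hx
  let z : ι → s.toDisplay.Q := fun j => ⟨verschiebung (w j) • y j, s.V_smul_mem_Q _ _⟩
  have e : (⟨x + ∑ j ∈ J, verschiebung (w j) • y j, h⟩ : s.toDisplay.Q) =
      ⟨x, hxQ⟩ + ∑ j ∈ J, z j := by
    apply Subtype.ext
    rw [Submodule.coe_add, Submodule.coe_sum]
  rw [e, map_add, map_sum, s.toDisplay_Vinv_L hx]
  congr 1
  refine Finset.sum_congr rfl fun j _ => ?_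
  exact s.toDisplay_Vinv_T (hy j) (w j) _

end MkData

end Groth.Agent.H74.DispMk
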