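import Groth.Agent.H74.DispVSharp
import Mathlib

/-!
# Displays over a perfect ring and Dieudonné modules with topologically nilpotent `V`
-/

set_option autoImplicit false
set_option linter.style.haveILetI false

open TensorProduct WittVector

namespace Groth.Agent.H74.DispPerfect

universe u v

section Bij

variable {A : Type u} [CommRing A] (g : A →+* A) (hg : Function.Bijective g)
variable {P : Type v} [AddCommGroup P] [Module A P]

/-- the bilinear map `(t, x) ↦ g⁻¹(t) • x` -/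
noncomputable def tauBil : Dieu.Res g →ₗ[A] P →ₗ[A] P where
  toFun t := ((RingEquiv.ofBijective g hg).symm t.val) • LinearMap.id
  map_add' s t := by rw [Dieu.Res.val_add, map_add, add_smul]
  map_smul' a t := by
    rw [Dieu.Res.val_smul, map_mul, RingHom.id_apply, mul_smul]
    congr 1
    exact (RingEquiv.ofBijective g hg).symm_apply_apply a

/-- The additive map `BC g P → P`, `b ⊗ x ↦ g⁻¹(b) • x`. -/
noncomputable def tau : Dieu.BC g P →+ P :=
  (TensorProduct.lift (tauBil g hg (P := P))).toAddMonoidHom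

theorem tau_tmul (b : A) (x : P) :
    tau g hg (Dieu.BC.tmul g b x) = (RingEquiv.ofBijective g hg).symm b • x := by
  change TensorProduct.lift (tauBil g hg (P := P)) ((Dieu.Res.mk g b) ⊗ₜ[A] x) = _
  rw [TensorProduct.lift.tmul]
  rfl

theorem tau_smul (a : A) (z : Dieu.BC g P) : tau g hg (g a • z) = a • tau g hg z := by
  induction z using Dieu.BC.induction_on g with
  | zero => rw [smul_zero, map_zero, smul_zero]
  | tmul b x =>
    rw [Dieu.BC.smul_tmul, tau_tmul, tau_tmul, map_mul, mul_smul]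
    congr 1
    exact (RingEquiv.ofBijective g hg).symm_apply_apply a
  | add z₁ z₂ h₁ h₂ => rw [smul_add, map_add, h₁, h₂, map_add, smul_add]

theorem tau_one_tmul (x : P) : tau g hg (Dieu.BC.tmul g 1 x) = x := by
  rw [tau_tmul, map_one, one_smul]

include hg in
/-- `1 ⊗ x ∈ (g a) • BC` forces `x ∈ a • P`. -/
theorem mem_of_tmul_mem (a : A) (x : P)
    (h : Dieu.BC.tmul g 1 x ∈ (Ideal.span {g a}) • (⊤ : Submodule A (Dieu.BC g P))) :
    x ∈ (Ideal.span {a}) • (⊤ : Submodule A P) := by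
  rw [Submodule.ideal_span_singleton_smul] at h ⊢
  obtain ⟨z, -, hz⟩ := h
  refine ⟨tau g hg z, Submodule.mem_top, ?_⟩
  change a • tau g hg z = x
  rw [← tau_smul, ← tau_one_tmul g hg x]
  exact congrArg _ hz

theorem tmul_mem_of_mem (a : A) (x : P) (h : x ∈ (Ideal.span {a}) • (⊤ : Submodule A P)) :
    Dieu.BC.tmul g 1 x ∈ (Ideal.span {g a}) • (⊤ : Submodule A (Dieu.BC g P)) := by
  rw [Submodule.ideal_span_singleton_smul] at h ⊢
  obtain ⟨y, -, hy⟩ := h
  refine ⟨Dieu.BC.tmul g 1 y, Submodule.mem_top, ?_⟩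
  change g a • Dieu.BC.tmul g 1 y = _
  rw [Dieu.BC.smul_tmul, mul_one, Dieu.BC.tmul_apply_eq]
  exact congrArg _ hy

end Bij

section Dieudonne

variable {p : ℕ} [hp : Fact p.Prime] {k : Type u} [CommRing k] [CharP k p] [PerfectRing k p]
variable {M : Type v} [AddCommGroup M] [Module (WittVector p k) M]

local notation "σ" => (WittVector.frobenius : WittVector p k →+* WittVector p k)

theorem frobenius_symm_apply (w : WittVector p k) :
    frobenius (((WittVector.frobeniusEquiv p k).symm : WittVector p k →+* WittVector p k) w) = w :=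
  (WittVector.frobeniusEquiv p k).apply_symm_apply w

variable (Dm : Dieu.DieuMod p k M)

/-- `m ↦ 1 ⊗ V m`, the operator `V^#` of a Dieudonné module. -/
noncomputable def Vs0 : M →ₗ[WittVector p k] Dieu.BC σ M where
  toFun m := Dieu.BC.tmul σ 1 (Dm.V m)
  map_add' x y := by rw [map_add, Dieu.BC.tmul_add]
  map_smul' w m := by
    rw [map_smulₛₗ, RingHom.id_apply, ← Dieu.BC.tmul_apply_eq, frobenius_symm_apply,
      Dieu.BC.tmul_eq_smul_tmul_one]

theorem Vs0_apply (m : M) : Vs0 Dm m = Dieu.BC.tmul σ 1 (Dm.V m) := rfl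

theorem V_natCast_smul (m : M) : Dm.V ((p : WittVector p k) • m) = (p : WittVector p k) • Dm.V m := by
  rw [map_smulₛₗ, map_natCast]

theorem V_iterate_natCast_smul (n : ℕ) (m : M) :
    (⇑Dm.V)^[n] ((p : WittVector p k) • m) = (p : WittVector p k) • (⇑Dm.V)^[n] m := by
  induction n generalizing m with
  | zero => rfl
  | succ n ih => rw [Function.iterate_succ_apply, V_natCast_smul, ih, Function.iterate_succ_apply]

theorem vSharpPow_Vs0 (n : ℕ) (m : M) :
    Dieu.vSharpPow (Vs0 Dm) n m = Dieu.BC.tmul (σ ^ (n + 1)) 1 ((⇑Dm.V)^[n + 1] m) := by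
  induction n generalizing m with
  | zero =>
    rw [Dieu.vSharpPow_zero_apply, Vs0_apply, Dieu.BC.castHom_tmul]
    rfl
  | succ n ih =>
    rw [Dieu.vSharpPow_succ_apply, Vs0_apply, Dieu.BC.map_tmul, ih, Dieu.BC.lift_tmul, one_smul,
      Dieu.BC.push_tmul, Dieu.BC.castHom_tmul, map_one, Function.iterate_succ_apply (⇑Dm.V) (n + 1)]

variable (D : W4c1extbt610.Display3n p k M)

theorem isVSharp_Vs0 (hF : D.F = Dm.F) (hQ : ∀ x : M, x ∈ D.Q ↔ x ∈ Set.range Dm.V)
    (hV : ∀ (m : M) (h : Dm.V m ∈ D.Q), D.Vinv ⟨Dm.V m, h⟩ = m) : Dieu.IsVSharp D (Vs0 Dm) := by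
  refine ⟨fun w x => ?_, fun w y => ?_⟩
  · rw [map_smul, Vs0_apply, hF, Dm.V_F, ← Dieu.BC.tmul_mul_apply, map_natCast, one_mul,
      Dieu.BC.smul_tmul, Dieu.BC.smul_tmul, mul_comm]
  · obtain ⟨m, hm⟩ := (hQ y).1 y.2
    have hy : y = ⟨Dm.V m, (hQ _).2 ⟨m, rfl⟩⟩ := Subtype.ext hm.symm
    rw [hy, hV, map_smul, Vs0_apply, Dieu.BC.smul_tmul, mul_one]

theorem IV_sup_eq : W4c1extbt610.IV p k ⊔ Ideal.span {(p : WittVector p k)} =
    Ideal.span {(p : WittVector p k)} := by
  rw [sup_eq_right]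
  unfold W4c1extbt610.IV
  rw [Ideal.span_le]
  rintro _ ⟨w, rfl⟩
  rw [← frobenius_symm_apply w, verschiebung_frobenius, mul_comm]
  exact Ideal.mul_mem_right _ _ (Ideal.mem_span_singleton_self _)

theorem frobenius_pow_bijective (n : ℕ) : Function.Bijective (σ ^ n) := by
  rw [RingHom.coe_pow]
  exact (WittVector.frobenius_bijective p k).iterate n

theorem isVNilpotent_Vs0_iff :
    Dieu.IsVNilpotent (Vs0 Dm) ↔ ∃ n : ℕ, ∀ m : M,
      (⇑Dm.V)^[n + 1] m ∈ Ideal.span {(p : WittVector p k)} • (⊤ : Submodule (WittVector p k) M) := by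
  unfold Dieu.IsVNilpotent
  refine exists_congr fun n => forall_congr' fun m => ?_
  rw [vSharpPow_Vs0, IV_sup_eq]
  have hp' : (σ ^ (n + 1)) (p : WittVector p k) = p := map_natCast _ _
  constructor
  · intro h
    rw [← hp'] at h
    exact mem_of_tmul_mem (σ ^ (n + 1)) (frobenius_pow_bijective (n + 1)) _ _ h
  · intro h
    have := tmul_mem_of_mem (σ ^ (n + 1)) _ _ h
    rwa [hp'] at this

theorem isDisplay_iff (hF : D.F = Dm.F) (hQ : ∀ x : M, x ∈ D.Q ↔ x ∈ Set.range Dm.V)
    (hV : ∀ (m : M) (h : Dm.V m ∈ D.Q), D.Vinv ⟨Dm.V m, h⟩ = m) :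
    Dieu.IsDisplay D ↔ Dm.VTopNilp := by
  have h0 := isVSharp_Vs0 Dm D hF hQ hV
  have hstep : Dieu.IsDisplay D ↔ Dieu.IsVNilpotent (Vs0 Dm) := by
    constructor
    · rintro ⟨Vs, hVs, hnil⟩
      rwa [Groth.Agent.H74.DispVSharp.isVSharp_unique hVs h0] at hnil
    · intro h
      exact ⟨Vs0 Dm, h0, h⟩
  rw [hstep, isVNilpotent_Vs0_iff]
  constructor
  · rintro ⟨n, hn⟩ e
    -- `V^((n+1) e) M ⊆ p^e M`
    refine ⟨(n + 1) * e, ?_⟩
    induction e with
    | zero =>
      intro m
      rw [pow_zero, Ideal.one_eq_top, Submodule.top_smul]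
      trivial
    | succ e ih =>
      intro m
      rw [Nat.mul_succ, Function.iterate_add_apply]
      have h1 := hn m
      rw [Submodule.ideal_span_singleton_smul] at h1
      obtain ⟨y, -, hy⟩ := h1
      change (p : WittVector p k) • y = _ at hy
      rw [← hy, V_iterate_natCast_smul, pow_succ']
      rw [Submodule.mul_smul]
      exact Submodule.smul_mem_smul (Ideal.mem_span_singleton_self _) (ih y)
  · intro h
    obtain ⟨n, hn⟩ := h 1
    rw [pow_one] at hn
    rcases Nat.eq_zero_or_pos n with h0 | hpos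
    · subst h0
      exact ⟨0, fun m => hn _⟩
    · obtain ⟨n', rfl⟩ : ∃ n', n = n' + 1 := ⟨n - 1, by omega⟩
      exact ⟨n', hn⟩

end Dieudonne

end Groth.Agent.H74.DispPerfect
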