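import Groth.Agent.H74.DispFaithful
import Mathlib

/-!
# Zink's Proposition 40: base change of display homomorphisms along a nilpotent thickening
(helper74, S16543)
-/

set_option autoImplicit false
set_option linter.style.haveILetI false

open TensorProduct WittVector

namespace Groth.Agent.H74.DispProp40

open Groth.Agent.H74.WittFrobNil Groth.Agent.H74.DispFaithful

universe u v

/-! ### Scalar extension along a surjective ring map -/

section Surj

variable {A B : Type u} [CommRing A] [CommRing B] (g : A →+* B) (hg : Function.Surjective g)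
variable {M : Type v} [AddCommGroup M] [Module A M]

include hg in
theorem exists_tmul_one (z : Dieu.BC g M) : ∃ x : M, Dieu.BC.tmul g 1 x = z := by
  induction z using Dieu.BC.induction_on g with
  | zero => exact ⟨0, Dieu.BC.tmul_zero g 1⟩
  | tmul b x =>
    obtain ⟨a, rfl⟩ := hg b
    exact ⟨a • x, (Dieu.BC.tmul_apply_eq g a x).symm⟩
  | add z₁ z₂ h₁ h₂ =>
    obtain ⟨x₁, rfl⟩ := h₁
    obtain ⟨x₂, rfl⟩ := h₂
    exact ⟨x₁ + x₂, Dieu.BC.tmul_add g 1 x₁ x₂⟩

theorem tmul_one_eq_zero_of_mem {z : M}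
    (hz : z ∈ RingHom.ker g • (⊤ : Submodule A M)) : Dieu.BC.tmul g 1 z = 0 := by
  refine Submodule.smul_induction_on hz (fun a ha x _ => ?_) (fun x y hx hy => ?_)
  · rw [← Dieu.BC.tmul_apply_eq, (RingHom.mem_ker).1 ha, Dieu.BC.zero_tmul]
  · rw [Dieu.BC.tmul_add, hx, hy, add_zero]

include hg in
/-- The kernel of `x ↦ 1 ⊗ x` is `ker g • M`. -/
theorem mem_of_tmul_one_eq_zero {z : M} (hz : Dieu.BC.tmul g 1 z = 0) :
    z ∈ RingHom.ker g • (⊤ : Submodule A M) := by
  set N : Submodule A M := RingHom.ker g • (⊤ : Submodule A M) with hN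
  have hsub : ∀ {a a' : A}, g a = g a' → ∀ x : M, N.mkQ (a • x) = N.mkQ (a' • x) := by
    intro a a' haa x
    rw [← sub_eq_zero, ← map_sub, ← sub_smul, Submodule.mkQ_apply, Submodule.Quotient.mk_eq_zero]
    refine Submodule.smul_mem_smul ?_ Submodule.mem_top
    rw [RingHom.mem_ker, map_sub, haa, sub_self]
  let s : B → A := Function.surjInv hg
  have hs : ∀ b, g (s b) = b := Function.surjInv_eq hg
  let F : Dieu.Res g →+ M →+ M ⧸ N :=
    { toFun := fun t =>
        { toFun := fun x => N.mkQ (s t.val • x)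
          map_zero' := by rw [smul_zero, map_zero]
          map_add' := fun x y => by rw [smul_add, map_add] }
      map_zero' := by
        ext x
        change N.mkQ (s (0 : B) • x) = 0
        rw [hsub (a' := 0) (by rw [hs, map_zero]) x, zero_smul, map_zero]
      map_add' := fun t t' => by
        ext x
        change N.mkQ (s (t.val + t'.val) • x) = N.mkQ (s t.val • x) + N.mkQ (s t'.val • x)
        rw [hsub (a' := s t.val + s t'.val) (by rw [hs, map_add, hs, hs]) x, add_smul, map_add] }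
  have hF : ∀ (a : A) (t : Dieu.Res g) (x : M), F (a • t) x = F t (a • x) := by
    intro a t x
    change N.mkQ (s (a • t).val • x) = N.mkQ (s t.val • a • x)
    rw [smul_smul]
    apply hsub
    rw [hs, Dieu.Res.val_smul, map_mul, hs, mul_comm]
  let ρ := TensorProduct.liftAddHom F hF
  have h1 : ρ (Dieu.BC.tmul g 1 z) = N.mkQ (s 1 • z) := rfl
  have h2 : N.mkQ (s 1 • z) = N.mkQ z := by
    have := hsub (a := s 1) (a' := 1) (by rw [hs, map_one]) z
    rwa [one_smul] at this
  have h3 : ρ (Dieu.BC.tmul g 1 z) = 0 := by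
    rw [hz]
    exact map_zero ρ
  rw [h1, h2] at h3
  rw [← Submodule.Quotient.mk_eq_zero]
  exact h3

end Surj

/-! ### Powers of `p` kill `W(J)` -/

section Kill

variable {p : ℕ} [hp : Fact p.Prime] {S : Type u} [CommRing S]

theorem pow_mul_mem (J : Ideal S) (hpJ : (p : S) ∈ J) (n : ℕ) {k : WittVector p S}
    (hk : k ∈ Wid p J) : (p : WittVector p S) ^ n * k ∈ Wid p (J ^ (n + 1)) := by
  induction n with
  | zero => simpa only [pow_zero, one_mul, zero_add, pow_one] using hk
  | succ n ih =>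
    have e : (p : WittVector p S) ^ (n + 1) * k = (p : WittVector p S) * ((p : WittVector p S) ^ n * k) := by
      rw [pow_succ', mul_assoc]
    rw [e]
    refine Groth.Agent.H74.WittShift.p_mul_mem (𝔟 := J ^ (n + 1)) ?_ ?_ ih
    · rw [← pow_add]
      exact Ideal.pow_le_pow_right (by omega)
    · intro a ha
      rw [pow_succ']
      exact Ideal.mul_mem_mul hpJ ha

theorem exists_pow_kill (J : Ideal S) (hJ : IsNilpotent J) (hpJ : (p : S) ∈ J) :
    ∃ N : ℕ, ∀ k ∈ Wid p J, (p : WittVector p S) ^ N * k = 0 := by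
  obtain ⟨m, hm⟩ := hJ
  refine ⟨m, fun k hk => ?_⟩
  have h1 := pow_mul_mem J hpJ m hk
  have h2 : J ^ (m + 1) = ⊥ := by
    rw [pow_succ, hm, Ideal.zero_eq_bot, Ideal.bot_mul]
  rwa [h2, Wid_bot, Submodule.mem_bot] at h1

omit hp in
theorem isNilpotent_sup_span (𝔞 : Ideal S) (h𝔞 : IsNilpotent 𝔞) (hpn : IsNilpotent (p : S)) :
    IsNilpotent (𝔞 ⊔ Ideal.span {(p : S)}) := by
  obtain ⟨n, hn⟩ := h𝔞
  obtain ⟨m, hm⟩ := hpn
  refine ⟨n + m, ?_⟩
  rw [Ideal.zero_eq_bot, eq_bot_iff]
  refine le_trans Ideal.sup_pow_add_le_pow_sup_pow ?_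
  rw [hn, Ideal.span_singleton_pow, hm, Ideal.zero_eq_bot, Ideal.span_singleton_eq_bot.2 rfl,
    sup_idem]

end Kill

/-! ### The main theorem -/

section Main

variable {p : ℕ} [hp : Fact p.Prime] {S R : Type u} [CommRing S] [CommRing R]
variable {P P' : Type v} [AddCommGroup P] [Module (WittVector p S) P] [AddCommGroup P']
  [Module (WittVector p S) P']

theorem isHom_sub {D : W4c1extbt610.Display3n p S P} {D' : W4c1extbt610.Display3n p S P'}
    {ψ χ : P →ₗ[WittVector p S] P'} (hψ : W4c1extbt610.IsHom D D' ψ)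
    (hχ : W4c1extbt610.IsHom D D' χ) : W4c1extbt610.IsHom D D' (ψ - χ) where
  mapsTo q hq := by
    rw [LinearMap.sub_apply]
    exact D'.Q.sub_mem (hψ.mapsTo q hq) (hχ.mapsTo q hq)
  comm_F x := by
    rw [LinearMap.sub_apply, LinearMap.sub_apply, hψ.comm_F, hχ.comm_F, map_sub]
  comm_Vinv q := by
    rw [LinearMap.sub_apply, hψ.comm_Vinv, hχ.comm_Vinv, ← map_sub]
    congr 1

variable (f : S →+* R)

local notation "Wf" => (WittVector.map f : WittVector p S →+* WittVector p R)

/-- Injectivity of base change on homomorphisms. -/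
theorem injectivity (hf : Function.Surjective f) (hpn : IsNilpotent (p : S))
    (hker : IsNilpotent (RingHom.ker f))
    (D : W4c1extbt610.Display3n p S P) (D' : W4c1extbt610.Display3n p S P')
    (hD : Dieu.IsDisplay D) (ψ χ : P →ₗ[WittVector p S] P')
    (hψ : W4c1extbt610.IsHom D D' ψ) (hχ : W4c1extbt610.IsHom D D' χ)
    (h : Dieu.BC.map Wf ψ = Dieu.BC.map Wf χ) : ψ = χ := by
  set J := RingHom.ker f ⊔ Ideal.span {(p : S)} with hJ
  have hJn : IsNilpotent J := isNilpotent_sup_span _ hker hpn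
  have hpJ : (p : S) ∈ J := Ideal.mem_sup_right (Ideal.mem_span_singleton_self _)
  have hWf : Function.Surjective Wf := WittVector.map_surjective f hf
  have h0 : ψ - χ = 0 := by
    apply core J hJn hpJ D D' hD (ψ - χ) (isHom_sub hψ hχ)
    intro x
    have h1 : Dieu.BC.tmul Wf 1 ((ψ - χ) x) = 0 := by
      have := congrArg (fun g => g (Dieu.BC.tmul Wf 1 x)) h
      simp only [Dieu.BC.map_tmul] at this
      rw [LinearMap.sub_apply, sub_eq_add_neg, Dieu.BC.tmul_add, Dieu.BC.tmul_neg, this,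
        add_neg_cancel]
    have h2 := mem_of_tmul_one_eq_zero Wf hWf h1
    rw [ker_map_eq_Wid] at h2
    exact Submodule.smul_mono (Wid_mono le_sup_left) le_rfl h2
  exact sub_eq_zero.1 h0

variable {f}

/-- `1 ⊗ y ∈ Q_R` for `y ∈ Q`. -/
theorem tmul_mem_Q {D : W4c1extbt610.Display3n p S P}
    {DR : W4c1extbt610.Display3n p R (Dieu.BC Wf P)} (hDR : Dieu.IsDispBaseChange f D DR)
    (y : D.Q) : Dieu.BC.tmul Wf 1 (y : P) ∈ DR.Q := by
  rw [hDR.Q_eq, LinearMap.mem_ker, Dieu.bcQuotMap_tmul]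
  have : D.Q.mkQ (y : P) = 0 := (Submodule.Quotient.mk_eq_zero _).2 y.2
  rw [this, Dieu.BC.tmul_zero]

/-- An element of `P` whose image lies in `Q_R` lies in `Q + W(𝔞) P`. -/
theorem Q_decomp (hf : Function.Surjective f) {D : W4c1extbt610.Display3n p S P}
    {DR : W4c1extbt610.Display3n p R (Dieu.BC Wf P)} (hDR : Dieu.IsDispBaseChange f D DR)
    {z : P} (hz : Dieu.BC.tmul Wf 1 z ∈ DR.Q) :
    ∃ q ∈ D.Q, z - q ∈ RingHom.ker Wf • (⊤ : Submodule (WittVector p S) P) := by
  have hWf : Function.Surjective Wf := WittVector.map_surjective f hf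
  rw [hDR.Q_eq, LinearMap.mem_ker, Dieu.bcQuotMap_tmul, map_one] at hz
  have hg : Function.Surjective
      ((WittVector.constantCoeff : WittVector p R →+* R).comp Wf) :=
    fun b => by
      obtain ⟨w, hw⟩ := WittVector.constantCoeff_surjective (p := p) b
      obtain ⟨v, rfl⟩ := hWf w
      exact ⟨v, hw⟩
  have h1 := mem_of_tmul_one_eq_zero _ hg hz
  have key : ∀ m ∈ RingHom.ker ((WittVector.constantCoeff : WittVector p R →+* R).comp Wf) •
      (⊤ : Submodule (WittVector p S) (P ⧸ D.Q)),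
      ∃ κ ∈ RingHom.ker Wf • (⊤ : Submodule (WittVector p S) P), D.Q.mkQ κ = m := by
    intro m hm
    refine Submodule.smul_induction_on hm (fun a ha m _ => ?_) (fun x y hx hy => ?_)
    · obtain ⟨x, rfl⟩ := D.Q.mkQ_surjective m
      have ha0 : f (a.coeff 0) = 0 := by
        have := (RingHom.mem_ker).1 ha
        rw [RingHom.comp_apply] at this
        change (WittVector.map f a).coeff 0 = 0 at this
        rwa [WittVector.map_coeff] at this
      refine ⟨teichmuller p (a.coeff 0) • x, Submodule.smul_mem_smul ?_ Submodule.mem_top, ?_⟩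
      · rw [RingHom.mem_ker, map_teichmuller, ha0, teichmuller_zero]
      · rw [← map_smul, ← sub_eq_zero, ← map_sub, ← sub_smul, Submodule.mkQ_apply,
          Submodule.Quotient.mk_eq_zero]
        have e := Groth.Agent.H74.WittShift.eq_teichmuller_add_verschiebung a
        have : teichmuller p (a.coeff 0) - a = -verschiebung (a.shift 1) := by
          rw [sub_eq_iff_eq_add, neg_add_eq_sub, eq_sub_iff_add_eq]
          exact e.symm
        rw [this, neg_smul]
        exact D.Q.neg_mem (D.IV_smul_le (Submodule.smul_mem_smul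
          (W4c1extbt610.verschiebung_mem_IV p S _) Submodule.mem_top))
    · obtain ⟨κ₁, h₁, rfl⟩ := hx
      obtain ⟨κ₂, h₂, rfl⟩ := hy
      exact ⟨κ₁ + κ₂, add_mem h₁ h₂, map_add _ _ _⟩
  obtain ⟨κ, hκ, hκz⟩ := key _ h1
  refine ⟨z - κ, ?_, by rwa [sub_sub_cancel]⟩
  rw [← Submodule.Quotient.mk_eq_zero, ← Submodule.mkQ_apply, map_sub, hκz, sub_self]

/-- Every homomorphism of the base changes becomes liftable after multiplication by a power
of `p`. -/
theorem surj_part (hf : Function.Surjective f) (hpn : IsNilpotent (p : S))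
    (hker : IsNilpotent (RingHom.ker f))
    (D : W4c1extbt610.Display3n p S P) (D' : W4c1extbt610.Display3n p S P')
    (DR : W4c1extbt610.Display3n p R (Dieu.BC Wf P)) (hDR : Dieu.IsDispBaseChange f D DR)
    (DR' : W4c1extbt610.Display3n p R (Dieu.BC Wf P')) (hDR' : Dieu.IsDispBaseChange f D' DR')
    (χ : Dieu.BC Wf P →ₗ[WittVector p R] Dieu.BC Wf P') (hχ : W4c1extbt610.IsHom DR DR' χ) :
    ∃ (n : ℕ) (ψ : P →ₗ[WittVector p S] P'), W4c1extbt610.IsHom D D' ψ ∧
      Dieu.BC.map Wf ψ = ((p : WittVector p R) ^ n) • χ := by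
  classical
  set J := RingHom.ker f ⊔ Ideal.span {(p : S)} with hJ
  have hJn : IsNilpotent J := isNilpotent_sup_span _ hker hpn
  have hpJ : (p : S) ∈ J := Ideal.mem_sup_right (Ideal.mem_span_singleton_self _)
  have hWf : Function.Surjective Wf := WittVector.map_surjective f hf
  obtain ⟨N, hN⟩ := exists_pow_kill J hJn hpJ
  have hkill : ∀ κ : P', κ ∈ RingHom.ker Wf • (⊤ : Submodule (WittVector p S) P') →
      ((p : WittVector p S) ^ N) • κ = 0 := by
    intro κ hκ
    refine Submodule.smul_induction_on hκ (fun a ha x _ => ?_) (fun x y hx hy => ?_)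
    · have ha' : a ∈ Wid p J := by
        rw [ker_map_eq_Wid] at ha
        exact Wid_mono le_sup_left ha
      rw [smul_smul, hN a ha', zero_smul]
    · rw [smul_add, hx, hy, add_zero]
  have hkerι : ∀ z : P', Dieu.BC.tmul Wf 1 z = 0 → ((p : WittVector p S) ^ N) • z = 0 :=
    fun z hz => hkill z (mem_of_tmul_one_eq_zero Wf hWf hz)
  -- a linear lift of `χ`
  haveI := D.finite
  haveI := D.projective
  obtain ⟨n, π, hπ⟩ := Module.Finite.exists_fin' (WittVector p S) P
  obtain ⟨i, hi⟩ := Module.projective_lifting_property π LinearMap.id hπ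
  choose y hy using fun l : Fin n =>
    exists_tmul_one Wf hWf (χ (Dieu.BC.tmul Wf 1 (π (Pi.single l 1))))
  let χt : P →ₗ[WittVector p S] P' := (Fintype.linearCombination (WittVector p S) y).comp i
  have hχt : ∀ x, Dieu.BC.tmul Wf 1 (χt x) = χ (Dieu.BC.tmul Wf 1 x) := by
    intro x
    have e1 : χt x = ∑ l, i x l • y l := by
      change Fintype.linearCombination (WittVector p S) y (i x) = _
      rw [Fintype.linearCombination_apply]
    have e2 : Dieu.BC.tmul Wf 1 x = ∑ l, Wf (i x l) • Dieu.BC.tmul Wf 1 (π (Pi.single l 1)) := by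
      conv_lhs => rw [eq_sum i π hi x]
      rw [← Dieu.BC.ι_apply, map_sum]
      refine Finset.sum_congr rfl fun l _ => ?_
      rw [map_smulₛₗ, Dieu.BC.ι_apply]
    rw [e1, e2, map_sum, ← Dieu.BC.ι_apply, map_sum]
    refine Finset.sum_congr rfl fun l _ => ?_
    rw [map_smulₛₗ, Dieu.BC.ι_apply, map_smul, hy]
  -- decomposition of `χt q` for `q ∈ Q`
  have hdec : ∀ q : D.Q, ∃ q' : D'.Q, ((p : WittVector p S) ^ N) • χt q =
      ((p : WittVector p S) ^ N) • (q' : P') ∧
      Dieu.BC.tmul Wf 1 (χt q) = Dieu.BC.tmul Wf 1 (q' : P') := by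
    intro q
    have hzQ : Dieu.BC.tmul Wf 1 (χt q) ∈ DR'.Q := by
      rw [hχt]
      exact hχ.mapsTo _ (tmul_mem_Q hDR q)
    obtain ⟨q', hq', hκ⟩ := Q_decomp hf hDR' hzQ
    refine ⟨⟨q', hq'⟩, ?_, ?_⟩
    · have := hkill _ hκ
      rwa [smul_sub, sub_eq_zero] at this
    · have := tmul_one_eq_zero_of_mem Wf hκ
      rwa [sub_eq_add_neg, Dieu.BC.tmul_add, Dieu.BC.tmul_neg, ← sub_eq_add_neg, sub_eq_zero] at this
  have hpN : (WittVector.frobenius : WittVector p S →+* WittVector p S)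
      ((p : WittVector p S) ^ N) = (p : WittVector p S) ^ N := by
    rw [map_pow, map_natCast]
  have hmaps : ∀ q : P, q ∈ D.Q → (((p : WittVector p S) ^ N) • χt) q ∈ D'.Q := by
    intro q hq
    obtain ⟨q', e1, -⟩ := hdec ⟨q, hq⟩
    rw [LinearMap.smul_apply, e1]
    exact D'.Q.smul_mem _ q'.2
  refine ⟨N, ((p : WittVector p S) ^ N) • χt, ⟨hmaps, fun x => ?_, fun q => ?_⟩, ?_⟩
  · -- comm_F
    rw [LinearMap.smul_apply, LinearMap.smul_apply, map_smulₛₗ, hpN, ← sub_eq_zero, ← smul_sub]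
    apply hkerι
    have h1 := hDR.F_tmul 1 x
    have h2 := hDR'.F_tmul 1 (χt x)
    rw [map_one] at h1 h2
    rw [sub_eq_add_neg, Dieu.BC.tmul_add, Dieu.BC.tmul_neg, ← sub_eq_add_neg, sub_eq_zero, hχt,
      ← h1, hχ.comm_F, ← hχt, h2]
  · -- comm_Vinv
    obtain ⟨q', e1, e2⟩ := hdec q
    have e3 : (⟨(((p : WittVector p S) ^ N) • χt) q, hmaps q q.2⟩ : D'.Q) =
        ((p : WittVector p S) ^ N) • q' := Subtype.ext e1
    rw [e3, map_smulₛₗ, hpN, LinearMap.smul_apply, ← sub_eq_zero, ← smul_sub]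
    apply hkerι
    have h1 := hDR.Vinv_tmul 1 q (tmul_mem_Q hDR q)
    have h2 := hDR'.Vinv_tmul 1 q' (tmul_mem_Q hDR' q')
    rw [map_one] at h1 h2
    rw [sub_eq_add_neg, Dieu.BC.tmul_add, Dieu.BC.tmul_neg, ← sub_eq_add_neg, sub_eq_zero, hχt,
      ← h1, hχ.comm_Vinv, ← h2]
    congr 1
    apply Subtype.ext
    change χ (Dieu.BC.tmul Wf 1 (q : P)) = Dieu.BC.tmul Wf 1 (q' : P')
    rw [← hχt, e2]
  · apply Dieu.BC.ext
    intro x
    rw [Dieu.BC.map_tmul, LinearMap.smul_apply, LinearMap.smul_apply, ← hχt,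
      ← Dieu.BC.tmul_apply_eq, Dieu.BC.tmul_eq_smul_tmul_one, map_pow, map_natCast]

end Main

end Groth.Agent.H74.DispProp40
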