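import Groth.Agent.H74.DispFaithful
import Mathlib

/-!
# No `p`-torsion in homomorphisms of displays (helper74, S16544)
-/

set_option autoImplicit false
set_option linter.style.haveILetI false

open WittVector

namespace Groth.Agent.H74.DispTorsion

open Groth.Agent.H74.WittFrobNil Groth.Agent.H74.DispFaithful

universe u v

variable {p : ℕ} [hp : Fact p.Prime]

/-- Over a reduced ring of characteristic `p`, `W` has no `p`-torsion. -/
theorem eq_zero_of_p_mul_eq_zero {A : Type u} [CommRing A] [IsReduced A] (hpA : (p : A) = 0)
    {y : WittVector p A} (hy : (p : WittVector p A) * y = 0) : y = 0 := by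
  by_cases hA : Subsingleton A
  · ext n
    exact Subsingleton.elim _ _
  · rw [not_subsingleton_iff_nontrivial] at hA
    haveI : CharP A p := (CharP.charP_iff_prime_eq_zero hp.out).2 hpA
    rw [mul_comm, ← verschiebung_frobenius] at hy
    have h1 : frobenius y = 0 := verschiebung_injective _ _ (by rw [hy, map_zero])
    rw [frobenius_eq_map_frobenius] at h1
    exact WittVector.map_injective _ (frobenius_inj A p) (by rw [h1, map_zero])

/-- `p`-torsion Witt vectors have nilpotent coefficients, when `p` is nilpotent. -/
theorem mem_Wid_nilradical {S : Type u} [CommRing S] (hpn : IsNilpotent (p : S))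
    {w : WittVector p S} (hw : (p : WittVector p S) * w = 0) : w ∈ Wid p (nilradical S) := by
  unfold Wid
  rw [RingHom.mem_ker]
  haveI : IsReduced (S ⧸ nilradical S) := by
    rw [← Ideal.isRadical_iff_quotient_reduced]
    exact Ideal.radical_isRadical _
  apply eq_zero_of_p_mul_eq_zero (A := S ⧸ nilradical S)
  · rw [← map_natCast (Ideal.Quotient.mk (nilradical S)), Ideal.Quotient.eq_zero_iff_mem]
    exact mem_nilradical.2 hpn
  · rw [← map_natCast (WittVector.map (Ideal.Quotient.mk (nilradical S))), ← map_mul, hw, map_zero]

variable {S : Type u} [CommRing S]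
variable {P P' : Type v} [AddCommGroup P] [Module (WittVector p S) P] [AddCommGroup P']
  [Module (WittVector p S) P']

theorem main (hpn : IsNilpotent (p : S)) (hn : IsNilpotent (nilradical S))
    (D : W4c1extbt610.Display3n p S P) (D' : W4c1extbt610.Display3n p S P')
    (hD : Dieu.IsDisplay D)
    (ψ : P →ₗ[WittVector p S] P') (hψ : W4c1extbt610.IsHom D D' ψ)
    (h : (p : WittVector p S) • ψ = 0) : ψ = 0 := by
  apply core (nilradical S) hn (mem_nilradical.2 hpn) D D' hD ψ hψ
  intro x
  haveI := D'.finite
  haveI := D'.projective
  obtain ⟨n, π, hπ⟩ := Module.Finite.exists_fin' (WittVector p S) P'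
  obtain ⟨i, hi⟩ := Module.projective_lifting_property π LinearMap.id hπ
  apply mem_of_coord i π hi
  intro l
  apply mem_Wid_nilradical hpn
  have h1 : (p : WittVector p S) • ψ x = 0 := by
    have := congrArg (fun f => f x) h
    rwa [LinearMap.smul_apply, LinearMap.zero_apply] at this
  have h2 := congrArg (fun z => i z l) h1
  rwa [map_smul, Pi.smul_apply, smul_eq_mul, map_zero, Pi.zero_apply] at h2

end Groth.Agent.H74.DispTorsion
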