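import Groth.Agent.H74.DispRank
import Mathlib

/-!
# The operator `V^#` of a 3n-display (Zink, Lemma 10)
-/

set_option autoImplicit false
set_option linter.style.haveILetI false

open TensorProduct WittVector

namespace Groth.Agent.H74.DispVSharp

universe u v

variable {p : ℕ} [hp : Fact p.Prime] {R : Type u} [CommRing R]
variable {P : Type v} [AddCommGroup P] [Module (WittVector p R) P]

local notation "σ" => (WittVector.frobenius : WittVector p R →+* WittVector p R)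

variable (D : W4c1extbt610.Display3n p R P)

/-- every element of `IV` is a Verschiebung -/
theorem exists_verschiebung_of_mem_IV {a : WittVector p R} (ha : a ∈ W4c1extbt610.IV p R) :
    ∃ w : WittVector p R, a = verschiebung w := by
  rw [Groth.Agent.H74.NormalDecomp.IV_eq_ker] at ha
  exact Groth.Agent.H74.WittComplete.eq_verschiebung_of_coeff_zero
    (Groth.Agent.H74.WittComplete.mem_I_iff.1 ha)

/-- `F y = p • V⁻¹ y` for `y ∈ Q`. -/
theorem F_eq_p_smul_Vinv (y : D.Q) : D.F (y : P) = (p : WittVector p R) • D.Vinv y := by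
  have h := D.Vinv_verschiebung_smul 1 (y : P)
  rw [one_smul] at h
  rw [← h]
  have : (⟨verschiebung (1 : WittVector p R) • (y : P),
      D.IV_smul_le (Submodule.smul_mem_smul (W4c1extbt610.verschiebung_mem_IV p R 1)
        Submodule.mem_top)⟩ : D.Q) = verschiebung (1 : WittVector p R) • y := rfl
  rw [this, map_smulₛₗ, frobenius_verschiebung, one_mul]

variable {D} {L T : Submodule (WittVector p R) P}

/-- the semilinear map `(l, t) ↦ V⁻¹ l + F t` -/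
noncomputable def Psi0 (hLQ : L ≤ D.Q) : (L × T) →ₛₗ[σ] P :=
  (D.Vinv.comp (Submodule.inclusion hLQ)).comp (LinearMap.fst (WittVector p R) L T) +
    (D.F.comp T.subtype).comp (LinearMap.snd (WittVector p R) L T)

theorem Psi0_apply (hLQ : L ≤ D.Q) (x : L × T) :
    Psi0 hLQ x = D.Vinv ⟨(x.1 : P), hLQ x.1.2⟩ + D.F (x.2 : P) := rfl

/-- the linearisation of `V⁻¹ ⊕ F` -/
noncomputable def Phi (hLQ : L ≤ D.Q) : Dieu.BC σ (L × T) →ₗ[WittVector p R] P :=
  Dieu.BC.lift σ (Psi0 hLQ)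

theorem Phi_tmul (hLQ : L ≤ D.Q) (w : WittVector p R) (x : L × T) :
    Phi hLQ (Dieu.BC.tmul σ w x) = w • (D.Vinv ⟨(x.1 : P), hLQ x.1.2⟩ + D.F (x.2 : P)) := by
  rw [Phi, Dieu.BC.lift_tmul, Psi0_apply]

theorem Phi_surjective (hLQ : L ≤ D.Q) (hQ : D.Q = L ⊔ W4c1extbt610.IV p R • T) :
    Function.Surjective (Phi (T := T) hLQ) := by
  rw [← LinearMap.range_eq_top]
  set S := LinearMap.range (Phi (T := T) hLQ) with hS
  have hC : ∀ t ∈ T, D.F t ∈ S := by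
    intro t ht
    refine ⟨Dieu.BC.tmul σ 1 ((0 : L), (⟨t, ht⟩ : T)), ?_⟩
    rw [Phi_tmul, one_smul]
    have : (⟨((0 : L) : P), hLQ (0 : L).2⟩ : D.Q) = 0 := rfl
    simp only [this, map_zero, zero_add]
  have hA : ∀ (l : P) (hl : l ∈ L), D.Vinv ⟨l, hLQ hl⟩ ∈ S := by
    intro l hl
    refine ⟨Dieu.BC.tmul σ 1 ((⟨l, hl⟩ : L), (0 : T)), ?_⟩
    rw [Phi_tmul, one_smul]
    simp only [Submodule.coe_zero, map_zero, add_zero]
  have hB : ∀ z ∈ W4c1extbt610.IV p R • T, ∃ hz : z ∈ D.Q, D.Vinv ⟨z, hz⟩ ∈ S := by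
    intro z hz
    refine Submodule.smul_induction_on hz ?_ ?_
    · intro a ha t ht
      obtain ⟨w, rfl⟩ := exists_verschiebung_of_mem_IV ha
      refine ⟨D.IV_smul_le (Submodule.smul_mem_smul (W4c1extbt610.verschiebung_mem_IV p R w)
        Submodule.mem_top), ?_⟩
      rw [D.Vinv_verschiebung_smul w t]
      exact S.smul_mem w (hC t ht)
    · rintro x y ⟨hx, hx'⟩ ⟨hy, hy'⟩
      refine ⟨D.Q.add_mem hx hy, ?_⟩
      have : (⟨x + y, D.Q.add_mem hx hy⟩ : D.Q) = ⟨x, hx⟩ + ⟨y, hy⟩ := rfl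
      rw [this, map_add]
      exact S.add_mem hx' hy'
  rw [eq_top_iff, ← D.span_range_Vinv, Submodule.span_le]
  rintro _ ⟨q, rfl⟩
  have hq : (q : P) ∈ L ⊔ W4c1extbt610.IV p R • T := hQ ▸ q.2
  obtain ⟨l, hl, z, hz, hlz⟩ := Submodule.mem_sup.mp hq
  obtain ⟨hzQ, hz'⟩ := hB z hz
  have : q = ⟨l, hLQ hl⟩ + ⟨z, hzQ⟩ := Subtype.ext hlz.symm
  rw [this, map_add]
  exact S.add_mem (hA l hl) hz'

theorem Phi_bijective (hpn : IsNilpotent (p : R)) (hLT : IsCompl L T) (hLQ : L ≤ D.Q)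
    (hQ : D.Q = L ⊔ W4c1extbt610.IV p R • T) : Function.Bijective (Phi (T := T) hLQ) := by
  haveI := D.finite
  haveI := D.projective
  let e := Submodule.prodEquivOfIsCompl L T hLT
  haveI : Module.Finite (WittVector p R) (L × T) := Module.Finite.equiv e.symm
  haveI : Module.Projective (WittVector p R) (L × T) := Module.Projective.of_equiv e.symm
  exact Groth.Agent.H74.DispRank.bijective_of_surjective hpn e (Phi hLQ) (Phi_surjective hLQ hQ)

/-- `(l, t) ↦ l + p t` -/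
noncomputable def jmap (L T : Submodule (WittVector p R) P) : (L × T) →ₗ[WittVector p R] P :=
  L.subtype.comp (LinearMap.fst (WittVector p R) L T) +
    (p : WittVector p R) • T.subtype.comp (LinearMap.snd (WittVector p R) L T)

theorem jmap_apply (x : L × T) : jmap L T x = (x.1 : P) + (p : WittVector p R) • (x.2 : P) := rfl

/-- The operator `V^#` attached to a normal decomposition. -/
noncomputable def Vs (hpn : IsNilpotent (p : R)) (hLT : IsCompl L T) (hLQ : L ≤ D.Q)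
    (hQ : D.Q = L ⊔ W4c1extbt610.IV p R • T) : P →ₗ[WittVector p R] Dieu.BC σ P :=
  (Dieu.BC.map σ (jmap L T)).comp
    (LinearEquiv.ofBijective (Phi (T := T) hLQ) (Phi_bijective hpn hLT hLQ hQ)).symm.toLinearMap

theorem Vs_Phi (hpn : IsNilpotent (p : R)) (hLT : IsCompl L T) (hLQ : L ≤ D.Q)
    (hQ : D.Q = L ⊔ W4c1extbt610.IV p R • T) (z : Dieu.BC σ (L × T)) :
    Vs hpn hLT hLQ hQ (Phi hLQ z) = Dieu.BC.map σ (jmap L T) z := by
  rw [Vs, LinearMap.comp_apply]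
  congr 1
  exact (LinearEquiv.ofBijective (Phi (T := T) hLQ) (Phi_bijective hpn hLT hLQ hQ)).symm_apply_apply z

theorem Vs_smul_Vinv_L (hpn : IsNilpotent (p : R)) (hLT : IsCompl L T) (hLQ : L ≤ D.Q)
    (hQ : D.Q = L ⊔ W4c1extbt610.IV p R • T) (w : WittVector p R) (l : P) (hl : l ∈ L) :
    Vs hpn hLT hLQ hQ (w • D.Vinv ⟨l, hLQ hl⟩) = Dieu.BC.tmul σ w l := by
  have h1 : Phi (T := T) hLQ (Dieu.BC.tmul σ w ((⟨l, hl⟩ : L), (0 : T))) = w • D.Vinv ⟨l, hLQ hl⟩ := by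
    rw [Phi_tmul]
    simp only [Submodule.coe_zero, map_zero, add_zero]
  rw [← h1, Vs_Phi, Dieu.BC.map_tmul, jmap_apply]
  simp only [Submodule.coe_zero, smul_zero, add_zero]

theorem Vs_smul_F_T (hpn : IsNilpotent (p : R)) (hLT : IsCompl L T) (hLQ : L ≤ D.Q)
    (hQ : D.Q = L ⊔ W4c1extbt610.IV p R • T) (w : WittVector p R) (t : P) (ht : t ∈ T) :
    Vs hpn hLT hLQ hQ (w • D.F t) = (p : WittVector p R) • Dieu.BC.tmul σ w t := by
  have h1 : Phi (T := T) hLQ (Dieu.BC.tmul σ w ((0 : L), (⟨t, ht⟩ : T))) = w • D.F t := by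
    rw [Phi_tmul]
    have : (⟨((0 : L) : P), hLQ (0 : L).2⟩ : D.Q) = 0 := rfl
    simp only [this, map_zero, zero_add]
  rw [← h1, Vs_Phi, Dieu.BC.map_tmul, jmap_apply]
  simp only [Submodule.coe_zero, zero_add]
  rw [← Dieu.BC.tmul_mul_apply, map_natCast, Dieu.BC.smul_tmul, mul_comm]

theorem isVSharp_Vs (hpn : IsNilpotent (p : R)) (hLT : IsCompl L T) (hLQ : L ≤ D.Q)
    (hQ : D.Q = L ⊔ W4c1extbt610.IV p R • T) : Dieu.IsVSharp D (Vs hpn hLT hLQ hQ) := by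
  -- the relation on `IV • T`
  have hB : ∀ z ∈ W4c1extbt610.IV p R • T, ∃ hz : z ∈ D.Q, ∀ w : WittVector p R,
      Vs hpn hLT hLQ hQ (w • D.Vinv ⟨z, hz⟩) = Dieu.BC.tmul σ w z := by
    intro z hz
    refine Submodule.smul_induction_on hz ?_ ?_
    · intro a ha t ht
      obtain ⟨u, rfl⟩ := exists_verschiebung_of_mem_IV ha
      refine ⟨D.IV_smul_le (Submodule.smul_mem_smul (W4c1extbt610.verschiebung_mem_IV p R u)
        Submodule.mem_top), fun w => ?_⟩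
      rw [D.Vinv_verschiebung_smul u t, smul_smul, Vs_smul_F_T hpn hLT hLQ hQ _ t ht,
        ← Dieu.BC.tmul_mul_apply, frobenius_verschiebung, Dieu.BC.smul_tmul]
      congr 1
      ring
    · rintro x y ⟨hx, hx'⟩ ⟨hy, hy'⟩
      refine ⟨D.Q.add_mem hx hy, fun w => ?_⟩
      have : (⟨x + y, D.Q.add_mem hx hy⟩ : D.Q) = ⟨x, hx⟩ + ⟨y, hy⟩ := rfl
      rw [this, map_add, smul_add, map_add, hx' w, hy' w, Dieu.BC.tmul_add]
  have hV : ∀ (w : WittVector p R) (y : D.Q),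
      Vs hpn hLT hLQ hQ (w • D.Vinv y) = Dieu.BC.tmul σ w (y : P) := by
    intro w y
    have hq : (y : P) ∈ L ⊔ W4c1extbt610.IV p R • T := hQ ▸ y.2
    obtain ⟨l, hl, z, hz, hlz⟩ := Submodule.mem_sup.mp hq
    obtain ⟨hzQ, hz'⟩ := hB z hz
    have : y = ⟨l, hLQ hl⟩ + ⟨z, hzQ⟩ := Subtype.ext hlz.symm
    rw [this, map_add, smul_add, map_add, Vs_smul_Vinv_L hpn hLT hLQ hQ w l hl, hz' w,
      ← Dieu.BC.tmul_add]
    rfl
  refine ⟨fun w x => ?_, hV⟩
  -- decompose `x = l + t`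
  have hx : x ∈ L ⊔ T := by rw [hLT.sup_eq_top]; trivial
  obtain ⟨l, hl, t, ht, rfl⟩ := Submodule.mem_sup.mp hx
  rw [map_add, smul_add, map_add, Vs_smul_F_T hpn hLT hLQ hQ w t ht, Dieu.BC.tmul_add, smul_add]
  congr 1
  have := F_eq_p_smul_Vinv D ⟨l, hLQ hl⟩
  change D.F l = _ at this
  rw [this, smul_smul, hV, Dieu.BC.smul_tmul, mul_comm]

theorem isVSharp_unique {Vs₁ Vs₂ : P →ₗ[WittVector p R] Dieu.BC σ P} (h₁ : Dieu.IsVSharp D Vs₁)
    (h₂ : Dieu.IsVSharp D Vs₂) : Vs₁ = Vs₂ := by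
  apply LinearMap.ext_on_range D.span_range_Vinv
  intro y
  have e1 := h₁.app_smul_Vinv 1 y
  have e2 := h₂.app_smul_Vinv 1 y
  rw [one_smul] at e1 e2
  rw [e1, e2]

theorem existsUnique_vSharp (hpn : IsNilpotent (p : R)) (D : W4c1extbt610.Display3n p R P) :
    ∃! Vs : P →ₗ[WittVector p R] Dieu.BC σ P, Dieu.IsVSharp D Vs := by
  obtain ⟨L, T, hLT, hQ⟩ := D.exists_normal
  have hLQ : L ≤ D.Q := by rw [hQ]; exact le_sup_left
  exact ⟨Vs hpn hLT hLQ hQ, isVSharp_Vs hpn hLT hLQ hQ,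
    fun Vs' h' => isVSharp_unique h' (isVSharp_Vs hpn hLT hLQ hQ)⟩

end Groth.Agent.H74.DispVSharp
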