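import Mathlib
import Groth.Agent.H74.GStab
import Groth.Agent.H74.StabSat
import Groth.Agent.H74.OrbStmt
import Groth.Agent.H62.Reynolds

/-!
# Orbits of unipotent groups on affine varieties are closed (Kostant–Rosenlicht)

`k` algebraically closed, `A` a finitely generated commutative Hopf algebra which is unipotent
(`HopfRep.IsUnipotent`), `R` a finitely generated comodule algebra.  Then every orbit is closed:

* `exists_fixed_of_isUnipotent`: a nonzero subcomodule (of any dimension) of a comodule of a
  unipotent group contains a nonzero fixed vector;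
* `eq_algebraMap_of_mem_fixedPts_regular`: the fixed vectors of the regular comodule are the
  constants;
* `closedOrb_of_isUnipotent`, `isClosedOrbit_of_isUnipotent`: the Kostant–Rosenlicht theorem, on
  rational points and in the prime spectrum.
-/

set_option autoImplicit false
set_option linter.unusedSectionVars false

open TensorProduct WithConv HopfRep

namespace Groth.Agent.H74.UnipOrb

open Groth.Agent.H74.CoactPts Groth.Agent.H74.OrbGen Groth.Agent.H74.OrbPts
  Groth.Agent.H74.StabSat Groth.Agent.H62

universe u v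

section Fix

variable {k : Type u} [Field k] {A : Type v} [CommRing A] [Bialgebra k A]

/-- a nonzero subcomodule of a comodule of a unipotent group contains a nonzero fixed vector -/
theorem exists_fixed_of_isUnipotent (hU : IsUnipotent k A) {V : Type v} [AddCommGroup V]
    [Module k V] [Comod k A V] (M : Submodule k V) (hM : IsSubcomod (k := k) (A := A) M)
    (hne : M ≠ ⊥) : ∃ w ∈ M, w ≠ 0 ∧ w ∈ fixedPts k A V := by
  obtain ⟨m, hm, hm0⟩ := Submodule.exists_mem_ne_zero_of_ne_bot hne
  let _ := subComod M hM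
  obtain ⟨W, hW, hWf, hmW⟩ := exists_finite_subcomod (k := k) (A := A) (⟨m, hm⟩ : M)
  let _ := subComod W hW
  have hnt : Nontrivial W := by
    refine ⟨⟨⟨⟨m, hm⟩, hmW⟩, 0, ?_⟩⟩
    intro h
    apply hm0
    have h1 := congrArg (fun w : W => ((w : M) : V)) h
    exact h1
  have hfix := hU W inferInstance hnt
  obtain ⟨w, hw, hw0⟩ := Submodule.exists_mem_ne_zero_of_ne_bot hfix
  refine ⟨((w : M) : V), (w : M).2, ?_, ?_⟩
  · intro h
    apply hw0
    apply Subtype.ext
    apply Subtype.ext
    exact h
  · have h1 := (mem_fixedPts_sub_iff W hW w).mp hw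
    exact (mem_fixedPts_sub_iff M hM (w : M)).mp h1

/-- the fixed vectors of the regular comodule are the constants -/
theorem eq_algebraMap_of_mem_fixedPts_regular (w : A) (hw : w ∈ fixedPts k A A) :
    w = algebraMap k A (CoalgebraStruct.counit (R := k) w) := by
  have h : CoalgebraStruct.comul (R := k) w = w ⊗ₜ[k] (1 : A) := hw
  have h1 := Coalgebra.rTensor_counit_comul (R := k) w
  rw [h, LinearMap.rTensor_tmul] at h1
  have h2 := congrArg (TensorProduct.lid k A) h1
  rw [TensorProduct.lid_tmul, TensorProduct.lid_tmul, one_smul] at h2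
  rw [Algebra.algebraMap_eq_smul_one]
  exact h2.symm

end Fix

section KR

variable {k : Type u} [Field k] [IsAlgClosed k]
variable {A : Type u} [CommRing A] [HopfAlgebra k A] [Algebra.FiniteType k A]
variable {R : Type u} [CommRing R] [Algebra k R] [Algebra.FiniteType k R]
  [HopfRep.Comod k A R] [GLin.IsCoactAlg k A R]

/-- for a unipotent group, the closure of the orbit of `x` contains no smaller orbit closure -/
theorem Iorb_le_of_isUnipotent (hU : IsUnipotent k A) (x y : R →ₐ[k] k)
    (hxy : Iorb A x ≤ RingHom.ker y) : Iorb A y ≤ Iorb A x := by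
  let Z : Set (R →ₐ[k] k) := Set.range (actR (A := A) y)
  have hZ : ∀ z ∈ Z, ∀ g : WithConv (A →ₐ[k] k), actR z g ∈ Z := by
    rintro _ ⟨h, rfl⟩ g
    exact ⟨h * g, (actR_mul y h g).symm⟩
  obtain ⟨m, hm⟩ := exists_pow_mem_satI (A := A) Z hZ
  have hJ := isSubcomod_satI (A := A) Z
  let θ : R →ₗ[k] A := (GLin.orbitHom k A x).toLinearMap
  have hθ : Hoch.IsComodHom A θ := by
    have h1 : θ = Groth.Agent.H59.Orbit.theta (A := A) x := by
      ext f
      exact OrbStmt.orbitHom_eq_theta x f
    rw [h1]
    exact Groth.Agent.H59.Orbit.theta_isComodHom x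
  have hMJ := isSubcomod_map θ hθ _ hJ
  by_cases hbot : ((satI A Z).restrictScalars k).map θ = ⊥
  · intro f hf
    have hfZ : ∀ z ∈ Z, z f = 0 := by
      rintro _ ⟨g, rfl⟩
      exact mem_Iorb.mp hf g
    have h1 := hm f hfZ
    have h2 : θ (f ^ m) = 0 := by
      have h3 : θ (f ^ m) ∈ ((satI A Z).restrictScalars k).map θ :=
        Submodule.mem_map_of_mem h1
      rw [hbot] at h3
      exact (Submodule.mem_bot k).mp h3
    change GLin.orbitHom k A x f ∈ nilradical A
    rw [mem_nilradical]
    refine ⟨m, ?_⟩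
    rw [← map_pow]
    exact h2
  · exfalso
    obtain ⟨w, hwM, hw0, hwfix⟩ := exists_fixed_of_isUnipotent hU _ hMJ hbot
    obtain ⟨f, hfJ, rfl⟩ := hwM
    obtain ⟨c, hc⟩ : ∃ c : k, θ f = algebraMap k A c :=
      ⟨_, eq_algebraMap_of_mem_fixedPts_regular _ hwfix⟩
    have hc0 : c ≠ 0 := by
      intro h
      apply hw0
      rw [hc, h, map_zero]
    have h1 : f - algebraMap k R c ∈ Iorb A x := by
      rw [mem_Iorb]
      intro g
      rw [actR_apply, map_sub, AlgHom.commutes]
      have h2 : GLin.orbitHom k A x f = θ f := rfl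
      rw [h2, hc, sub_self, map_zero]
    have h2 : y (f - algebraMap k R c) = 0 := RingHom.mem_ker.mp (hxy h1)
    have h3 : y f = 0 := RingHom.mem_ker.mp
      (satI_le_ker (A := A) (Z := Z) (z := y) ⟨1, actR_one y⟩ hfJ)
    rw [map_sub, h3, AlgHom.commutes, zero_sub, neg_eq_zero] at h2
    exact hc0 h2

/-- **Kostant–Rosenlicht** (rational points): the orbits of a unipotent group on an affine variety
are closed. -/
theorem closedOrb_of_isUnipotent (hU : IsUnipotent k A) (x : R →ₐ[k] k) : ClosedOrb A x := by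
  obtain ⟨y, hxy, hy⟩ := exists_closedOrb (A := A) x
  have h1 : Iorb A y ≤ Iorb A x := Iorb_le_of_isUnipotent hU x y hxy
  have h2 : Iorb A x ≤ Iorb A y := Iorb_le_of_le_ker hxy
  have heq : Iorb A y = Iorb A x := le_antisymm h1 h2
  obtain ⟨g, hg⟩ := exists_actR_eq_of_Iorb_eq y x heq
  intro z hz
  obtain ⟨g', hg'⟩ := hy z (heq ▸ hz)
  refine ⟨g⁻¹ * g', ?_⟩
  rw [hg', hg, actR_mul, mul_inv_cancel_left]

/-- **Kostant–Rosenlicht**: the orbits of a unipotent group on an affine variety are closed. -/
theorem isClosedOrbit_of_isUnipotent (hU : IsUnipotent k A) (x : R →ₐ[k] k) :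
    GLin.IsClosedOrbit k A x :=
  (GStab.isClosedOrbit_iff x).mpr (closedOrb_of_isUnipotent hU x)

end KR

end Groth.Agent.H74.UnipOrb
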