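import Mathlib
import Groth.Agent.H74.UnipOrb
import Groth.Agent.H93.HopfSub
import Groth.Agent.H15.UnipExt
import Groth.Agent.H82.Chev

/-!
# Orbits of pro-unipotent groups are closed

* `subalgComod`, `subalg_isCoactAlg`: a stable subalgebra of a comodule algebra is a comodule algebra;
  `isSubcomod_adjoin`: the subalgebra generated by a subcomodule is stable;
* `regular_isCoactAlg`, `orbitHom_counit_subalg`: a right coideal subalgebra `C` of a Hopf algebra is
  a comodule algebra whose unit point has orbit map the inclusion;
* `comap_surjective_of_coideal`: for a unipotent algebraic group `Spec A` over an algebraically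
  closed field, `Spec A → Spec C` is onto for every finitely generated right coideal subalgebra `C`;
* `isSubcomod_comap_hopfSub`: a right coideal contained in a Hopf subalgebra is a right coideal of it;
* `comap_surjective_of_coideal_union`, `isClosedOrbit_of_union`: the same for a unipotent Hopf algebra
  which is an increasing union of finitely generated Hopf subalgebras, and closedness of all orbits
  through rational points on arbitrary affine schemes.
-/

set_option autoImplicit false
set_option linter.unusedSectionVars false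
set_option linter.style.haveILetI false

open TensorProduct WithConv HopfRep

namespace Groth.Agent.H74.UnipOrb2

open Groth.Agent.H62

universe u v w

section SubAlg

variable {k : Type u} [Field k] {A : Type v} [CommRing A] [Bialgebra k A]
variable {R : Type w} [CommRing R] [Algebra k R] [Comod k A R] [GLin.IsCoactAlg k A R]

/-- the comodule structure on a stable subalgebra -/
@[reducible] noncomputable def subalgComod (C : Subalgebra k R)
    (hC : IsSubcomod (k := k) (A := A) (Subalgebra.toSubmodule C)) : Comod k A ↥C :=
  subComod (Subalgebra.toSubmodule C) hC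

theorem incl_subalg_coact (C : Subalgebra k R)
    (hC : IsSubcomod (k := k) (A := A) (Subalgebra.toSubmodule C)) (c : C) :
    letI := subalgComod C hC
    Algebra.TensorProduct.map C.val (AlgHom.id k A) (Comod.coact (k := k) (A := A) c) =
      Comod.coact (k := k) (A := A) (c : R) :=
  subtype_subCoact (Subalgebra.toSubmodule C) hC c

theorem incl_subalg_injective (C : Subalgebra k R) :
    Function.Injective (Algebra.TensorProduct.map C.val (AlgHom.id k A)) :=
  subtype_rTensor_injective (Subalgebra.toSubmodule C) A

theorem subalg_isCoactAlg (C : Subalgebra k R)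
    (hC : IsSubcomod (k := k) (A := A) (Subalgebra.toSubmodule C)) :
    letI := subalgComod C hC
    GLin.IsCoactAlg k A ↥C := by
  letI := subalgComod C hC
  constructor
  · apply incl_subalg_injective (A := A) C
    rw [incl_subalg_coact, map_one]
    exact GLin.IsCoactAlg.coact_one (k := k) (A := A) (R := R)
  · intro f g
    apply incl_subalg_injective (A := A) C
    rw [incl_subalg_coact, map_mul, incl_subalg_coact, incl_subalg_coact]
    exact GLin.IsCoactAlg.coact_mul (k := k) (A := A) (R := R) (f : R) (g : R)

/-- the subalgebra generated by a subcomodule of a comodule algebra is a subcomodule -/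
theorem isSubcomod_adjoin (W : Submodule k R) (hW : IsSubcomod (k := k) (A := A) W) :
    IsSubcomod (k := k) (A := A) (Subalgebra.toSubmodule (Algebra.adjoin k (W : Set R))) := by
  set C := Algebra.adjoin k (W : Set R) with hCdef
  have hWC : W ≤ Subalgebra.toSubmodule C := fun w hw => Algebra.subset_adjoin hw
  have key : C ≤ (Algebra.TensorProduct.map C.val (AlgHom.id k A)).range.comap
      (GLin.coactAlgHom k A R) := by
    apply Algebra.adjoin_le
    intro w hw
    obtain ⟨y, hy⟩ := hW w hw
    refine ⟨(Submodule.inclusion hWC).rTensor A y, ?_⟩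
    change ((Subalgebra.toSubmodule C).subtype.rTensor A) ((Submodule.inclusion hWC).rTensor A y) =
      Comod.coact (k := k) (A := A) w
    rw [← hy, ← LinearMap.comp_apply, ← LinearMap.rTensor_comp]
    rfl
  intro c hc
  obtain ⟨y, hy⟩ := key hc
  exact ⟨y, hy⟩

end SubAlg

section Regular

variable {k : Type u} [Field k] {A : Type v} [CommRing A] [Bialgebra k A]

/-- the regular comodule of a bialgebra is a comodule algebra -/
theorem regular_isCoactAlg : GLin.IsCoactAlg k A A :=
  ⟨Bialgebra.comul_one, Bialgebra.comul_mul⟩

/-- the orbit map of the unit point of a right coideal subalgebra is the inclusion -/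
theorem orbitHom_counit_subalg (C : Subalgebra k A)
    (hC : IsSubcomod (k := k) (A := A) (Subalgebra.toSubmodule C)) :
    letI := regular_isCoactAlg (k := k) (A := A)
    letI := subalgComod C hC
    letI := subalg_isCoactAlg C hC
    GLin.orbitHom k A ((Bialgebra.counitAlgHom k A).comp C.val) = C.val := by
  letI := regular_isCoactAlg (k := k) (A := A)
  letI := subalgComod C hC
  letI := subalg_isCoactAlg C hC
  apply AlgHom.ext
  intro c
  unfold GLin.orbitHom
  have h1 : Algebra.TensorProduct.map ((Bialgebra.counitAlgHom k A).comp C.val) (AlgHom.id k A) =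
      (Algebra.TensorProduct.map (Bialgebra.counitAlgHom k A) (AlgHom.id k A)).comp
        (Algebra.TensorProduct.map C.val (AlgHom.id k A)) := by
    apply Algebra.TensorProduct.ext'
    intro a b
    rfl
  rw [h1]
  simp only [AlgHom.coe_comp, Function.comp_apply, GLin.coactAlgHom_apply]
  rw [incl_subalg_coact]
  have h2 := Coalgebra.rTensor_counit_comul (R := k) (c : A)
  change (Algebra.TensorProduct.lid k A)
    ((CoalgebraStruct.counit (R := k) (A := A)).rTensor A (CoalgebraStruct.comul (R := k) (c : A))) = _
  rw [h2]
  simp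

end Regular


section Coideal

variable {k : Type u} [Field k] [IsAlgClosed k]
variable {A : Type u} [CommRing A] [HopfAlgebra k A] [Algebra.FiniteType k A]

open Groth.Agent.H74.UnipOrb

/-- for a unipotent algebraic group, the spectrum of the group maps onto the spectrum of every
finitely generated right coideal subalgebra (homogeneous spaces of unipotent groups are affine,
in the form: the dense orbit of the unit point is closed) -/
theorem comap_surjective_of_coideal (hU : IsUnipotent k A) (C : Subalgebra k A) (hfg : C.FG)
    (hC : IsSubcomod (k := k) (A := A) (Subalgebra.toSubmodule C)) :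
    Function.Surjective (PrimeSpectrum.comap C.val.toRingHom) := by
  letI := regular_isCoactAlg (k := k) (A := A)
  letI := subalgComod C hC
  letI := subalg_isCoactAlg C hC
  haveI : Algebra.FiniteType k C := (Subalgebra.fg_iff_finiteType C).mp hfg
  have hx := orbitHom_counit_subalg C hC
  have hcl := isClosedOrbit_of_isUnipotent hU ((Bialgebra.counitAlgHom k A).comp C.val)
  unfold GLin.IsClosedOrbit at hcl
  rw [hx] at hcl
  have hdense : closure (Set.range (PrimeSpectrum.comap C.val.toRingHom)) = Set.univ := by
    rw [PrimeSpectrum.closure_range_comap]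
    have h1 : RingHom.ker C.val.toRingHom = ⊥ :=
      (RingHom.injective_iff_ker_eq_bot _).mp Subtype.val_injective
    rw [h1]
    simp
  rw [hcl.closure_eq] at hdense
  exact Set.range_eq_univ.mp hdense

end Coideal


section Union

variable {k : Type u} [Field k] [IsAlgClosed k]
variable {H : Type u} [CommRing H] [HopfAlgebra k H]

open Groth.Agent.H93.HopfSub Groth.Agent.H74.UnipOrb

/-- a finitely generated submodule lies in a member of an increasing exhaustive sequence of
subalgebras -/
theorem exists_index_of_fg (B : ℕ → Subalgebra k H) (hmono : Monotone B)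
    (hcov : ∀ h : H, ∃ i, h ∈ B i) (N : Submodule k H) (hN : N.FG) :
    ∃ i, N ≤ Subalgebra.toSubmodule (B i) := by
  classical
  obtain ⟨S, rfl⟩ := hN
  induction S using Finset.induction_on with
  | empty => exact ⟨0, by simp⟩
  | insert a S ha ih =>
    obtain ⟨i, hi⟩ := ih
    obtain ⟨j, hj⟩ := hcov a
    refine ⟨max i j, ?_⟩
    rw [Finset.coe_insert, Submodule.span_insert]
    apply sup_le
    · rw [Submodule.span_singleton_le_iff_mem]
      exact hmono (le_max_right i j) hj
    · exact hi.trans (fun x hx => hmono (le_max_left i j) hx)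

/-- a right coideal of `H` contained in a Hopf subalgebra `B` is a right coideal of `B` -/
theorem isSubcomod_comap_hopfSub {B : Subalgebra k H} (hB : IsHopfSub B) (W : Submodule k H)
    (hW : IsSubcomod (k := k) (A := H) W) (hWB : W ≤ Subalgebra.toSubmodule B) :
    letI := hopfAlgebra hB
    IsSubcomod (k := k) (A := ↥B) (W.comap B.val.toLinearMap) := by
  letI := hopfAlgebra hB
  intro w' hw'
  obtain ⟨y, hy⟩ := hW (w' : H) hw'
  obtain ⟨r, hr⟩ := LinearMap.exists_leftInverse_of_injective B.val.toLinearMap
    (LinearMap.ker_eq_bot.mpr Subtype.val_injective)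
  have hr' : ∀ b : B, r (b : H) = b := fun b => LinearMap.congr_fun hr b
  let r' : W →ₗ[k] (W.comap B.val.toLinearMap) :=
    (r ∘ₗ W.subtype).codRestrict (W.comap B.val.toLinearMap) (fun w => by
      change ((r (w : H) : B) : H) ∈ W
      have h1 := hr' ⟨(w : H), hWB w.2⟩
      rw [h1]
      exact w.2)
  have hsub : (W.comap B.val.toLinearMap).subtype ∘ₗ r' = r ∘ₗ W.subtype :=
    LinearMap.subtype_comp_codRestrict _ _ _
  have hz : Comod.coact (k := k) (A := ↥B) w' =
      TensorProduct.map r r (ii B (comulB hB w')) := by
    have h2 : ∀ t : ↥B ⊗[k] ↥B, TensorProduct.map r r (ii B t) = t := by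
      intro t
      change TensorProduct.map r r
        (TensorProduct.map B.val.toLinearMap B.val.toLinearMap t) = t
      rw [← LinearMap.comp_apply, ← TensorProduct.map_comp, hr, TensorProduct.map_id]
      rfl
    exact (h2 _).symm
  have hy' : W.subtype.rTensor H y = CoalgebraStruct.comul (R := k) (w' : H) := hy
  rw [hz, ii_comulB, ← hy']
  refine ⟨TensorProduct.map r' r y, ?_⟩
  rw [LinearMap.rTensor, LinearMap.rTensor, ← LinearMap.comp_apply, ← LinearMap.comp_apply,
    ← TensorProduct.map_comp, ← TensorProduct.map_comp, hsub]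
  rfl


/-- **Spectra of right coideal subalgebras of a pro-unipotent group**: if the unipotent Hopf algebra
`H` is the increasing union of finitely generated Hopf subalgebras, then `Spec H` maps onto the
spectrum of every right coideal subalgebra. -/
theorem comap_surjective_of_coideal_union (hU : IsUnipotent k H)
    (B : ℕ → Subalgebra k H) (hmono : Monotone B) (hcov : ∀ h : H, ∃ i, h ∈ B i)
    (hfg : ∀ i, (B i).FG) (hB : ∀ i, IsHopfSub (B i))
    (C : Subalgebra k H) (hC : IsSubcomod (k := k) (A := H) (Subalgebra.toSubmodule C)) :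
    Function.Surjective (PrimeSpectrum.comap C.val.toRingHom) := by
  intro q
  rw [← Set.mem_range, PrimeSpectrum.mem_range_comap_iff]
  apply le_antisymm _ Ideal.le_comap_map
  intro c hc
  rw [Ideal.mem_comap] at hc
  have hc' : (c : H) ∈ Submodule.span H ((fun e : C => (e : H)) '' (q.asIdeal : Set C)) := hc
  obtain ⟨t, htq, a, ha⟩ := (Submodule.mem_span_image_iff_exists_fun _).mp hc'
  letI cC := subalgComod C hC
  obtain ⟨W₀, hW₀, hW₀f, hW₀mem⟩ := Groth.Agent.H82.Chev.exists_finite_subcomod (k := k) (C := H)
    (V := ↥C) (fun o : Option ↥t => o.elim c (fun e => (e : C)))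
  have hcW₀ : c ∈ W₀ := hW₀mem none
  have htW₀ : ∀ e : ↥t, (e : C) ∈ W₀ := fun e => hW₀mem (some e)
  let W : Submodule k H := W₀.map (Subalgebra.toSubmodule C).subtype
  have hW : IsSubcomod (k := k) (A := H) W :=
    isSubcomod_map _ (subtype_isComodHom (Subalgebra.toSubmodule C) hC) W₀ hW₀
  have hWC : W ≤ Subalgebra.toSubmodule C := by
    rintro _ ⟨w, _, rfl⟩
    exact w.2
  have hmemW : ∀ e : C, e ∈ W₀ → (e : H) ∈ W := fun e he => ⟨e, he, rfl⟩
  have hWfg : W.FG := by
    have h1 : W₀.FG := (Submodule.fg_iff_finiteDimensional W₀).mpr hW₀f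
    exact h1.map _
  obtain ⟨i, hi⟩ := exists_index_of_fg B hmono hcov (W ⊔ Submodule.span k (Set.range a))
    (Submodule.FG.sup hWfg (Submodule.fg_span (Set.finite_range a)))
  have hWB : W ≤ Subalgebra.toSubmodule (B i) := le_sup_left.trans hi
  have haB : ∀ e, a e ∈ B i := fun e => hi ((le_sup_right : _ ≤ W ⊔ _) (Submodule.subset_span ⟨e, rfl⟩))
  letI := hopfAlgebra (hB i)
  haveI : Algebra.FiniteType k ↥(B i) := (Subalgebra.fg_iff_finiteType _).mp (hfg i)
  have hUi : IsUnipotent k ↥(B i) :=
    Groth.Agent.H15.UnipExt.unip_of_injective hU (incl (hB i)) Subtype.val_injective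
  have hW' := isSubcomod_comap_hopfSub (hB i) W hW hWB
  letI := regular_isCoactAlg (k := k) (A := ↥(B i))
  have hC' := isSubcomod_adjoin (W.comap (B i).val.toLinearMap) hW'
  have hW'fg : (W.comap (B i).val.toLinearMap).FG := by
    haveI : Module.Finite k W := Module.Finite.iff_fg.mpr hWfg
    have hfin : Module.Finite k (W.comap (B i).val.toLinearMap) :=
      Module.Finite.of_injective
        ((B i).val.toLinearMap.restrict (p := W.comap (B i).val.toLinearMap) (q := W)
          (fun x hx => hx))
        (fun x y hxy => Subtype.ext (Subtype.val_injective (congrArg (fun z : W => (z : H)) hxy)))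
    exact Module.Finite.iff_fg.mp hfin
  have hC'fg : (Algebra.adjoin k ((W.comap (B i).val.toLinearMap : Submodule k ↥(B i)) :
      Set ↥(B i))).FG := by
    obtain ⟨S, hS⟩ := hW'fg
    rw [← hS, Algebra.adjoin_span]
    exact Subalgebra.fg_adjoin_finset S
  have hsurj := comap_surjective_of_coideal hUi _ hC'fg hC'
  have hC'C : ∀ b ∈ Algebra.adjoin k ((W.comap (B i).val.toLinearMap : Submodule k ↥(B i)) :
      Set ↥(B i)), (b : H) ∈ C := by
    intro b hb
    have h1 : Algebra.adjoin k ((W.comap (B i).val.toLinearMap : Submodule k ↥(B i)) :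
        Set ↥(B i)) ≤ C.comap (B i).val := Algebra.adjoin_le (fun w hw => hWC hw)
    exact h1 hb
  let j : ↥(Algebra.adjoin k ((W.comap (B i).val.toLinearMap : Submodule k ↥(B i)) :
      Set ↥(B i))) →ₐ[k] C :=
    ((B i).val.comp (Subalgebra.val _)).codRestrict C (fun b => hC'C b b.2)
  obtain ⟨P, hP⟩ := hsurj (PrimeSpectrum.comap j.toRingHom q)
  have hP' : ∀ b : ↥(Algebra.adjoin k ((W.comap (B i).val.toLinearMap : Submodule k ↥(B i)) :
      Set ↥(B i))), (b : ↥(B i)) ∈ P.asIdeal ↔ j b ∈ q.asIdeal := by
    intro b
    have h1 := congrArg PrimeSpectrum.asIdeal hP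
    exact (Ideal.ext_iff.mp h1 b)
  -- elements of `W₀` as elements of the coideal subalgebra of `B i`
  have hlift : ∀ e : C, e ∈ W₀ → ∃ b : ↥(Algebra.adjoin k
      ((W.comap (B i).val.toLinearMap : Submodule k ↥(B i)) : Set ↥(B i))),
      ((b : ↥(B i)) : H) = (e : H) := by
    intro e he
    exact ⟨⟨⟨(e : H), hWB (hmemW e he)⟩, Algebra.subset_adjoin (hmemW e he)⟩, rfl⟩
  have hjb : ∀ (e : C) (b : ↥(Algebra.adjoin k
      ((W.comap (B i).val.toLinearMap : Submodule k ↥(B i)) : Set ↥(B i)))),
      ((b : ↥(B i)) : H) = (e : H) → j b = e := fun e b h => Subtype.ext h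
  obtain ⟨cb, hcb⟩ := hlift c hcW₀
  have hmemP : (cb : ↥(B i)) ∈ P.asIdeal := by
    have hsum : (cb : ↥(B i)) = ∑ e : ↥t, (⟨a e, haB e⟩ : ↥(B i)) *
        (⟨((e : C) : H), hWB (hmemW _ (htW₀ e))⟩ : ↥(B i)) := by
      apply Subtype.val_injective
      rw [hcb, ← ha, AddSubmonoidClass.coe_finsetSum]
      rfl
    rw [hsum]
    apply Ideal.sum_mem
    intro e _
    apply Ideal.mul_mem_left
    obtain ⟨eb, heb⟩ := hlift (e : C) (htW₀ e)
    have h1 : (eb : ↥(B i)) ∈ P.asIdeal := by
      rw [hP', hjb _ _ heb]
      exact htq e.2
    have h2 : (eb : ↥(B i)) = ⟨((e : C) : H), hWB (hmemW _ (htW₀ e))⟩ := Subtype.ext heb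
    rw [← h2]
    exact h1
  rw [hP', hjb _ _ hcb] at hmemP
  exact hmemP

end Union


section Main

variable {k : Type u} [Field k] [IsAlgClosed k]
variable {H : Type u} [CommRing H] [HopfAlgebra k H]
variable {R : Type u} [CommRing R] [Algebra k R] [Comod k H R] [GLin.IsCoactAlg k H R]

open Groth.Agent.H93.HopfSub

/-- the image of an orbit map is a right coideal subalgebra -/
theorem isSubcomod_range_orbitHom (x : R →ₐ[k] k) :
    IsSubcomod (k := k) (A := H) (Subalgebra.toSubmodule (GLin.orbitHom k H x).range) := by
  let θ : R →ₗ[k] H := (GLin.orbitHom k H x).toLinearMap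
  have hθ : Hoch.IsComodHom H θ := by
    have h1 : θ = Groth.Agent.H59.Orbit.theta (A := H) x := by
      ext f
      exact OrbStmt.orbitHom_eq_theta x f
    rw [h1]
    exact Groth.Agent.H59.Orbit.theta_isComodHom x
  have htop : IsSubcomod (k := k) (A := H) (⊤ : Submodule k R) := by
    intro w _
    have hs : Function.Surjective ((⊤ : Submodule k R).subtype.rTensor H) :=
      LinearMap.rTensor_surjective H (fun r => ⟨⟨r, trivial⟩, rfl⟩)
    exact LinearMap.mem_range.mpr (hs _)
  have h2 := isSubcomod_map θ hθ ⊤ htop
  have h3 : Submodule.map θ ⊤ = Subalgebra.toSubmodule (GLin.orbitHom k H x).range := by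
    ext h
    simp only [Submodule.mem_map, Submodule.mem_top, true_and, Subalgebra.mem_toSubmodule,
      AlgHom.mem_range]
    rfl
  rw [← h3]
  exact h2

/-- **Orbits of pro-unipotent groups are closed**: if the unipotent Hopf algebra `H` is the
increasing union of finitely generated Hopf subalgebras, every orbit of `Spec H` on an affine scheme
`Spec R` (no finiteness condition on `R`) through a rational point is closed. -/
theorem isClosedOrbit_of_union (hU : IsUnipotent k H)
    (B : ℕ → Subalgebra k H) (hmono : Monotone B) (hcov : ∀ h : H, ∃ i, h ∈ B i)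
    (hfg : ∀ i, (B i).FG) (hB : ∀ i, IsHopfSub (B i)) (x : R →ₐ[k] k) :
    GLin.IsClosedOrbit k H x := by
  have hsurj := comap_surjective_of_coideal_union hU B hmono hcov hfg hB
    (GLin.orbitHom k H x).range (isSubcomod_range_orbitHom x)
  unfold GLin.IsClosedOrbit
  have hφ : (GLin.orbitHom k H x).toRingHom =
      ((GLin.orbitHom k H x).range.val.toRingHom).comp
        (GLin.orbitHom k H x).rangeRestrict.toRingHom := rfl
  rw [hφ, PrimeSpectrum.comap_comp, Set.range_comp, Set.range_eq_univ.mpr hsurj, Set.image_univ]
  exact PrimeSpectrum.isClosed_range_comap_of_surjective _ _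
    (GLin.orbitHom k H x).rangeRestrict_surjective

end Main

end Groth.Agent.H74.UnipOrb2
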