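import Mathlib
import Groth.Agent.H74.UnipOrb2
import Groth.Agent.H93.PointSep

/-!
# Equivariant Zariski main theorem (affine form)

* `isLocalization_away_of_pow_mul_mem`, `isOpenImmersion_of_pow_mul_mem`: if a subalgebra `B ⊆ R`
  contains elements `r i` generating the unit ideal of `R` with `∀ x, ∃ m, r i ^ m * x ∈ B`, then
  `Spec R → Spec B` is an open immersion;
* `exists_finset_zmt`: global form of Mathlib's local Zariski main theorem for a quasi-finite algebra
  of finite type;
* `actHom`: the action of a rational point of the group as an algebra endomorphism of a comodule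
  algebra; `isIntegral_actHom`: it preserves integrality over an equivariant subalgebra;
* `exists_stable_subalgebra`: for an equivariant quasi-finite map `S → R` of finitely generated
  comodule algebras (`k` algebraically closed of characteristic zero; no reductivity needed) there
  is a finitely generated stable subalgebra `B ⊆ R`, containing the image of `S` and integral over
  it, such that `Spec R → Spec B` is an open immersion;
* `finite_codRestrict`: such a `B` is finite over `S`.
-/

set_option autoImplicit false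
set_option linter.style.haveILetI false

open AlgebraicGeometry CategoryTheory TensorProduct HopfRep

namespace Groth.Agent.H74.EquivZMT

universe u

section OpenImm

variable {k : Type u} [CommRing k] {R : Type u} [CommRing R] [Algebra k R]

/-- localisation of a subalgebra at an element which "almost generates" the ambient ring -/
theorem isLocalization_away_of_pow_mul_mem (B : Subalgebra k R) (r : R) (hr : r ∈ B)
    (h : ∀ x : R, ∃ m : ℕ, r ^ m * x ∈ B) :
    letI : Algebra ↥B (Localization.Away r) :=
      ((algebraMap R (Localization.Away r)).comp B.val.toRingHom).toAlgebra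
    IsLocalization.Away (⟨r, hr⟩ : ↥B) (Localization.Away r) := by
  letI : Algebra ↥B (Localization.Away r) :=
    ((algebraMap R (Localization.Away r)).comp B.val.toRingHom).toAlgebra
  have halg : ∀ b : ↥B, algebraMap ↥B (Localization.Away r) b =
      algebraMap R (Localization.Away r) (b : R) := fun b => rfl
  rw [IsLocalization.Away, isLocalization_iff]
  refine ⟨?_, ?_, ?_⟩
  · rintro ⟨_, n, rfl⟩
    rw [halg]
    simp only [SubmonoidClass.coe_pow]
    rw [map_pow]
    exact (IsLocalization.Away.algebraMap_isUnit r).pow n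
  · intro z
    obtain ⟨⟨x, ⟨_, n, rfl⟩⟩, hx⟩ := IsLocalization.surj (Submonoid.powers r) z
    obtain ⟨m, hm⟩ := h x
    refine ⟨(⟨r ^ m * x, hm⟩, ⟨(⟨r, hr⟩ : ↥B) ^ (m + n), m + n, rfl⟩), ?_⟩
    rw [halg, halg]
    simp only [SubmonoidClass.coe_pow]
    simp only at hx
    rw [map_mul, ← hx, pow_add, map_mul]
    ring
  · intro x y hxy
    rw [halg, halg] at hxy
    obtain ⟨⟨_, n, rfl⟩, hc⟩ := (IsLocalization.eq_iff_exists (Submonoid.powers r) _).mp hxy
    refine ⟨⟨(⟨r, hr⟩ : ↥B) ^ n, n, rfl⟩, ?_⟩
    apply Subtype.ext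
    simpa using hc


/-- **Open immersion criterion**: if the subalgebra `B ⊆ R` contains elements `r i` generating the unit
ideal of `R` such that every element of `R` is carried into `B` by a power of each `r i`, then
`Spec R → Spec B` is an open immersion. -/
theorem isOpenImmersion_of_pow_mul_mem (B : Subalgebra k R) {ι : Type*} (r : ι → R)
    (hr : ∀ i, r i ∈ B) (hspan : Ideal.span (Set.range r) = ⊤)
    (h : ∀ i, ∀ x : R, ∃ m : ℕ, r i ^ m * x ∈ B) :
    IsOpenImmersion (Spec.map (CommRingCat.ofHom B.val.toRingHom)) := by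
  let 𝒰 := (Scheme.affineOpenCoverOfSpanRangeEqTop (R := CommRingCat.of R) r hspan).openCover
  refine IsOpenImmersion.of_openCover_source _ 𝒰 ?_ ?_
  · -- injectivity on points
    intro q₁ q₂ hq
    have hq' : ∀ b : ↥B, (b : R) ∈ q₁.asIdeal ↔ (b : R) ∈ q₂.asIdeal := by
      intro b
      have h1 := congrArg (fun p : PrimeSpectrum ↥B => p.asIdeal) hq
      exact Ideal.ext_iff.mp h1 b
    have key : ∀ q₁ q₂ : PrimeSpectrum R,
        (∀ b : ↥B, (b : R) ∈ q₁.asIdeal ↔ (b : R) ∈ q₂.asIdeal) → q₁.asIdeal ≤ q₂.asIdeal := by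
      intro q₁ q₂ hq' x hx
      have hex : ∃ i, r i ∉ q₂.asIdeal := by
        by_contra! hall
        apply q₂.2.ne_top
        rw [← top_le_iff, ← hspan, Ideal.span_le]
        rintro _ ⟨i, rfl⟩
        exact hall i
      obtain ⟨i, hi⟩ := hex
      obtain ⟨m, hm⟩ := h i x
      have h2 : r i ^ m * x ∈ q₂.asIdeal :=
        (hq' ⟨_, hm⟩).mp (q₁.asIdeal.mul_mem_left _ hx)
      rcases q₂.2.mem_or_mem h2 with h3 | h3
      · exact absurd (q₂.2.mem_of_pow_mem m h3) hi
      · exact h3
    exact PrimeSpectrum.ext (le_antisymm (key q₁ q₂ hq') (key q₂ q₁ fun b => (hq' b).symm))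
  · intro i
    letI : Algebra ↥B (Localization.Away (r i)) :=
      ((algebraMap R (Localization.Away (r i))).comp B.val.toRingHom).toAlgebra
    haveI := isLocalization_away_of_pow_mul_mem B (r i) (hr i) (h i)
    have h1 := IsOpenImmersion.of_isLocalization (R := ↥B) (S := Localization.Away (r i))
      (⟨r i, hr i⟩ : ↥B)
    have h2 : 𝒰.f i ≫ Spec.map (CommRingCat.ofHom B.val.toRingHom) =
        Spec.map (CommRingCat.ofHom (algebraMap ↥B (Localization.Away (r i)))) := by
      change Spec.map (CommRingCat.ofHom (algebraMap R (Localization.Away (r i)))) ≫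
        Spec.map (CommRingCat.ofHom B.val.toRingHom) = _
      rw [← Spec.map_comp]
      rfl
    rw [h2]
    exact h1

end OpenImm


section ZMT

variable {S R : Type u} [CommRing S] [CommRing R] [Algebra S R]

/-- global form of the data of Zariski's main theorem for a quasi-finite algebra of finite type -/
theorem exists_finset_zmt [Algebra.FiniteType S R] [Algebra.QuasiFinite S R] :
    ∃ s : Finset R, Ideal.span (s : Set R) = ⊤ ∧
      ∀ r ∈ s, IsIntegral S r ∧ ∀ x : R, ∃ m : ℕ, IsIntegral S (r ^ m * x) := by
  let T : Set R := {r | IsIntegral S r ∧ ∀ x : R, ∃ m : ℕ, IsIntegral S (r ^ m * x)}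
  have hT : Ideal.span T = ⊤ := by
    by_contra hne
    obtain ⟨M, hM, hle⟩ := Ideal.exists_le_maximal _ hne
    haveI : M.IsPrime := hM.isPrime
    have hz : Algebra.ZariskisMainProperty S M := Algebra.ZariskisMainProperty.of_finiteType M
    obtain ⟨r, hrM, hr1, hr2⟩ := Algebra.zariskisMainProperty_iff.mp hz
    exact hrM (hle (Ideal.subset_span ⟨hr1, hr2⟩))
  obtain ⟨s, hsT, hs⟩ := (Ideal.span_eq_top_iff_finite T).mp hT
  exact ⟨s, hs, fun r hr => hsT hr⟩

end ZMT


section Equiv

open Groth.Agent.H62 Groth.Agent.H74.UnipOrb2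

variable {k : Type u} [Field k]
variable {A : Type u} [CommRing A] [HopfAlgebra k A]
variable {S : Type u} [CommRing S] [Algebra k S] [Comod k A S] [GLin.IsCoactAlg k A S]
variable {R : Type u} [CommRing R] [Algebra k R] [Comod k A R] [GLin.IsCoactAlg k A R]
variable [Algebra S R] [IsScalarTower k S R]

/-- the action of a rational point of the group as an algebra endomorphism -/
noncomputable def actHom (g : A →ₐ[k] k) : R →ₐ[k] R :=
  (Algebra.TensorProduct.rid k k R).toAlgHom.comp
    ((Algebra.TensorProduct.map (AlgHom.id k R) g).comp (GLin.coactAlgHom k A R))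

theorem actHom_apply (g : A →ₐ[k] k) (f : R) : actHom g f = HopfRep.Comod.act k A R g f := rfl

theorem actHom_algebraMap
    (hequiv : ∀ s : S, Comod.coact (k := k) (A := A) (algebraMap S R s) =
      Algebra.TensorProduct.map (IsScalarTower.toAlgHom k S R) (AlgHom.id k A)
        (Comod.coact (k := k) (A := A) s))
    (g : A →ₐ[k] k) (s : S) :
    actHom g (algebraMap S R s) = algebraMap S R (actHom g s) := by
  unfold actHom
  simp only [AlgHom.coe_comp, Function.comp_apply, GLin.coactAlgHom_apply]
  rw [hequiv]
  generalize Comod.coact (k := k) (A := A) s = t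
  induction t using TensorProduct.induction_on with
  | zero => simp
  | tmul x a => simp [Algebra.smul_def, ← IsScalarTower.algebraMap_apply]
  | add x y hx hy => simp only [map_add, hx, hy]

theorem isIntegral_actHom
    (hequiv : ∀ s : S, Comod.coact (k := k) (A := A) (algebraMap S R s) =
      Algebra.TensorProduct.map (IsScalarTower.toAlgHom k S R) (AlgHom.id k A)
        (Comod.coact (k := k) (A := A) s))
    (g : A →ₐ[k] k) (r : R) (hr : IsIntegral S r) : IsIntegral S (actHom g r) := by
  refine IsIntegral.map_of_comp_eq (actHom (R := S) g).toRingHom (actHom (R := R) g).toRingHom ?_ hr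
  ext s
  exact (actHom_algebraMap hequiv g s).symm

end Equiv


section Main

open Groth.Agent.H62 Groth.Agent.H74.UnipOrb2

variable {k : Type u} [Field k] [IsAlgClosed k] [CharZero k]
variable {A : Type u} [CommRing A] [HopfAlgebra k A]
variable {S : Type u} [CommRing S] [Algebra k S] [Comod k A S] [GLin.IsCoactAlg k A S]
variable {R : Type u} [CommRing R] [Algebra k R] [Comod k A R] [GLin.IsCoactAlg k A R]
variable [Algebra S R] [IsScalarTower k S R]

/-- **Equivariant Zariski main theorem** (subalgebra form): for an equivariant quasi-finite map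
`S → R` of finitely generated comodule algebras there is a finitely generated stable subalgebra
`B ⊆ R`, containing the image of `S` and integral over it, with `Spec R → Spec B` an open
immersion. -/
theorem exists_stable_subalgebra [Algebra.FiniteType k S] [Algebra.FiniteType k R]
    [Algebra.QuasiFinite S R]
    (hequiv : ∀ s : S, Comod.coact (k := k) (A := A) (algebraMap S R s) =
      Algebra.TensorProduct.map (IsScalarTower.toAlgHom k S R) (AlgHom.id k A)
        (Comod.coact (k := k) (A := A) s)) :
    ∃ B : Subalgebra k R, IsSubcomod (k := k) (A := A) (Subalgebra.toSubmodule B) ∧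
      B.FG ∧ (∀ s : S, algebraMap S R s ∈ B) ∧ (∀ b ∈ B, IsIntegral S b) ∧
      IsOpenImmersion (Spec.map (CommRingCat.ofHom B.val.toRingHom)) := by
  classical
  haveI : Algebra.FiniteType S R := Algebra.FiniteType.of_restrictScalars_finiteType k S R
  obtain ⟨s, hs, hsr⟩ := exists_finset_zmt (S := S) (R := R)
  obtain ⟨X, hX⟩ := (Algebra.FiniteType.out : (⊤ : Subalgebra k R).FG)
  have hsr2 : ∀ r : R, ∀ x : R, ∃ m : ℕ, r ∈ s → IsIntegral S (r ^ m * x) := by
    intro r x
    by_cases hr : r ∈ s
    · obtain ⟨m, hm⟩ := (hsr r hr).2 x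
      exact ⟨m, fun _ => hm⟩
    · exact ⟨0, fun h => absurd h hr⟩
  choose m hm using hsr2
  -- the integral closure is a subcomodule
  let IC : Subalgebra k R := (integralClosure S R).restrictScalars k
  have hWst : ∀ g : A →ₐ[k] k,
      (Subalgebra.toSubmodule IC).map (HopfRep.Comod.act k A R g) ≤ Subalgebra.toSubmodule IC := by
    rintro g _ ⟨r, hr, rfl⟩
    exact isIntegral_actHom hequiv g r hr
  have hW : IsSubcomod (k := k) (A := A) (Subalgebra.toSubmodule IC) :=
    Groth.Agent.H93.PointExt.isSubcomod_of_stable _ hWst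
  -- the finite set of elements to be captured
  let F : Finset R := s ∪ (s ×ˢ X).image (fun p => p.1 ^ m p.1 p.2 * p.2)
  have hFW : ∀ f ∈ F, f ∈ Subalgebra.toSubmodule IC := by
    intro f hf
    rcases Finset.mem_union.mp hf with hf | hf
    · exact (hsr f hf).1
    · obtain ⟨p, hp, rfl⟩ := Finset.mem_image.mp hf
      exact hm p.1 p.2 (Finset.mem_product.mp hp).1
  letI cW := subComod (Subalgebra.toSubmodule IC) hW
  obtain ⟨V₀, hV₀, hV₀f, hV₀mem⟩ := Groth.Agent.H82.Chev.exists_finite_subcomod (k := k) (C := A)
    (V := ↥(Subalgebra.toSubmodule IC))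
    (fun f : ↥F => (⟨(f : R), hFW f f.2⟩ : ↥(Subalgebra.toSubmodule IC)))
  let V : Submodule k R := V₀.map (Subalgebra.toSubmodule IC).subtype
  have hV : IsSubcomod (k := k) (A := A) V :=
    isSubcomod_map _ (subtype_isComodHom (Subalgebra.toSubmodule IC) hW) V₀ hV₀
  have hVW : V ≤ Subalgebra.toSubmodule IC := by
    rintro _ ⟨w, _, rfl⟩
    exact w.2
  have hFV : ∀ f ∈ F, f ∈ V := fun f hf => ⟨⟨f, hFW f hf⟩, hV₀mem ⟨f, hf⟩, rfl⟩
  have hVfg : V.FG := by
    have h1 : V₀.FG := (Submodule.fg_iff_finiteDimensional V₀).mpr hV₀f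
    exact h1.map _
  -- the image of `S`
  let φ : S →ₐ[k] R := IsScalarTower.toAlgHom k S R
  have hφ : IsSubcomod (k := k) (A := A) (Subalgebra.toSubmodule φ.range) := by
    rintro _ ⟨t, rfl⟩
    refine ⟨(φ.rangeRestrict.toLinearMap.rTensor A) (Comod.coact (k := k) (A := A) t), ?_⟩
    rw [← LinearMap.comp_apply, ← LinearMap.rTensor_comp]
    exact (hequiv t).symm
  have hM : IsSubcomod (k := k) (A := A) (Subalgebra.toSubmodule φ.range ⊔ V) :=
    isSubcomod_sup _ _ hφ hV
  refine ⟨Algebra.adjoin k ((Subalgebra.toSubmodule φ.range ⊔ V : Submodule k R) : Set R),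
    isSubcomod_adjoin _ hM, ?_, ?_, ?_, ?_⟩
  · -- finitely generated
    have h1 : Algebra.adjoin k ((Subalgebra.toSubmodule φ.range ⊔ V : Submodule k R) : Set R) =
        φ.range ⊔ Algebra.adjoin k (V : Set R) := by
      apply le_antisymm
      · apply Algebra.adjoin_le
        have h2 : Subalgebra.toSubmodule φ.range ⊔ V ≤
            Subalgebra.toSubmodule (φ.range ⊔ Algebra.adjoin k (V : Set R)) := by
          apply sup_le
          · exact fun x hx => (le_sup_left : φ.range ≤ φ.range ⊔ Algebra.adjoin k (V : Set R)) hx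
          · exact fun x hx => (le_sup_right : _ ≤ φ.range ⊔ Algebra.adjoin k (V : Set R))
              (Algebra.subset_adjoin hx)
        exact h2
      · apply sup_le
        · intro x hx
          exact Algebra.subset_adjoin ((le_sup_left : _ ≤ Subalgebra.toSubmodule φ.range ⊔ V) hx)
        · apply Algebra.adjoin_mono
          exact fun x hx => (le_sup_right : _ ≤ Subalgebra.toSubmodule φ.range ⊔ V) hx
    rw [h1]
    apply Subalgebra.FG.sup
    · rw [← Algebra.map_top]
      exact Subalgebra.FG.map _ Algebra.FiniteType.out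
    · obtain ⟨T, hT⟩ := hVfg
      rw [← hT, Algebra.adjoin_span]
      exact Subalgebra.fg_adjoin_finset T
  · intro t
    exact Algebra.subset_adjoin
      ((le_sup_left : _ ≤ Subalgebra.toSubmodule φ.range ⊔ V) ⟨t, rfl⟩)
  · have h1 : Algebra.adjoin k ((Subalgebra.toSubmodule φ.range ⊔ V : Submodule k R) : Set R) ≤
        IC := by
      apply Algebra.adjoin_le
      have h2 : Subalgebra.toSubmodule φ.range ⊔ V ≤ Subalgebra.toSubmodule IC := by
        apply sup_le _ hVW
        rintro _ ⟨t, rfl⟩
        exact isIntegral_algebraMap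
      exact h2
    exact fun b hb => h1 hb
  · have hFB : ∀ f ∈ F, f ∈ Algebra.adjoin k
        ((Subalgebra.toSubmodule φ.range ⊔ V : Submodule k R) : Set R) := fun f hf =>
      Algebra.subset_adjoin ((le_sup_right : _ ≤ Subalgebra.toSubmodule φ.range ⊔ V) (hFV f hf))
    refine isOpenImmersion_of_pow_mul_mem _ (fun r : ↥s => (r : R)) ?_ ?_ ?_
    · intro r
      exact hFB _ (Finset.mem_union_left _ r.2)
    · simpa using hs
    · intro r x
      have hrB := hFB _ (Finset.mem_union_left _ r.2)
      have hx : x ∈ Algebra.adjoin k (X : Set R) := by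
        rw [hX]
        trivial
      induction hx using Algebra.adjoin_induction with
      | mem x hx =>
        refine ⟨m r x, hFB _ (Finset.mem_union_right _ ?_)⟩
        exact Finset.mem_image.mpr ⟨(r, x), Finset.mem_product.mpr ⟨r.2, hx⟩, rfl⟩
      | algebraMap c =>
        exact ⟨0, by simp⟩
      | add x y _ _ hx hy =>
        obtain ⟨a, ha⟩ := hx
        obtain ⟨b, hb⟩ := hy
        refine ⟨a + b, ?_⟩
        have h1 : (r : R) ^ (a + b) * (x + y) =
            (r : R) ^ b * ((r : R) ^ a * x) + (r : R) ^ a * ((r : R) ^ b * y) := by ring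
        rw [h1]
        exact Subalgebra.add_mem _ (Subalgebra.mul_mem _ (Subalgebra.pow_mem _ hrB b) ha)
          (Subalgebra.mul_mem _ (Subalgebra.pow_mem _ hrB a) hb)
      | mul x y _ _ hx hy =>
        obtain ⟨a, ha⟩ := hx
        obtain ⟨b, hb⟩ := hy
        refine ⟨a + b, ?_⟩
        have h1 : (r : R) ^ (a + b) * (x * y) = ((r : R) ^ a * x) * ((r : R) ^ b * y) := by ring
        rw [h1]
        exact Subalgebra.mul_mem _ ha hb

end Main


section Fin

variable {k : Type u} [Field k]
variable {S : Type u} [CommRing S] [Algebra k S]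
variable {R : Type u} [CommRing R] [Algebra k R] [Algebra S R] [IsScalarTower k S R]

/-- a finitely generated subalgebra containing the image of `S` and integral over it is finite
over `S` -/
theorem finite_codRestrict (B : Subalgebra k R) (hfg : B.FG)
    (hS : ∀ s : S, algebraMap S R s ∈ B) (hint : ∀ b ∈ B, IsIntegral S b) :
    ((IsScalarTower.toAlgHom k S R).codRestrict B hS).toRingHom.Finite := by
  letI : Algebra S ↥B := ((IsScalarTower.toAlgHom k S R).codRestrict B hS).toRingHom.toAlgebra
  change Module.Finite S ↥B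
  haveI : IsScalarTower k S ↥B := IsScalarTower.of_algebraMap_eq (fun c => by
    apply Subtype.ext
    change algebraMap k R c = algebraMap S R (algebraMap k S c)
    exact IsScalarTower.algebraMap_apply k S R c)
  haveI : Algebra.FiniteType k ↥B := (Subalgebra.fg_iff_finiteType B).mp hfg
  haveI : Algebra.FiniteType S ↥B := Algebra.FiniteType.of_restrictScalars_finiteType k S ↥B
  let f : ↥B →ₐ[S] R := { B.val.toRingHom with commutes' := fun _ => rfl }
  haveI : Algebra.IsIntegral S ↥B :=
    ⟨fun b => (isIntegral_algHom_iff f Subtype.val_injective).mp (hint b b.2)⟩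
  exact Algebra.IsIntegral.finite

end Fin

end Groth.Agent.H74.EquivZMT
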