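import Mathlib
import Groth.Agent.H74.GStab

/-!
# Closed orbits and finite equivariant maps (S19401)

`S → R` a finite equivariant map of finitely generated comodule algebras: the orbit of a rational
point `x` of `Spec R` is closed iff the orbit of its image in `Spec S` is closed.  No hypothesis on
the characteristic.
-/

set_option autoImplicit false
set_option linter.unusedSectionVars false

open TensorProduct WithConv

namespace Groth.Agent.H74.FinOrb

open Groth.Agent.H74.CoactPts Groth.Agent.H74.OrbGen Groth.Agent.H74.OrbPts Groth.Agent.H74.GStab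

universe u

variable {k : Type u} [Field k] [IsAlgClosed k]
  {A : Type u} [CommRing A] [HopfAlgebra k A] [Algebra.FiniteType k A]
  {S : Type u} [CommRing S] [Algebra k S] [Algebra.FiniteType k S] [HopfRep.Comod k A S]
  [GLin.IsCoactAlg k A S]
  {R : Type u} [CommRing R] [Algebra k R] [Algebra.FiniteType k R] [HopfRep.Comod k A R]
  [GLin.IsCoactAlg k A R]
  [Algebra S R] [IsScalarTower k S R]
  (hequiv : ∀ s : S, HopfRep.Comod.coact (k := k) (A := A) (algebraMap S R s) =
      Algebra.TensorProduct.map (IsScalarTower.toAlgHom k S R) (AlgHom.id k A)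
        (HopfRep.Comod.coact (k := k) (A := A) s))

include hequiv

theorem orbitHom_comp (z : R →ₐ[k] k) (s : S) :
    GLin.orbitHom k A z (algebraMap S R s) =
      GLin.orbitHom k A (z.comp (IsScalarTower.toAlgHom k S R)) s := by
  change (Algebra.TensorProduct.lid k A) ((Algebra.TensorProduct.map z (AlgHom.id k A))
      (HopfRep.Comod.coact (k := k) (A := A) (algebraMap S R s))) =
    (Algebra.TensorProduct.lid k A) ((Algebra.TensorProduct.map
      (z.comp (IsScalarTower.toAlgHom k S R)) (AlgHom.id k A))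
      (HopfRep.Comod.coact (k := k) (A := A) s))
  rw [hequiv]
  generalize HopfRep.Comod.coact (k := k) (A := A) s = t
  induction t using TensorProduct.induction_on with
  | zero => simp
  | add a b ha hb => simp only [map_add, ha, hb]
  | tmul r a => simp

theorem actR_comp (z : R →ₐ[k] k) (g : WithConv (A →ₐ[k] k)) :
    (actR z g).comp (IsScalarTower.toAlgHom k S R) =
      actR (z.comp (IsScalarTower.toAlgHom k S R)) g := by
  ext s
  change actR z g (algebraMap S R s) = _
  rw [actR_apply, actR_apply, orbitHom_comp hequiv]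

theorem Iorb_comp (z : R →ₐ[k] k) :
    Iorb A (z.comp (IsScalarTower.toAlgHom k S R)) = (Iorb A z).comap (algebraMap S R) := by
  ext s
  unfold Iorb
  rw [Ideal.mem_comap, Ideal.mem_comap, Ideal.mem_comap, orbitHom_comp hequiv]

theorem toRingHom_orbitHom_comp (z : R →ₐ[k] k) :
    (GLin.orbitHom k A (z.comp (IsScalarTower.toAlgHom k S R))).toRingHom =
      (GLin.orbitHom k A z).toRingHom.comp (algebraMap S R) := by
  ext s
  exact (orbitHom_comp hequiv z s).symm

/-- the image of a closed orbit under a finite (integral) equivariant map is closed -/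
theorem isClosedOrbit_comp [Algebra.IsIntegral S R] (x : R →ₐ[k] k)
    (h : GLin.IsClosedOrbit k A x) :
    GLin.IsClosedOrbit k A (x.comp (IsScalarTower.toAlgHom k S R)) := by
  unfold GLin.IsClosedOrbit at h ⊢
  rw [toRingHom_orbitHom_comp hequiv, PrimeSpectrum.comap_comp]
  rw [Set.range_comp]
  exact PrimeSpectrum.isClosedMap_comap_of_isIntegral _
    (algebraMap_isIntegral_iff.mpr inferInstance) _ h

/-- if the image of `x` under an integral equivariant map has a closed orbit, so has `x` -/
theorem closedOrb_of_comp [Algebra.IsIntegral S R] (x : R →ₐ[k] k)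
    (h : ClosedOrb A (x.comp (IsScalarTower.toAlgHom k S R))) : ClosedOrb A x := by
  intro z₀ hz₀
  -- move `z₀` into the fibre of `x`
  obtain ⟨g₀, hg₀⟩ := h (z₀.comp (IsScalarTower.toAlgHom k S R)) (by
    rw [Iorb_comp hequiv]
    intro s hs
    exact RingHom.mem_ker.mpr (RingHom.mem_ker.mp (hz₀ hs)))
  suffices hsuff : ∃ g : WithConv (A →ₐ[k] k), actR z₀ g₀⁻¹ = actR x g by
    obtain ⟨g, hg⟩ := hsuff
    refine ⟨g * g₀, ?_⟩
    rw [← actR_mul, ← hg, actR_mul, inv_mul_cancel, actR_one]
  have hz : Iorb A x ≤ RingHom.ker (actR z₀ g₀⁻¹) := by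
    have h1 : Iorb A x ≤ Iorb A z₀ := Iorb_le_of_le_ker hz₀
    have h2 : Iorb A z₀ = Iorb A (actR z₀ g₀⁻¹) := (Iorb_actR z₀ g₀⁻¹).symm
    exact (h1.trans h2.le).trans (Iorb_le_ker _)
  have hzy : (actR z₀ g₀⁻¹).comp (IsScalarTower.toAlgHom k S R) =
      x.comp (IsScalarTower.toAlgHom k S R) := by
    rw [actR_comp hequiv, hg₀, actR_mul, mul_inv_cancel, actR_one]
  generalize actR z₀ g₀⁻¹ = z at hz hzy
  set y := x.comp (IsScalarTower.toAlgHom k S R) with hy
  -- a minimal prime of the orbit closure of `y`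
  have hkery : (RingHom.ker y).IsPrime := RingHom.ker_isPrime y
  obtain ⟨qy, hqy, -⟩ := Ideal.exists_minimalPrimes_le (Iorb_le_ker (A := A) y)
  obtain ⟨P, hP, hPq⟩ := exists_prime_comap_eq y qy hqy
  -- the corresponding piece of the orbit closure of `z`
  have hpz : (P.comap (GLin.orbitHom k A z)).IsPrime := Ideal.comap_isPrime _ P
  have hpzS : (P.comap (GLin.orbitHom k A z)).comap (algebraMap S R) = qy := by
    rw [← hPq, ← hzy]
    ext s
    rw [Ideal.mem_comap, Ideal.mem_comap, Ideal.mem_comap, orbitHom_comp hequiv]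
  have hle : Iorb A x ≤ P.comap (GLin.orbitHom k A z) := by
    refine (Iorb_le_of_le_ker hz).trans ?_
    unfold Iorb
    exact Ideal.comap_mono (nilradical_le_prime P)
  obtain ⟨q, hq, hqle⟩ := Ideal.exists_minimalPrimes_le hle
  have hqprime : q.IsPrime := hq.1.1
  obtain ⟨P', hP', hPq'⟩ := exists_prime_comap_eq x q hq
  have hqS : q.comap (algebraMap S R) = qy := by
    have h1 : q.comap (algebraMap S R) ≤ qy := by
      rw [← hpzS]
      exact Ideal.comap_mono hqle
    have h2 : Iorb A y ≤ q.comap (algebraMap S R) := by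
      rw [hy, Iorb_comp hequiv]
      exact Ideal.comap_mono hq.1.2
    have h3 : (q.comap (algebraMap S R)).IsPrime := Ideal.comap_isPrime _ q
    exact le_antisymm h1 (hqy.2 ⟨h3, h2⟩ h1)
  have hqp : q = P.comap (GLin.orbitHom k A z) := by
    by_contra hne
    have hlt : q < P.comap (GLin.orbitHom k A z) := lt_of_le_of_ne hqle hne
    have := Ideal.IsIntegral.comap_lt_comap (R := S) hlt
    rw [hqS, hpzS] at this
    exact lt_irrefl _ this
  obtain ⟨b, hb, hlift⟩ := exists_open_in_orbit x P'
  obtain ⟨b', hb', hlift'⟩ := exists_open_in_orbit z P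
  rw [hPq'] at hb hlift
  rw [← hqp] at hb' hlift'
  have hbb : b * b' ∉ q := fun hmem => (hqprime.mem_or_mem hmem).elim hb hb'
  obtain ⟨w, hw, hwb⟩ := exists_point_of_prime (k := k) q (b * b') hbb
  rw [map_mul] at hwb
  obtain ⟨g, hg⟩ := hlift w hw (left_ne_zero_of_mul hwb)
  obtain ⟨g', hg'⟩ := hlift' w hw (right_ne_zero_of_mul hwb)
  refine ⟨g * g'⁻¹, ?_⟩
  rw [← actR_mul, ← hg, hg', actR_mul, mul_inv_cancel, actR_one]

/-- **S19401** (any characteristic): for a finite equivariant map, the orbit of a point is closed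
iff the orbit of its image is closed. -/
theorem isClosedOrbit_iff_comp [Algebra.IsIntegral S R] (x : R →ₐ[k] k) :
    GLin.IsClosedOrbit k A x ↔
      GLin.IsClosedOrbit k A (x.comp (IsScalarTower.toAlgHom k S R)) := by
  refine ⟨isClosedOrbit_comp hequiv x, fun h => ?_⟩
  rw [isClosedOrbit_iff] at h ⊢
  exact closedOrb_of_comp hequiv x h

end Groth.Agent.H74.FinOrb
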