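import Mathlib

/-!
# `(A₀/F)[1/G] ≅ S[1/φ G]` over an arbitrary base ring
-/

set_option autoImplicit false
set_option linter.style.haveILetI false

universe u

namespace Groth.Agent.H74.SymRetAway

/-- `(A₀/F)[1/G] ≅ S[1/φ G]` when `F ≤ ker φ` and `t · ker φ ≤ F` for a factor `t` of `G`. -/
theorem exists_algEquiv_away (k : Type u) [CommRing k] {A₀ S : Type u} [CommRing A₀] [CommRing S]
    [Algebra k A₀] [Algebra k S] (φ : A₀ →ₐ[k] S) (hφ : Function.Surjective φ) (F : Ideal A₀)
    (hF : F ≤ RingHom.ker φ.toRingHom) (t u : A₀)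
    (ht : ∀ x ∈ RingHom.ker φ.toRingHom, t * x ∈ F) :
    Nonempty (Localization.Away (Ideal.Quotient.mk F (t * u)) ≃ₐ[k]
      Localization.Away (φ (t * u))) := by
  let B := A₀ ⧸ F
  let ψ : B →ₐ[k] S := Ideal.Quotient.liftₐ F φ (fun a ha => hF ha)
  have hψ : ∀ a : A₀, ψ (Ideal.Quotient.mk F a) = φ a := fun a => rfl
  set g : S := φ (t * u) with hg
  set gb : B := Ideal.Quotient.mk F (t * u) with hgb
  letI : Algebra B (Localization.Away g) :=
    ((algebraMap S (Localization.Away g)).comp ψ.toRingHom).toAlgebra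
  have halg : ∀ b : B, algebraMap B (Localization.Away g) b =
      algebraMap S (Localization.Away g) (ψ b) := fun b => rfl
  haveI : IsScalarTower k B (Localization.Away g) := IsScalarTower.of_algebraMap_eq (fun c => by
    rw [halg, AlgHom.commutes, ← IsScalarTower.algebraMap_apply])
  have hloc : IsLocalization.Away gb (Localization.Away g) := by
    rw [IsLocalization.Away, isLocalization_iff]
    refine ⟨?_, ?_, ?_⟩
    · rintro ⟨_, n, rfl⟩
      change IsUnit (algebraMap B (Localization.Away g) (gb ^ n))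
      rw [halg, map_pow, hgb, hψ, ← hg]
      exact IsLocalization.map_units (Localization.Away g) (⟨g ^ n, n, rfl⟩ : Submonoid.powers g)
    · intro z
      obtain ⟨⟨s, ⟨_, n, rfl⟩⟩, hs⟩ := IsLocalization.surj (Submonoid.powers g) z
      obtain ⟨a, rfl⟩ := hφ s
      refine ⟨⟨Ideal.Quotient.mk F a, ⟨gb ^ n, n, rfl⟩⟩, ?_⟩
      change z * algebraMap B (Localization.Away g) (gb ^ n) =
        algebraMap B (Localization.Away g) (Ideal.Quotient.mk F a)
      rw [halg, halg, map_pow, hgb, hψ, hψ, ← hg]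
      exact hs
    · intro x y hxy
      obtain ⟨a, rfl⟩ := Ideal.Quotient.mk_surjective x
      obtain ⟨b, rfl⟩ := Ideal.Quotient.mk_surjective y
      rw [halg, halg, hψ, hψ] at hxy
      obtain ⟨⟨_, n, rfl⟩, hc⟩ := (IsLocalization.eq_iff_exists (Submonoid.powers g) _).mp hxy
      change g ^ n * φ a = g ^ n * φ b at hc
      have h1 : (t * u) ^ n * (a - b) ∈ RingHom.ker φ.toRingHom := by
        rw [RingHom.mem_ker]
        change φ ((t * u) ^ n * (a - b)) = 0
        rw [map_mul, map_pow, ← hg, map_sub, mul_sub, hc, sub_self]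
      have h2 := ht _ h1
      refine ⟨⟨gb ^ (n + 1), n + 1, rfl⟩, ?_⟩
      change gb ^ (n + 1) * Ideal.Quotient.mk F a = gb ^ (n + 1) * Ideal.Quotient.mk F b
      rw [hgb, ← map_pow, ← map_mul, ← map_mul]
      apply Ideal.Quotient.eq.mpr
      have h3 : (t * u) ^ (n + 1) * a - (t * u) ^ (n + 1) * b =
          u * (t * ((t * u) ^ n * (a - b))) := by ring
      rw [h3]
      exact Ideal.mul_mem_left _ _ h2
  haveI := hloc
  let e : Localization.Away gb ≃ₐ[B] Localization.Away g :=
    IsLocalization.algEquiv (Submonoid.powers gb) _ _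
  exact ⟨e.restrictScalars k⟩

end Groth.Agent.H74.SymRetAway
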