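import Mathlib
import Groth.Agent.H46.SyntConormal

/-!
# Rank computations for the conormal module of a presentation of a syntomic algebra

* `idem`, `idem_mul_idem`, `rank_idem_map`: the idempotent matrix attached to a split surjection
  `π : A^N → M` and its rank after base change to a field.
* `finrank_tensor_cotangent`: Schanuel count `dim_κ (κ ⊗ I/I²) + m = c + n` on a basic open on which
  the algebra is a relative global complete intersection with `m` variables and `c` equations.
-/

set_option autoImplicit false
set_option linter.style.haveILetI false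

open TensorProduct

universe u

namespace Groth.Agent.H74.SyntLiftRank

section Idem

variable {A : Type u} [CommRing A] {M : Type u} [AddCommGroup M] [Module A M] {N : ℕ}
  (π : (Fin N → A) →ₗ[A] M) (s : M →ₗ[A] (Fin N → A))

/-- the matrix of `s ∘ π` -/
noncomputable def idem : Matrix (Fin N) (Fin N) A := LinearMap.toMatrix' (s ∘ₗ π)

theorem idem_mul_idem (hs : π ∘ₗ s = LinearMap.id) : idem π s * idem π s = idem π s := by
  rw [idem, ← LinearMap.toMatrix'_comp]
  congr 1
  rw [LinearMap.comp_assoc, ← LinearMap.comp_assoc π s π, hs, LinearMap.id_comp]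

theorem pi_col_idem (hs : π ∘ₗ s = LinearMap.id) (l : Fin N) :
    π (fun m => idem π s m l) = π (Pi.single l 1) := by
  have h1 : (fun m => idem π s m l) = (s ∘ₗ π) (Pi.single l 1) := by
    funext m
    rw [idem, LinearMap.toMatrix'_apply]
  rw [h1, LinearMap.comp_apply]
  exact LinearMap.congr_fun hs (π (Pi.single l 1))

theorem rank_idem_map (hs : π ∘ₗ s = LinearMap.id) (κ : Type u) [Field κ] [Algebra A κ] :
    ((idem π s).map (algebraMap A κ)).rank = Module.finrank κ (κ ⊗[A] M) := by
  classical
  let b := Pi.basisFun A (Fin N)
  have h1 : (idem π s).map (algebraMap A κ) =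
      LinearMap.toMatrix (Algebra.TensorProduct.basis κ b) (Algebra.TensorProduct.basis κ b)
        ((s ∘ₗ π).baseChange κ) := by
    rw [LinearMap.toMatrix_baseChange, LinearMap.toMatrix_eq_toMatrix']
    rfl
  rw [h1, Matrix.rank_eq_finrank_range_toLin _ (Algebra.TensorProduct.basis κ b)
    (Algebra.TensorProduct.basis κ b), Matrix.toLin_toMatrix, LinearMap.baseChange_comp,
    LinearMap.range_comp]
  have hπ : Function.Surjective π := fun x => ⟨s x, LinearMap.congr_fun hs x⟩
  have hπκ : LinearMap.range (π.baseChange κ) = ⊤ := by
    rw [LinearMap.range_eq_top]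
    have : (π.baseChange κ : κ ⊗[A] (Fin N → A) → κ ⊗[A] M) = π.lTensor κ :=
      LinearMap.baseChange_eq_ltensor π
    rw [this]
    exact LinearMap.lTensor_surjective κ hπ
  rw [hπκ, Submodule.map_top]
  have hinj : Function.Injective (s.baseChange κ) := by
    have h2 : (π.baseChange κ) ∘ₗ (s.baseChange κ) = LinearMap.id := by
      rw [← LinearMap.baseChange_comp, hs, LinearMap.baseChange_id]
    exact Function.LeftInverse.injective (g := π.baseChange κ) (LinearMap.congr_fun h2)
  exact LinearMap.finrank_range_of_inj hinj

end Idem

section Schanuel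

variable (k : Type u) [CommRing k] (A : Type u) [CommRing A] [Algebra k A]

/-- The classes of a relative global complete intersection sequence form a basis of the conormal
module. -/
theorem nonempty_basis_cotangent {B : Type u} [CommRing B] [Algebra k B]
    (n c : ℕ) (F : Fin c → MvPolynomial (Fin n) k) (h : Synt.IsRelGCI k n c F)
    (β : MvPolynomial (Fin n) k →ₐ[k] B) (hβ : Function.Surjective β)
    (hker : RingHom.ker β = Ideal.span (Set.range F)) :
    Nonempty (Module.Basis (Fin c) B (Algebra.Extension.ofSurjective β hβ).Cotangent) := by
  classical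
  have hker' : Ideal.span (Set.range F) = (Algebra.Extension.ofSurjective β hβ).ker := hker.symm
  have hsp := Algebra.Extension.Cotangent.span_eq_top_of_span_eq_ker
    (P := Algebra.Extension.ofSurjective β hβ) F hker'
  have hLI : LinearIndependent B (fun i : Fin c =>
      (Algebra.Extension.Cotangent.mk (P := Algebra.Extension.ofSurjective β hβ)
        ⟨F i, hker'.le (Ideal.subset_span ⟨i, rfl⟩)⟩)) := by
    rw [Fintype.linearIndependent_iff]
    intro g hg i
    choose a ha using fun j => (Algebra.Extension.ofSurjective β hβ).algebraMap_surjective (g j)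
    have hsmul : ∀ j, g j • (Algebra.Extension.Cotangent.mk
        (P := Algebra.Extension.ofSurjective β hβ)
        ⟨F j, hker'.le (Ideal.subset_span ⟨j, rfl⟩)⟩) =
        Algebra.Extension.Cotangent.mk (P := Algebra.Extension.ofSurjective β hβ)
          (a j • ⟨F j, hker'.le (Ideal.subset_span ⟨j, rfl⟩)⟩) := by
      intro j
      rw [map_smul, ← ha j]
      exact (algebraMap_smul B (a j) _)
    simp only [hsmul] at hg
    rw [← map_sum, Algebra.Extension.Cotangent.mk_eq_zero_iff] at hg
    let a' : Fin c → MvPolynomial (Fin n) k := a
    have hg' : ∑ j, a' j * F j ∈ Ideal.span (Set.range F) ^ 2 := by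
      rw [hker']
      have hval : (((∑ j, a j • (⟨F j, hker'.le (Ideal.subset_span ⟨j, rfl⟩)⟩ :
          (Algebra.Extension.ofSurjective β hβ).ker) :
          (Algebra.Extension.ofSurjective β hβ).ker) :
          (Algebra.Extension.ofSurjective β hβ).Ring)) = ∑ j, a' j * F j := by
        rw [Submodule.coe_sum]
        rfl
      rw [← hval]
      exact hg
    have hmem := Groth.Agent.H46.SyntConormal.mem_of_sum_mul_mem_sq k n c F h a' hg' i
    rw [← hker] at hmem
    rw [← ha i]
    exact hmem
  exact ⟨Module.Basis.mk hLI hsp.ge⟩

/-- Schanuel count: on a basic open `D(g)` on which `A` is a relative global complete intersection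
with `m` variables and `c` equations, the fibre of the conormal module of a presentation of `A` with
`n` variables has dimension `n - (m - c)`. -/
theorem finrank_tensor_cotangent [Algebra.FinitePresentation k A] (n : ℕ)
    (α : MvPolynomial (Fin n) k →ₐ[k] A) (hα : Function.Surjective α)
    (g : A) (m c : ℕ) (F : Fin c → MvPolynomial (Fin m) k) (hF : Synt.IsRelGCI k m c F)
    (e : Localization.Away g ≃ₐ[k] Synt.RelGCIRing k m c F)
    (κ : Type u) [Field κ] [Algebra A κ] (hg : algebraMap A κ g ≠ 0) :
    Module.finrank κ (κ ⊗[A] (Algebra.Extension.ofSurjective α hα).Cotangent) + m = c + n := by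
  classical
  have hu : IsUnit (algebraMap A κ g) := isUnit_iff_ne_zero.mpr hg
  letI : Algebra (Localization.Away g) κ := (IsLocalization.Away.lift g hu).toAlgebra
  haveI : IsScalarTower A (Localization.Away g) κ :=
    IsScalarTower.of_algebraMap_eq fun x => (IsLocalization.Away.lift_eq g hu x).symm
  haveI : Nontrivial (Localization.Away g) :=
    (algebraMap (Localization.Away g) κ).domain_nontrivial
  -- finiteness of the conormal module
  haveI hfin : Module.Finite A (Algebra.Extension.ofSurjective α hα).Cotangent := by
    have hfg : (Algebra.Extension.ofSurjective α hα).ker.FG :=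
      Algebra.FinitePresentation.ker_fG_of_surjective α hα
    haveI : Module.Finite (Algebra.Extension.ofSurjective α hα).Ring
        (Algebra.Extension.ofSurjective α hα).ker := Module.Finite.iff_fg.mpr hfg
    haveI : Module.Finite (Algebra.Extension.ofSurjective α hα).Ring
        (Algebra.Extension.ofSurjective α hα).Cotangent :=
      Module.Finite.of_surjective Algebra.Extension.Cotangent.mk
        Algebra.Extension.Cotangent.mk_surjective
    exact Module.Finite.of_restrictScalars_finite (Algebra.Extension.ofSurjective α hα).Ring _ _
  -- the presentation of the localization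
  let β' : MvPolynomial (Fin m) k →ₐ[k] Localization.Away g :=
    (e.symm : Synt.RelGCIRing k m c F →ₐ[k] Localization.Away g).comp
      (Ideal.Quotient.mkₐ k (Ideal.span (Set.range F)))
  have hβ' : Function.Surjective β' :=
    e.symm.surjective.comp (Ideal.Quotient.mkₐ_surjective k _)
  have hker : RingHom.ker β' = Ideal.span (Set.range F) := by
    ext x
    rw [RingHom.mem_ker]
    change e.symm (Ideal.Quotient.mk _ x) = 0 ↔ _
    rw [EmbeddingLike.map_eq_zero_iff, Ideal.Quotient.eq_zero_iff_mem]
  obtain ⟨b⟩ := nonempty_basis_cotangent k m c F hF β' hβ' hker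
  obtain ⟨E⟩ := Groth.Agent.H46.NLLoc.main k A g n m α hα β' hβ'
  -- base change to `κ`
  let Mg := LocalizedModule (Submonoid.powers g) (Algebra.Extension.ofSurjective α hα).Cotangent
  have h1 : Module.finrank κ (κ ⊗[Localization.Away g] (Mg × (Fin m → Localization.Away g))) =
      Module.finrank κ (κ ⊗[Localization.Away g]
        ((Algebra.Extension.ofSurjective β' hβ').Cotangent × (Fin n → Localization.Away g))) :=
    (LinearEquiv.baseChange (Localization.Away g) κ _ _ E).finrank_eq
  have h2 : ∀ (X Y : Type u) [AddCommGroup X] [AddCommGroup Y] [Module (Localization.Away g) X]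
      [Module (Localization.Away g) Y] [Module.Finite (Localization.Away g) X]
      [Module.Finite (Localization.Away g) Y],
      Module.finrank κ (κ ⊗[Localization.Away g] (X × Y)) =
        Module.finrank κ (κ ⊗[Localization.Away g] X) +
          Module.finrank κ (κ ⊗[Localization.Away g] Y) := by
    intro X Y _ _ _ _ _ _
    rw [(TensorProduct.prodRight (Localization.Away g) κ κ X Y).finrank_eq, Module.finrank_prod]
  have h3 : ∀ d : ℕ, Module.finrank κ (κ ⊗[Localization.Away g] (Fin d → Localization.Away g)) =
      d := by
    intro d
    rw [Module.finrank_baseChange, Module.finrank_fin_fun]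
  have h4 : Module.finrank κ (κ ⊗[Localization.Away g]
      (Algebra.Extension.ofSurjective β' hβ').Cotangent) = c := by
    rw [Module.finrank_eq_card_basis (Algebra.TensorProduct.basis κ b), Fintype.card_fin]
  haveI : Module.Finite (Localization.Away g) (Algebra.Extension.ofSurjective β' hβ').Cotangent :=
    Module.Finite.of_basis b
  have h5 : Module.finrank κ (κ ⊗[Localization.Away g] Mg) =
      Module.finrank κ (κ ⊗[A] (Algebra.Extension.ofSurjective α hα).Cotangent) := by
    have hbc : IsBaseChange (Localization.Away g)
        (LocalizedModule.mkLinearMap (Submonoid.powers g)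
          (Algebra.Extension.ofSurjective α hα).Cotangent) :=
      IsLocalizedModule.isBaseChange (Submonoid.powers g) (Localization.Away g) _
    let e1 : (Localization.Away g) ⊗[A] (Algebra.Extension.ofSurjective α hα).Cotangent
        ≃ₗ[Localization.Away g] Mg := hbc.equiv
    let e2 := LinearEquiv.baseChange (Localization.Away g) κ _ _ e1
    let e3 := TensorProduct.AlgebraTensorModule.cancelBaseChange A (Localization.Away g) κ κ
      (Algebra.Extension.ofSurjective α hα).Cotangent
    rw [← e2.finrank_eq, e3.finrank_eq]
  rw [h2, h2, h3, h3, h4, h5] at h1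
  exact h1

end Schanuel

end Groth.Agent.H74.SyntLiftRank
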