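import Mathlib
import Groth.Prelude.Def_RegImm
import Groth.Agent.H74.SymRetAway
import Groth.Agent.H74.SyntLiftRank
import Groth.Agent.H46.SyntLocal
import Groth.Agent.H46.SyntConormal
import Groth.Agent.H46.RelGCIAway
import Groth.Agent.H46.RelGCIFlat
import Groth.Agent.H46.TensorAway
import Groth.Agent.H46.RelGCIOpenIdeal
import Groth.Agent.H47.Synt.Transport
import Groth.Agent.H87.SmoothQuotC

/-!
# Finite syntomic algebras over a local ring have a square presentation
-/

set_option autoImplicit false
set_option linter.style.haveILetI false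

open MvPolynomial TensorProduct

universe u

namespace Groth.Agent.H74.FinSyntPres

section Semilocal

theorem finite_maximalSpectrum (A B : Type u) [CommRing A] [IsLocalRing A] [CommRing B]
    [Algebra A B] [Module.Finite A B] : Finite (MaximalSpectrum B) := by
  have hfin := Algebra.QuasiFinite.finite_primesOver (R := A) (S := B) (IsLocalRing.maximalIdeal A)
  haveI := hfin.to_subtype
  let φ : MaximalSpectrum B → (IsLocalRing.maximalIdeal A).primesOver B := fun P =>
    ⟨P.asIdeal, P.isMaximal.isPrime, ⟨by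
      haveI := P.isMaximal
      haveI : (P.asIdeal.comap (algebraMap A B)).IsMaximal :=
        Ideal.isMaximal_comap_of_isIntegral_of_isMaximal P.asIdeal
      exact (IsLocalRing.eq_maximalIdeal ‹_›).symm⟩⟩
  refine Finite.of_injective φ ?_
  intro P Q hPQ
  apply MaximalSpectrum.ext
  exact congrArg (fun x => x.1) hPQ

end Semilocal

section Rank

variable {A B : Type u} [CommRing A] [CommRing B] [Algebra A B] [Module.Finite A B]

/-- the fibres of a finite algebra have dimension zero -/
theorem ringKrullDim_fiber_eq_zero (p : Ideal A) [p.IsPrime] [Nontrivial (p.Fiber B)] :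
    ringKrullDim (p.Fiber B) = 0 := by
  haveI : IsArtinianRing (p.Fiber B) := IsArtinianRing.of_finite p.ResidueField _
  exact (ringKrullDimZero_iff_ringKrullDim_eq_zero).mp inferInstance

/-- the fibres of a finite algebra have dimension zero, also on basic opens -/
theorem ringKrullDim_fiber_away_le (g : B) (p : Ideal A) [p.IsPrime]
    [Nontrivial (p.Fiber (Localization.Away g))] :
    ringKrullDim (p.Fiber (Localization.Away g)) = 0 := by
  haveI : IsArtinianRing (p.Fiber B) := IsArtinianRing.of_finite p.ResidueField _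
  have hloc := Groth.Agent.H46.isLocalization_away_tensor A p.ResidueField B
    (Localization.Away g) g
  letI : Algebra (p.ResidueField ⊗[A] B) (p.ResidueField ⊗[A] Localization.Away g) :=
    (Groth.Agent.H46.tensorAwayMap A p.ResidueField B (Localization.Away g)).toRingHom.toAlgebra
  haveI : IsLocalization (Submonoid.powers ((1 : p.ResidueField) ⊗ₜ[A] g))
    (p.ResidueField ⊗[A] Localization.Away g) := hloc
  haveI : IsArtinianRing (p.Fiber (Localization.Away g)) :=
    IsArtinianRing.localization_artinian (Submonoid.powers ((1 : p.ResidueField) ⊗ₜ[A] g)) _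
  exact (ringKrullDimZero_iff_ringKrullDim_eq_zero).mp inferInstance

/-- the conormal module of a presentation with `n` variables of a finite syntomic algebra has rank
`n` at every maximal ideal -/
theorem finrank_cotangent (h : Synt.IsSyntomic A B) (n : ℕ)
    (β : MvPolynomial (Fin n) A →ₐ[A] B) (hβ : Function.Surjective β) (P : Ideal B) [P.IsMaximal] :
    Module.finrank (B ⧸ P) ((B ⧸ P) ⊗[B] (Algebra.Extension.ofSurjective β hβ).Cotangent) = n := by
  letI : Field (B ⧸ P) := Ideal.Quotient.field P
  haveI : Algebra.FinitePresentation A B := h.2.1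
  obtain ⟨g, hg, n₁, c₁, F₁, hF₁, ⟨e⟩⟩ := Groth.Agent.H46.SyntLocal.main A B h P
  have hg' : algebraMap B (B ⧸ P) g ≠ 0 := by
    rw [ne_eq, Ideal.Quotient.algebraMap_eq, Ideal.Quotient.eq_zero_iff_mem]
    exact hg
  have hrk := Groth.Agent.H74.SyntLiftRank.finrank_tensor_cotangent A B n β hβ g n₁ c₁ F₁ hF₁ e
    (B ⧸ P) hg'
  -- a prime of the localization
  have hmem : (⟨P, inferInstance⟩ : PrimeSpectrum B) ∈
      Set.range (PrimeSpectrum.comap (algebraMap B (Localization.Away g))) := by
    rw [PrimeSpectrum.localization_away_comap_range (Localization.Away g) g]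
    exact hg
  obtain ⟨t, -⟩ := hmem
  obtain ⟨-, hnt⟩ := Groth.Agent.H46.RelGCIOpenIdeal.fibreDimAt_le_ringKrullDim A
    (Localization.Away g) t
  haveI : t.asIdeal.IsPrime := t.isPrime
  let E : (t.asIdeal.under A).Fiber (Localization.Away g) ≃ₐ[(t.asIdeal.under A).ResidueField]
      (t.asIdeal.under A).Fiber (Synt.RelGCIRing A n₁ c₁ F₁) :=
    Algebra.TensorProduct.congr AlgEquiv.refl e
  have hnt' : Nontrivial ((t.asIdeal.under A).Fiber (Synt.RelGCIRing A n₁ c₁ F₁)) :=
    E.injective.nontrivial
  obtain ⟨hc, hdim⟩ := hF₁ ⟨t.asIdeal.under A, inferInstance⟩ hnt'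
  have h0 := ringKrullDim_fiber_away_le (A := A) g (t.asIdeal.under A)
  rw [ringKrullDim_eq_of_ringEquiv (R := (t.asIdeal.under A).Fiber (Localization.Away g))
    (S := (t.asIdeal.under A).Fiber (Synt.RelGCIRing A n₁ c₁ F₁)) E.toRingEquiv] at h0
  rw [h0] at hdim
  have h1 : n₁ - c₁ = 0 := by
    have : ((n₁ - c₁ : ℕ) : WithBot ℕ∞) = ((0 : ℕ) : WithBot ℕ∞) := hdim.symm
    exact_mod_cast this
  omega

end Rank

section Main

variable {A B : Type u} [CommRing A] [IsLocalRing A] [CommRing B] [Algebra A B] [Module.Finite A B]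

theorem exists_presentation (h : Synt.IsSyntomic A B) :
    ∃ (n : ℕ) (F : Fin n → MvPolynomial (Fin n) A),
      Nonempty (B ≃ₐ[A] Synt.RelGCIRing A n n F) := by
  classical
  obtain ⟨n, β, hβ, hfg⟩ := h.2.1.out
  let P := Algebra.Extension.ofSurjective β hβ
  have hPker : P.ker = RingHom.ker β.toRingHom := by
    ext x
    rfl
  haveI : Module.Projective B P.Cotangent :=
    Groth.Agent.H46.SyntConormal.projective_cotangent A B h n β hβ
  haveI hfin : Module.Finite B P.Cotangent := by
    have hfg' : P.ker.FG := hfg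
    haveI : Module.Finite P.Ring P.ker := Module.Finite.iff_fg.mpr hfg'
    haveI : Module.Finite P.Ring P.Cotangent :=
      Module.Finite.of_surjective Algebra.Extension.Cotangent.mk
        Algebra.Extension.Cotangent.mk_surjective
    exact Module.Finite.of_restrictScalars_finite P.Ring _ _
  haveI := finite_maximalSpectrum A B
  obtain ⟨b⟩ := Module.nonempty_basis_of_flat_of_finrank_eq B P.Cotangent n
    (fun Q => by
      haveI := Q.isMaximal
      exact finrank_cotangent h n β hβ Q.asIdeal)
  choose f hf using fun i => Algebra.Extension.Cotangent.mk_surjective (P := P) (b i)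
  let F : Fin n → MvPolynomial (Fin n) A := fun i => ((f i : P.ker) : P.Ring)
  have hFmem : ∀ i, F i ∈ RingHom.ker β.toRingHom := fun i => by
    rw [← hPker]
    exact (f i).2
  have hFle : Ideal.span (Set.range F) ≤ RingHom.ker β.toRingHom := by
    rw [Ideal.span_le]
    rintro _ ⟨i, rfl⟩
    exact hFmem i
  -- the key inclusion
  have hle : RingHom.ker β.toRingHom ≤
      (RingHom.ker β.toRingHom) ^ 2 ⊔ Ideal.span (Set.range F) := by
    intro x hx
    have hx' : x ∈ P.ker := by rw [hPker]; exact hx
    choose r hr using fun i =>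
      hβ (b.repr (Algebra.Extension.Cotangent.mk (P := P) ⟨x, hx'⟩) i)
    let rr : Fin n → P.Ring := r
    have hy : x - ∑ i, r i * F i ∈ P.ker := by
      rw [hPker]
      refine Ideal.sub_mem _ hx (Ideal.sum_mem _ fun i _ => ?_)
      exact Ideal.mul_mem_left _ _ (hFmem i)
    have hsub : (⟨x - ∑ i, r i * F i, hy⟩ : P.ker) =
        ⟨x, hx'⟩ - ∑ i, rr i • (f i : P.ker) := by
      apply Subtype.ext
      rw [Submodule.coe_sub, Submodule.coe_sum]
      simp only [Submodule.coe_smul, smul_eq_mul]
      rfl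
    have hzero : Algebra.Extension.Cotangent.mk (P := P) ⟨x - ∑ i, r i * F i, hy⟩ = 0 := by
      rw [hsub, map_sub, map_sum]
      have hsm : ∀ i, Algebra.Extension.Cotangent.mk (P := P) (rr i • (f i : P.ker)) =
          b.repr (Algebra.Extension.Cotangent.mk (P := P) ⟨x, hx'⟩) i • b i := by
        intro i
        rw [map_smul, hf i, ← hr i]
        exact (algebraMap_smul B (rr i) (b i))
      simp only [hsm]
      rw [b.sum_repr, sub_self]
    have hsq0 := (Algebra.Extension.Cotangent.mk_eq_zero_iff (P := P) ⟨_, hy⟩).mp hzero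
    have hsq : x - ∑ i, r i * F i ∈ RingHom.ker β.toRingHom ^ 2 := by
      rw [← hPker]
      exact hsq0
    have hx2 : x = (x - ∑ i, r i * F i) + ∑ i, r i * F i := by ring
    rw [hx2]
    refine Ideal.add_mem _ (Ideal.mem_sup_left hsq) (Ideal.mem_sup_right ?_)
    exact Ideal.sum_mem _ fun i _ => Ideal.mul_mem_left _ _ (Ideal.subset_span ⟨i, rfl⟩)
  -- Nakayama
  obtain ⟨s, hs⟩ := hfg
  obtain ⟨g₁, hg₁, hg₁K⟩ := Groth.Agent.H87.SmoothQuot.exists_mul_mem_of_le_sq_sup
    (RingHom.ker β.toRingHom) (Ideal.span (Set.range F)) s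
    (by rw [← hs]; exact Ideal.subset_span) (by rw [hs]; exact le_sup_left) hle
  obtain ⟨e⟩ := Groth.Agent.H74.SymRetAway.exists_algEquiv_away A β hβ
    (Ideal.span (Set.range F)) hFle g₁ 1 hg₁K
  have hβg : β (g₁ * 1) = 1 := by
    rw [mul_one]
    have h1 : β (g₁ - 1) = 0 := hg₁
    rwa [map_sub, map_one, sub_eq_zero] at h1
  have e' : Localization.Away (Ideal.Quotient.mk (Ideal.span (Set.range F)) (g₁ * 1)) ≃ₐ[A] B := by
    refine e.trans ?_
    rw [hβg]
    exact (IsLocalization.atOne B (Localization.Away (1 : B))).symm.restrictScalars A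
  exact ⟨n + 1, Groth.Agent.H46.RelGCIAway.ext n n F (g₁ * 1),
    ⟨e'.symm.trans (Groth.Agent.H46.RelGCIAway.equiv n n F (g₁ * 1))⟩⟩

omit [IsLocalRing A] in
theorem isSyntomic_of_equiv (n : ℕ) (F : Fin n → MvPolynomial (Fin n) A)
    (e : B ≃ₐ[A] Synt.RelGCIRing A n n F) : Synt.IsSyntomic A B := by
  haveI : Module.Finite A (Synt.RelGCIRing A n n F) := Module.Finite.equiv e.toLinearEquiv
  have hGCI : Synt.IsRelGCI A n n F := by
    intro p hnt
    refine ⟨le_rfl, ?_⟩
    rw [Nat.sub_self]
    haveI := hnt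
    exact ringKrullDim_fiber_eq_zero (A := A) (B := Synt.RelGCIRing A n n F) p.asIdeal
  exact Groth.Agent.H47.Synt.isSyntomic_of_algEquiv e.symm
    (Groth.Agent.H46.RelGCIFlat.isSyntomic A n n F hGCI)

end Main

end Groth.Agent.H74.FinSyntPres
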