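import Mathlib.AlgebraicGeometry.IdealSheaf.Functorial
import Mathlib.AlgebraicGeometry.Noetherian
import Mathlib.RingTheory.Ideal.IdempotentFG
import Mathlib.Topology.Connected.Clopen

/-!
# Ideal sheaves with `J ^ k ≤ J ^ (k + 1)` on locally noetherian schemes have open support
-/

set_option autoImplicit false
universe u

open AlgebraicGeometry CategoryTheory

namespace Groth.Agent.H74.FixClopen

/-- For an idempotent section `e` over `U`, a point of `U` lies outside `D(e)` iff it lies in
`D(1-e)`. -/
theorem not_mem_basicOpen_iff (X : Scheme.{u}) {U : X.Opens} (e : Γ(X, U)) (he : IsIdempotentElem e)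
    (x : X) (hx : x ∈ U) : x ∉ X.basicOpen e ↔ x ∈ X.basicOpen (1 - e) := by
  have h0 : e * (1 - e) = 0 := by rw [mul_sub, mul_one, he.eq, sub_self]
  constructor
  · intro h
    rw [Scheme.mem_basicOpen _ _ _ hx] at h ⊢
    have h1 : X.presheaf.germ U x hx e + X.presheaf.germ U x hx (1 - e) = 1 := by
      rw [← map_add, add_sub_cancel, map_one]
    exact (IsLocalRing.isUnit_or_isUnit_of_add_one h1).resolve_left h
  · intro h h'
    have hmul : x ∈ X.basicOpen (e * (1 - e)) := by
      rw [Scheme.basicOpen_mul]
      exact ⟨h', h⟩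
    rw [h0, Scheme.basicOpen_zero] at hmul
    exact hmul

/-- On a locally noetherian scheme, an ideal sheaf with `J ^ k = J ^ (k + 1)` has the support of
`J ^ k` open. -/
theorem isOpen_support_pow_of_pow_eq {X : Scheme.{u}} [IsLocallyNoetherian X]
    (I : X.IdealSheafData) (k : ℕ) (h : I ^ k = I ^ (k + 1)) :
    IsOpen ((I ^ k).support : Set X) := by
  have hloc : ∀ U : X.affineOpens, ∃ e : Γ(X, U), IsIdempotentElem e ∧
      (I ^ k).ideal U = Ideal.span {e} := by
    intro U
    have hN : IsNoetherianRing Γ(X, U) := IsLocallyNoetherian.component_noetherian U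
    have hb : (I ^ k).ideal U = (I ^ k).ideal U * I.ideal U := by
      have := congrArg (fun J : X.IdealSheafData => J.ideal U) h
      simpa [pow_succ] using this
    have hbn : ∀ n : ℕ, (I ^ k).ideal U = (I ^ k).ideal U * (I.ideal U) ^ n := by
      intro n
      induction n with
      | zero => simp
      | succ n ih => rw [pow_succ, ← mul_assoc, ← ih, ← hb]
    have hbb : IsIdempotentElem ((I ^ k).ideal U) := by
      have := hbn k
      simp only [Scheme.IdealSheafData.ideal_pow, Pi.pow_apply] at this ⊢
      exact this.symm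
    exact (Ideal.isIdempotentElem_iff_of_fg _ (IsNoetherian.noetherian _)).mp hbb
  choose e he hIe using hloc
  have hZU : ∀ U : X.affineOpens, ((I ^ k).support : Set X) ∩ U = X.basicOpen (1 - e U) := by
    intro U
    rw [Scheme.IdealSheafData.coe_support_inter, hIe U, Scheme.zeroLocus_span,
      Scheme.zeroLocus_singleton]
    ext x
    constructor
    · rintro ⟨h1, h2⟩
      exact (not_mem_basicOpen_iff X (e U) (he U) x h2).mp h1
    · intro hx
      have hxU : x ∈ U.1 := X.basicOpen_le _ hx
      exact ⟨(not_mem_basicOpen_iff X (e U) (he U) x hxU).mpr hx, hxU⟩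
  have : ((I ^ k).support : Set X) =
      ⋃ U : X.affineOpens, ((X.basicOpen (1 - e U) : X.Opens) : Set X) := by
    ext x
    simp only [Set.mem_iUnion]
    constructor
    · intro hx
      obtain ⟨U, hxU⟩ : ∃ U : X.affineOpens, x ∈ U.1 := by
        have : x ∈ (⨆ U : X.affineOpens, (U : X.Opens)) := by
          rw [iSup_affineOpens_eq_top]; trivial
        simpa [TopologicalSpace.Opens.mem_iSup] using this
      refine ⟨U, ?_⟩
      rw [← hZU U]
      exact ⟨hx, hxU⟩
    · rintro ⟨U, hx⟩
      rw [← hZU U] at hx
      exact hx.1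
  rw [this]
  exact isOpen_iUnion fun U => (X.basicOpen (1 - e U)).isOpen

/-- On a locally noetherian scheme, an ideal sheaf with `J ^ k ≤ J ^ (k + 1)` has open support. -/
theorem isOpen_support_of_pow_le {X : Scheme.{u}} [IsLocallyNoetherian X]
    (I : X.IdealSheafData) (k : ℕ) (h : I ^ k ≤ I ^ (k + 1)) :
    IsOpen (I.support : Set X) := by
  have h0 : (0 : X.IdealSheafData) ≤ I := bot_le
  have h1 : I ≤ 1 := le_top
  have heq : I ^ k = I ^ (k + 1) := le_antisymm h (pow_le_pow_of_le_one h0 h1 (Nat.le_succ k))
  have hopen := isOpen_support_pow_of_pow_eq I k heq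
  rcases Nat.eq_zero_or_pos k with rfl | hk
  · rw [pow_zero] at hopen
    have : I = ⊤ := by
      rw [eq_top_iff]
      calc (⊤ : X.IdealSheafData) = I ^ 0 := by rw [pow_zero]; rfl
        _ ≤ I ^ (0 + 1) := h
        _ = I := by rw [zero_add, pow_one]
    rw [this]
    simp
  · rwa [Scheme.IdealSheafData.support_pow _ _ hk.ne'] at hopen

end Groth.Agent.H74.FixClopen
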