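import Groth.Agent.H74.FixClopen
import Groth.Agent.H20.ComapMul
import Mathlib.AlgebraicGeometry.Morphisms.Immersion
import Mathlib.Topology.DiscreteSubset

/-!
# Fixed points of contracting correspondences: openness and finiteness
-/

set_option autoImplicit false
universe u

open AlgebraicGeometry CategoryTheory CategoryTheory.Limits

namespace Groth.Agent.H74.FixClopen

theorem finite_discrete_of_closed_points_open {T : Type*} [TopologicalSpace T] [T0Space T]
    [CompactSpace T] (h : ∀ y : T, IsClosed ({y} : Set T) → IsOpen ({y} : Set T)) :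
    Finite T ∧ DiscreteTopology T := by
  have hU : IsOpen {y : T | IsClosed ({y} : Set T)} := by
    have : {y : T | IsClosed ({y} : Set T)} = ⋃ y ∈ {y : T | IsClosed ({y} : Set T)}, {y} := by
      ext z; simp
    rw [this]
    exact isOpen_biUnion fun y hy => h y hy
  have hall : ∀ y : T, IsClosed ({y} : Set T) := by
    by_contra hne
    push Not at hne
    obtain ⟨z, hz⟩ := hne
    obtain ⟨w, hw, hwc⟩ := (isClosed_compl_iff.mpr hU).exists_closed_singleton ⟨z, hz⟩
    exact hw hwc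
  have hd : DiscreteTopology T := discreteTopology_iff_isOpen_singleton.mpr fun y => h y (hall y)
  exact ⟨finite_of_compact_of_discrete, hd⟩

theorem isOpen_singleton_of_isOpen_of_isDiscrete {T : Type*} [TopologicalSpace T] {s : Set T}
    (hs : IsOpen s) (hd : IsDiscrete s) {y : T} (hy : y ∈ s) : IsOpen ({y} : Set T) := by
  obtain ⟨u, hu, hus⟩ := isDiscrete_iff_forall_mem_exists_isOpen.mp hd y hy
  rw [← hus]
  exact hu.inter hs

/-- If a correspondence `(c₁, c₂)` is contracting near `V(I)` on an open `W` containing the image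
of `i : Fx ⟶ C`, where `δ = i ≫ c₁ = i ≫ c₂`, then `δ⁻¹ V(I)` is open in `Fx`. -/
theorem isOpen_preimage_support {C X Fx : Scheme.{u}} [IsLocallyNoetherian Fx] (c₁ c₂ : C ⟶ X)
    (i : Fx ⟶ C) (δ : Fx ⟶ X) (hδ1 : δ = i ≫ c₁) (hδ2 : δ = i ≫ c₂) (I : X.IdealSheafData)
    (W : C.Opens) (hW : Set.range i.base ⊆ (W : Set C)) (k₀ : ℕ)
    (hpow : I.comap (W.ι ≫ c₁) ^ k₀ ≤ I.comap (W.ι ≫ c₂) ^ (k₀ + 1)) :
    IsOpen (δ.base ⁻¹' (I.support : Set X)) := by
  have hW' : Set.range i.base ⊆ Set.range W.ι.base := by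
    rw [Scheme.Opens.range_ι]
    exact hW
  have hi' : IsOpenImmersion.lift W.ι i hW' ≫ W.ι = i := IsOpenImmersion.lift_fac _ _ _
  have e1 : I.comap δ = (I.comap (W.ι ≫ c₁)).comap (IsOpenImmersion.lift W.ι i hW') := by
    rw [← Scheme.IdealSheafData.comap_comp, ← Category.assoc, hi', ← hδ1]
  have e2 : I.comap δ = (I.comap (W.ι ≫ c₂)).comap (IsOpenImmersion.lift W.ι i hW') := by
    rw [← Scheme.IdealSheafData.comap_comp, ← Category.assoc, hi', ← hδ2]
  have hpow' : (I.comap δ) ^ k₀ ≤ (I.comap δ) ^ (k₀ + 1) := by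
    calc (I.comap δ) ^ k₀
        = ((I.comap (W.ι ≫ c₁)) ^ k₀).comap (IsOpenImmersion.lift W.ι i hW') := by
          rw [Groth.Agent.H20.comap_pow, ← e1]
      _ ≤ ((I.comap (W.ι ≫ c₂)) ^ (k₀ + 1)).comap (IsOpenImmersion.lift W.ι i hW') :=
          Scheme.IdealSheafData.comap_mono _ hpow
      _ = (I.comap δ) ^ (k₀ + 1) := by rw [Groth.Agent.H20.comap_pow, ← e2]
  have hopen := isOpen_support_of_pow_le (I.comap δ) k₀ hpow'
  rwa [Scheme.IdealSheafData.support_comap] at hopen

end Groth.Agent.H74.FixClopen
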