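import Groth.Prelude.Def_Frob
import Groth.Prelude.Def_Flat
import Mathlib.AlgebraicGeometry.Morphisms.Integral
import Mathlib.AlgebraicGeometry.Morphisms.UniversallyInjective
import Mathlib.AlgebraicGeometry.Morphisms.Finite
import Mathlib.AlgebraicGeometry.Morphisms.FiniteType
import Mathlib.AlgebraicGeometry.ResidueField
import Mathlib.RingTheory.RingHom.PurelyInseparable
import Mathlib.Topology.Homeomorph.Lemmas

/-!
# Basic properties of the absolute and relative Frobenius (helper library, helper74)
-/

set_option autoImplicit false

universe u

open CategoryTheory CategoryTheory.Limits AlgebraicGeometry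

namespace Groth.Agent.H74.FrobBasic

open FrobSch

/-- A morphism which is integral, universally injective and surjective is a universal homeomorphism. -/
theorem isUnivHomeo_of {X Y : Scheme.{u}} (f : X ⟶ Y) [IsIntegralHom f] [UniversallyInjective f]
    [Surjective f] : FlatMor.IsUnivHomeo f := by
  intro X' Y' i₁ i₂ f' h
  have h1 : IsIntegralHom f' := MorphismProperty.of_isPullback h.flip ‹_›
  have h2 : UniversallyInjective f' := MorphismProperty.of_isPullback h.flip ‹_›
  have h3 : Surjective f' := MorphismProperty.of_isPullback h.flip ‹_›
  change IsHomeomorph f'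
  rw [isHomeomorph_iff_continuous_isClosedMap_bijective]
  exact ⟨f'.continuous, f'.isClosedMap, f'.injective, f'.surjective⟩

section Abs

variable (X : Scheme.{u}) (p : ℕ) [Fact p.Prime] [IsCharP X p]

instance isAffineHom_frob : IsAffineHom (frob X p) where
  isAffine_preimage _ hU := hU

instance isIntegralHom_frob : IsIntegralHom (frob X p) where
  isIntegral_app U hU := by
    intro s
    let s' : Γ(X, U) := s
    refine ⟨Polynomial.X ^ p - Polynomial.C s', ?_, ?_⟩
    · exact Polynomial.monic_X_pow_sub_C _ (Fact.out : p.Prime).ne_zero
    · rw [Polynomial.eval₂_sub, Polynomial.eval₂_pow, Polynomial.eval₂_X, Polynomial.eval₂_C]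
      change (s' ^ p - s' ^ p : Γ(X, U)) = 0
      exact sub_self _

instance surjective_frob : Surjective (frob X p) where
  surj x := ⟨x, rfl⟩

theorem residueFieldMap_frob_apply (x : X) (a : X.residueField x) :
    (frob X p).residueFieldMap x a = a ^ p := by
  obtain ⟨t, rfl⟩ := X.residue_surjective x a
  obtain ⟨U, hxU, s, rfl⟩ := X.presheaf.exists_germ_eq (x := x) t
  have h := Scheme.evaluation_naturality_apply (frob X p) (V := U) x hxU s
  have h2 : X.evaluation (frob X p ⁻¹ᵁ U) x hxU ((frob X p).app U s) =
      (X.evaluation U x hxU s) ^ p := by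
    change X.evaluation U x hxU (s ^ p) = _
    rw [map_pow]
  exact h.trans h2

end Abs

end Groth.Agent.H74.FrobBasic

namespace Groth.Agent.H74.FrobBasic

open FrobSch

section Abs2

variable (X : Scheme.{u}) (p : ℕ) [Fact p.Prime] [IsCharP X p]

theorem natCast_residueField_eq_zero (x : X) : (p : X.residueField x) = 0 := by
  have h := congrArg (X.Γevaluation x).hom (IsCharP.natCast_eq_zero (X := X) (p := p))
  simpa using h

theorem charP_residueField (x : X) : CharP (X.residueField x) p :=
  (CharP.charP_iff_prime_eq_zero Fact.out).2 (natCast_residueField_eq_zero X p x)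

theorem purelyInseparable_frob (x : X) :
    ((frob X p).residueFieldMap x).hom.IsPurelyInseparable := by
  haveI : CharP (X.residueField ((frob X p) x)) p := charP_residueField X p x
  haveI : ExpChar (X.residueField ((frob X p) x)) p := ExpChar.prime Fact.out
  letI : Algebra (X.residueField ((frob X p) x)) (X.residueField x) :=
    ((frob X p).residueFieldMap x).hom.toAlgebra
  change IsPurelyInseparable (X.residueField ((frob X p) x)) (X.residueField x)
  rw [isPurelyInseparable_iff_pow_mem _ p]
  intro a
  refine ⟨1, a, ?_⟩
  rw [pow_one]
  exact residueFieldMap_frob_apply X p x a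

instance universallyInjective_frob : UniversallyInjective (frob X p) := by
  have := (tfae_universallyInjective (frob X p)).out 0 2
  rw [this]
  exact ⟨fun a b h => h, purelyInseparable_frob X p⟩

theorem isUnivHomeo_frob : FlatMor.IsUnivHomeo (frob X p) := isUnivHomeo_of _

end Abs2

end Groth.Agent.H74.FrobBasic

namespace Groth.Agent.H74.FrobBasic

open FrobSch

/-- If `f ≫ g` is universally injective then so is `f`. -/
theorem universallyInjective_of_comp {X Y Z : Scheme.{u}} (f : X ⟶ Y) (g : Y ⟶ Z)
    [UniversallyInjective (f ≫ g)] : UniversallyInjective f := by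
  have h1 := (tfae_universallyInjective (f ≫ g)).out 0 1
  have h2 := (tfae_universallyInjective f).out 0 1
  rw [h2]
  intro K _ a b hab
  have := h1.mp ‹_› K
  apply this
  change a ≫ f ≫ g = b ≫ f ≫ g
  have hab' : a ≫ f = b ≫ f := hab
  rw [← Category.assoc, hab', Category.assoc]

section Rel

variable {X S : Scheme.{u}} (f : X ⟶ S) (p : ℕ) [Fact p.Prime] [IsCharP S p]

instance : IsIntegralHom (pullback.fst f (frob S p)) := inferInstance

instance : UniversallyInjective (pullback.fst f (frob S p)) :=
  MorphismProperty.pullback_fst (P := @UniversallyInjective) f (frob S p) inferInstance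

instance : Surjective (pullback.fst f (frob S p)) :=
  MorphismProperty.pullback_fst (P := @Surjective) f (frob S p) inferInstance

instance isIntegralHom_relFrob : IsIntegralHom (relFrob f p) := by
  haveI : IsCharP X p := IsCharP.of_hom f p
  haveI : IsIntegralHom (relFrob f p ≫ pullback.fst f (frob S p)) := by
    rw [relFrob_fst]; infer_instance
  exact IsIntegralHom.of_comp (relFrob f p) (pullback.fst f (frob S p))

instance universallyInjective_relFrob : UniversallyInjective (relFrob f p) := by
  haveI : IsCharP X p := IsCharP.of_hom f p
  haveI : UniversallyInjective (relFrob f p ≫ pullback.fst f (frob S p)) := by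
    rw [relFrob_fst]; infer_instance
  exact universallyInjective_of_comp (relFrob f p) (pullback.fst f (frob S p))

instance surjective_relFrob : Surjective (relFrob f p) where
  surj y := by
    haveI : IsCharP X p := IsCharP.of_hom f p
    refine ⟨pullback.fst f (frob S p) y, ?_⟩
    apply (pullback.fst f (frob S p)).injective
    have h := congrArg (fun h : X ⟶ X => h (pullback.fst f (frob S p) y)) (relFrob_fst f p)
    exact h

theorem isUnivHomeo_relFrob : FlatMor.IsUnivHomeo (relFrob f p) := isUnivHomeo_of _

theorem purelyInseparable_relFrob (x : X) :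
    ((relFrob f p).residueFieldMap x).hom.IsPurelyInseparable := by
  have h := (tfae_universallyInjective (relFrob f p)).out 0 2
  exact (h.mp (universallyInjective_relFrob f p)).2 x

theorem isFinite_relFrob [LocallyOfFiniteType f] : IsFinite (relFrob f p) := by
  rw [IsFinite.iff_isIntegralHom_and_locallyOfFiniteType]
  refine ⟨inferInstance, ?_⟩
  haveI : LocallyOfFiniteType (relFrob f p ≫ pullback.snd f (frob S p)) := by
    rw [relFrob_snd]; infer_instance
  exact locallyOfFiniteType_of_comp (relFrob f p) (pullback.snd f (frob S p))

end Rel

end Groth.Agent.H74.FrobBasic
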