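import Groth.Prelude.Def_Frob
import Mathlib.AlgebraicGeometry.IdealSheaf.Functorial
import Mathlib.CategoryTheory.Endomorphism
import Groth.Agent.H19.ComapAff
import Groth.Agent.H20.ComapMul

/-!
# Frobenius pull-back of ideal sheaves is contracting

For a scheme `C` of characteristic `p` and an ideal sheaf `M` on `C`, the inverse image of `M`
under the `k`-fold absolute Frobenius is contained in `M ^ (p ^ k)`.
-/

set_option autoImplicit false
universe u

open AlgebraicGeometry CategoryTheory FrobSch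

namespace Groth.Agent.H74.FrobContract

section

variable {C : Scheme.{u}} (p : ℕ) [Fact p.Prime] [IsCharP C p]

theorem frob_appLE (V : C.Opens) (e : V ≤ frob C p ⁻¹ᵁ V) (s : Γ(C, V)) :
    (frob C p).appLE V V e s = s ^ p := by
  have : (homOfLE e : V ⟶ frob C p ⁻¹ᵁ V) = 𝟙 V := rfl
  simp only [Scheme.Hom.appLE, this]
  change C.presheaf.map (𝟙 V).op ((frob C p).app V s) = s ^ p
  rw [op_id, C.presheaf.map_id]
  rfl

/-- The inverse image of an ideal sheaf under the absolute Frobenius lies in its `p`-th power. -/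
theorem comap_frob_le (M : C.IdealSheafData) : M.comap (frob C p) ≤ M ^ p := by
  intro V
  have e : V.1 ≤ frob C p ⁻¹ᵁ V.1 := le_rfl
  rw [Groth.Agent.H19.ComapAff.ideal_comap_appLE (frob C p) M V V e,
    Scheme.IdealSheafData.ideal_pow, Ideal.map_le_iff_le_comap]
  intro s hs
  rw [Ideal.mem_comap]
  change (frob C p).appLE V.1 V.1 e s ∈ _
  rw [frob_appLE]
  exact Ideal.pow_mem_pow hs p

/-- The `k`-fold absolute Frobenius. -/
noncomputable abbrev frobPow (k : ℕ) : C ⟶ C := End.asHom (End.of (frob C p) ^ k)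

theorem frobPow_zero : frobPow (C := C) p 0 = 𝟙 C := by
  simp [frobPow]

theorem frobPow_succ (k : ℕ) : frobPow (C := C) p (k + 1) = frob C p ≫ frobPow p k := by
  simp only [frobPow, pow_succ, End.mul_def]

theorem frobPow_base (k : ℕ) (x : C) : (frobPow (C := C) p k) x = x := by
  induction k with
  | zero => rw [frobPow_zero]; rfl
  | succ k ih => rw [frobPow_succ, Scheme.Hom.comp_apply, frob_apply, ih]

/-- The inverse image of an ideal sheaf under the `k`-fold absolute Frobenius lies in its
`p ^ k`-th power. -/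
theorem comap_frobPow_le (M : C.IdealSheafData) (k : ℕ) :
    M.comap (frobPow p k) ≤ M ^ (p ^ k) := by
  induction k with
  | zero => rw [frobPow_zero, Scheme.IdealSheafData.comap_id, pow_zero, pow_one]
  | succ k ih =>
    rw [frobPow_succ, Scheme.IdealSheafData.comap_comp]
    calc (M.comap (frobPow p k)).comap (frob C p)
        ≤ (M ^ (p ^ k)).comap (frob C p) := Scheme.IdealSheafData.comap_mono _ ih
      _ = (M.comap (frob C p)) ^ (p ^ k) := Groth.Agent.H20.comap_pow _ _ _
      _ ≤ (M ^ p) ^ (p ^ k) :=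
          pow_le_pow_left₀ bot_le (comap_frob_le p M) _
      _ = M ^ (p ^ (k + 1)) := by rw [← pow_mul, pow_succ, mul_comm]

end

section

variable {X Y : Scheme.{u}} (p : ℕ) [Fact p.Prime] [IsCharP X p] [IsCharP Y p]

theorem frobPow_comp (f : X ⟶ Y) (k : ℕ) : frobPow p k ≫ f = f ≫ frobPow p k := by
  induction k with
  | zero => rw [frobPow_zero, frobPow_zero, Category.id_comp, Category.comp_id]
  | succ k ih =>
    rw [frobPow_succ, frobPow_succ, Category.assoc, ih, frob_comp_assoc]

end

section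

variable {C : Scheme.{u}}

open Scheme.IdealSheafData in
/-- The contraction criterion: if `L ≤ M ^ N`, `V(J) ⊆ V(M)`, `(√J)^d ≤ J` and `d < N`
then `L ≤ J` and `L ^ d ≤ J ^ (d + 1)`. -/
theorem contract (J M L : C.IdealSheafData) (N d : ℕ) (hL : L ≤ M ^ N)
    (hM : J.support ≤ M.support) (hd : J.radical ^ d ≤ J) (hn : d < N) :
    L ≤ J ∧ L ^ d ≤ J ^ (d + 1) := by
  have hMR : M ≤ J.radical := by
    calc M ≤ M.radical := le_radical _
      _ = vanishingIdeal M.support := vanishingIdeal_support.symm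
      _ ≤ vanishingIdeal J.support := vanishingIdeal_antimono hM
      _ = J.radical := vanishingIdeal_support
  have h0 : ∀ K : C.IdealSheafData, (0 : C.IdealSheafData) ≤ K := fun K => bot_le
  have h1 : ∀ K : C.IdealSheafData, K ≤ 1 := fun K => le_top
  have hLR : L ≤ J.radical ^ (d + 1) :=
    calc L ≤ M ^ N := hL
      _ ≤ J.radical ^ N := pow_le_pow_left₀ (h0 _) hMR _
      _ ≤ J.radical ^ (d + 1) := pow_le_pow_of_le_one (h0 _) (h1 _) hn
  refine ⟨?_, ?_⟩
  · calc L ≤ J.radical ^ (d + 1) := hLR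
      _ = J.radical ^ d * J.radical := pow_succ _ _
      _ ≤ J * J.radical := mul_le_mul_of_nonneg_right hd (h0 _)
      _ ≤ J := mul_le_of_le_one_right (h0 _) (h1 _)
  · calc L ^ d ≤ (J.radical ^ (d + 1)) ^ d := pow_le_pow_left₀ (h0 _) hLR _
      _ = (J.radical ^ d) ^ (d + 1) := by rw [← pow_mul, ← pow_mul, mul_comm]
      _ ≤ J ^ (d + 1) := pow_le_pow_left₀ (h0 _) hd _

end

end Groth.Agent.H74.FrobContract
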