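import Groth.Agent.H74.FrobTwistK
import Mathlib.AlgebraicGeometry.Morphisms.QuasiFinite

/-!
# Local form of the Frobenius contraction lemma
-/

set_option autoImplicit false
universe u

open AlgebraicGeometry CategoryTheory CategoryTheory.Limits FrobSch

namespace Groth.Agent.H74.FrobContract

theorem radical_comap_of_isOpenImmersion {X Y : Scheme.{u}} (J : Y.IdealSheafData) (f : X ⟶ Y)
    [IsOpenImmersion f] : (J.comap f).radical = J.radical.comap f := by
  ext U : 2
  rw [Scheme.IdealSheafData.radical_ideal, Scheme.IdealSheafData.ideal_comap_of_isOpenImmersion,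
    Scheme.IdealSheafData.ideal_comap_of_isOpenImmersion, Scheme.IdealSheafData.radical_ideal,
    Ideal.comap_radical]

theorem isClosed_of_subset_of_isDiscrete {T : Type*} [TopologicalSpace T] {A B : Set T}
    (hA : IsClosed A) (hd : IsDiscrete A) (hBA : B ⊆ A) : IsClosed B := by
  have : DiscreteTopology A := hd.to_subtype
  have h1 : IsClosed ((Subtype.val : A → T) ⁻¹' B) := isClosed_discrete _
  have h2 := hA.isClosedEmbedding_subtypeVal.isClosedMap _ h1
  rwa [Subtype.image_preimage_coe, Set.inter_eq_right.mpr hBA] at h2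

section

variable {C X : Scheme.{u}} (p : ℕ) [Fact p.Prime] [IsCharP C p]

theorem contract_local (N' : ℕ) (τ Fr : C ⟶ C) (hτ : Fr = frobPow p N' ≫ τ) (c₁ c₂ : C ⟶ X)
    (I : X.IdealSheafData) (d : ℕ) (hd : (I.comap c₂).radical ^ d ≤ I.comap c₂)
    (hn : d < p ^ N') (W : C.Opens)
    (hinv : ∀ y ∈ W, c₂ y ∈ I.support → (Fr ≫ c₁) y ∈ I.support) :
    I.comap (W.ι ≫ Fr ≫ c₁) ≤ I.comap (W.ι ≫ c₂) ∧
      I.comap (W.ι ≫ Fr ≫ c₁) ^ d ≤ I.comap (W.ι ≫ c₂) ^ (d + 1) := by
  have : IsCharP (W : Scheme.{u}) p := IsCharP.of_hom W.ι p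
  have hcomp : W.ι ≫ Fr ≫ c₁ = frobPow p N' ≫ W.ι ≫ τ ≫ c₁ := by
    rw [hτ, Category.assoc, ← Category.assoc W.ι, ← frobPow_comp, Category.assoc]
  have hL : I.comap (W.ι ≫ Fr ≫ c₁) = (I.comap (W.ι ≫ τ ≫ c₁)).comap (frobPow p N') := by
    rw [← Scheme.IdealSheafData.comap_comp, hcomp]
  refine contract (I.comap (W.ι ≫ c₂)) (I.comap (W.ι ≫ τ ≫ c₁)) _ (p ^ N') d ?_ ?_ ?_ hn
  · rw [hL]
    exact comap_frobPow_le p _ _
  · rw [Scheme.IdealSheafData.support_comap, Scheme.IdealSheafData.support_comap]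
    intro y hy
    have h1 : (Fr ≫ c₁) (W.ι y) ∈ I.support := hinv _ y.2 hy
    rw [hτ, Category.assoc, Scheme.Hom.comp_apply, frobPow_base] at h1
    exact h1
  · rw [Scheme.IdealSheafData.comap_comp, radical_comap_of_isOpenImmersion,
      ← Groth.Agent.H20.comap_pow]
    exact Scheme.IdealSheafData.comap_mono _ hd

end

end Groth.Agent.H74.FrobContract
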