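import Groth.Agent.H74.FrobBasic
import Groth.Prelude.Def_Omega3

/-!
# Differentials relative to the relative Frobenius (helper library, helper74)
-/

set_option autoImplicit false

universe u

open CategoryTheory CategoryTheory.Limits AlgebraicGeometry TopologicalSpace Opposite

namespace Groth.Agent.H74.FrobDiff

open FrobSch

section Basic

variable {X S : Scheme.{u}} {f : X ⟶ S} {Ω : X.Modules} (d : OmegaSh.Der f Ω)

theorem app_mul (U : X.Opens) (a b : Γ(X, U)) :
    d.app U (a * b) = a • d.app U b + b • d.app U a :=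
  d.d_mul (X := op U) a b

theorem app_one (U : X.Opens) : d.app U 1 = 0 := d.d_one (op U)

theorem app_map {U V : X.Opens} (i : U ⟶ V) (s : Γ(X, V)) :
    d.app U (X.presheaf.map i.op s) = Ω.presheaf.map i.op (d.app V s) :=
  d.d_map i.op s

theorem app_pow_succ (U : X.Opens) (s : Γ(X, U)) (n : ℕ) :
    d.app U (s ^ (n + 1)) = (((n + 1 : ℕ) : Γ(X, U)) * s ^ n) • d.app U s := by
  induction n with
  | zero => simp
  | succ n ih =>
    rw [pow_succ, app_mul, ih, smul_smul, ← add_smul]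
    congr 1
    push_cast
    ring

/-- Sections killed by `d` over `U` form a subring. -/
def kerSubring (U : X.Opens) : Subring Γ(X, U) where
  carrier := {s | d.app U s = 0}
  mul_mem' := by
    intro a b ha hb
    change d.app U a = 0 at ha; change d.app U b = 0 at hb; change d.app U (a * b) = 0
    rw [app_mul, ha, hb, smul_zero, smul_zero, add_zero]
  one_mem' := app_one d U
  add_mem' := by
    intro a b ha hb
    change d.app U a = 0 at ha; change d.app U b = 0 at hb; change d.app U (a + b) = 0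
    rw [map_add, ha, hb, add_zero]
  zero_mem' := map_zero _
  neg_mem' := by
    intro a ha
    change d.app U a = 0 at ha; change d.app U (-a) = 0
    rw [map_neg, ha, neg_zero]

theorem mem_kerSubring {U : X.Opens} {s : Γ(X, U)} : s ∈ kerSubring d U ↔ d.app U s = 0 :=
  Iff.rfl

/-- `d` is local: a section whose restrictions to an open cover are killed by `d` is killed. -/
theorem app_eq_zero_of_cover {ι : Type*} (U : X.Opens) (V : ι → X.Opens) (hV : ∀ i, V i ≤ U)
    (hcov : U ≤ iSup V) (s : Γ(X, U))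
    (h : ∀ i, d.app (V i) (X.presheaf.map (homOfLE (hV i)).op s) = 0) : d.app U s = 0 := by
  let F : TopCat.Sheaf Ab X := ⟨Ω.presheaf, Ω.isSheaf⟩
  refine F.eq_of_locally_eq' V U (fun i => homOfLE (hV i)) hcov _ _ (fun i => ?_)
  have := app_map d (homOfLE (hV i)) s
  rw [h i] at this
  rw [map_zero]
  exact this.symm

end Basic

section Frob

variable {p : ℕ} [Fact p.Prime] {X S : Scheme.{u}} [IsCharP S p] {f : X ⟶ S} {Ω : X.Modules}
  (d : OmegaSh.Der f Ω)

theorem app_pow_p [IsCharP X p] (U : X.Opens) (s : Γ(X, U)) : d.app U (s ^ p) = 0 := by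
  have hp : p - 1 + 1 = p := Nat.sub_add_cancel (Fact.out : p.Prime).one_le
  rw [← hp, app_pow_succ, hp, natCast_eq_zero_app X p U, zero_mul, zero_smul]

theorem app_appLE_eq_zero {U : X.Opens} {W : S.Opens} (hUW : U ≤ f ⁻¹ᵁ W) (r : Γ(S, W)) :
    d.app U (f.appLE W U hUW r) = 0 := by
  have h1 : d.app (f ⁻¹ᵁ W) (f.app W r) = 0 := d.d_app (X := op W) r
  have h2 := app_map d (homOfLE hUW) (f.app W r)
  rw [h1, map_zero] at h2
  exact h2

end Frob

section Factor

variable {p : ℕ} [Fact p.Prime] {X S : Scheme.{u}} [IsCharP S p] [IsCharP X p] {f : X ⟶ S}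
  {Ω : X.Modules} (d : OmegaSh.Der f Ω) {U : X.Opens} (hU : IsAffineOpen U) {W : S.Opens}
  (hW : IsAffineOpen W) (hUW : U ≤ f ⁻¹ᵁ W)

omit [IsCharP S p] in
theorem frob_appLE (V : X.Opens) (e : V ≤ frob X p ⁻¹ᵁ V) (s : Γ(X, V)) :
    (frob X p).appLE V V e s = s ^ p := by
  have : (homOfLE e : V ⟶ frob X p ⁻¹ᵁ V) = 𝟙 V := rfl
  simp only [Scheme.Hom.appLE, this]
  change X.presheaf.map (𝟙 V).op ((frob X p).app V s) = s ^ p
  rw [op_id, X.presheaf.map_id]
  rfl

/-- The `p`-th power map, with values in the kernel of `d`. -/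
def powK : Γ(X, U) →+* kerSubring d U :=
  (powHom p Γ(X, U) (natCast_eq_zero_app X p U)).codRestrict (kerSubring d U)
    (fun s => app_pow_p d U s)

/-- Sections of the base, with values in the kernel of `d`. -/
def baseK : Γ(S, W) →+* kerSubring d U :=
  (f.appLE W U hUW).hom.codRestrict (kerSubring d U) (fun r => app_appLE_eq_zero d hUW r)

/-- `Spec Γ(U) ⟶ Spec K`. -/
noncomputable def jK : Spec Γ(X, U) ⟶ Spec (CommRingCat.of (kerSubring d U)) :=
  Spec.map (CommRingCat.ofHom (kerSubring d U).subtype)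

/-- `Spec K ⟶ X`. -/
noncomputable def aK : Spec (CommRingCat.of (kerSubring d U)) ⟶ X :=
  Spec.map (CommRingCat.ofHom (powK (p := p) d)) ≫ hU.fromSpec

/-- `Spec K ⟶ S`. -/
noncomputable def bK : Spec (CommRingCat.of (kerSubring d U)) ⟶ S :=
  Spec.map (CommRingCat.ofHom (baseK d hUW)) ≫ hW.fromSpec

theorem aK_comp : aK (p := p) d hU ≫ f = bK d hW hUW ≫ frob S p := by
  have e : W ≤ frob S p ⁻¹ᵁ W := le_rfl
  rw [aK, bK, Category.assoc, Category.assoc, ← IsAffineOpen.SpecMap_appLE_fromSpec f hW hU hUW,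
    ← IsAffineOpen.SpecMap_appLE_fromSpec (frob S p) hW hW e, ← Spec.map_comp_assoc,
    ← Spec.map_comp_assoc]
  congr 2
  ext r
  change (f.appLE W U hUW r) ^ p = f.appLE W U hUW ((frob S p).appLE W W e r)
  rw [frob_appLE, map_pow]

/-- `Spec K ⟶ X^(p)`. -/
noncomputable def cK : Spec (CommRingCat.of (kerSubring d U)) ⟶ frobTwist f p :=
  pullback.lift (aK (p := p) d hU) (bK d hW hUW) (aK_comp d hU hW hUW)

theorem jK_cK : jK d ≫ cK (p := p) d hU hW hUW = hU.fromSpec ≫ relFrob f p := by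
  apply pullback.hom_ext
  · have e : U ≤ frob X p ⁻¹ᵁ U := le_rfl
    rw [Category.assoc, Category.assoc, relFrob_fst, cK, pullback.lift_fst, jK, aK,
      ← Spec.map_comp_assoc, ← IsAffineOpen.SpecMap_appLE_fromSpec (frob X p) hU hU e]
    congr 2
    ext s
    change s ^ p = (frob X p).appLE U U e s
    rw [frob_appLE]
  · rw [Category.assoc, Category.assoc, relFrob_snd, cK, pullback.lift_snd, jK, bK,
      ← Spec.map_comp_assoc, ← IsAffineOpen.SpecMap_appLE_fromSpec f hW hU hUW]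
    congr 2

include p in
theorem isIntegral_subtype : (kerSubring d U).subtype.IsIntegral := by
  intro s
  refine ⟨Polynomial.X ^ p - Polynomial.C (powK (p := p) d s),
    Polynomial.monic_X_pow_sub_C _ (Fact.out : p.Prime).ne_zero, ?_⟩
  simp only [Polynomial.eval₂_sub, Polynomial.eval₂_pow, Polynomial.eval₂_X, Polynomial.eval₂_C]
  change s ^ p - s ^ p = 0
  exact sub_self _

include p in
theorem surjective_jK : Function.Surjective (jK d (U := U)) := by
  intro y
  obtain ⟨x, hx⟩ := (isIntegral_subtype (p := p) d (U := U)).comap_surjective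
    Subtype.val_injective y
  exact ⟨x, hx⟩

omit [Fact p.Prime] [IsCharP S p] [IsCharP X p] in
theorem fromSpec_appLE_self (h : (⊤ : (Spec Γ(X, U)).Opens) ≤ hU.fromSpec ⁻¹ᵁ U) :
    hU.fromSpec.appLE U ⊤ h = (Scheme.ΓSpecIso Γ(X, U)).inv := by
  rw [Scheme.Hom.appLE, hU.fromSpec_app_self, Category.assoc, ← Functor.map_comp]
  convert Category.comp_id _
  exact (Spec Γ(X, U)).presheaf.map_id _

include hU hW hUW in
/-- `d` kills the sections coming from the Frobenius twist (affine-local form). -/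
theorem app_relFrob_appLE_eq_zero (V : (frobTwist f p).Opens) (hUV : U ≤ relFrob f p ⁻¹ᵁ V)
    (t : Γ(frobTwist f p, V)) : d.app U ((relFrob f p).appLE V U hUV t) = 0 := by
  have h1 : (⊤ : (Spec Γ(X, U)).Opens) ≤ hU.fromSpec ⁻¹ᵁ U := by
    rw [hU.fromSpec_preimage_self]
  have hc : (⊤ : (Spec (CommRingCat.of (kerSubring d U))).Opens) ≤
      cK (p := p) d hU hW hUW ⁻¹ᵁ V := by
    intro y _
    obtain ⟨x, rfl⟩ := surjective_jK (p := p) d y
    change (jK d ≫ cK (p := p) d hU hW hUW) x ∈ V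
    rw [jK_cK]
    have hx : x ∈ hU.fromSpec ⁻¹ᵁ U := by rw [hU.fromSpec_preimage_self]; trivial
    exact hUV hx
  have key : ∀ (g' : Spec Γ(X, U) ⟶ frobTwist f p) (_ : g' = jK d ≫ cK (p := p) d hU hW hUW)
      (htop : (⊤ : (Spec Γ(X, U)).Opens) ≤ g' ⁻¹ᵁ V),
      g'.appLE V ⊤ htop = (cK (p := p) d hU hW hUW).appLE V ⊤ hc ≫ (jK d).appLE ⊤ ⊤ le_top := by
    rintro _ rfl h
    exact (Scheme.Hom.appLE_comp_appLE _ _ _ _ _ _ _).symm
  have h2 := key (hU.fromSpec ≫ relFrob f p) (jK_cK d hU hW hUW).symm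
    (h1.trans ((Opens.map hU.fromSpec.base).map (homOfLE hUV)).le)
  have h2' : (relFrob f p).appLE V U hUV ≫ hU.fromSpec.appLE U ⊤ h1 =
      (hU.fromSpec ≫ relFrob f p).appLE V ⊤
        (h1.trans ((Opens.map hU.fromSpec.base).map (homOfLE hUV)).le) :=
    Scheme.Hom.appLE_comp_appLE _ _ _ _ _ _ _
  rw [← h2', fromSpec_appLE_self] at h2
  have h3 := congrArg (fun φ => (Scheme.ΓSpecIso Γ(X, U)).hom.hom (φ.hom t)) h2
  simp only [CommRingCat.hom_comp, RingHom.comp_apply] at h3
  have h4 : (jK d).appLE ⊤ ⊤ le_top = (jK d (U := U)).appTop := by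
    rw [Scheme.Hom.appLE]
    change (jK d).appTop ≫ (Spec Γ(X, U)).presheaf.map (𝟙 _) = _
    rw [(Spec Γ(X, U)).presheaf.map_id, Category.comp_id]
  have h5 := Scheme.ΓSpecIso_naturality (CommRingCat.ofHom (kerSubring d U).subtype)
  have h6 := congrArg (fun φ => φ.hom ((cK (p := p) d hU hW hUW).appLE V ⊤ hc t)) h5
  simp only [CommRingCat.hom_comp, RingHom.comp_apply] at h6
  rw [h4] at h3
  erw [h6] at h3
  have h7 : (Scheme.ΓSpecIso Γ(X, U)).hom.hom ((Scheme.ΓSpecIso Γ(X, U)).inv.hom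
      ((relFrob f p).appLE V U hUV t)) = (relFrob f p).appLE V U hUV t := by
    rw [← RingHom.comp_apply, ← CommRingCat.hom_comp, Iso.inv_hom_id]; rfl
  rw [h7] at h3
  change (relFrob f p).appLE V U hUV t ∈ kerSubring d U
  rw [h3]
  exact Subtype.property _

end Factor

section Main

variable {p : ℕ} [Fact p.Prime] {X S : Scheme.{u}} [IsCharP S p] {f : X ⟶ S}
  {Ω : X.Modules} (d : OmegaSh.Der f Ω)

/-- `d` kills the sections coming from the Frobenius twist. -/
theorem app_relFrob_app_eq_zero (V : (frobTwist f p).Opens) (t : Γ(frobTwist f p, V)) :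
    d.app (relFrob f p ⁻¹ᵁ V) ((relFrob f p).app V t) = 0 := by
  have : IsCharP X p := IsCharP.of_hom f p
  let ι := { U' : X.Opens // IsAffineOpen U' ∧ U' ≤ relFrob f p ⁻¹ᵁ V ∧
    ∃ W : S.Opens, IsAffineOpen W ∧ U' ≤ f ⁻¹ᵁ W }
  refine app_eq_zero_of_cover d (relFrob f p ⁻¹ᵁ V) (fun i : ι => i.1) (fun i => i.2.2.1) ?_ _ ?_
  · intro x hx
    obtain ⟨W, hW, hxW⟩ : ∃ W : S.Opens, IsAffineOpen W ∧ f x ∈ W := by
      obtain ⟨_, ⟨W, hW : IsAffineOpen W, rfl⟩, hxW, -⟩ :=
        (S.isBasis_affineOpens).exists_subset_of_mem_open (Set.mem_univ (f x)) isOpen_univ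
      exact ⟨W, hW, hxW⟩
    have hx' : x ∈ (relFrob f p ⁻¹ᵁ V) ⊓ (f ⁻¹ᵁ W) := ⟨hx, hxW⟩
    obtain ⟨_, ⟨U', hU' : IsAffineOpen U', rfl⟩, hxU', hU'le⟩ :=
      (X.isBasis_affineOpens).exists_subset_of_mem_open hx'
        ((relFrob f p ⁻¹ᵁ V) ⊓ (f ⁻¹ᵁ W)).isOpen
    have hle : U' ≤ (relFrob f p ⁻¹ᵁ V) ⊓ (f ⁻¹ᵁ W) := hU'le
    refine Opens.mem_iSup.mpr ⟨⟨U', hU', hle.trans inf_le_left, W, hW, hle.trans inf_le_right⟩, hxU'⟩
  · rintro ⟨U', hU', hU'V, W, hW, hU'W⟩
    exact app_relFrob_appLE_eq_zero d hU' hW hU'W V hU'V t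

/-- The derivation `d`, viewed as a derivation relative to the relative Frobenius. -/
def relDer : OmegaSh.Der (relFrob f p) Ω where
  d := d.d
  d_mul := d.d_mul
  d_map := d.d_map
  d_app {V} a := app_relFrob_app_eq_zero d V.unop a

theorem relDer_app (U : X.Opens) (s : Γ(X, U)) : (relDer (p := p) d).app U s = d.app U s := rfl

/-- A derivation relative to the relative Frobenius is a derivation relative to `f`. -/
def ofRelDer {F : X.Modules} (D : OmegaSh.Der (relFrob f p) F) : OmegaSh.Der f F where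
  d := D.d
  d_mul := D.d_mul
  d_map := D.d_map
  d_app {W} r := by
    have e : f = relFrob f p ≫ pullback.snd f (frob S p) := (relFrob_snd f p).symm
    have h1 := Scheme.Hom.congr_app e W.unop
    have h2 : f.c.app W r = X.presheaf.map (eqToHom
        ((congrArg (fun g : X ⟶ S => (Opens.map g.base).obj (unop W)) e).trans rfl)).op
        ((relFrob f p).c.app (op (pullback.snd f (frob S p) ⁻¹ᵁ W.unop))
          ((pullback.snd f (frob S p)).c.app W r)) := by
      have := congrArg (fun φ => φ.hom r) h1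
      exact this
    rw [h2]
    have h3 : D.d ((relFrob f p).c.app (op (pullback.snd f (frob S p) ⁻¹ᵁ W.unop))
        ((pullback.snd f (frob S p)).c.app W r)) = 0 :=
      D.d_app (X := op (pullback.snd f (frob S p) ⁻¹ᵁ W.unop)) _
    erw [D.d_map, h3]
    exact map_zero _

theorem isUniversal_relDer (hd : OmegaSh.IsUniversal d) :
    OmegaSh.IsUniversal (relDer (p := p) d) := by
  intro F D
  obtain ⟨α, hα, hα'⟩ := hd F (ofRelDer D)
  refine ⟨α, ?_, ?_⟩
  · ext U s
    exact PresheafOfModules.Derivation.congr_d hα s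
  · intro β hβ
    apply hα'
    ext U s
    exact PresheafOfModules.Derivation.congr_d hβ s

end Main

end Groth.Agent.H74.FrobDiff
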