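import Mathlib.RingTheory.LocalRing.Module
import Mathlib.RingTheory.Nakayama
import Mathlib.Algebra.Module.Projective
import Mathlib.LinearAlgebra.Pi
import Mathlib.RingTheory.Noetherian.Basic
import Mathlib.Algebra.Category.ModuleCat.ChangeOfRings
import Mathlib.Algebra.CharP.Frobenius

set_option autoImplicit false
universe u v w

namespace Groth.Agent.H74.FrobFree

open IsLocalRing

variable {R : Type u} [CommRing R]

/-- The ideal generated by all coordinates of all elements of a submodule of `R ^ n`. -/
def coordIdeal {n : ℕ} (K : Submodule R (Fin n → R)) : Ideal R :=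
  Ideal.span {r | ∃ x ∈ K, ∃ i, x i = r}

theorem coord_mem {n : ℕ} {K : Submodule R (Fin n → R)} {x : Fin n → R} (hx : x ∈ K) (i : Fin n) :
    x i ∈ coordIdeal K :=
  Ideal.subset_span ⟨x, hx, i, rfl⟩

theorem coordIdeal_le {n : ℕ} {K : Submodule R (Fin n → R)} {J : Ideal R}
    (h : ∀ x ∈ K, ∀ i, x i ∈ J) : coordIdeal K ≤ J := by
  rw [coordIdeal, Ideal.span_le]
  rintro _ ⟨x, hx, i, rfl⟩
  exact h x hx i

/-- Coordinates of `f x` lie in any ideal containing the coordinates of `x`. -/
theorem apply_coord_mem {n : ℕ} (f : (Fin n → R) →ₗ[R] (Fin n → R)) (x : Fin n → R) (J : Ideal R)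
    (hx : ∀ i, x i ∈ J) (i : Fin n) : f x i ∈ J := by
  rw [LinearMap.pi_apply_eq_sum_univ f x, Finset.sum_apply]
  refine J.sum_mem fun j _ => ?_
  rw [Pi.smul_apply, smul_eq_mul]
  exact J.mul_mem_right _ (hx j)

/-- Abstract core: two minimal presentations of isomorphic modules; if the relations of the second
have coordinates in `J ≤ 𝔪 * I`, where `I` is the coordinate ideal of the relations of the first,
then the first has no relations. -/
theorem core [IsLocalRing R] [IsNoetherianRing R]
    {M : Type v} {T : Type w} [AddCommGroup M] [Module R M] [AddCommGroup T] [Module R T]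
    (e : T ≃ₗ[R] M) {n : ℕ} (m : Fin n → M) (t : Fin n → T)
    (hm : Submodule.span R (Set.range m) = ⊤) (ht : Submodule.span R (Set.range t) = ⊤)
    (hmin : ∀ x : Fin n → R, ∑ i, x i • m i = 0 → ∀ i, x i ∈ maximalIdeal R)
    (J : Ideal R)
    (hJ : J ≤ maximalIdeal R * coordIdeal (LinearMap.ker (Fintype.linearCombination R m)))
    (ht0 : ∀ x : Fin n → R, ∑ i, x i • t i = 0 → ∀ i, x i ∈ J) :
    Function.Injective (Fintype.linearCombination R m) := by
  set π := Fintype.linearCombination R m with hπ
  set K := LinearMap.ker π with hK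
  set I := coordIdeal K with hI
  have hπs : Function.Surjective π := by
    rw [← LinearMap.range_eq_top, hπ, Fintype.range_linearCombination, hm]
  set π' : (Fin n → R) →ₗ[R] M := e.toLinearMap ∘ₗ Fintype.linearCombination R t with hπ'
  have hπ's : Function.Surjective π' := by
    rw [hπ', LinearMap.coe_comp]
    refine e.surjective.comp ?_
    rw [← LinearMap.range_eq_top, Fintype.range_linearCombination, ht]
  have hkerπ' : ∀ x, π' x = 0 → ∀ i, x i ∈ J := by
    intro x hx
    apply ht0
    rw [hπ', LinearMap.comp_apply, LinearEquiv.coe_coe,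
      LinearEquiv.map_eq_zero_iff, Fintype.linearCombination_apply] at hx
    exact hx
  obtain ⟨α, hα⟩ := Module.projective_lifting_property π' π hπ's
  obtain ⟨α', hα'⟩ := Module.projective_lifting_property π π' hπs
  have hIm : I ≤ maximalIdeal R := by
    refine coordIdeal_le fun x hx i => hmin x ?_ i
    rw [← Fintype.linearCombination_apply]
    exact hx
  -- δ = α' ∘ α - id maps into K
  have hδ : ∀ y, α' (α y) - y ∈ K := by
    intro y
    rw [hK, LinearMap.mem_ker, map_sub, ← LinearMap.comp_apply, hα', ← LinearMap.comp_apply, hα,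
      sub_self]
  have hII : I ≤ maximalIdeal R * I := by
    refine coordIdeal_le fun x hx i => ?_
    have h1 : ∀ j, α' (α x) j ∈ maximalIdeal R * I := by
      apply apply_coord_mem
      intro j
      apply hJ
      apply hkerπ'
      rw [← LinearMap.comp_apply, hα]
      exact hx
    have h2 : (α' (α x) - x) i ∈ maximalIdeal R * I := by
      have : α' (α x) - x = ((α' ∘ₗ α - LinearMap.id : (Fin n → R) →ₗ[R] (Fin n → R))) x := by simp
      rw [this, LinearMap.pi_apply_eq_sum_univ _ x, Finset.sum_apply]
      refine Ideal.sum_mem _ fun j _ => ?_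
      rw [Pi.smul_apply, smul_eq_mul]
      refine Ideal.mul_mem_mul (hIm (coord_mem hx j)) ?_
      have := hδ (fun l => if j = l then 1 else 0)
      simpa using coord_mem this i
    have h3 : x i = α' (α x) i - (α' (α x) - x) i := by simp
    rw [h3]
    exact Ideal.sub_mem _ (h1 i) h2
  have hI0 : I = ⊥ := by
    have := Submodule.eq_bot_of_le_smul_of_le_jacobson_bot (maximalIdeal R) I
      (IsNoetherian.noetherian I) (by rwa [smul_eq_mul])
      (IsLocalRing.maximalIdeal_le_jacobson ⊥)
    exact this
  rw [← LinearMap.ker_eq_bot, ← hK, eq_bot_iff]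
  intro x hx
  rw [Submodule.mem_bot]
  funext i
  have := coord_mem hx i
  rw [← hI, hI0, Ideal.mem_bot] at this
  exact this

end Groth.Agent.H74.FrobFree

namespace Groth.Agent.H74.FrobFree

open IsLocalRing CategoryTheory ChangeOfRings

theorem exists_fromExtend {R S : Type u} [CommRing R] [CommRing S] (f : R →+* S)
    (M : ModuleCat.{u} R) (N : ModuleCat.{u} S)
    (g : M ⟶ (ModuleCat.restrictScalars f).obj N) :
    ∃ G : (ModuleCat.extendScalars f).obj M ⟶ N,
      ∀ m : M, G.hom ((1 : S) ⊗ₜ[R,f] m) = g.hom m := by
  refine ⟨ModuleCat.ExtendRestrictScalarsAdj.HomEquiv.fromExtendScalars f g, fun m => ?_⟩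
  erw [ModuleCat.ExtendRestrictScalarsAdj.HomEquiv.fromExtendScalars_hom_apply]
  change (1 : S) • (g.hom m : N) = g.hom m
  exact one_smul S _

end Groth.Agent.H74.FrobFree

namespace Groth.Agent.H74.FrobFree

open IsLocalRing CategoryTheory ChangeOfRings TensorProduct

theorem exists_min_gens (R : Type u) [CommRing R] [IsLocalRing R]
    (M : Type u) [AddCommGroup M] [Module R M] [Module.Finite R M] :
    ∃ (n : ℕ) (m : Fin n → M), Submodule.span R (Set.range m) = ⊤ ∧
      ∀ x : Fin n → R, ∑ i, x i • m i = 0 → ∀ i, x i ∈ maximalIdeal R := by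
  classical
  let b := Module.finBasis (ResidueField R) ((ResidueField R) ⊗[R] M)
  have hsurj : Function.Surjective (TensorProduct.mk R (ResidueField R) M 1) :=
    TensorProduct.mk_surjective R M (ResidueField R) Ideal.Quotient.mk_surjective
  choose m hmb using fun i => hsurj (b i)
  refine ⟨_, m, IsLocalRing.span_eq_top_of_tmul_eq_basis m b hmb, ?_⟩
  intro x hx i
  have h1 : ∑ i, (residue R (x i)) • b i = 0 := by
    have := congrArg (TensorProduct.mk R (ResidueField R) M 1) hx
    rw [map_sum, map_zero] at this
    rw [← this]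
    refine Finset.sum_congr rfl fun j _ => ?_
    rw [map_smul, hmb]
    exact algebraMap_smul (ResidueField R) (x j) (b j)
  have h2 := Fintype.linearIndependent_iff.mp b.linearIndependent _ h1 i
  exact (residue_eq_zero_iff _).mp h2

end Groth.Agent.H74.FrobFree

namespace Groth.Agent.H74.FrobFree

open IsLocalRing CategoryTheory ChangeOfRings TensorProduct

/-- `1 ⊗ m` as an element of the extension of scalars. -/
noncomputable def oneTmul {R S : Type u} [CommRing R] [CommRing S] (f : R →+* S) (M : ModuleCat.{u} R) (m : M) :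
    (ModuleCat.extendScalars f).obj M := (1 : S) ⊗ₜ[R,f] m

theorem oneTmul_add {R S : Type u} [CommRing R] [CommRing S] (f : R →+* S) (M : ModuleCat.{u} R)
    (x y : M) : oneTmul f M (x + y) = oneTmul f M x + oneTmul f M y :=
  TensorProduct.tmul_add _ _ _

theorem oneTmul_zero {R S : Type u} [CommRing R] [CommRing S] (f : R →+* S) (M : ModuleCat.{u} R) :
    oneTmul f M 0 = 0 :=
  TensorProduct.tmul_zero _ _

set_option backward.isDefEq.respectTransparency false in
theorem oneTmul_smul {R S : Type u} [CommRing R] [CommRing S] (f : R →+* S) (M : ModuleCat.{u} R)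
    (r : R) (x : M) : oneTmul f M (r • x) = f r • oneTmul f M x := by
  rw [oneTmul, oneTmul, ModuleCat.ExtendScalars.smul_tmul, mul_one]
  let _ : Module R S := Module.compHom S f
  rw [← TensorProduct.smul_tmul]
  congr 1
  change f r * 1 = f r
  rw [mul_one]

set_option backward.isDefEq.respectTransparency false in
theorem span_oneTmul {R S : Type u} [CommRing R] [CommRing S] (f : R →+* S)
    (M : ModuleCat.{u} R) {ι : Type*} (m : ι → M)
    (hm : Submodule.span R (Set.range m) = ⊤) :
    Submodule.span S (Set.range fun i => oneTmul f M (m i)) = ⊤ := by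
  rw [eq_top_iff]
  rintro z -
  have hu : ∀ m' : M, oneTmul f M m' ∈
      Submodule.span S (Set.range fun i => oneTmul f M (m i)) := by
    intro m'
    have hm' : m' ∈ Submodule.span R (Set.range m) := by rw [hm]; trivial
    induction hm' using Submodule.span_induction with
    | mem x hx => obtain ⟨i, rfl⟩ := hx; exact Submodule.subset_span ⟨i, rfl⟩
    | zero => rw [oneTmul_zero]; exact Submodule.zero_mem _
    | add x y _ _ hx hy => rw [oneTmul_add]; exact Submodule.add_mem _ hx hy
    | smul r x _ hx => rw [oneTmul_smul]; exact Submodule.smul_mem _ _ hx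
  induction z using TensorProduct.induction_on with
  | zero => exact Submodule.zero_mem _
  | tmul s m' =>
    change S at s
    have : (s ⊗ₜ[R,f] m' : (ModuleCat.extendScalars f).obj M) = s • oneTmul f M m' := by
      rw [oneTmul, ModuleCat.ExtendScalars.smul_tmul, mul_one]
    exact this ▸ Submodule.smul_mem _ _ (hu m')
  | add x y hx hy => exact Submodule.add_mem _ hx hy

end Groth.Agent.H74.FrobFree

namespace Groth.Agent.H74.FrobFree

open IsLocalRing CategoryTheory ChangeOfRings TensorProduct

set_option backward.isDefEq.respectTransparency false in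
theorem free_of_frobenius_iso (p : ℕ) [Fact p.Prime] (R : Type u) [CommRing R] [IsLocalRing R]
    [IsNoetherianRing R] [CharP R p]
    (M : Type u) [AddCommGroup M] [Module R M] [Module.Finite R M]
    (h : Nonempty ((ModuleCat.extendScalars (frobenius R p)).obj (ModuleCat.of R M) ≅
      ModuleCat.of R M)) :
    Module.Free R M := by
  classical
  obtain ⟨e⟩ := h
  obtain ⟨n, m, hm, hmin⟩ := exists_min_gens R M
  set π := Fintype.linearCombination R m with hπ
  have hπs : Function.Surjective π := by
    rw [← LinearMap.range_eq_top, hπ, Fintype.range_linearCombination, hm]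
  set K := LinearMap.ker π with hK
  set I := coordIdeal K with hI
  have hIm : I ≤ maximalIdeal R :=
    coordIdeal_le fun x hx i => hmin x (by rw [← Fintype.linearCombination_apply]; exact hx) i
  set J := I.map (frobenius R p) with hJ
  have hJI : J ≤ maximalIdeal R * I := by
    rw [hJ, Ideal.map_le_iff_le_comap]
    intro a ha
    rw [Ideal.mem_comap, frobenius_def]
    obtain ⟨q, hq⟩ : ∃ q, p = q + 1 + 1 :=
      ⟨p - 2, by have := (Fact.out : p.Prime).two_le; omega⟩
    rw [hq, pow_succ]
    exact Ideal.mul_mem_mul (Ideal.pow_mem_of_mem _ (hIm ha) _ (Nat.succ_pos _)) ha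
  -- the coordinate map `γ : M → (R/I)^n`
  let q : (Fin n → R) →ₗ[R] (Fin n → R ⧸ I) :=
    LinearMap.pi fun i => (Submodule.mkQ I) ∘ₗ (LinearMap.proj i)
  have hKq : K ≤ LinearMap.ker q := by
    intro x hx
    rw [LinearMap.mem_ker]
    funext i
    exact (Submodule.Quotient.mk_eq_zero I).mpr (coord_mem hx i)
  let γ : M →ₗ[R] (Fin n → R ⧸ I) :=
    (K.liftQ q hKq) ∘ₗ (π.quotKerEquivOfSurjective hπs).symm.toLinearMap
  have hγ : ∀ x, γ (π x) = q x := by
    intro x
    have : (π.quotKerEquivOfSurjective hπs).symm (π x) = Submodule.Quotient.mk x := by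
      rw [LinearEquiv.symm_apply_eq]; rfl
    change (K.liftQ q hKq) ((π.quotKerEquivOfSurjective hπs).symm (π x)) = q x
    rw [this, Submodule.liftQ_apply]
  -- the Frobenius-induced map on quotients
  let φ' : R ⧸ I →+* R ⧸ J := Ideal.quotientMap J (frobenius R p) Ideal.le_comap_map
  let N : ModuleCat.{u} R := ModuleCat.of R (Fin n → R ⧸ J)
  let g : ModuleCat.of R M ⟶ (ModuleCat.restrictScalars (frobenius R p)).obj N :=
    ModuleCat.ofHom (Y := (ModuleCat.restrictScalars (frobenius R p)).obj N)
      { toFun := fun m' i => φ' (γ m' i)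
        map_add' := fun x y => by
          funext i
          simp only [map_add, Pi.add_apply]
          rfl
        map_smul' := fun r x => by
          funext i
          rw [map_smul, Pi.smul_apply, RingHom.id_apply]
          change φ' (r • γ x i) = frobenius R p r • φ' (γ x i)
          rw [Algebra.smul_def, Algebra.smul_def, map_mul]
          rfl }
  obtain ⟨G, hG⟩ := exists_fromExtend (frobenius R p) (ModuleCat.of R M) N g
  let t : Fin n → ((ModuleCat.extendScalars (frobenius R p)).obj (ModuleCat.of R M)) :=
    fun i => oneTmul (frobenius R p) (ModuleCat.of R M) (m i)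
  have ht : Submodule.span R (Set.range t) = ⊤ :=
    span_oneTmul (frobenius R p) (ModuleCat.of R M) m hm
  have hGt : ∀ i, G.hom (t i) = (Pi.single i 1 : Fin n → R ⧸ J) := by
    intro i
    have h1 : G.hom (t i) = g.hom (m i) := hG (m i)
    rw [h1]
    have h2 : m i = π (Pi.single i 1) := by
      rw [hπ, Fintype.linearCombination_apply_single, one_smul]
    funext j
    change φ' (γ (m i) j) = _
    rw [h2, hγ]
    change φ' (Ideal.Quotient.mk I ((Pi.single i 1 : Fin n → R) j)) = _
    by_cases hij : j = i
    · subst hij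
      rw [Pi.single_eq_same, Pi.single_eq_same, map_one, map_one]
    · rw [Pi.single_eq_of_ne hij, Pi.single_eq_of_ne hij, map_zero, map_zero]
  have ht0 : ∀ x : Fin n → R, ∑ i, x i • t i = 0 → ∀ i, x i ∈ J := by
    intro x hx i
    have h3 := congrArg G.hom hx
    rw [map_sum, map_zero] at h3
    have h3' : ∑ j, x j • (Pi.single j 1 : Fin n → R ⧸ J) = 0 := by
      rw [← h3]
      refine Finset.sum_congr rfl fun j _ => ?_
      rw [map_smul, hGt]
    have h4 := congrFun h3' i
    rw [Finset.sum_apply] at h4
    simp only [Pi.smul_apply, Pi.single_apply, Pi.zero_apply] at h4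
    rw [Finset.sum_eq_single i] at h4
    · rw [if_pos rfl, Algebra.smul_def, mul_one] at h4
      exact Ideal.Quotient.eq_zero_iff_mem.mp h4
    · intro j _ hji
      rw [if_neg (Ne.symm hji), smul_zero]
    · intro hi
      exact absurd (Finset.mem_univ i) hi
  have hinj := core e.toLinearEquiv m t hm ht hmin J hJI ht0
  exact Module.Free.of_equiv (LinearEquiv.ofBijective π ⟨hinj, hπs⟩)

end Groth.Agent.H74.FrobFree
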