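import Groth.Agent.H74.FrobRootTower
import Mathlib.AlgebraicGeometry.AffineScheme

set_option autoImplicit false
universe u

/-!
# The Frobenius of a smooth affine scheme over a perfect field is an extraction of `p`-th roots
-/

namespace Groth.Agent.H74.FrobPthRoot

open CategoryTheory AlgebraicGeometry Quiet

theorem isPthRoot_of_frobenius (p : ℕ) [Fact p.Prime] (k : Type u) [CommRing k] [CharP k p]
    [PerfectRing k p] (R : CommRingCat.{u}) [Algebra k R] [CharP R p] [Algebra.Smooth k R]
    (φ : R ⟶ R) (hφ : ∀ a : R, φ.hom a = a ^ p) : Quiet.IsPthRoot p (Spec.map φ) := by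
  intro x
  obtain ⟨s, hs, hstd⟩ := Algebra.Smooth.exists_span_eq_top_isStandardSmooth k R
  obtain ⟨g, hgs, hgx⟩ : ∃ g ∈ s, g ∉ (x : PrimeSpectrum R).asIdeal := by
    by_contra h
    push Not at h
    have hle : Ideal.span s ≤ (x : PrimeSpectrum R).asIdeal := Ideal.span_le.2 h
    rw [hs] at hle
    exact (x : PrimeSpectrum R).isPrime.ne_top (top_le_iff.1 hle)
  have hp : 0 < p := (Fact.out : p.Prime).pos
  set f := Spec.map φ with hf
  let U : (Spec R).Opens := PrimeSpectrum.basicOpen g
  have hU : IsAffineOpen U := IsAffineOpen.Spec_basicOpen g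
  have hUU : f ⁻¹ᵁ U = U := by
    change PrimeSpectrum.basicOpen (φ.hom g) = PrimeSpectrum.basicOpen g
    rw [hφ]
    exact PrimeSpectrum.basicOpen_pow g p hp
  refine ⟨⟨U, hU⟩, hgx, hU.preimage f, ?_⟩
  -- the local ring-level statement
  have hstd' := hstd g hgs
  obtain ⟨n, hn⟩ : ∃ n, Algebra.IsStandardSmoothOfRelativeDimension n k (Localization.Away g) := by
    obtain ⟨ι, σ, _, _, ⟨P⟩⟩ := Algebra.IsStandardSmooth.out (R := k) (S := Localization.Away g)
    exact ⟨_, ⟨ι, σ, inferInstance, inferInstance, P, rfl⟩⟩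
  have hnt : Nontrivial (Localization.Away g) := by
    by_contra hnt
    have hsub : Subsingleton (Localization.Away g) := not_nontrivial_iff_subsingleton.mp hnt
    have h0 : (0 : R) ∈ Submonoid.powers g :=
      (IsLocalization.subsingleton_iff (M := Submonoid.powers g) (S := Localization.Away g)).1 hsub
    obtain ⟨m, hm⟩ := h0
    have hm' : g ^ m = 0 := hm
    exact hgx ((x : PrimeSpectrum R).isPrime.mem_of_pow_mem m (hm' ▸ Ideal.zero_mem _))
  have hchar : CharP (Localization.Away g) p :=
    Groth.Agent.H74.RelFrobSmooth.charP_of_algebra p R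
  have locΓ : IsLocalization.Away g Γ(Spec R, U) :=
    inferInstanceAs (IsLocalization.Away g Γ(Spec R, PrimeSpectrum.basicOpen g))
  let α : Localization.Away g ≃+* Γ(Spec R, U) :=
    (IsLocalization.algEquiv (Submonoid.powers g) (Localization.Away g) Γ(Spec R, U)).toRingEquiv
  have hcharΓ : CharP Γ(Spec R, U) p :=
    charP_of_injective_ringHom (f := (α : Localization.Away g →+* _)) α.injective p
  let _ := (f.app U).hom.toAlgebra
  let ε : Γ(Spec R, f ⁻¹ᵁ U) ≃+* Γ(Spec R, U) :=
    ((Spec R).presheaf.mapIso (eqToIso hUU.symm).op).commRingCatIsoToRingEquiv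
  refine ⟨n, Groth.Agent.H74.FrobRootTower.isRootTower_of_isStandardSmoothOfRelativeDimension p k n
    (Localization.Away g) _ _ α ε ?_⟩
  -- compatibility: `ε ∘ f.app U` is the Frobenius of `Γ(Spec R, U)`
  have hcomp : ((ε : _ →+* Γ(Spec R, U)).comp (f.app U).hom) = frobenius Γ(Spec R, U) p := by
    apply IsLocalization.ringHom_ext (Submonoid.powers g)
    ext a
    simp only [RingHom.coe_comp, Function.comp_apply, frobenius_def, ← map_pow]
    have key : (Scheme.ΓSpecIso R).inv ≫ (Spec R).presheaf.map (homOfLE le_top).op ≫ f.app U ≫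
        (Spec R).presheaf.map (eqToHom hUU.symm).op =
        φ ≫ (Scheme.ΓSpecIso R).inv ≫ (Spec R).presheaf.map (homOfLE le_top).op := by
      rw [Scheme.ΓSpecIso_inv_naturality_assoc, Scheme.Hom.naturality_assoc,
        ← Functor.map_comp]
      rfl
    have key' := congrArg (fun ψ => ψ.hom a) key
    rw [← hφ a]
    exact key'
  intro b
  exact congrArg (fun ψ : _ →+* _ => ψ b) hcomp

end Groth.Agent.H74.FrobPthRoot
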