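import Groth.Agent.H74.FrobBasic
import Mathlib.AlgebraicGeometry.Morphisms.ClosedImmersion
import Mathlib.AlgebraicGeometry.Morphisms.Immersion

/-!
# The Frobenius of a reduced scheme is an epimorphism (helper library, helper74)
-/

set_option autoImplicit false

universe u

open CategoryTheory CategoryTheory.Limits AlgebraicGeometry

namespace Groth.Agent.H74.FrobBasic

open FrobSch

variable (p : ℕ) [Fact p.Prime]

/-- If `Y` is reduced, a surjective morphism `F : Y' ⟶ Y` equalising `g₁ g₂ : Y ⟶ Z`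
forces `g₁ = g₂`. -/
theorem eq_of_surjective_comp_eq {Y' Y Z : Scheme.{u}} [IsReduced Y] (F : Y' ⟶ Y) [Surjective F]
    (g₁ g₂ : Y ⟶ Z) (h : F ≫ g₁ = F ≫ g₂) : g₁ = g₂ := by
  haveI : Surjective (equalizer.lift F h ≫ equalizer.ι g₁ g₂) := by
    rw [equalizer.lift_ι]; infer_instance
  haveI : Surjective (equalizer.ι g₁ g₂) := Surjective.of_comp (equalizer.lift F h) _
  haveI : IsClosedImmersion (equalizer.ι g₁ g₂) := by
    apply IsClosedImmersion.of_isPreimmersion
    rw [(equalizer.ι g₁ g₂).surjective.range_eq]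
    exact isClosed_univ
  haveI : IsIso (equalizer.ι g₁ g₂) := isIso_of_isClosedImmersion_of_surjective _
  exact eq_of_epi_equalizer

theorem eq_of_frob_comp_eq {Y Z : Scheme.{u}} [IsCharP Y p] [IsReduced Y]
    (g₁ g₂ : Y ⟶ Z) (h : frob Y p ≫ g₁ = frob Y p ≫ g₂) : g₁ = g₂ :=
  eq_of_surjective_comp_eq (frob Y p) g₁ g₂ h

end Groth.Agent.H74.FrobBasic
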