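import Groth.Agent.H74.FrobRootTower
import Mathlib.RingTheory.Regular.Flat

set_option autoImplicit false
universe u v

/-!
# The Frobenius of a smooth algebra over a perfect ring preserves regular sequences
-/

namespace Groth.Agent.H74.FrobRegular

open FrobAlg RingTheory.Sequence Groth.Agent.H74.FrobRootTower

variable (p : ℕ) [Fact p.Prime] (k : Type u) [CommRing k] [CharP k p] [PerfectRing k p]
  (P : Type v) [CommRing P] [Algebra k P] [CharP P p] [Algebra.Smooth k P]

include k

theorem faithfullyFlat_twist : Module.FaithfullyFlat P (Twist p P) := by
  have h := faithfullyFlat_frobenius_of_smooth p k P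
  have h2 : (algebraMap P (Twist p P)).FaithfullyFlat := by
    have : algebraMap P (Twist p P) = ((toTwist p P : P →+* Twist p P)).comp (frobenius P p) := rfl
    rw [this]
    exact RingHom.FaithfullyFlat.stableUnderComposition _ _ h
      (RingHom.FaithfullyFlat.of_bijective (toTwist p P).bijective)
  exact RingHom.faithfullyFlat_algebraMap_iff.1 h2

theorem isRegular_map_frobenius {rs : List P} (h : IsRegular P rs) :
    IsRegular P (rs.map (frobenius P p)) := by
  have := faithfullyFlat_twist p k P
  have h2 : IsRegular (Twist p P) (rs.map (algebraMap P (Twist p P))) := h.of_faithfullyFlat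
  exact h2

theorem isWeaklyRegular_map_frobenius {rs : List P} (h : IsWeaklyRegular P rs) :
    IsWeaklyRegular P (rs.map (frobenius P p)) := by
  have := faithfullyFlat_twist p k P
  have h2 : IsWeaklyRegular (Twist p P) (rs.map (algebraMap P (Twist p P))) := h.of_flat
  exact h2

end Groth.Agent.H74.FrobRegular
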