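import Groth.Agent.H74.FrobBasic

/-!
# Relatively perfect morphisms: composition and base change (helper library, helper74)
-/

set_option autoImplicit false

universe u

open CategoryTheory CategoryTheory.Limits AlgebraicGeometry

namespace Groth.Agent.H74.FrobBasic

open FrobSch

variable (p : ℕ) [Fact p.Prime]

/-- The relative Frobenius is an isomorphism iff the Frobenius square is cartesian. -/
theorem isIso_relFrob_iff {Y T : Scheme.{u}} [IsCharP T p] [IsCharP Y p] (q : Y ⟶ T) :
    IsIso (relFrob q p) ↔ IsPullback (frob Y p) q q (frob T p) := by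
  constructor
  · intro h
    exact IsPullback.of_iso_pullback ⟨frob_comp p q⟩ (asIso (relFrob q p)) (relFrob_fst q p)
      (relFrob_snd q p)
  · intro h
    have : relFrob q p = h.isoPullback.hom := by
      apply pullback.hom_ext
      · rw [relFrob_fst, IsPullback.isoPullback_hom_fst]
      · rw [relFrob_snd, IsPullback.isoPullback_hom_snd]
    rw [this]
    infer_instance

/-- composition of relatively perfect morphisms -/
theorem isIso_relFrob_comp {X T S : Scheme.{u}} [IsCharP S p] [IsCharP T p] [IsCharP X p]
    (π : X ⟶ T) (f : T ⟶ S) (hπ : IsIso (relFrob π p)) (hf : IsIso (relFrob f p)) :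
    IsIso (relFrob (π ≫ f) p) := by
  rw [isIso_relFrob_iff] at hπ hf ⊢
  exact hπ.paste_vert hf

/-- base change of a relatively perfect morphism -/
theorem isIso_relFrob_of_isPullback {Y T S YT : Scheme.{u}} [IsCharP S p] [IsCharP T p]
    [IsCharP Y p] [IsCharP YT p] {r : Y ⟶ S} {f : T ⟶ S} {pr₁ : YT ⟶ Y} {q : YT ⟶ T}
    (sq : IsPullback pr₁ q r f) (hr : IsIso (relFrob r p)) : IsIso (relFrob q p) := by
  rw [isIso_relFrob_iff] at hr ⊢
  have h1 : IsPullback (pr₁ ≫ frob Y p) q r (f ≫ frob S p) := sq.paste_horiz hr
  have h2 : IsPullback (frob YT p ≫ pr₁) q r (frob T p ≫ f) := by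
    rw [frob_comp, frob_comp]; exact h1
  exact IsPullback.of_right h2 (frob_comp p q) sq

end Groth.Agent.H74.FrobBasic
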