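import Groth.Prelude.Def_W4c2gaugesfzipsQuiet
import Mathlib.RingTheory.AdjoinRoot
import Mathlib.RingTheory.OrzechProperty
import Mathlib.LinearAlgebra.Basis.Basic
import Mathlib.LinearAlgebra.Finsupp.VectorSpace
import Mathlib.LinearAlgebra.FreeModule.Finite.Basic

set_option autoImplicit false
universe u

/-!
# Root towers (`Quiet.IsRootTower`): invariance under isomorphism and a monomial-basis criterion
-/

namespace Groth.Agent.H74.RootTower

open Polynomial Quiet

/-- `IsRootTower` only depends on the top algebra up to isomorphism over the base. -/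
theorem isRootTower_of_algEquiv (p : ℕ) : ∀ (n : ℕ) (A B B' : Type u) [CommRing A] [CommRing B]
    [CommRing B'] [Algebra A B] [Algebra A B'] (_ : B ≃ₐ[A] B'),
    IsRootTower p n A B → IsRootTower p n A B'
  | 0, A, B, B', _, _, _, _, _, e, h => by
    rw [IsRootTower] at h ⊢
    obtain ⟨f⟩ := h
    exact ⟨e.symm.trans f⟩
  | n + 1, A, B, B', _, _, _, _, _, e, h => by
    rw [IsRootTower] at h ⊢
    obtain ⟨a, alg, tower, h'⟩ := h
    let alg' : Algebra (RootRing p A a) B' :=
      ((e : B →+* B').comp (algebraMap (RootRing p A a) B)).toAlgebra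
    refine ⟨a, alg', ?_, ?_⟩
    · refine IsScalarTower.of_algebraMap_eq fun x => ?_
      change algebraMap A B' x = e (algebraMap (RootRing p A a) B (algebraMap A (RootRing p A a) x))
      rw [← IsScalarTower.algebraMap_apply A (RootRing p A a) B, e.commutes]
    · exact isRootTower_of_algEquiv p n (RootRing p A a) B B'
        { (e : B ≃+* B') with commutes' := fun _ => rfl } h'

section Basis

variable (p : ℕ)

/-- Monomial-basis criterion: if `D` is free over `A` on the monomials `∏ tᵢ^{eᵢ}`, `0 ≤ eᵢ < p`,
in elements `tᵢ` with `tᵢ^p ∈ A`, then `D` is a tower of `n` elementary `p`-th root extractions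
of `A`. -/
theorem isRootTower_of_bijective (hp : 0 < p) : ∀ (n : ℕ) (A D : Type u) [CommRing A] [CommRing D]
    [Algebra A D] (t : Fin n → D) (a : Fin n → A), (∀ i, t i ^ p = algebraMap A D (a i)) →
    Function.Bijective (Finsupp.linearCombination A
      (fun e : Fin n → Fin p => ∏ i, t i ^ (e i : ℕ))) →
    IsRootTower p n A D
  | 0, A, D, _, _, _, t, a, _, hb => by
    rw [IsRootTower]
    have key : ∀ x : A, algebraMap A D x =
        Finsupp.linearCombination A (fun e : Fin 0 → Fin p => ∏ i, t i ^ (e i : ℕ))
          (Finsupp.single default x) := by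
      intro x
      rw [Finsupp.linearCombination_single, Finset.univ_eq_empty, Finset.prod_empty,
        Algebra.smul_def, mul_one]
    have hbij : Function.Bijective (Algebra.ofId A D) := by
      constructor
      · intro x y hxy
        change algebraMap A D x = algebraMap A D y at hxy
        rw [key, key] at hxy
        exact Finsupp.single_injective _ (hb.1 hxy)
      · intro c
        obtain ⟨f, rfl⟩ := hb.2 c
        refine ⟨f default, ?_⟩
        change algebraMap A D (f default) = _
        rw [key, ← Finsupp.unique_single f]
    exact ⟨(AlgEquiv.ofBijective (Algebra.ofId A D) hbij).symm⟩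
  | n + 1, A, D, _, _, _, t, a, ht, hb => by
    rw [IsRootTower]
    have hmonic : (X ^ p - C (a 0) : A[X]).Monic := monic_X_pow_sub_C (a 0) hp.ne'
    let φ : RootRing p A (a 0) →ₐ[A] D :=
      AdjoinRoot.liftAlgHom (X ^ p - C (a 0) : A[X]) (Algebra.ofId A D) (t 0) (by
        rw [eval₂_sub, eval₂_pow, eval₂_X, eval₂_C, ht 0]
        exact sub_self _)
    let alg : Algebra (RootRing p A (a 0)) D := φ.toRingHom.toAlgebra
    have tower : IsScalarTower A (RootRing p A (a 0)) D :=
      IsScalarTower.of_algebraMap_eq fun x => (φ.commutes x).symm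
    have hroot : algebraMap (RootRing p A (a 0)) D (AdjoinRoot.root _) = t 0 :=
      AdjoinRoot.liftAlgHom_root _ _ _ _
    refine ⟨a 0, alg, tower, ?_⟩
    refine isRootTower_of_bijective hp n (RootRing p A (a 0)) D (fun i => t i.succ)
      (fun i => algebraMap A _ (a i.succ)) (fun i => ?_) ?_
    · rw [ht, ← IsScalarTower.algebraMap_apply]
    · -- bijectivity over the first floor of the tower
      set L := Finsupp.linearCombination A (fun e : Fin (n + 1) → Fin p => ∏ i, t i ^ (e i : ℕ))
        with hL
      set L' := Finsupp.linearCombination (RootRing p A (a 0))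
        (fun e : Fin n → Fin p => ∏ i, t i.succ ^ (e i : ℕ)) with hL'
      -- monomials are in the range of `L'`
      have hmon : ∀ e : Fin (n + 1) → Fin p, (∏ i, t i ^ (e i : ℕ)) ∈ LinearMap.range L' := by
        intro e
        have h1 : (∏ i, t i ^ (e i : ℕ)) =
            (AdjoinRoot.root (X ^ p - C (a 0) : A[X]) ^ (e 0 : ℕ)) •
              L' (Finsupp.single (fun i => e i.succ) 1) := by
          rw [hL', Finsupp.linearCombination_single, one_smul, Algebra.smul_def, map_pow, hroot,
            Fin.prod_univ_succ]
        rw [h1]
        exact Submodule.smul_mem _ _ (LinearMap.mem_range_self _ _)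
      have hsurj : Function.Surjective L' := by
        intro c
        obtain ⟨f, rfl⟩ := hb.2 c
        change L f ∈ LinearMap.range L'
        rw [hL, Finsupp.linearCombination_apply]
        refine Submodule.sum_mem _ fun e _ => ?_
        beta_reduce
        rw [← algebraMap_smul (RootRing p A (a 0)) (f e)]
        exact Submodule.smul_mem _ _ (hmon e)
      refine ⟨?_, hsurj⟩
      -- injectivity by Orzech, comparing `A`-ranks
      rcases subsingleton_or_nontrivial A with hA | hA
      · have : Subsingleton (RootRing p A (a 0)) :=
          (algebraMap A (RootRing p A (a 0))).codomain_trivial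
        exact fun x y _ => Subsingleton.elim x y
      have hdeg : (X ^ p - C (a 0) : A[X]).natDegree = p := natDegree_X_pow_sub_C
      let bC : Module.Basis (Fin (n + 1) → Fin p) A D :=
        Module.Basis.ofRepr (LinearEquiv.ofBijective L hb).symm
      let pb : Module.Basis (Fin p) A (RootRing p A (a 0)) :=
        (AdjoinRoot.powerBasis' hmonic).basis.reindex (finCongr hdeg)
      let bR : Module.Basis (Σ _ : Fin n → Fin p, Fin p) A ((Fin n → Fin p) →₀ RootRing p A (a 0)) :=
        Finsupp.basis fun _ => pb
      have hcard : Fintype.card (Fin (n + 1) → Fin p) =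
          Fintype.card (Σ _ : Fin n → Fin p, Fin p) := by
        simp [pow_succ]
      let θ : D ≃ₗ[A] ((Fin n → Fin p) →₀ RootRing p A (a 0)) :=
        bC.equiv bR (Fintype.equivOfCardEq hcard)
      have : Module.Finite A ((Fin n → Fin p) →₀ RootRing p A (a 0)) := Module.Finite.of_basis bR
      let E : ((Fin n → Fin p) →₀ RootRing p A (a 0)) →ₗ[A]
          ((Fin n → Fin p) →₀ RootRing p A (a 0)) :=
        (θ : D →ₗ[A] _).comp (L'.restrictScalars A)
      have hE : ∀ x, E x = θ (L' x) := fun _ => rfl
      have hsurj' : Function.Surjective E := by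
        intro c
        obtain ⟨d, hd⟩ := θ.surjective c
        obtain ⟨x, hx⟩ := hsurj d
        exact ⟨x, by rw [hE, hx, hd]⟩
      have hinj' := OrzechProperty.injective_of_surjective_endomorphism E hsurj'
      intro x y hxy
      apply hinj'
      rw [hE, hE, hxy]

end Basis

end Groth.Agent.H74.RootTower
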