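import Groth.Agent.H74.RelFrobSmooth
import Groth.Agent.H74.RootTower
import Mathlib.RingTheory.RingHom.FaithfullyFlat
import Mathlib.FieldTheory.Perfect

set_option autoImplicit false
universe u v

/-!
# Absolute Frobenius of a smooth algebra over a perfect ring

For `k` perfect of characteristic `p`, the Frobenius twist `B ⊗_{k,F} k` of a `k`-algebra `B` is
identified with `B` itself, and the absolute Frobenius of `B` is the relative Frobenius composed with
this identification.  Consequences: for `B` smooth over `k` the Frobenius is faithfully flat, and for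
`B` étale over a polynomial ring in `n` variables it is a tower of `n` elementary `p`-th root
extractions.
-/

namespace Groth.Agent.H74.FrobRootTower

open FrobAlg TensorProduct MvPolynomial Groth.Agent.H74.RelFrobAlg Groth.Agent.H74.RelFrobPoly
  Groth.Agent.H74.RelFrobFree Groth.Agent.H74.RelFrobSmooth Groth.Agent.H74.RootTower

section Perfect

variable (p : ℕ) [Fact p.Prime] (k : Type u) [CommRing k] [CharP k p] [PerfectRing k p]
  (B : Type v) [CommRing B] [Algebra k B]

theorem bijective_algebraMap_twist : Function.Bijective (algebraMap k (Twist p k)) := by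
  have : (algebraMap k (Twist p k) : k → Twist p k) = (toTwist p k) ∘ (frobenius k p) := rfl
  rw [this]
  exact (toTwist p k).bijective.comp (PerfectRing.bijective_frobenius)

/-- The identification `b ↦ b ⊗ 1 : B ≃ B ⊗_{k,F} k` for a perfect base. -/
noncomputable def twistEquiv : B ≃+* BaseChange p k B :=
  ((Algebra.TensorProduct.rid k k B).symm.trans
    (Algebra.TensorProduct.congr (AlgEquiv.refl (R := k) (A₁ := B))
      (AlgEquiv.ofBijective (Algebra.ofId k (Twist p k)) (bijective_algebraMap_twist p k)))).toRingEquiv

theorem twistEquiv_apply (b : B) : twistEquiv p k B b = b ⊗ₜ[k] (1 : Twist p k) := by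
  simp [twistEquiv]

variable [CharP B p]

theorem relFrob_twistEquiv (b : B) : relFrob p k B (twistEquiv p k B b) = b ^ p := by
  rw [twistEquiv_apply, relFrob_tmul_one]

theorem frobenius_eq_relFrob_comp :
    frobenius B p = (relFrob p k B).comp (twistEquiv p k B : B →+* BaseChange p k B) := by
  ext b
  simp [relFrob_twistEquiv, frobenius_def]

theorem flat_frobenius_of_smooth [Algebra.Smooth k B] : (frobenius B p).Flat := by
  rw [frobenius_eq_relFrob_comp p k B]
  exact RingHom.Flat.comp (RingHom.Flat.of_bijective (twistEquiv p k B).bijective)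
    (flat_relFrob_of_smooth p k B)

omit [Algebra k B] in
theorem comap_frobenius_surjective :
    Function.Surjective (PrimeSpectrum.comap (frobenius B p)) := by
  intro P
  refine ⟨P, ?_⟩
  ext b
  change frobenius B p b ∈ P.asIdeal ↔ b ∈ P.asIdeal
  rw [frobenius_def]
  exact P.isPrime.pow_mem_iff_mem p (Fact.out : p.Prime).pos

theorem faithfullyFlat_frobenius_of_smooth [Algebra.Smooth k B] :
    (frobenius B p).FaithfullyFlat :=
  RingHom.FaithfullyFlat.iff_flat_and_comap_surjective.2
    ⟨flat_frobenius_of_smooth p k B, comap_frobenius_surjective p B⟩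

end Perfect

section Tower

variable (p : ℕ) [Fact p.Prime] (k : Type u) [CommRing k] [CharP k p] [PerfectRing k p]

/-- Étale over a polynomial ring in `n` variables over a perfect ring: any ring map `B → B₂` which is
the Frobenius of `B` up to an isomorphism `B₂ ≃ B` is a tower of `n` elementary `p`-th root
extractions. -/
theorem isRootTower_of_etale (n : ℕ) (B B₂ : Type u) [CommRing B] [CommRing B₂] [Algebra k B]
    [CharP B p] [Algebra (MvPolynomial (Fin n) k) B] [IsScalarTower k (MvPolynomial (Fin n) k) B]
    [Algebra.Etale (MvPolynomial (Fin n) k) B] [Algebra B B₂] (ε : B₂ ≃+* B)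
    (hε : ∀ b, ε (algebraMap B B₂ b) = b ^ p) : Quiet.IsRootTower p n B B₂ := by
  classical
  have hp : 0 < p := (Fact.out : p.Prime).pos
  let x : Fin n → B := fun i => algebraMap (MvPolynomial (Fin n) k) B (X i)
  refine isRootTower_of_bijective p hp n B B₂ (fun i => ε.symm (x i)) x (fun i => ?_) ?_
  · apply ε.injective
    rw [map_pow, ε.apply_symm_apply, hε]
  · set L := Finsupp.linearCombination B (fun e : Fin n → Fin p => ∏ i, ε.symm (x i) ^ (e i : ℕ))
      with hL
    have hmono : ∀ e : Fin n → Fin p,
        algebraMap (MvPolynomial (Fin n) k) B (monomial (eF p e) 1) = ∏ i, x i ^ (e i : ℕ) := by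
      intro e
      rw [MvPolynomial.monomial_eq, map_one, one_mul, Finsupp.prod_fintype _ _ (fun _ => pow_zero _),
        map_prod]
      refine Finset.prod_congr rfl fun i _ => ?_
      rw [map_pow]
      rfl
    have key : ∀ c : (Fin n → Fin p) →₀ B,
        ε (L c) = ThetaHom p k B (Finsupp.mapRange (twistEquiv p k B) (map_zero _) c) := by
      intro c
      induction c using Finsupp.induction_linear with
      | zero => simp
      | add c d hc hd =>
        rw [map_add, map_add, hc, hd, Finsupp.mapRange_add (fun a b => map_add _ a b), map_add]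
      | single e b =>
        rw [hL, Finsupp.linearCombination_single, Finsupp.mapRange_single, ThetaHom_single,
          relFrob_twistEquiv, hmono, Algebra.smul_def, map_mul, hε, map_prod]
        congr 1
        refine Finset.prod_congr rfl fun i _ => ?_
        rw [map_pow, ε.apply_symm_apply]
    have hbijΘ := ThetaHom_bijective p (σ := Fin n) k B
    have hbijM : Function.Bijective
        (Finsupp.mapRange (twistEquiv p k B) (map_zero _) :
          ((Fin n → Fin p) →₀ B) → ((Fin n → Fin p) →₀ BaseChange p k B)) :=
      (Finsupp.mapRange.addEquiv (twistEquiv p k B : B ≃+ BaseChange p k B)).bijective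
    have hcomp : (L : _ → B₂) = ε.symm ∘ (ThetaHom p k B) ∘
        (Finsupp.mapRange (twistEquiv p k B) (map_zero _)) := by
      funext c
      rw [Function.comp_apply, Function.comp_apply, ← key, ε.symm_apply_apply]
    rw [hcomp]
    exact ε.symm.bijective.comp (hbijΘ.comp hbijM)

/-- Version for standard smooth algebras of relative dimension `n`, stated up to a ring isomorphism
`B' ≃ B` so that it can be applied to rings of sections. -/
theorem isRootTower_of_isStandardSmoothOfRelativeDimension (n : ℕ) (B' B B₂ : Type u) [CommRing B']
    [CommRing B] [CommRing B₂] [Algebra k B'] [CharP B' p]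
    [Algebra.IsStandardSmoothOfRelativeDimension n k B'] (α : B' ≃+* B) [Algebra B B₂]
    (ε : B₂ ≃+* B) (hε : ∀ b, ε (algebraMap B B₂ b) = b ^ p) : Quiet.IsRootTower p n B B₂ := by
  obtain ⟨ψ, hψ⟩ := Algebra.IsStandardSmoothOfRelativeDimension.exists_etale_mvPolynomial n k B'
  let : Algebra (MvPolynomial (Fin n) k) B' := ψ.toRingHom.toAlgebra
  have : IsScalarTower k (MvPolynomial (Fin n) k) B' :=
    IsScalarTower.of_algebraMap_eq' ψ.comp_algebraMap.symm
  have : Algebra.Etale (MvPolynomial (Fin n) k) B' := hψ
  let : Algebra k B := ((α : B' →+* B).comp (algebraMap k B')).toAlgebra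
  let : Algebra (MvPolynomial (Fin n) k) B :=
    ((α : B' →+* B).comp (algebraMap (MvPolynomial (Fin n) k) B')).toAlgebra
  have : IsScalarTower k (MvPolynomial (Fin n) k) B := by
    refine IsScalarTower.of_algebraMap_eq fun c => ?_
    change α (algebraMap k B' c) = α (algebraMap _ B' (algebraMap k _ c))
    rw [← IsScalarTower.algebraMap_apply]
  let α' : B' ≃ₐ[MvPolynomial (Fin n) k] B := { α with commutes' := fun _ => rfl }
  have : Algebra.Etale (MvPolynomial (Fin n) k) B := Algebra.Etale.of_equiv α'
  have : CharP B p := charP_of_injective_ringHom (f := (α : B' →+* B)) α.injective p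
  exact isRootTower_of_etale p k n B B₂ ε hε

end Tower

end Groth.Agent.H74.FrobRootTower
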