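import Groth.Agent.H74.PerfBasic
import Mathlib.FieldTheory.PerfectClosure
import Mathlib.AlgebraicGeometry.AffineScheme
import Mathlib.AlgebraicGeometry.Properties

/-!
# The perfection of an affine scheme (helper library, helper74)
-/

set_option autoImplicit false

universe u

open CategoryTheory CategoryTheory.Limits AlgebraicGeometry

namespace Groth.Agent.H74.Perf

open FrobSch

variable (p : ℕ) [Fact p.Prime]

/-- Morphisms into an affine scheme `Spec A` are determined by the induced map on global sections. -/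
theorem hom_Spec_ext {Y : Scheme.{u}} {A : CommRingCat.{u}} (g₁ g₂ : Y ⟶ Spec A)
    (h : (Scheme.ΓSpecIso A).inv ≫ g₁.appTop = (Scheme.ΓSpecIso A).inv ≫ g₂.appTop) : g₁ = g₂ := by
  apply ext_of_isAffine
  exact (cancel_epi (Scheme.ΓSpecIso A).inv).mp h

/-- every morphism to `Spec A` is induced by a ring map -/
theorem hom_Spec_eq {Y : Scheme.{u}} {A : CommRingCat.{u}} (g : Y ⟶ Spec A) :
    g = Y.toSpecΓ ≫ Spec.map ((Scheme.ΓSpecIso A).inv ≫ g.appTop) := by
  rw [Spec.map_comp, ← Scheme.toSpecΓ_naturality_assoc, toSpecΓ_SpecMap_ΓSpecIso_inv,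
    Category.comp_id]

theorem ΓSpecIso_inv_comp_appTop {Y : Scheme.{u}} {A B : CommRingCat.{u}} (g : Y ⟶ Spec B)
    (φ : A ⟶ B) :
    (Scheme.ΓSpecIso A).inv ≫ (g ≫ Spec.map φ).appTop =
      φ ≫ (Scheme.ΓSpecIso B).inv ≫ g.appTop := by
  rw [Scheme.Hom.comp_appTop, ← Category.assoc, ← Scheme.ΓSpecIso_inv_naturality, Category.assoc]

/-- The Frobenius of `Spec R` is `Spec` of the `p`-th power map. -/
theorem frob_Spec (R : CommRingCat.{u}) [IsCharP (Spec R) p] (h : (p : R) = 0) :
    frob (Spec R) p = Spec.map (CommRingCat.ofHom (powHom p R h)) := by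
  apply hom_Spec_ext
  have h1 : (Scheme.ΓSpecIso R).inv ≫ (Spec.map (CommRingCat.ofHom (powHom p R h))).appTop =
      CommRingCat.ofHom (powHom p R h) ≫ (Scheme.ΓSpecIso R).inv :=
    (Scheme.ΓSpecIso_inv_naturality _).symm
  rw [h1]
  ext r
  change (frob (Spec R) p).appTop ((Scheme.ΓSpecIso R).inv r) = (Scheme.ΓSpecIso R).inv (r ^ p)
  rw [frob_appTop, map_pow]

theorem natCast_eq_zero_of_isCharP_Spec (R : CommRingCat.{u}) [IsCharP (Spec R) p] :
    (p : R) = 0 := by
  have h := congrArg (Scheme.ΓSpecIso R).hom.hom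
    (IsCharP.natCast_eq_zero (X := Spec R) (p := p))
  simpa using h

/-- `Spec` of a perfect ring is a perfect scheme. -/
theorem isPerfect_Spec (R : CommRingCat.{u}) [IsCharP (Spec R) p]
    (hR : Function.Bijective (fun r : R => r ^ p)) : IsPerfect (Spec R) p := by
  have h0 := natCast_eq_zero_of_isCharP_Spec p R
  change IsIso (frob (Spec R) p)
  rw [frob_Spec p R h0]
  have : IsIso (CommRingCat.ofHom (powHom p R h0)) := by
    have hb : Function.Bijective (powHom p R h0) := hR
    exact (RingEquiv.ofBijective _ hb).toCommRingCatIso.isIso_hom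
  infer_instance

/-- The `p`-th power map is bijective on the global sections of a perfect scheme. -/
theorem bijective_pow_of_isPerfect (Y : Scheme.{u}) [IsCharP Y p] (hY : IsPerfect Y p) :
    Function.Bijective (fun s : Γ(Y, ⊤) => s ^ p) := by
  haveI : IsIso (frob Y p) := hY
  have := ConcreteCategory.bijective_of_isIso ((frob Y p).app ⊤)
  exact this

end Groth.Agent.H74.Perf

namespace Groth.Agent.H74.Perf

open FrobSch

variable (p : ℕ) [Fact p.Prime]

section PerfectClosure

variable (A : Type u) [CommRing A] [CharP A p]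

/-- the canonical map `Spec A^perf ⟶ Spec A` -/
noncomputable def perfSpec :
    Spec (CommRingCat.of (PerfectClosure A p)) ⟶ Spec (CommRingCat.of A) :=
  Spec.map (CommRingCat.ofHom (PerfectClosure.of A p))

theorem isPerfect_Spec_perfectClosure :
    IsPerfect (Spec (CommRingCat.of (PerfectClosure A p))) p :=
  isPerfect_Spec p _ (PerfectRing.bijective_frobenius (R := PerfectClosure A p) (p := p))

theorem hom_subsingleton_of_isEmpty {Y Z : Scheme.{u}} [IsEmpty Y] (g g' : Y ⟶ Z) : g = g' :=
  (isInitialOfIsEmpty (X := Y)).hom_ext g g'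

theorem isPerfection_perfSpec : IsPerfection (perfSpec p A) p := by
  refine ⟨isPerfect_Spec_perfectClosure p A, fun Y _ hY => ?_⟩
  rcases isEmpty_or_nonempty Y with hE | hN
  · exact ⟨fun g g' _ => hom_subsingleton_of_isEmpty g g',
      fun g => ⟨(isInitialOfIsEmpty (X := Y)).to _, hom_subsingleton_of_isEmpty _ _⟩⟩
  · haveI : Nonempty (⊤ : Y.Opens) := ⟨⟨hN.some, trivial⟩⟩
    haveI : Nontrivial Γ(Y, ⊤) := inferInstance
    haveI : CharP Γ(Y, ⊤) p :=
      (CharP.charP_iff_prime_eq_zero Fact.out).2 (IsCharP.natCast_eq_zero (X := Y) (p := p))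
    haveI : PerfectRing Γ(Y, ⊤) p := ⟨bijective_pow_of_isPerfect p Y hY⟩
    constructor
    · intro g g' hgg
      apply hom_Spec_ext
      have h1 := ΓSpecIso_inv_comp_appTop g (CommRingCat.ofHom (PerfectClosure.of A p))
      have h2 := ΓSpecIso_inv_comp_appTop g' (CommRingCat.ofHom (PerfectClosure.of A p))
      have hgg' : g ≫ Spec.map (CommRingCat.ofHom (PerfectClosure.of A p)) =
          g' ≫ Spec.map (CommRingCat.ofHom (PerfectClosure.of A p)) := hgg
      rw [hgg'] at h1
      have h3 := h1.symm.trans h2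
      have h4 : ((Scheme.ΓSpecIso (CommRingCat.of (PerfectClosure A p))).inv ≫ g.appTop).hom.comp
          (PerfectClosure.of A p) =
          ((Scheme.ΓSpecIso (CommRingCat.of (PerfectClosure A p))).inv ≫ g'.appTop).hom.comp
          (PerfectClosure.of A p) := congrArg CommRingCat.Hom.hom h3
      have h5 := (PerfectClosure.lift A p Γ(Y, ⊤)).symm.injective h4
      exact CommRingCat.hom_ext h5
    · intro g
      let ψ : A →+* Γ(Y, ⊤) := ((Scheme.ΓSpecIso (CommRingCat.of A)).inv ≫ g.appTop).hom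
      let ψ' : PerfectClosure A p →+* Γ(Y, ⊤) := PerfectClosure.lift A p Γ(Y, ⊤) ψ
      have hψ : ψ'.comp (PerfectClosure.of A p) = ψ :=
        (PerfectClosure.lift A p Γ(Y, ⊤)).symm_apply_apply ψ
      refine ⟨Y.toSpecΓ ≫ Spec.map (CommRingCat.ofHom ψ'), ?_⟩
      change (Y.toSpecΓ ≫ Spec.map (CommRingCat.ofHom ψ')) ≫
        Spec.map (CommRingCat.ofHom (PerfectClosure.of A p)) = g
      rw [Category.assoc, ← Spec.map_comp, ← CommRingCat.ofHom_comp, hψ]
      exact (hom_Spec_eq g).symm

end PerfectClosure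

end Groth.Agent.H74.Perf
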