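import Groth.Agent.H74.FrobContract
import Groth.Agent.H74.PerfAffine
import Mathlib.FieldTheory.IsAlgClosed.AlgebraicClosure
import Mathlib.FieldTheory.Finite.Basic
import Mathlib.FieldTheory.Perfect

/-!
# The geometric Frobenius of `C₀ ×_{k₀} Spec K` is an absolute Frobenius up to an automorphism
-/

set_option autoImplicit false
universe u

open AlgebraicGeometry CategoryTheory CategoryTheory.Limits FrobSch

namespace Groth.Agent.H74.FrobContract

section

variable {X : Scheme.{u}} (p : ℕ) [Fact p.Prime] [IsCharP X p]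

theorem frobPow_appTop (k : ℕ) (s : Γ(X, ⊤)) : (frobPow (C := X) p k).appTop s = s ^ (p ^ k) := by
  induction k with
  | zero => rw [frobPow_zero]; simp
  | succ k ih =>
    rw [frobPow_succ, Scheme.Hom.comp_appTop]
    change (frob X p).appTop ((frobPow (C := X) p k).appTop s) = _
    rw [ih, frob_appTop, ← pow_mul, pow_succ]

theorem isIso_frobPow (h : IsIso (frob X p)) (k : ℕ) : IsIso (frobPow (C := X) p k) := by
  induction k with
  | zero => rw [frobPow_zero]; infer_instance
  | succ k ih => rw [frobPow_succ]; infer_instance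

end

section

variable (p : ℕ) [Fact p.Prime]

theorem frobPow_Spec_eq_id (R : Type u) [CommRing R] [CharP R p] (k : ℕ)
    (h : ∀ r : R, r ^ (p ^ k) = r) :
    frobPow (C := Spec (CommRingCat.of R)) p k = 𝟙 _ := by
  apply Groth.Agent.H74.Perf.hom_Spec_ext
  ext r
  change (frobPow (C := Spec (CommRingCat.of R)) p k).appTop
      ((Scheme.ΓSpecIso (CommRingCat.of R)).inv r) =
    (𝟙 (Spec (CommRingCat.of R)) : _ ⟶ _).appTop ((Scheme.ΓSpecIso (CommRingCat.of R)).inv r)
  rw [frobPow_appTop, ← map_pow, h]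
  simp

end

section

variable {C C₀ : Scheme.{u}} (p : ℕ) [Fact p.Prime]
    (k₀ : Type u) [Field k₀] [Fintype k₀] [CharP k₀ p] (e : ℕ) (hq : Fintype.card k₀ = p ^ e)
    (K : Type u) [Field K] [Algebra k₀ K] [IsAlgClosure k₀ K]
    (f₀ : C₀ ⟶ Spec (CommRingCat.of k₀)) [IsCharP C₀ p]
    (πC₀ : C ⟶ C₀) (πK : C ⟶ Spec (CommRingCat.of K))
    (hC : IsPullback πC₀ πK f₀ (Spec.map (CommRingCat.ofHom (algebraMap k₀ K))))
    (n : ℕ) (Fr : C ⟶ C)
    (hFr₀ : Fr ≫ πC₀ = πC₀ ≫ End.asHom (End.of (frob C₀ p) ^ (e * n)))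
    (hFrK : Fr ≫ πK = πK)

include hq hC hFr₀ hFrK in
/-- The `n`-th power of the geometric Frobenius of `C = C₀ ×_{k₀} Spec K` is the
`e * n`-th power of the absolute Frobenius followed by an endomorphism of `C`. -/
theorem exists_twist [IsCharP C p] : ∃ τ : C ⟶ C, Fr = frobPow p (e * n) ≫ τ := by
  have : CharP K p := charP_of_injective_algebraMap (algebraMap k₀ K).injective p
  have : IsAlgClosed K := IsAlgClosure.isAlgClosed k₀
  have : PerfectRing K p := inferInstance
  -- the iterated Frobenius of `Spec K` is an isomorphism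
  have hperf : IsIso (frob (Spec (CommRingCat.of K)) p) :=
    Groth.Agent.H74.Perf.isPerfect_Spec p (CommRingCat.of K) (PerfectRing.bijective_frobenius (R := K) (p := p))
  have hΦK : IsIso (frobPow (C := Spec (CommRingCat.of K)) p (e * n)) := isIso_frobPow p hperf _
  -- the iterated Frobenius of `Spec k₀` is the identity
  have hk₀ : frobPow (C := Spec (CommRingCat.of k₀)) p (e * n) = 𝟙 _ := by
    apply frobPow_Spec_eq_id
    intro r
    rw [pow_mul, ← hq]
    exact FiniteField.pow_card_pow n r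
  set g : Spec (CommRingCat.of K) ⟶ Spec (CommRingCat.of k₀) :=
    Spec.map (CommRingCat.ofHom (algebraMap k₀ K)) with hg
  have hΦg : frobPow (C := Spec (CommRingCat.of K)) p (e * n) ≫ g = g := by
    rw [frobPow_comp, hk₀, Category.comp_id]
  have hσg : inv (frobPow (C := Spec (CommRingCat.of K)) p (e * n)) ≫ g = g := by
    rw [IsIso.inv_comp_eq, hΦg]
  refine ⟨hC.lift πC₀ (πK ≫ inv (frobPow (C := Spec (CommRingCat.of K)) p (e * n))) ?_, ?_⟩
  · rw [Category.assoc, hσg, hC.w]
  · apply hC.hom_ext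
    · rw [Category.assoc, hC.lift_fst, hFr₀]
      exact (frobPow_comp p πC₀ (e * n)).symm
    · rw [Category.assoc, hC.lift_snd, hFrK, ← Category.assoc, frobPow_comp p πK (e * n),
        Category.assoc, IsIso.hom_inv_id, Category.comp_id]

end

end Groth.Agent.H74.FrobContract
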