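import Mathlib
import Groth.Agent.H74.GStab
import Groth.Agent.H74.OrbMain2
import Groth.Agent.H74.StabSat
import Groth.Agent.S19602
import Groth.Agent.H93.ReynoldsAlg

/-!
# The stable locus of an affine action of a linearly reductive group is cut out by invariants
(GLin form, any characteristic, `Spec R` possibly reducible or non-reduced) — S20021
-/

set_option autoImplicit false
set_option linter.unusedSectionVars false

open TensorProduct WithConv

namespace Groth.Agent.H74.GStabMain

open Groth.Agent.H74.CoactPts Groth.Agent.H74.OrbGen Groth.Agent.H74.OrbPts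
  Groth.Agent.H74.OrbStmt Groth.Agent.H74.StabSat Groth.Agent.H74.StabOpen
  Groth.Agent.H74.OrbMain2 Groth.Agent.H74.GStab HopfRep

universe u

variable {k : Type u} [Field k] [IsAlgClosed k]
  {A : Type u} [CommRing A] [HopfAlgebra k A] [Algebra.FiniteType k A]
  (hG : HopfRep.IsLinearlyReductive k A)
  {R : Type u} [CommRing R] [Algebra k R] [Algebra.FiniteType k R]
  [HopfRep.Comod k A R] [GLin.IsCoactAlg k A R]

include hG

/-- points with the same invariants have a common point in their orbit closures -/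
theorem exists_common (x y : R →ₐ[k] k) (h : ∀ f ∈ GLin.invariants k A R, x f = y f) :
    ∃ z : R →ₐ[k] k, Iorb A x ≤ RingHom.ker z ∧ Iorb A y ≤ RingHom.ker z := by
  have h12 : x.comp (GLin.invariants k A R).val = y.comp (GLin.invariants k A R).val := by
    ext f
    exact h f.1 f.2
  obtain ⟨z, hz1, hz2⟩ := (Groth.Agent.S19602.result k A hG R x y).mp h12
  have : (RingHom.ker z).IsPrime := RingHom.ker_isPrime z
  exact ⟨z, Iorb_le_of_ker_le x _ hz1, Iorb_le_of_ker_le y _ hz2⟩

/-- a stable point is separated by invariants from every point outside its orbit -/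
theorem exists_invariant_ne (x : R →ₐ[k] k) (hxc : ClosedOrb A x)
    (hfin : {g : WithConv (A →ₐ[k] k) | actR x g = x}.Finite) (y : R →ₐ[k] k)
    (hy : ∀ g : WithConv (A →ₐ[k] k), y ≠ actR x g) :
    ∃ f ∈ GLin.invariants k A R, x f ≠ y f := by
  by_contra hcon
  push Not at hcon
  obtain ⟨z, hz1, hz2⟩ := exists_common hG x y hcon
  obtain ⟨g, hg⟩ := hxc z hz1
  have hle : Iorb A y ≤ Iorb A x := by
    have := Iorb_le_of_le_ker hz2
    rwa [hg, Iorb_actR] at this
  obtain ⟨h, hh⟩ := exists_actR_eq_of_finite_stab x y hfin hle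
  apply hy h⁻¹
  rw [hh, actR_mul, mul_inv_cancel, actR_one]

/-- a point is stable iff all points with the same invariants have finite stabilisers -/
theorem stable_iff_fibre (x : R →ₐ[k] k) :
    (ClosedOrb A x ∧ {g : WithConv (A →ₐ[k] k) | actR x g = x}.Finite) ↔
      ∀ z : R →ₐ[k] k, (∀ f ∈ GLin.invariants k A R, z f = x f) →
        {g : WithConv (A →ₐ[k] k) | actR z g = z}.Finite := by
  constructor
  · rintro ⟨hclosed, hfin⟩ z hz
    have hzx : ∃ g : WithConv (A →ₐ[k] k), z = actR x g := by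
      by_contra hcon
      push Not at hcon
      obtain ⟨f, hf, hne⟩ := exists_invariant_ne hG x hclosed hfin z hcon
      exact hne (hz f hf).symm
    obtain ⟨g, rfl⟩ := hzx
    exact (finite_stab_actR_iff x g).mpr hfin
  · intro hall
    have hfin := hall x (fun _ _ => rfl)
    refine ⟨?_, hfin⟩
    obtain ⟨y, hy, hyc⟩ := exists_closedOrb (A := A) x
    have hyfin := hall y (fun f hf => apply_eq_of_le_ker hy f hf)
    obtain ⟨g, hg⟩ := exists_actR_eq_of_finite_stab y x hyfin (Iorb_le_of_le_ker hy)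
    intro z hz
    have hz' : Iorb A y ≤ RingHom.ker z := by
      rw [hg, Iorb_actR]; exact hz
    obtain ⟨h, hh⟩ := hyc z hz'
    refine ⟨g * h, ?_⟩
    rw [← actR_mul, ← hg, hh]

/-- a stable closed set of points maps onto the closed set of the quotient cut out by its
invariants -/
theorem exists_point_over (I : Ideal R)
    (hI : HopfRep.IsSubcomod (k := k) (A := A) (I.restrictScalars k)) (x : R →ₐ[k] k)
    (hx : ∀ f ∈ GLin.invariants k A R, f ∈ I → x f = 0) :
    ∃ z : R →ₐ[k] k, I ≤ RingHom.ker z ∧ ∀ f ∈ GLin.invariants k A R, z f = x f := by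
  obtain ⟨E, hE1, hE2, hE3, hE4⟩ := Groth.Agent.H93.exists_reynolds (R := R) hG
  let S : Set R := {m | m ∈ GLin.invariants k A R ∧ x m = 0}
  have hspan : ∀ y ∈ Ideal.span S, ∀ r : R, x (E (r * y)) = 0 := by
    intro y hy
    induction hy using Submodule.span_induction with
    | mem m hm =>
      intro r
      rw [mul_comm, hE3 m hm.1, map_mul, hm.2, zero_mul]
    | zero => intro r; simp
    | add a b _ _ ha hb => intro r; rw [mul_add, map_add, map_add, ha, hb, add_zero]
    | smul s a _ ha =>
      intro r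
      rw [smul_eq_mul, ← mul_assoc]
      exact ha _
  have hne : I ⊔ Ideal.span S ≠ ⊤ := by
    intro htop
    have h1 : (1 : R) ∈ I ⊔ Ideal.span S := by rw [htop]; trivial
    obtain ⟨i, hi, y, hy, hsum⟩ := Submodule.mem_sup.mp h1
    have hEi : x (E i) = 0 :=
      hx _ (hE1 i) (hE4 (I.restrictScalars k) hI i hi)
    have hEy : x (E y) = 0 := by
      have := hspan y hy 1
      rwa [one_mul] at this
    have h2 : E (1 : R) = 1 := hE2 1 (GLin.invariants k A R).one_mem
    have : x (E (i + y)) = 1 := by rw [hsum, h2, map_one]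
    rw [map_add, map_add, hEi, hEy, add_zero] at this
    exact zero_ne_one this
  obtain ⟨z, hz⟩ := Groth.Agent.H59.Orbit.exists_point_of_ne_top (k := k) _ hne
  refine ⟨z, fun f hf => RingHom.mem_ker.mpr (hz f (Ideal.mem_sup_left hf)), fun f hf => ?_⟩
  have hmem : f - algebraMap k R (x f) ∈ S := by
    refine ⟨Subalgebra.sub_mem _ hf (Subalgebra.algebraMap_mem _ _), ?_⟩
    rw [map_sub, AlgHom.commutes]
    simp
  have h0 := hz _ (Ideal.mem_sup_right (Ideal.subset_span hmem))
  rw [map_sub, AlgHom.commutes] at h0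
  have h2 : z f = algebraMap k k (x f) := sub_eq_zero.mp h0
  simpa using h2

/-- a point with the same invariants as a stable point lies in its orbit -/
theorem exists_actR_of_invariants_eq (x z : R →ₐ[k] k)
    (hxc : ClosedOrb A x) (hxfin : {g : WithConv (A →ₐ[k] k) | actR x g = x}.Finite)
    (hinv : ∀ f ∈ GLin.invariants k A R, x f = z f) :
    ∃ g : WithConv (A →ₐ[k] k), z = actR x g := by
  by_contra hcon
  push Not at hcon
  obtain ⟨f, hf, hne⟩ := exists_invariant_ne hG x hxc hxfin z hcon
  exact hne (hinv f hf)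

/-- **Separation**: a stable point outside a stable closed set of points is separated from it by an
invariant function of the saturated ideal. -/
theorem exists_invariant_sep (Z : Set (R →ₐ[k] k))
    (hZ : ∀ z ∈ Z, ∀ g : WithConv (A →ₐ[k] k), actR z g ∈ Z)
    (hZc : ∀ w : R →ₐ[k] k, satI A Z ≤ RingHom.ker w → w ∈ Z)
    (x : R →ₐ[k] k) (hxc : ClosedOrb A x)
    (hxfin : {g : WithConv (A →ₐ[k] k) | actR x g = x}.Finite) (hxZ : x ∉ Z) :
    ∃ f ∈ GLin.invariants k A R, f ∈ satI A Z ∧ x f ≠ 0 := by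
  by_contra hcon
  push Not at hcon
  obtain ⟨z, hz1, hz2⟩ := exists_point_over hG (satI A Z) (isSubcomod_satI Z) x hcon
  have hzZ : z ∈ Z := hZc z hz1
  obtain ⟨g, hg⟩ := exists_actR_of_invariants_eq hG x z hxc hxfin (fun f hf => (hz2 f hf).symm)
  apply hxZ
  have : x = actR z g⁻¹ := by rw [hg, actR_mul, mul_inv_cancel, actR_one]
  rw [this]
  exact hZ z hzZ _

/-- the stable locus is cut out by invariants (rational-point form) -/
theorem exists_invariants_stable :
    ∃ S : Set R, S ⊆ (GLin.invariants k A R : Set R) ∧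
      ∀ x : R →ₐ[k] k,
        (ClosedOrb A x ∧ {g : WithConv (A →ₐ[k] k) | actR x g = x}.Finite) ↔
          ∃ f ∈ S, x f ≠ 0 := by
  let Z : Set (R →ₐ[k] k) := {z | ¬ {g : WithConv (A →ₐ[k] k) | actR z g = z}.Finite}
  have hZ : ∀ z ∈ Z, ∀ g : WithConv (A →ₐ[k] k), actR z g ∈ Z := by
    intro z hz g hfin
    exact hz ((finite_stab_actR_iff z g).mp hfin)
  have hZc : ∀ w : R →ₐ[k] k, satI A Z ≤ RingHom.ker w → w ∈ Z := by
    intro w hw
    by_contra hwZ
    have hfin : {g : WithConv (A →ₐ[k] k) | actR w g = w}.Finite := not_not.mp hwZ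
    obtain ⟨b, hwb, hb⟩ := exists_nhd_finite_stab w hfin
    have hbZ : ∀ z ∈ Z, z b = 0 := fun z hz => by
      by_contra h
      exact hz (hb z h)
    obtain ⟨m, hm⟩ := exists_pow_mem_satI Z hZ
    have := hw (hm b hbZ)
    rw [RingHom.mem_ker, map_pow] at this
    exact hwb (eq_zero_of_pow_eq_zero this)
  refine ⟨{f | f ∈ GLin.invariants k A R ∧ f ∈ satI A Z}, fun f hf => hf.1, fun x => ⟨?_, ?_⟩⟩
  · rintro ⟨hclosed, hfin⟩
    obtain ⟨f, hf1, hf2, hf3⟩ := exists_invariant_sep hG Z hZ hZc x hclosed hfin (fun h => h hfin)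
    exact ⟨f, ⟨hf1, hf2⟩, hf3⟩
  · rintro ⟨f, ⟨hf1, hf2⟩, hf3⟩
    rw [stable_iff_fibre hG x]
    intro z hz
    by_contra hzZ
    have h0 : z f = 0 := RingHom.mem_ker.mp (satI_le_ker (show z ∈ Z from hzZ) hf2)
    rw [hz f hf1] at h0
    exact hf3 h0

/-- **S20021**: the stable locus of an affine action of a linearly reductive group is the union of
the basic open sets of a set of invariants. -/
theorem S20021 :
    ∃ S : Set R, S ⊆ (GLin.invariants k A R : Set R) ∧
      ∀ x : R →ₐ[k] k, GLin.IsStablePt k A x ↔ ∃ f ∈ S, x f ≠ 0 := by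
  obtain ⟨S, hS, h⟩ := exists_invariants_stable (R := R) hG
  refine ⟨S, hS, fun x => ?_⟩
  rw [← h x]
  unfold GLin.IsStablePt
  rw [isClosedOrbit_iff, hasFiniteStab_iff]

end Groth.Agent.H74.GStabMain
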