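import Groth.Agent.H68.TSFinite
import Mathlib

/-!
# Symmetric tensors of a polynomial ring are finitely presented
-/

set_option autoImplicit false
set_option linter.style.haveILetI false
universe u
open scoped TensorProduct

namespace Groth.Agent.H74.TSFP

open Groth.Agent.H68 Groth.Agent.H68.LC Groth.Agent.H68.TSF

section BaseChange

variable (Z : Type u) [CommRing Z] (A : Type u) [CommRing A] [Algebra Z A] (ι : Type) (d : ℕ)

/-- `a ⊗ t ↦ a • Psi t`. -/
noncomputable def Phi : A ⊗[Z] TP Z (MvPolynomial ι Z) d →ₗ[A] TP A (MvPolynomial ι A) d :=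
  LinearMap.liftBaseChange A (Psi Z A ι d).toLinearMap

lemma Phi_tmul (a : A) (t : TP Z (MvPolynomial ι Z) d) :
    Phi Z A ι d (a ⊗ₜ[Z] t) = a • Psi Z A ι d t := by
  rw [Phi, LinearMap.liftBaseChange_tmul]
  rfl

lemma Phi_basis (c : Fin d → (ι →₀ ℕ)) :
    Phi Z A ι d ((1 : A) ⊗ₜ[Z] bT (MvPolynomial.basisMonomials ι Z) d c) =
      bT (MvPolynomial.basisMonomials ι A) d c := by
  rw [Phi_tmul, one_smul, bT, bT, _root_.Basis.piTensorProduct_apply,
    _root_.Basis.piTensorProduct_apply, Psi_tprod]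
  congr 1
  funext i
  simp only [MvPolynomial.coe_basisMonomials]
  exact beta_monomial Z A ι _

theorem Phi_injective : Function.Injective (Phi Z A ι d) := by
  let b1 := (bT (MvPolynomial.basisMonomials ι Z) d).baseChange A
  let b2 := bT (MvPolynomial.basisMonomials ι A) d
  have h : Phi Z A ι d = (b1.equiv b2 (Equiv.refl _)).toLinearMap := by
    apply b1.ext
    intro c
    rw [LinearEquiv.coe_coe, Module.Basis.equiv_apply, Equiv.refl_apply]
    show Phi Z A ι d ((bT (MvPolynomial.basisMonomials ι Z) d).baseChange A c) = _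
    rw [Module.Basis.baseChange_apply]
    exact Phi_basis Z A ι d c
  rw [h]
  exact (b1.equiv b2 (Equiv.refl _)).injective

end BaseChange

section Kernel

variable (Z : Type u) [CommRing Z] (B : Type u) [CommRing B] [Algebra Z B] (d : ℕ)

/-- `t ↦ (σ t - t)_σ`. -/
noncomputable def Dmap : TP Z B d →ₗ[Z] (Equiv.Perm (Fin d) → TP Z B d) :=
  LinearMap.pi fun σ => (SymTen.perm Z B d σ).toLinearMap - LinearMap.id

lemma Dmap_apply (t : TP Z B d) (σ : Equiv.Perm (Fin d)) :
    Dmap Z B d t σ = SymTen.perm Z B d σ t - t := rfl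

lemma mem_ker_Dmap (t : TP Z B d) : t ∈ LinearMap.ker (Dmap Z B d) ↔ t ∈ SymTen.TS Z B d := by
  rw [LinearMap.mem_ker, SymTen.mem_TS_iff]
  constructor
  · intro h σ
    have := congrFun h σ
    rw [Dmap_apply, Pi.zero_apply, sub_eq_zero] at this
    rw [← SymTen.perm_apply, this]
  · intro h
    funext σ
    rw [Dmap_apply, Pi.zero_apply, sub_eq_zero, SymTen.perm_apply, h σ]

/-- The inclusion of the symmetric tensors, as a linear map. -/
noncomputable def inclTS : SymTen.TS Z B d →ₗ[Z] TP Z B d := (SymTen.TS Z B d).val.toLinearMap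

lemma exact_inclTS : Function.Exact (inclTS Z B d) (Dmap Z B d).rangeRestrict := by
  intro t
  constructor
  · intro h
    have h' : t ∈ LinearMap.ker (Dmap Z B d) := by
      rw [LinearMap.mem_ker]
      exact congrArg Subtype.val h
    exact ⟨⟨t, (mem_ker_Dmap Z B d t).mp h'⟩, rfl⟩
  · rintro ⟨s, rfl⟩
    apply Subtype.ext
    exact LinearMap.mem_ker.mp ((mem_ker_Dmap Z B d s.1).mpr s.2)

theorem lTensor_inclTS_injective [IsDedekindDomain Z] [Module.Free Z B]
    (A : Type u) [AddCommGroup A] [Module Z A] :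
    Function.Injective ((inclTS Z B d).lTensor A) := by
  haveI : Module.Free Z (TP Z B d) :=
    Module.Free.of_basis (_root_.Basis.piTensorProduct
      (fun _ : Fin d => Module.Free.chooseBasis Z B))
  haveI : Module.IsTorsionFree Z (Equiv.Perm (Fin d) → TP Z B d) := inferInstance
  haveI : Module.IsTorsionFree Z (LinearMap.range (Dmap Z B d)) := inferInstance
  haveI : Module.Flat Z (LinearMap.range (Dmap Z B d)) := inferInstance
  exact LinearMap.lTensor_injective_of_exact_of_flat (Dmap Z B d).rangeRestrict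
    (LinearMap.surjective_rangeRestrict _) (inclTS Z B d) Subtype.val_injective
    (exact_inclTS Z B d) A

end Kernel

section Main

variable (Z : Type u) [CommRing Z] (A : Type u) [CommRing A] [Algebra Z A] (ι : Type) (d : ℕ)

/-- The restriction of `Psi` to symmetric tensors. -/
noncomputable def PsiTS :
    SymTen.TS Z (MvPolynomial ι Z) d →ₐ[Z] SymTen.TS A (MvPolynomial ι A) d where
  toFun t := ⟨Psi Z A ι d t.1, Psi_mem_TS Z A ι d t.1 t.2⟩
  map_one' := Subtype.ext (map_one (Psi Z A ι d))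
  map_mul' x y := Subtype.ext (map_mul (Psi Z A ι d) x.1 y.1)
  map_zero' := Subtype.ext (map_zero (Psi Z A ι d))
  map_add' x y := Subtype.ext (map_add (Psi Z A ι d) x.1 y.1)
  commutes' r := Subtype.ext ((Psi Z A ι d).commutes r)

lemma PsiTS_val (t : SymTen.TS Z (MvPolynomial ι Z) d) :
    (PsiTS Z A ι d t).1 = Psi Z A ι d t.1 := rfl

/-- The comparison map `A ⊗ TS_Z → TS_A`. -/
noncomputable def psi :
    A ⊗[Z] SymTen.TS Z (MvPolynomial ι Z) d →ₐ[A] SymTen.TS A (MvPolynomial ι A) d :=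
  Algebra.TensorProduct.lift (Algebra.ofId A _) (PsiTS Z A ι d) (fun _ _ => Commute.all _ _)

lemma psi_tmul (a : A) (t : SymTen.TS Z (MvPolynomial ι Z) d) :
    (psi Z A ι d (a ⊗ₜ[Z] t)).1 = a • Psi Z A ι d t.1 := by
  rw [psi, Algebra.TensorProduct.lift_tmul, Algebra.ofId_apply, ← Algebra.smul_def]
  rfl

lemma val_psi (u : A ⊗[Z] SymTen.TS Z (MvPolynomial ι Z) d) :
    (psi Z A ι d u).1 = Phi Z A ι d ((inclTS Z (MvPolynomial ι Z) d).lTensor A u) := by
  induction u using TensorProduct.induction_on with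
  | zero => simp
  | tmul a t =>
    rw [psi_tmul, LinearMap.lTensor_tmul, Phi_tmul]
    rfl
  | add x y hx hy =>
    rw [map_add, map_add, map_add, ← hx, ← hy]
    rfl

theorem psi_injective [IsDedekindDomain Z] : Function.Injective (psi Z A ι d) := by
  intro u v h
  have h1 : (psi Z A ι d u).1 = (psi Z A ι d v).1 := congrArg Subtype.val h
  rw [val_psi, val_psi] at h1
  exact lTensor_inclTS_injective Z (MvPolynomial ι Z) d A (Phi_injective Z A ι d h1)

theorem psi_surjective : Function.Surjective (psi Z A ι d) := by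
  rintro ⟨z, hz⟩
  have h1 := mem_span_Psi Z A ι d z hz
  suffices h : ∃ u, (psi Z A ι d u).1 = z by
    obtain ⟨u, hu⟩ := h
    exact ⟨u, Subtype.ext hu⟩
  clear hz
  induction h1 using Submodule.span_induction with
  | mem x hx =>
    obtain ⟨t, ht, rfl⟩ := hx
    refine ⟨(1 : A) ⊗ₜ[Z] ⟨t, ht⟩, ?_⟩
    rw [psi_tmul, one_smul]
  | zero => exact ⟨0, by simp⟩
  | add x y _ _ hx hy =>
    obtain ⟨u, rfl⟩ := hx
    obtain ⟨v, rfl⟩ := hy
    exact ⟨u + v, by rw [map_add]; rfl⟩
  | smul a x _ hx =>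
    obtain ⟨u, rfl⟩ := hx
    exact ⟨a • u, by rw [map_smul]; rfl⟩

end Main

/-- The symmetric tensors of a polynomial ring in finitely many variables over any ring are
finitely presented. -/
theorem finitePresentation_TS_mvPolynomial (A : Type u) [CommRing A] (r : ℕ) (d : ℕ) :
    Algebra.FinitePresentation A (SymTen.TS A (MvPolynomial (Fin r) A) d) := by
  letI : Algebra (ULift.{u} ℤ) A := ULift.algebra' ℤ A
  haveI : IsNoetherianRing (ULift.{u} ℤ) := isNoetherianRing_of_ringEquiv ℤ ULift.ringEquiv.symm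
  haveI : IsDomain (ULift.{u} ℤ) := ULift.ringEquiv.toMulEquiv.isDomain ℤ
  haveI : IsPrincipalIdealRing (ULift.{u} ℤ) :=
    IsPrincipalIdealRing.of_surjective (ULift.ringEquiv.symm : ℤ ≃+* ULift.{u} ℤ).toRingHom
      (ULift.ringEquiv.symm : ℤ ≃+* ULift.{u} ℤ).surjective
  haveI : IsDedekindDomain (ULift.{u} ℤ) := inferInstance
  haveI := finiteType_TS (ULift.{u} ℤ) (MvPolynomial (Fin r) (ULift.{u} ℤ)) d
  haveI : Algebra.FinitePresentation (ULift.{u} ℤ)
      (SymTen.TS (ULift.{u} ℤ) (MvPolynomial (Fin r) (ULift.{u} ℤ)) d) :=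
    Algebra.FinitePresentation.of_finiteType.mp inferInstance
  haveI : Algebra.FinitePresentation A
      (A ⊗[ULift.{u} ℤ] SymTen.TS (ULift.{u} ℤ) (MvPolynomial (Fin r) (ULift.{u} ℤ)) d) :=
    inferInstance
  refine Algebra.FinitePresentation.of_surjective
    (f := psi (ULift.{u} ℤ) A (Fin r) d) (psi_surjective _ A (Fin r) d) ?_
  have : RingHom.ker (psi (ULift.{u} ℤ) A (Fin r) d).toRingHom = ⊥ :=
    (RingHom.injective_iff_ker_eq_bot _).mp (psi_injective _ A (Fin r) d)
  rw [this]
  exact Submodule.fg_bot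

end Groth.Agent.H74.TSFP
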