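import Groth.Agent.H74.LawDescent
import Groth.Agent.H74.TSFP
import Groth.Agent.H68.RydhLaw
import Groth.Agent.S13717
import Mathlib

/-!
# `Γ^d_A(B)` is finitely presented when `B` is

With `P = A[x]`, `B = P/(f_j)`, `P' = P[y]`, `α : y_j ↦ f_j`, `β : y_j ↦ 0`, the kernel of
`Γ^d(P) = TS^d(P) → Γ^d(B)` is the ideal generated by the `TS(α) t - TS(β) t`, `t ∈ TS^d(P')`.
-/

set_option autoImplicit false
set_option linter.style.haveILetI false
universe u
open scoped TensorProduct

namespace Groth.Agent.H74.GammaFP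

open Groth.Agent.H68 Groth.Agent.H68.LC Groth.Agent.H68.CR Groth.Agent.H68.TSG
  Groth.Agent.H68.RL Groth.Agent.H74.LawDescent

section Diff

variable {A : Type u} [CommRing A] {T' T : Type u} [CommRing T'] [Algebra A T'] [CommRing T]
  [Algebra A T] (a b : T' →ₐ[A] T)

/-- The ideal generated by the differences `a t - b t`. -/
def diffIdeal : Ideal T := Ideal.span (Set.range fun t : T' => a t - b t)

lemma diff_mem (t : T') : a t - b t ∈ diffIdeal a b := Ideal.subset_span ⟨t, rfl⟩

theorem diffIdeal_fg [Algebra.FiniteType A T'] : (diffIdeal a b).FG := by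
  classical
  obtain ⟨s, hs⟩ := (‹Algebra.FiniteType A T'›).out
  refine ⟨s.image (fun t => a t - b t), ?_⟩
  apply le_antisymm
  · rw [Ideal.span_le]
    intro x hx
    rw [Finset.coe_image] at hx
    obtain ⟨t, -, rfl⟩ := hx
    exact diff_mem a b t
  · rw [diffIdeal, Ideal.span_le]
    rintro _ ⟨t, rfl⟩
    have ht : t ∈ Algebra.adjoin A (s : Set T') := hs ▸ Algebra.mem_top
    set J₀ : Ideal T := Ideal.span ((s.image (fun t => a t - b t) : Finset T) : Set T) with hJ₀
    show a t - b t ∈ J₀
    induction ht using Algebra.adjoin_induction with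
    | mem x hx =>
      apply Ideal.subset_span
      rw [Finset.coe_image]
      exact ⟨x, hx, rfl⟩
    | algebraMap r =>
      rw [AlgHom.commutes, AlgHom.commutes, sub_self]
      exact J₀.zero_mem
    | add x y _ _ hx hy =>
      have : a (x + y) - b (x + y) = (a x - b x) + (a y - b y) := by
        rw [map_add, map_add]; ring
      rw [this]
      exact J₀.add_mem hx hy
    | mul x y _ _ hx hy =>
      have : a (x * y) - b (x * y) = a x * (a y - b y) + (a x - b x) * b y := by
        rw [map_mul, map_mul]; ring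
      rw [this]
      exact J₀.add_mem (J₀.mul_mem_left _ hy) (J₀.mul_mem_right _ hx)

end Diff

section Main

variable {A : Type u} [CommRing A] {B : Type u} [CommRing B] [Algebra A B] {C : Type u}
  [CommRing C] [Algebra A C] {d : ℕ}

theorem finitePresentation_of_isGammaD (γ : PolLaw.MulLaw A B C d) (hγ : PolLaw.IsGammaD γ)
    [Algebra.FinitePresentation A B] : Algebra.FinitePresentation A C := by
  obtain ⟨r, q, hq, hfg⟩ := (‹Algebra.FinitePresentation A B›).out
  obtain ⟨m, f, hf⟩ := Submodule.fg_iff_exists_fin_generating_family.mp hfg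
  have hker : RingHom.ker q.toRingHom = Ideal.span (Set.range f) := hf.symm
  -- the polynomial rings and maps
  let P := MvPolynomial (Fin r) A
  let P' := MvPolynomial (Fin (r + m)) A
  let σ : P →ₐ[A] P' := MvPolynomial.rename (Fin.castAdd m)
  let α : P' →ₐ[A] P := MvPolynomial.aeval (Fin.addCases MvPolynomial.X f)
  let β : P' →ₐ[A] P := MvPolynomial.aeval (Fin.addCases MvPolynomial.X (fun _ => 0))
  let y : Fin m → P' := fun j => MvPolynomial.X (Fin.natAdd r j)
  have hσX : ∀ i, σ (MvPolynomial.X i) = MvPolynomial.X (Fin.castAdd m i) :=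
    fun i => MvPolynomial.rename_X _ _
  have hαX : ∀ k, α (MvPolynomial.X k) = Fin.addCases MvPolynomial.X f k :=
    fun k => MvPolynomial.aeval_X _ _
  have hβX : ∀ k, β (MvPolynomial.X k) = Fin.addCases MvPolynomial.X (fun _ => 0) k :=
    fun k => MvPolynomial.aeval_X _ _
  have hασ : α.comp σ = AlgHom.id A P := by
    apply MvPolynomial.algHom_ext
    intro i
    rw [AlgHom.comp_apply, hσX, hαX, Fin.addCases_left, AlgHom.id_apply]
  have hβσ : β.comp σ = AlgHom.id A P := by
    apply MvPolynomial.algHom_ext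
    intro i
    rw [AlgHom.comp_apply, hσX, hβX, Fin.addCases_left, AlgHom.id_apply]
  have hαy : ∀ j, α (y j) = f j := by
    intro j
    rw [hαX, Fin.addCases_right]
  have hβy : ∀ j, β (y j) = 0 := by
    intro j
    rw [hβX, Fin.addCases_right]
  have hqαβ : q.comp α = q.comp β := by
    apply MvPolynomial.algHom_ext
    intro i
    rw [AlgHom.comp_apply, AlgHom.comp_apply, hαX, hβX]
    refine Fin.addCases (fun i => ?_) (fun j => ?_) i
    · rw [Fin.addCases_left, Fin.addCases_left]
    · rw [Fin.addCases_right, Fin.addCases_right, map_zero]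
      have h1 : f j ∈ RingHom.ker q.toRingHom := hker ▸ Ideal.subset_span ⟨j, rfl⟩
      exact h1
  -- symmetric tensors
  let T := SymTen.TS A P d
  let T' := SymTen.TS A P' d
  let Θ : T →ₐ[A] C := Theta γ P q
  let a : T' →ₐ[A] T := SymTen.TSmap A d α
  let b : T' →ₐ[A] T := SymTen.TSmap A d β
  let J : Ideal T := diffIdeal a b
  have hΘsurj : Function.Surjective Θ :=
    Groth.Agent.S13717.result (tau A P d) isGammaD_of_flat γ hγ q hq Θ (Theta_spec γ P q)
  -- `J ≤ ker Θ`
  have hJle : J ≤ RingHom.ker Θ.toRingHom := by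
    show diffIdeal a b ≤ _
    rw [diffIdeal, Ideal.span_le]
    rintro _ ⟨t, rfl⟩
    show Θ (a t - b t) = 0
    rw [map_sub, sub_eq_zero]
    have h1 : Θ.comp a = Θ.comp b := by
      show (Theta γ P q).comp (SymTen.TSmap A d α) = (Theta γ P q).comp (SymTen.TSmap A d β)
      rw [Theta_nat γ P q P' α, Theta_nat γ P q P' β, hqαβ]
    exact congrArg (fun g : T' →ₐ[A] C => g t) h1
  -- `ker Θ ≤ J`
  let Q := T ⧸ J
  let mk : T →ₐ[A] Q := Ideal.Quotient.mkₐ A J
  let L : PolLaw.MulLaw A P Q d := (tau A P d).postcomp mk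
  have hmkab : mk.comp a = mk.comp b := by
    apply AlgHom.ext
    intro t
    show Ideal.Quotient.mk J (a t) = Ideal.Quotient.mk J (b t)
    exact Ideal.Quotient.eq.mpr (diff_mem a b t)
  have e1 : ∀ e : P' →ₐ[A] P, PolLaw.precomp L.law e.toLinearMap =
      PolLaw.postcomp (mk.comp (SymTen.TSmap A d e)).toLinearMap (tau A P' d).law := by
    intro e
    rw [postcomp_comp, tau_nat]
    ext S _ _ z
    rfl
  have hL : PolLaw.precomp L.law α.toLinearMap = PolLaw.precomp L.law β.toLinearMap := by
    rw [e1 α, e1 β]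
    show PolLaw.postcomp (mk.comp a).toLinearMap _ = PolLaw.postcomp (mk.comp b).toLinearMap _
    rw [hmkab]
  have hfac : Factors L.law q.toLinearMap :=
    factors_of_coequalizer q f σ α β y hασ hβσ hαy hβy L.law hL hq hker
  let G : PolLaw.MulLaw A B Q d := descendMul L q hq hfac
  have hG : (G.precomp q).law = L.law := descendMul_precomp L q hq hfac
  obtain ⟨g, hg, -⟩ := hγ Q G
  have hgΘ : g.comp Θ = mk := by
    have huniq := (isGammaD_of_flat (A := A) (B := P) (d := d)) Q L
    have h1 : PolLaw.postcomp (g.comp Θ).toLinearMap (tau A P d).law = L.law := by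
      rw [postcomp_comp, Theta_spec, ← hG]
      show PolLaw.postcomp g.toLinearMap (PolLaw.precomp γ.law q.toLinearMap) =
        PolLaw.precomp G.law q.toLinearMap
      rw [← hg]
      ext S _ _ z
      rfl
    have h2 : PolLaw.postcomp mk.toLinearMap (tau A P d).law = L.law := rfl
    exact huniq.unique h1 h2
  have hkerle : RingHom.ker Θ.toRingHom ≤ J := by
    intro t ht
    have h0 : Θ t = 0 := ht
    have : mk t = 0 := by
      rw [← hgΘ]
      show g (Θ t) = 0
      rw [h0, map_zero]
    exact Ideal.Quotient.eq_zero_iff_mem.mp this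
  have hkereq : RingHom.ker Θ.toRingHom = J := le_antisymm hkerle hJle
  haveI : Algebra.FiniteType A T' := TSF.finiteType_TS_mvPolynomial A (r + m) d
  haveI : Algebra.FinitePresentation A T := TSFP.finitePresentation_TS_mvPolynomial A r d
  exact Algebra.FinitePresentation.of_surjective (f := Θ) hΘsurj (hkereq ▸ diffIdeal_fg a b)

end Main

end Groth.Agent.H74.GammaFP
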