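import Groth.Prelude.Def_W4c2conddiscmodels
import Mathlib

set_option autoImplicit false

namespace Groth.Agent.H74

/-- numerator/denominator continuants of the Hirzebruch-Jung fraction `[b 1, ..., b l]` -/
def hjND : ℕ → (ℕ → ℤ) → ℤ × ℤ
  | 0, _ => (1, 0)
  | l + 1, b => (b 1 * (hjND l (fun i => b (i + 1))).1 - (hjND l (fun i => b (i + 1))).2,
      (hjND l (fun i => b (i + 1))).1)

theorem hjND_zero (b : ℕ → ℤ) : hjND 0 b = (1, 0) := rfl

theorem hjND_succ (l : ℕ) (b : ℕ → ℤ) :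
    hjND (l + 1) b = (b 1 * (hjND l (fun i => b (i + 1))).1 - (hjND l (fun i => b (i + 1))).2,
      (hjND l (fun i => b (i + 1))).1) := rfl

theorem hjND_pos (l : ℕ) : ∀ (b : ℕ → ℤ), (∀ i, 1 ≤ i → i ≤ l → 2 ≤ b i) →
    0 ≤ (hjND l b).2 ∧ (hjND l b).2 < (hjND l b).1 := by
  induction l with
  | zero => intro b _; simp [hjND_zero]
  | succ l ih =>
    intro b hb
    have h := ih (fun i => b (i + 1)) (fun i h1 h2 => hb (i + 1) (by omega) (by omega))
    have hb1 := hb 1 le_rfl (by omega)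
    rw [hjND_succ]
    constructor
    · exact le_of_lt (lt_of_le_of_lt h.1 h.2)
    · simp only
      nlinarith [h.1, h.2]

theorem hjND_coprime (l : ℕ) : ∀ (b : ℕ → ℤ), IsCoprime (hjND l b).1 (hjND l b).2 := by
  induction l with
  | zero => intro b; rw [hjND_zero]; exact isCoprime_one_left
  | succ l ih =>
    intro b
    rw [hjND_succ]
    simp only
    have h := ih (fun i => b (i + 1))
    have h2 : IsCoprime (-(hjND l (fun i => b (i + 1))).2 + b 1 * (hjND l (fun i => b (i + 1))).1)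
        (hjND l (fun i => b (i + 1))).1 := by
      rw [IsCoprime.add_mul_right_left_iff]
      exact h.symm.neg_left
    rw [show b 1 * (hjND l (fun i => b (i + 1))).1 - (hjND l (fun i => b (i + 1))).2 =
      -(hjND l (fun i => b (i + 1))).2 + b 1 * (hjND l (fun i => b (i + 1))).1 by ring]
    exact h2

theorem range_map_succ (l : ℕ) (b : ℕ → ℤ) :
    (List.range (l + 1)).map (fun i => b (i + 1)) =
      b 1 :: (List.range l).map (fun i => b (i + 1 + 1)) := by
  rw [List.range_succ_eq_map, List.map_cons, List.map_map]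
  rfl

theorem hjVal_eq (l : ℕ) : ∀ (b : ℕ → ℤ), (∀ i, 1 ≤ i → i ≤ l → 2 ≤ b i) →
    HJFrac.hjVal ((List.range l).map fun i => b (i + 1)) = ((hjND l b).1 : ℚ) / ((hjND l b).2 : ℚ) := by
  induction l with
  | zero => intro b _; simp [hjND_zero, HJFrac.hjVal]
  | succ l ih =>
    intro b hb
    have hb' : ∀ i, 1 ≤ i → i ≤ l → 2 ≤ b (i + 1) := fun i h1 h2 => hb (i + 1) (by omega) (by omega)
    have h := ih (fun i => b (i + 1)) hb'
    have hpos := hjND_pos l (fun i => b (i + 1)) hb'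
    rw [range_map_succ, HJFrac.hjVal, h, hjND_succ]
    simp only
    have hN : ((hjND l (fun i => b (i + 1))).1 : ℚ) ≠ 0 := by
      have : (0 : ℤ) < (hjND l (fun i => b (i + 1))).1 := lt_of_le_of_lt hpos.1 hpos.2
      exact_mod_cast this.ne'
    rw [inv_div]
    field_simp
    push_cast
    ring

/-- key identity (B) -/
theorem hjND_identity (l : ℕ) : ∀ (b : ℕ → ℤ) (μ : ℕ → ℤ),
    (∀ i, 1 ≤ i → i ≤ l → b i * μ i = μ (i - 1) + μ (i + 1)) →
    μ 1 * (hjND l b).1 = μ 0 * (hjND l b).2 + μ (l + 1) := by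
  induction l with
  | zero => intro b μ _; simp [hjND_zero]
  | succ l ih =>
    intro b μ hsys
    have h := ih (fun i => b (i + 1)) (fun i => μ (i + 1)) (by
      intro i h1 h2
      have := hsys (i + 1) (by omega) (by omega)
      simp only [Nat.add_sub_cancel] at this
      have e : i - 1 + 1 = i := by omega
      rw [e]
      exact this)
    have h1 := hsys 1 le_rfl (by omega)
    simp only [zero_add] at h
    rw [hjND_succ]
    simp only
    have e2 : (1 + 1 : ℕ) = 2 := rfl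
    rw [e2] at h h1
    have e3 : l + 1 + 1 = l + 2 := rfl
    linear_combination (hjND l (fun i => b (i + 1))).1 * h1 + h

/-- identity (A) -/
theorem hj_sum (l : ℕ) : ∀ (b : ℕ → ℤ) (μ : ℕ → ℤ),
    (∀ i, i ≤ l + 1 → 0 < μ i) →
    (∀ i, 1 ≤ i → i ≤ l → b i * μ i = μ (i - 1) + μ (i + 1)) →
    ∑ i ∈ Finset.range (l + 1), 1 / ((μ i : ℚ) * (μ (i + 1) : ℚ)) =
      ((hjND l b).1 : ℚ) / ((μ 0 : ℚ) * (μ (l + 1) : ℚ)) := by
  induction l with
  | zero => intro b μ _ _; simp [hjND_zero]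
  | succ l ih =>
    intro b μ hpos hsys
    have hsys' : ∀ i, 1 ≤ i → i ≤ l → b (i + 1) * μ (i + 1) = μ (i - 1 + 1) + μ (i + 1 + 1) := by
      intro i h1 h2
      have := hsys (i + 1) (by omega) (by omega)
      simp only [Nat.add_sub_cancel] at this
      have e : i - 1 + 1 = i := by omega
      rw [e]
      exact this
    have h := ih (fun i => b (i + 1)) (fun i => μ (i + 1)) (fun i hi => hpos (i + 1) (by omega)) hsys'
    have hB := hjND_identity (l + 1) b μ hsys
    rw [Finset.sum_range_succ', h, hjND_succ]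
    rw [hjND_succ] at hB
    simp only at hB ⊢
    have p0 : (μ 0 : ℚ) ≠ 0 := by exact_mod_cast (hpos 0 (by omega)).ne'
    have p1 : (μ (0 + 1) : ℚ) ≠ 0 := by exact_mod_cast (hpos 1 (by omega)).ne'
    have p2 : (μ (l + 1 + 1) : ℚ) ≠ 0 := by exact_mod_cast (hpos (l + 2) (by omega)).ne'
    have hBq : (μ 1 : ℚ) * ((b 1 : ℚ) * ((hjND l (fun i => b (i + 1))).1 : ℚ) - ((hjND l (fun i => b (i + 1))).2 : ℚ)) =
        (μ 0 : ℚ) * ((hjND l (fun i => b (i + 1))).1 : ℚ) + (μ (l + 1 + 1) : ℚ) := by exact_mod_cast hB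
    field_simp
    push_cast
    simp only [zero_add] at *
    linear_combination (-1 : ℚ) * hBq

/-- under the hypotheses, `n` is the numerator continuant and `r` the denominator continuant -/
theorem hj_num_eq (l : ℕ) (hl : 1 ≤ l) (b : ℕ → ℤ)
    (hb : ∀ i, 1 ≤ i → i ≤ l → 2 ≤ b i)
    (n r : ℕ) (hr : 0 < r) (hcop : Nat.Coprime r n)
    (hhj : (n : ℚ) / r = HJFrac.hjVal ((List.range l).map fun i => b (i + 1))) :
    (n : ℤ) = (hjND l b).1 := by
  rw [hjVal_eq l b hb] at hhj
  have hpos := hjND_pos l b hb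
  have hD : 0 < (hjND l b).2 := by
    obtain ⟨l', rfl⟩ := Nat.exists_eq_succ_of_ne_zero (by omega : l ≠ 0)
    rw [hjND_succ]
    simp only
    have hb' : ∀ i, 1 ≤ i → i ≤ l' → 2 ≤ b (i + 1) := fun i h1 h2 => hb (i + 1) (by omega) (by omega)
    have := hjND_pos l' (fun i => b (i + 1)) hb'
    exact lt_of_le_of_lt this.1 this.2
  have hc := hjND_coprime l b
  have := Rat.div_int_inj (a := (n : ℤ)) (b := (r : ℤ)) (c := (hjND l b).1) (d := (hjND l b).2)
    (by exact_mod_cast hr) hD (by simpa using hcop.symm) (Int.isCoprime_iff_gcd_eq_one.1 hc) (by rw [Int.cast_natCast, Int.cast_natCast]; exact hhj)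
  exact this.1

end Groth.Agent.H74
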