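import Groth.Prelude.Def_HilbD
import Mathlib.AlgebraicGeometry.Morphisms.ClosedImmersion
import Mathlib.AlgebraicGeometry.Morphisms.Separated
import Mathlib.AlgebraicGeometry.Morphisms.FlatRank

/-!
# The Hilbert functor of one point (helper library, helper74)

Graphs of sections, their base change, and the identification `Hilb^1_{X/S} = X`.
-/

set_option autoImplicit false

universe u

open CategoryTheory CategoryTheory.Limits AlgebraicGeometry

namespace Groth.Agent.H74.HilbOne

variable {X S : Scheme.{u}} (f : X ⟶ S)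

/-- The graph section `(x, id) : T ⟶ X_T`. -/
noncomputable def graph (T : Over S) (x : T.left ⟶ X) (hx : x ≫ f = T.hom) :
    T.left ⟶ PicF.XT f T :=
  pullback.lift x (𝟙 T.left) (by simpa using hx)

@[reassoc (attr := simp)]
theorem graph_fst (T : Over S) (x : T.left ⟶ X) (hx : x ≫ f = T.hom) :
    graph f T x hx ≫ pullback.fst f T.hom = x := pullback.lift_fst _ _ _

@[reassoc (attr := simp)]
theorem graph_snd (T : Over S) (x : T.left ⟶ X) (hx : x ≫ f = T.hom) :
    graph f T x hx ≫ pullback.snd f T.hom = 𝟙 _ := pullback.lift_snd _ _ _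

theorem secGraph_eq (T : Over S) (x : T.left ⟶ X) (hx : x ≫ f = T.hom) :
    HilbD.secGraph f T x hx = (graph f T x hx).ker := rfl

instance isClosedImmersion_graph [IsSeparated f] (T : Over S) (x : T.left ⟶ X)
    (hx : x ≫ f = T.hom) : IsClosedImmersion (graph f T x hx) := by
  have : IsClosedImmersion (graph f T x hx ≫ pullback.snd f T.hom) := by
    rw [graph_snd]; infer_instance
  exact IsClosedImmersion.of_comp (graph f T x hx) (pullback.snd f T.hom)

@[reassoc]
theorem XTmap_fst {T T' : Over S} (g : T' ⟶ T) :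
    PicF.XTmap f g ≫ pullback.fst f T.hom = pullback.fst f T'.hom := by
  unfold PicF.XTmap
  erw [pullback.lift_fst]
  simp

@[reassoc]
theorem XTmap_snd {T T' : Over S} (g : T' ⟶ T) :
    PicF.XTmap f g ≫ pullback.snd f T.hom = pullback.snd f T'.hom ≫ g.left := by
  unfold PicF.XTmap
  erw [pullback.lift_snd]

/-- The graph of `x : T ⟶ X` is the base change of the diagonal. -/
theorem isPullback_graph (T : Over S) (x : T.left ⟶ X) (hx : x ≫ f = T.hom) :
    IsPullback (graph f T x hx) x (PicF.XTmap f (Over.homMk x hx : T ⟶ Over.mk f))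
      (graph f (Over.mk f) (𝟙 X) (Category.id_comp f)) := by
  have w : graph f T x hx ≫ PicF.XTmap f (Over.homMk x hx : T ⟶ Over.mk f) =
      x ≫ graph f (Over.mk f) (𝟙 X) (Category.id_comp f) := by
    apply pullback.hom_ext
    · rw [Category.assoc, XTmap_fst, graph_fst, Category.assoc]
      erw [graph_fst]
      simp
    · rw [Category.assoc, XTmap_snd, graph_snd_assoc, Category.assoc]
      erw [graph_snd]
      simp
  refine ⟨⟨w⟩, ⟨PullbackCone.IsLimit.mk w (fun s => s.fst ≫ pullback.snd f T.hom) ?_ ?_ ?_⟩⟩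
  · intro s
    have h1 := congrArg (· ≫ pullback.fst f f) s.condition
    have h2 := congrArg (· ≫ pullback.snd f f) s.condition
    simp only [Category.assoc] at h1 h2
    erw [XTmap_fst, graph_fst] at h1
    erw [XTmap_snd, graph_snd] at h2
    simp only [Category.comp_id] at h1 h2
    apply pullback.hom_ext
    · simp only [Category.assoc, graph_fst]
      rw [h1]
      exact h2
    · simp
  · intro s
    have h2 := congrArg (· ≫ pullback.snd f f) s.condition
    simp only [Category.assoc] at h2
    erw [XTmap_snd, graph_snd] at h2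
    simpa using h2
  · intro s m hm _
    rw [← hm]
    simp

/-- Base change of the diagonal along `x : T ⟶ X` is the graph of `x`. -/
theorem pull_secGraph [IsSeparated f] (T : Over S) (x : T.left ⟶ X) (hx : x ≫ f = T.hom) :
    HilbD.pull f (Over.homMk x hx : T ⟶ Over.mk f)
      (HilbD.secGraph f (Over.mk f) (𝟙 X) (Category.id_comp f)) = HilbD.secGraph f T x hx := by
  set γ := graph f (Over.mk f) (𝟙 X) (Category.id_comp f) with hγ
  have h := isPullback_graph f T x hx
  rw [← hγ] at h
  have h' : IsPullback (x ≫ γ.toImage) (graph f T x hx) γ.ker.subschemeι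
      (PicF.XTmap f (Over.homMk x hx : T ⟶ Over.mk f)) := by
    refine (IsPullback.of_iso h (Iso.refl _) (Iso.refl _) (asIso γ.toImage) (Iso.refl _)
      (by simp) (by simp) (by simp) ?_).flip
    simp only [asIso_hom, Iso.refl_hom, Category.comp_id]
    exact γ.toImage_imageι.symm
  rw [secGraph_eq, HilbD.pull, secGraph_eq, ← hγ]
  have e : pullback.snd γ.ker.subschemeι (PicF.XTmap f (Over.homMk x hx : T ⟶ Over.mk f)) =
      h'.isoPullback.inv ≫ graph f T x hx := by
    rw [Iso.eq_inv_comp]; exact h'.isoPullback_hom_snd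
  rw [e, Scheme.Hom.ker_comp_of_isIso]

/-- An isomorphism is finite locally free of degree one. -/
theorem isFinLocFreeOfDeg_one_of_isIso {Y Z : Scheme.{u}} (m : Y ⟶ Z) [IsIso m] :
    Mor2.IsFinLocFreeOfDeg 1 m :=
  ⟨⟨inferInstance, inferInstance, inferInstance⟩, fun y => by
    rw [Scheme.Hom.finrank_eq_one_of_isIso]; rfl⟩

/-- A finite locally free morphism of degree one is an isomorphism. -/
theorem isIso_of_isFinLocFreeOfDeg_one {Y Z : Scheme.{u}} (m : Y ⟶ Z)
    (h : Mor2.IsFinLocFreeOfDeg 1 m) : IsIso m := by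
  obtain ⟨⟨h1, h2, h3⟩, h4⟩ := h
  exact (Scheme.Hom.isIso_iff_finrank_eq m).mpr (funext h4)

theorem diag_isFinLocFreeOfDeg [IsSeparated f] :
    Mor2.IsFinLocFreeOfDeg 1
      ((HilbD.secGraph f (Over.mk f) (𝟙 X) (Category.id_comp f)).subschemeι ≫
        PicF.XTproj f (Over.mk f)) := by
  rw [secGraph_eq]
  set γ := graph f (Over.mk f) (𝟙 X) (Category.id_comp f) with hγ
  have h1 : γ.ker.subschemeι = inv γ.toImage ≫ γ := by
    rw [IsIso.eq_inv_comp]; exact γ.toImage_imageι
  have h2 : γ.ker.subschemeι ≫ PicF.XTproj f (Over.mk f) = inv γ.toImage := by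
    rw [h1, Category.assoc]
    erw [graph_snd]
    simp
  rw [h2]
  exact isFinLocFreeOfDeg_one_of_isIso _

/-- The diagonal, as an object of `Hilb^1_{X/S}(X)`. -/
noncomputable def diagObj [IsSeparated f] : HilbD.Obj f 1 (Over.mk f) :=
  ⟨HilbD.secGraph f (Over.mk f) (𝟙 X) (Category.id_comp f), diag_isFinLocFreeOfDeg f⟩

theorem isUniversal_diagObj [IsSeparated f] : HilbD.IsUniversal f 1 (Over.mk f) (diagObj f) := by
  intro T Z'
  obtain ⟨I, hI⟩ := Z'
  have hm : IsIso (I.subschemeι ≫ PicF.XTproj f T) := isIso_of_isFinLocFreeOfDeg_one _ hI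
  set m := I.subschemeι ≫ PicF.XTproj f T with hmdef
  set σ : T.left ⟶ PicF.XT f T := inv m ≫ I.subschemeι with hσ
  set x : T.left ⟶ X := σ ≫ pullback.fst f T.hom with hxdef
  have hσsnd : σ ≫ pullback.snd f T.hom = 𝟙 _ := by
    rw [hσ, Category.assoc]
    exact IsIso.inv_hom_id m
  have hx : x ≫ f = T.hom := by
    rw [hxdef, Category.assoc, pullback.condition, ← Category.assoc, hσsnd, Category.id_comp]
  have hσg : σ = graph f T x hx := by
    apply pullback.hom_ext
    · rw [graph_fst]
    · rw [graph_snd, hσsnd]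
  have hker : HilbD.secGraph f T x hx = I := by
    rw [secGraph_eq, ← hσg, hσ, Scheme.Hom.ker_comp_of_isIso, Scheme.IdealSheafData.ker_subschemeι]
  refine ⟨Over.homMk x hx, ?_, ?_⟩
  · change HilbD.pull f (Over.homMk x hx : T ⟶ Over.mk f)
      (HilbD.secGraph f (Over.mk f) (𝟙 X) (Category.id_comp f)) = I
    rw [pull_secGraph, hker]
  · intro g' hg'
    change HilbD.pull f g' (HilbD.secGraph f (Over.mk f) (𝟙 X) (Category.id_comp f)) = I at hg'
    have hx' : g'.left ≫ f = T.hom := Over.w g'
    have hg'eq : g' = Over.homMk g'.left hx' := by ext; rfl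
    rw [hg'eq, pull_secGraph, ← hker, secGraph_eq, secGraph_eq] at hg'
    have hl := IsClosedImmersion.lift_fac (graph f T x hx) (graph f T g'.left hx') hg'.ge
    have hl1 : IsClosedImmersion.lift (graph f T x hx) (graph f T g'.left hx') hg'.ge = 𝟙 _ := by
      calc IsClosedImmersion.lift (graph f T x hx) (graph f T g'.left hx') hg'.ge
          = IsClosedImmersion.lift (graph f T x hx) (graph f T g'.left hx') hg'.ge ≫
              (graph f T x hx ≫ pullback.snd f T.hom) := by rw [graph_snd, Category.comp_id]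
        _ = graph f T g'.left hx' ≫ pullback.snd f T.hom := by rw [← Category.assoc, hl]
        _ = 𝟙 _ := graph_snd _ _ _ _
    rw [hl1, Category.id_comp] at hl
    have := congrArg (· ≫ pullback.fst f T.hom) hl
    simp only [graph_fst] at this
    ext
    exact this.symm

end Groth.Agent.H74.HilbOne
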