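import Mathlib
import Groth.Agent.H74.Coalg
import Groth.Agent.H74.HopfTrace

/-!
# Finite commutative Hopf algebras in characteristic zero are cosemisimple

The trace `Tr : A → K` is an integral; the form `(a, b) ↦ Tr (a * S b)` is symmetric and its
orthogonal complements of subcoalgebras are subcoalgebras.  In characteristic zero
a subcoalgebra meets its orthogonal trivially, so subcoalgebras are complemented and `A`
is the direct sum of simple subcoalgebras.
-/

namespace Groth.Agent.H74.HopfTrace

open TensorProduct Coalgebra Bialgebra HopfAlgebra Groth.Agent.H74.Coalg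

universe u v
variable {K : Type u} {A : Type v} [Field K] [CommRing A] [HopfAlgebra K A] [Module.Finite K A]

lemma lift_Bf_comul (e : A) :
    TensorProduct.lift (Bf (K := K) (A := A)) (comul e) =
      (Module.finrank K A : K) * counit (R := K) e := by
  have h : TensorProduct.lift (Bf (K := K) (A := A)) =
      Algebra.trace K A ∘ₗ LinearMap.mul' K A ∘ₗ LinearMap.lTensor A (antipode K) := by
    ext x y
    simp [Bf_apply]
  rw [h]
  simp only [LinearMap.comp_apply]
  rw [mul_antipode_lTensor_comul_apply, Algebra.trace_algebraMap]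
  simp [nsmul_eq_mul]

variable [CharZero K]

lemma disjoint_orthogonal {D : Submodule K A} (hD : IsStable D) :
    Disjoint D ((Bf (K := K) (A := A)).orthogonal D) := by
  rw [disjoint_iff, eq_bot_iff]
  have hE : IsStable (D ⊓ (Bf (K := K) (A := A)).orthogonal D) :=
    hD.inf (isStable_orthogonal hD)
  have hEc := hE.isSubcoalg
  have hε : ∀ e ∈ D ⊓ (Bf (K := K) (A := A)).orthogonal D, counit (R := K) e = 0 := by
    intro e he
    obtain ⟨t, ht⟩ := hEc e he
    have h1 := lift_Bf_comul (K := K) e
    have h2 : TensorProduct.lift (Bf (K := K) (A := A)) ∘ₗ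
        TensorProduct.map (D ⊓ (Bf (K := K) (A := A)).orthogonal D).subtype
          (D ⊓ (Bf (K := K) (A := A)).orthogonal D).subtype = 0 := by
      ext x y
      have : Bf (K := K) (A := A) x.1 y.1 = 0 := y.2.2 x.1 x.2.1
      simpa using this
    have h3 := LinearMap.congr_fun h2 t
    rw [LinearMap.comp_apply, ht, h1] at h3
    simp only [LinearMap.zero_apply, mul_eq_zero, Nat.cast_eq_zero] at h3
    rcases h3 with h3 | h3
    · have : Subsingleton A := (Module.finrank_zero_iff (R := K)).1 h3
      rw [Subsingleton.elim e 0, map_zero]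
    · exact h3
  intro b hb
  exact (Submodule.mem_bot _).2 (hEc.eq_zero_of_counit_eq_zero hε hb)

lemma isCompl_orthogonal {D : Submodule K A} (hD : IsStable D) :
    IsCompl D ((Bf (K := K) (A := A)).orthogonal D) :=
  LinearMap.BilinForm.isCompl_orthogonal_of_restrict_nondegenerate Bf_isRefl
    ((Bf (K := K) (A := A)).nondegenerate_restrict_of_disjoint_orthogonal Bf_isRefl
      (disjoint_orthogonal hD))

/-- simple subcoalgebra, in the form used by the frozen statements -/
def IsSimpleSubcoalg (D : Submodule K A) : Prop :=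
  D ≠ ⊥ ∧ IsSubcoalg D ∧ ∀ B : Submodule K A, B ≤ D → IsSubcoalg B → B = ⊥ ∨ B = D

theorem exists_decomp (n : ℕ) : ∀ E : Submodule K A, IsStable E → Module.finrank K E = n →
    ∃ s : Finset (Submodule K A), s.SupIndep id ∧ s.sup id = E ∧ ∀ D ∈ s, IsSimpleSubcoalg D := by
  classical
  induction n using Nat.strong_induction_on with
  | _ n ih =>
    intro E hE hn
    by_cases hE0 : E = ⊥
    · exact ⟨∅, Finset.supIndep_empty _, by simp [hE0], by simp⟩
    · -- minimal nonzero stable subspace of `E`
      let P : Set (Submodule K A) := {D | D ≠ ⊥ ∧ IsStable D ∧ D ≤ E}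
      have hPne : P.Nonempty := ⟨E, hE0, hE, le_rfl⟩
      obtain ⟨D, ⟨hD0, hDs, hDE⟩, hDmin⟩ :=
        (wellFounded_lt (α := Submodule K A)).has_min P hPne
      have hDsimple : IsSimpleSubcoalg D := by
        refine ⟨hD0, hDs.isSubcoalg, ?_⟩
        intro B hBD hB
        by_cases hB0 : B = ⊥
        · exact Or.inl hB0
        · right
          have : ¬ B < D := hDmin B ⟨hB0, hB.isStable, hBD.trans hDE⟩
          exact (lt_or_eq_of_le hBD).resolve_left this
      set E' := (Bf (K := K) (A := A)).orthogonal D ⊓ E with hE'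
      have hE's : IsStable E' := (isStable_orthogonal hDs).inf hE
      have hcompl := isCompl_orthogonal hDs
      have hsup : D ⊔ E' = E := by
        rw [hE', ← sup_inf_assoc_of_le _ hDE, hcompl.sup_eq_top, top_inf_eq]
      have hinf : D ⊓ E' = ⊥ := by
        rw [eq_bot_iff, ← hcompl.inf_eq_bot]
        exact inf_le_inf_left _ inf_le_left
      have hrank := Submodule.finrank_sup_add_finrank_inf_eq D E'
      rw [hsup, hinf, finrank_bot, add_zero, hn] at hrank
      have hDpos : 0 < Module.finrank K D := by
        rw [Module.finrank_pos_iff (R := K)]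
        exact (Submodule.nontrivial_iff_ne_bot).2 hD0
      obtain ⟨s', hs'ind, hs'sup, hs'simple⟩ := ih (Module.finrank K E') (by omega) E' hE's rfl
      refine ⟨insert D s', ?_, ?_, ?_⟩
      · apply Finset.SupIndep.insert hs'ind
        rw [hs'sup]
        exact disjoint_iff.2 hinf
      · rw [Finset.sup_insert, hs'sup]
        exact hsup
      · intro D' hD'
        rcases Finset.mem_insert.1 hD' with rfl | h
        · exact hDsimple
        · exact hs'simple D' h

theorem cosemisimple :
    ∃ (ι : Type v) (D : ι → Submodule K A), iSupIndep D ∧ iSup D = ⊤ ∧ ∀ i,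
      D i ≠ ⊥ ∧ (∀ b ∈ (D i), comul (R := K) b ∈
        LinearMap.range (TensorProduct.map (D i).subtype (D i).subtype)) ∧
      ∀ B : Submodule K A, B ≤ D i → (∀ b ∈ B, comul (R := K) b ∈
        LinearMap.range (TensorProduct.map B.subtype B.subtype)) → B = ⊥ ∨ B = D i := by
  obtain ⟨s, hind, hsup, hsimple⟩ :=
    exists_decomp (K := K) (A := A) _ ⊤ isStable_top rfl
  refine ⟨{x // x ∈ s}, fun i => i.1, ?_, ?_, ?_⟩
  · exact Finset.SupIndep.independent hind
  · rw [← hsup, Finset.sup_eq_iSup, iSup_subtype]
    rfl
  · intro i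
    exact hsimple i.1 i.2

end Groth.Agent.H74.HopfTrace
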