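import Groth.Prelude.Def_W4c2conddiscmodels
import Mathlib

/-!
# Incidence matrices of multigraphs: connectedness, forests, and unimodularity (helper74)
-/

open Finset Matrix

namespace Groth.Agent.H74.Incidence

universe u
variable {V E : Type u} [Fintype V] [Fintype E] [DecidableEq V] [DecidableEq E]

open LabGraph DualGr

/-- The full incidence matrix (head minus tail). -/
def inc (ends : E → V × V) : Matrix V E ℤ := fun v e =>
  (if (ends e).2 = v then 1 else 0) - (if (ends e).1 = v then 1 else 0)

/-- The incidence matrix with the row of `v₀` removed. -/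
def incR (ends : E → V × V) (v₀ : V) : Matrix {v // v ≠ v₀} E ℤ :=
  (inc ends).submatrix Subtype.val id

omit [Fintype V] in
theorem inc_mulVec_single (ends : E → V × V) (e : E) :
    (inc ends) *ᵥ (Pi.single e 1) = Pi.single (ends e).2 1 - Pi.single (ends e).1 1 := by
  rw [Matrix.mulVec_single_one]
  funext v
  simp only [Matrix.col_apply, inc, Pi.sub_apply, Pi.single_apply]
  simp only [eq_comm]

omit [Fintype V] in
/-- Differences of basis vectors at connected vertices are boundaries. -/
theorem single_sub_single_mem (ends : E → V × V) (u v : V)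
    (h : Relation.ReflTransGen (Adj ends) u v) :
    (Pi.single u 1 - Pi.single v 1 : V → ℤ) ∈ LinearMap.range (Matrix.mulVecLin (inc ends)) := by
  induction h with
  | refl => simp
  | @tail b c _ hbc ih =>
    have hstep : (Pi.single b 1 - Pi.single c 1 : V → ℤ) ∈
        LinearMap.range (Matrix.mulVecLin (inc ends)) := by
      obtain ⟨e, he | he⟩ := hbc
      · refine ⟨-Pi.single e 1, ?_⟩
        rw [map_neg, Matrix.mulVecLin_apply, inc_mulVec_single, he]
        simp
      · refine ⟨Pi.single e 1, ?_⟩
        rw [Matrix.mulVecLin_apply, inc_mulVec_single, he]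
    have := Submodule.add_mem _ ih hstep
    simpa using this

/-- In a connected graph the reduced incidence matrix is surjective. -/
theorem incR_surjective (ends : E → V × V) (hG : Connected ends) (v₀ : V) :
    Function.Surjective (incR ends v₀).mulVec := by
  intro y
  have hmem : (∑ u : {v // v ≠ v₀}, y u • (Pi.single u.1 1 - Pi.single v₀ 1 : V → ℤ)) ∈
      LinearMap.range (Matrix.mulVecLin (inc ends)) :=
    Submodule.sum_mem _ fun u _ => Submodule.smul_mem _ _
      (single_sub_single_mem ends u.1 v₀ (hG.2 _ _))
  obtain ⟨γ, hγ⟩ := hmem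
  refine ⟨γ, ?_⟩
  funext u'
  have : (incR ends v₀ *ᵥ γ) u' = (inc ends *ᵥ γ) u'.1 := rfl
  rw [this, ← Matrix.mulVecLin_apply, hγ, Finset.sum_apply]
  simp only [Pi.smul_apply, Pi.sub_apply, Pi.single_apply, smul_eq_mul]
  rw [Finset.sum_eq_single u']
  · simp [u'.2]
  · intro b _ hb
    have h1 : ¬ (u'.1 = b.1) := fun h => hb (Subtype.ext h.symm)
    simp [h1, u'.2]
  · intro h; exact absurd (Finset.mem_univ _) h


omit [Fintype V] [Fintype E] [DecidableEq V] [DecidableEq E] in
theorem adj_symm (ends : E → V × V) {u v : V} (h : Adj ends u v) : Adj ends v u := by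
  obtain ⟨e, h⟩ := h
  exact ⟨e, h.symm⟩

omit [Fintype V] [Fintype E] [DecidableEq V] [DecidableEq E] in
theorem reach_symm (ends : E → V × V) {a b : V} (h : Relation.ReflTransGen (Adj ends) a b) :
    Relation.ReflTransGen (Adj ends) b a := by
  induction h with
  | refl => exact Relation.ReflTransGen.refl
  | tail _ hbc ih => exact Relation.ReflTransGen.head (adj_symm ends hbc) ih

omit [DecidableEq E] in
omit [Fintype E] in
/-- In a disconnected graph the rows of the reduced incidence matrix are dependent. -/
theorem exists_vecMul_incR_eq_zero (ends : E → V × V) (hG : ¬ Connected ends) (v₀ : V) :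
    ∃ c : {v // v ≠ v₀} → ℤ, c ≠ 0 ∧ c ᵥ* incR ends v₀ = 0 := by
  classical
  -- a vertex not reachable from `v₀`
  obtain ⟨x, hx⟩ : ∃ x, ¬ Relation.ReflTransGen (Adj ends) v₀ x := by
    by_contra hcon
    simp only [not_exists, not_not] at hcon
    exact hG ⟨⟨v₀⟩, fun v w => (reach_symm ends (hcon v)).trans (hcon w)⟩
  have hxv : x ≠ v₀ := by
    rintro rfl
    exact hx Relation.ReflTransGen.refl
  refine ⟨fun u => if Relation.ReflTransGen (Adj ends) v₀ u.1 then 0 else 1, ?_, ?_⟩
  · intro h
    have := congrFun h ⟨x, hxv⟩
    simp [hx] at this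
  · funext e
    simp only [Matrix.vecMul, dotProduct, incR, submatrix_apply, id_eq, Pi.zero_apply]
    have hsub : ∑ u : {v // v ≠ v₀},
        (if Relation.ReflTransGen (Adj ends) v₀ u.1 then (0 : ℤ) else 1) * inc ends u.1 e =
        ∑ u : V, (if Relation.ReflTransGen (Adj ends) v₀ u then (0 : ℤ) else 1) * inc ends u e := by
      rw [← Finset.sum_subtype (Finset.univ.filter (fun v : V => v ≠ v₀)) (by simp)
        (fun u => (if Relation.ReflTransGen (Adj ends) v₀ u then (0 : ℤ) else 1) * inc ends u e)]
      rw [Finset.sum_filter]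
      refine Finset.sum_congr rfl fun u _ => ?_
      by_cases hu : u = v₀
      · subst hu
        simp [Relation.ReflTransGen.refl]
      · simp [hu]
    rw [hsub]
    have hiff : Relation.ReflTransGen (Adj ends) v₀ (ends e).1 ↔
        Relation.ReflTransGen (Adj ends) v₀ (ends e).2 := by
      constructor
      · intro h; exact h.tail ⟨e, Or.inl rfl⟩
      · intro h; exact h.tail ⟨e, Or.inr rfl⟩
    simp only [inc, mul_sub, Finset.sum_sub_distrib, mul_ite, mul_one, mul_zero,
      Finset.sum_ite_eq, Finset.mem_univ, if_true]
    by_cases h1 : Relation.ReflTransGen (Adj ends) v₀ (ends e).1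
    · simp [h1, hiff.mp h1]
    · have h2 : ¬ Relation.ReflTransGen (Adj ends) v₀ (ends e).2 := fun h => h1 (hiff.mpr h)
      simp [h1, h2]


omit [Fintype V] [Fintype E] [DecidableEq E] in
/-- mod 2, the column sum of the incidence matrix over `C` is the end count. -/
theorem sum_inc_cast (ends : E → V × V) (C : Finset E) (u : V) :
    ∑ e ∈ C, ((inc ends u e : ℤ) : ZMod 2) = ((endCount ends C u : ℕ) : ZMod 2) := by
  simp only [endCount, inc, Nat.cast_sum, Nat.cast_add, Nat.cast_ite, Nat.cast_one, Nat.cast_zero,
    Int.cast_sub, Int.cast_ite, Int.cast_one, Int.cast_zero]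
  refine Finset.sum_congr rfl fun e _ => ?_
  rw [CharTwo.sub_eq_add, add_comm]

omit [Fintype E] [DecidableEq E] in
theorem sum_endCount (ends : E → V × V) (C : Finset E) :
    ∑ u : V, endCount ends C u = 2 * C.card := by
  simp only [endCount]
  rw [Finset.sum_comm]
  simp only [Finset.sum_add_distrib, Finset.sum_ite_eq, Finset.mem_univ, if_true]
  simp [two_mul]

omit [Fintype V] [Fintype E] [DecidableEq E] in
/-- A nonempty edge set with all end counts even contains a circuit. -/
theorem exists_circuit_of_even (ends : E → V × V) (C : Finset E) (hne : C.Nonempty)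
    (heven : ∀ v, Even (endCount ends C v)) : ∃ C', IsCircuit ends C' := by
  classical
  let PP := C.powerset.filter (fun C' => C'.Nonempty ∧ ∀ v, Even (endCount ends C' v))
  have hC : C ∈ PP := by
    simp only [PP, Finset.mem_filter, Finset.mem_powerset]
    exact ⟨subset_rfl, hne, heven⟩
  obtain ⟨C', hC', hmin⟩ := Finset.exists_min_image PP Finset.card ⟨C, hC⟩
  simp only [PP, Finset.mem_filter, Finset.mem_powerset] at hC'
  refine ⟨C', hC'.2.1, hC'.2.2, ?_⟩
  intro C'' hss hne''
  by_contra hcon
  simp only [not_exists, not_not] at hcon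
  have hmem : C'' ∈ PP := by
    simp only [PP, Finset.mem_filter, Finset.mem_powerset]
    exact ⟨hss.subset.trans hC'.1, hne'', hcon⟩
  have := hmin C'' hmem
  exact absurd (Finset.card_lt_card hss) (not_lt.mpr this)

/-- A graph with a circuit has a mod-2 kernel vector for the reduced incidence matrix. -/
theorem exists_mulVec_incR_cast_eq_zero (ends : E → V × V) (hF : ¬ IsForest ends) (v₀ : V) :
    ∃ x : E → ZMod 2, x ≠ 0 ∧ ((incR ends v₀).map (Int.cast : ℤ → ZMod 2)) *ᵥ x = 0 := by
  classical
  simp only [IsForest, not_forall, not_not] at hF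
  obtain ⟨C, hne, heven, _⟩ := hF
  refine ⟨fun e => if e ∈ C then 1 else 0, ?_, ?_⟩
  · obtain ⟨e, he⟩ := hne
    intro h
    have := congrFun h e
    simp [he] at this
  · funext u
    simp only [Matrix.mulVec, dotProduct, Matrix.map_apply, incR, submatrix_apply, id_eq,
      mul_ite, mul_one, mul_zero, Pi.zero_apply]
    rw [Finset.sum_ite_mem, Finset.univ_inter, sum_inc_cast]
    exact (ZMod.natCast_eq_zero_iff _ 2).mpr (heven u.1).two_dvd

/-- Conversely a mod-2 kernel vector of the reduced incidence matrix yields a circuit. -/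
theorem not_isForest_of_mulVec_incR_cast_eq_zero (ends : E → V × V) (v₀ : V)
    (x : E → ZMod 2) (hx : x ≠ 0)
    (hx0 : ((incR ends v₀).map (Int.cast : ℤ → ZMod 2)) *ᵥ x = 0) : ¬ IsForest ends := by
  classical
  set C := Finset.univ.filter (fun e => x e ≠ 0) with hCdef
  have hx01 : ∀ e, x e = if e ∈ C then 1 else 0 := by
    intro e
    by_cases h : x e = 0
    · simp [hCdef, h]
    · have h1 : x e = 1 := by
        have : ∀ a : ZMod 2, a ≠ 0 → a = 1 := by decide
        exact this _ h
      simp [hCdef, h1]
  have hne : C.Nonempty := by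
    by_contra hcon
    rw [Finset.not_nonempty_iff_eq_empty] at hcon
    apply hx
    funext e
    rw [hx01 e, hcon]
    simp
  have heven' : ∀ u : V, u ≠ v₀ → Even (endCount ends C u) := by
    intro u hu
    have := congrFun hx0 ⟨u, hu⟩
    simp only [Matrix.mulVec, dotProduct, Matrix.map_apply, incR, submatrix_apply, id_eq,
      Pi.zero_apply] at this
    simp_rw [hx01] at this
    simp only [mul_ite, mul_one, mul_zero] at this
    rw [Finset.sum_ite_mem, Finset.univ_inter, sum_inc_cast] at this
    exact even_iff_two_dvd.mpr ((ZMod.natCast_eq_zero_iff _ 2).mp this)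
  have heven : ∀ u : V, Even (endCount ends C u) := by
    intro u
    by_cases hu : u = v₀
    · subst hu
      have hsum := sum_endCount ends C
      rw [← Finset.add_sum_erase _ _ (Finset.mem_univ u)] at hsum
      have h2 : Even (∑ v ∈ Finset.univ.erase u, endCount ends C v) :=
        Finset.even_sum _ fun v hv => heven' v (Finset.ne_of_mem_erase hv)
      have h3 : Even (2 * C.card) := even_two_mul _
      rw [← hsum] at h3
      exact (Nat.even_add.mp h3).mpr h2
    · exact heven' u hu
  obtain ⟨C', hC'⟩ := exists_circuit_of_even ends C hne heven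
  exact fun hF => hF C' hC'


/-- A tree has one edge less than vertices. -/
theorem card_edges_of_isTree (ends : E → V × V) (hT : IsTree ends) (v₀ : V) :
    Fintype.card E = Fintype.card {v // v ≠ v₀} := by
  classical
  apply le_antisymm
  · let F : (E → ZMod 2) →ₗ[ZMod 2] ({v // v ≠ v₀} → ZMod 2) :=
      Matrix.mulVecLin ((incR ends v₀).map (Int.cast : ℤ → ZMod 2))
    have hinj : Function.Injective F := by
      rw [injective_iff_map_eq_zero]
      intro x hx
      by_contra hne
      exact not_isForest_of_mulVec_incR_cast_eq_zero ends v₀ x hne hx hT.2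
    exact card_le_of_injective (ZMod 2) F hinj
  · exact card_le_of_surjective ℤ (Matrix.mulVecLin (incR ends v₀))
      (incR_surjective ends hT.1 v₀)

/-- Unimodularity: for a bijection `g` between the non-root vertices and the edges, the square of
the determinant of the reduced incidence matrix is `1` for a tree and `0` otherwise. -/
theorem det_incR_sq (ends : E → V × V) (v₀ : V) (g : {v // v ≠ v₀} ≃ E) [Decidable (IsTree ends)] :
    (((incR ends v₀).submatrix id g).det) ^ 2 = if IsTree ends then 1 else 0 := by
  classical
  have hsurj_unit : Connected ends → IsUnit ((incR ends v₀).submatrix id g).det := by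
    intro hG
    rw [← Matrix.isUnit_iff_isUnit_det, ← Matrix.mulVec_surjective_iff_isUnit]
    intro y
    obtain ⟨γ, hγ⟩ := incR_surjective ends hG v₀ y
    refine ⟨γ ∘ g, ?_⟩
    rw [← hγ]
    funext u
    simp only [Matrix.mulVec, dotProduct, submatrix_apply, id_eq, Function.comp_apply]
    exact Equiv.sum_comp g (fun e => incR ends v₀ u e * γ e)
  by_cases hT : IsTree ends
  · rw [if_pos hT]
    rcases Int.isUnit_iff.mp (hsurj_unit hT.1) with h | h <;> rw [h] <;> norm_num
  · rw [if_neg hT]
    by_cases hG : Connected ends
    · exfalso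
      have hF : ¬ IsForest ends := fun hF => hT ⟨hG, hF⟩
      obtain ⟨x, hx, hx0⟩ := exists_mulVec_incR_cast_eq_zero ends hF v₀
      have hdet0 : ((((incR ends v₀).submatrix id g).map (Int.cast : ℤ → ZMod 2))).det = 0 := by
        rw [← Matrix.exists_mulVec_eq_zero_iff]
        refine ⟨x ∘ g, ?_, ?_⟩
        · intro h
          apply hx
          funext e
          have := congrFun h (g.symm e)
          simpa using this
        · funext u
          have := congrFun hx0 u
          simp only [Matrix.mulVec, dotProduct, Matrix.map_apply, submatrix_apply, id_eq,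
            Function.comp_apply, Pi.zero_apply] at this ⊢
          rw [← this]
          exact Equiv.sum_comp g (fun e => ((incR ends v₀ u e : ℤ) : ZMod 2) * x e)
      have hmap : ((((incR ends v₀).submatrix id g).map (Int.cast : ℤ → ZMod 2))).det =
          ((((incR ends v₀).submatrix id g).det : ℤ) : ZMod 2) := by
        have := (RingHom.map_det (Int.castRingHom (ZMod 2)) ((incR ends v₀).submatrix id g)).symm
        simpa using this
      rw [hmap] at hdet0
      rcases Int.isUnit_iff.mp (hsurj_unit hG) with h | h <;> rw [h] at hdet0 <;>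
        revert hdet0 <;> decide
    · obtain ⟨c, hc, hc0⟩ := exists_vecMul_incR_eq_zero ends hG v₀
      have : ((incR ends v₀).submatrix id g).det = 0 := by
        rw [← Matrix.exists_vecMul_eq_zero_iff]
        refine ⟨c, hc, ?_⟩
        funext u
        have := congrFun hc0 (g u)
        simpa [Matrix.vecMul, dotProduct] using this
      rw [this]; norm_num

end Groth.Agent.H74.Incidence
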