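import Groth.Agent.H74.LabCtr

/-!
# Connecting chains in a multigraph with multiplicity function (helper74)
-/

open Finset

namespace Groth.Agent.H74.LabChain

universe u
variable {V E : Type u} [Fintype V] [Fintype E] [DecidableEq V] [DecidableEq E]

open LabGraph DualGr Groth.Agent.H74.LabFlux Groth.Agent.H74.LabCtr

variable (ends : E → V × V) {m : ℕ} (f : Fin (m + 1) → V) (e : Fin m → E)

omit [Fintype E] [DecidableEq E] in
/-- A normalised cut for the connecting edge `e i`. -/
theorem exists_cut (hC : IsChain ends f e) (i : Fin m) (hconn : IsConnecting ends (e i)) :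
    ∃ B : Finset V, f i.succ ∈ B ∧ f i.castSucc ∉ B ∧
      ∀ e' : E, ((ends e').1 ∈ B ↔ (ends e').2 ∉ B) ↔ e' = e i := by
  classical
  obtain ⟨S, hS⟩ := hconn
  have hcross := (hS (e i)).mpr rfl
  have hcross' : f i.castSucc ∈ S ↔ f i.succ ∉ S := by
    rcases hC.2.2 i with h | h
    · rw [h] at hcross; exact hcross
    · rw [h] at hcross; simp only at hcross; tauto
  by_cases h : f i.succ ∈ S
  · exact ⟨S, h, by tauto, hS⟩
  · refine ⟨Sᶜ, by simpa using h, by simp only [Finset.mem_compl]; tauto, ?_⟩
    intro e'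
    rw [← hS e']
    simp only [Finset.mem_compl]
    tauto

omit [Fintype V] [Fintype E] [DecidableEq E] in
theorem mem_cut_iff (hC : IsChain ends f e) (i : Fin m) (B : Finset V) (h1 : f i.succ ∈ B)
    (h2 : f i.castSucc ∉ B)
    (hB : ∀ e' : E, ((ends e').1 ∈ B ↔ (ends e').2 ∉ B) ↔ e' = e i) (j : Fin (m + 1)) :
    f j ∈ B ↔ i.castSucc < j := by
  have hstep : ∀ k : Fin m, k ≠ i → (f k.castSucc ∈ B ↔ f k.succ ∈ B) := by
    intro k hk
    have hne : e k ≠ e i := fun h => hk (hC.2.1 h)
    have := (hB (e k)).not.mpr hne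
    rcases hC.2.2 k with h | h
    · rw [h] at this; simp only at this; tauto
    · rw [h] at this; simp only at this; tauto
  have up : ∀ j : Fin (m + 1), i.castSucc < j → f j ∈ B := by
    intro j
    induction j using Fin.induction with
    | zero => intro h; exact absurd h (Fin.not_lt_zero _)
    | succ k ih =>
      intro h
      by_cases hk : k = i
      · subst hk; exact h1
      · have hlt : i.castSucc < k.castSucc := by
          have hk' : k.val ≠ i.val := fun h => hk (Fin.ext h)
          simp only [Fin.lt_def, Fin.val_castSucc, Fin.val_succ] at h ⊢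
          omega
        exact (hstep k hk).mp (ih hlt)
  have down : ∀ j : Fin (m + 1), j ≤ i.castSucc → f j ∉ B := by
    intro j
    induction j using Fin.reverseInduction with
    | last =>
      intro h
      have : i.val < m := i.isLt
      simp only [Fin.le_def, Fin.val_last, Fin.val_castSucc] at h
      omega
    | cast k ih =>
      intro h
      by_cases hk : k = i
      · subst hk; exact h2
      · have hle : k.succ ≤ i.castSucc := by
          have hk' : k.val ≠ i.val := fun h => hk (Fin.ext h)
          simp only [Fin.le_def, Fin.val_castSucc, Fin.val_succ] at h ⊢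
          omega
        exact fun hmem => ih hle ((hstep k hk).mp hmem)
  constructor
  · intro h
    by_contra hlt
    exact down j (not_lt.mp hlt) h
  · exact up j


variable (β : V → ℤ)

/-- the edge-end weight of `e'` at `v` -/
def tw (v : V) (e' : E) : ℤ :=
  (if (ends e').1 = v ∧ (ends e').2 ≠ v then β (ends e').2 else 0) +
    (if (ends e').2 = v ∧ (ends e').1 ≠ v then β (ends e').1 else 0)

omit [DecidableEq E] in
theorem tw_nonneg (hβ : IsMultFn ends β) (v : V) (e' : E) : 0 ≤ tw ends β v e' := by
  unfold tw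
  have := fun w => (hβ w).1.le
  refine add_nonneg ?_ ?_ <;> split_ifs <;> simp [this]

omit [Fintype V] [Fintype E] [DecidableEq E] in
theorem tw_of_ends {v w : V} (hvw : v ≠ w) (e' : E)
    (h : ends e' = (v, w) ∨ ends e' = (w, v)) : tw ends β v e' = β w := by
  unfold tw
  rcases h with h | h <;> rw [h] <;> simp [hvw.symm]

omit [DecidableEq E] in
theorem sum_tw (v : V) :
    ∑ u ∈ univ.erase v, β u * (edgeMult ends v u : ℤ) = ∑ e' : E, tw ends β v e' :=
  sum_erase_mul_edgeMult ends β v

/-- At an inner vertex of the chain, every non-loop edge is one of the two chain edges. -/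
theorem inner_edges (hβ : IsMultFn ends β) (hC : IsChain ends f e) (hβm : ∀ i, β (f i) = m)
    (i i' : Fin m) (hii' : i'.castSucc = i.succ)
    (hα : mfMatrix ends β (f i.succ) (f i.succ) = -2) (e' : E)
    (hat : (ends e').1 = f i.succ ∨ (ends e').2 = f i.succ) (hnl : (ends e').1 ≠ (ends e').2) :
    e' = e i ∨ e' = e i' := by
  by_contra hcon
  rw [not_or] at hcon
  set v := f i.succ with hv
  have hS : ∑ e'' : E, tw ends β v e'' = 2 * m := by
    have h := beta_mul_diag ends β hβ v
    rw [hα, hβm, sum_tw] at h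
    linarith
  have h1 : tw ends β v (e i) = m := by
    have hne : v ≠ f i.castSucc := fun h => (Fin.castSucc_lt_succ (i := i)).ne (hC.1 h).symm
    rw [tw_of_ends ends β hne (e i) ((hC.2.2 i).symm), hβm]
  have h2 : tw ends β v (e i') = m := by
    have hne : v ≠ f i'.succ := by
      rw [hv, ← hii']
      exact fun h => (Fin.castSucc_lt_succ (i := i')).ne (hC.1 h)
    have := hC.2.2 i'
    rw [hii'] at this
    rw [tw_of_ends ends β hne (e i') this, hβm]
  have h3 : 0 < tw ends β v e' := by
    unfold tw
    rcases hat with h | h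
    · have h' : (ends e').2 ≠ v := fun h' => hnl (h.trans h'.symm)
      simp only [h, h', ne_eq, not_false_eq_true, and_self, if_true, false_and, if_false, add_zero]
      exact (hβ _).1
    · have h' : (ends e').1 ≠ v := fun h' => hnl (h'.trans h.symm)
      simp only [h, h', ne_eq, not_false_eq_true, and_self, if_true, false_and, if_false, zero_add]
      exact (hβ _).1
  have hii : e i ≠ e i' := by
    intro h
    have := hC.2.1 h
    rw [this] at hii'
    exact (Fin.castSucc_lt_succ (i := i')).ne hii'
  have hle : ∑ x ∈ ({e i, e i', e'} : Finset E), tw ends β v x ≤ ∑ e'' : E, tw ends β v e'' :=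
    Finset.sum_le_sum_of_subset_of_nonneg (Finset.subset_univ _)
      (fun x _ _ => tw_nonneg ends β hβ v x)
  rw [Finset.sum_insert (by simp [hii, Ne.symm hcon.1]), Finset.sum_insert (by simp [Ne.symm hcon.2]),
    Finset.sum_singleton, h1, h2, hS] at hle
  linarith


/-- the row of `α` at an inner vertex of the chain -/
theorem mulVec_inner (hβ : IsMultFn ends β) (hC : IsChain ends f e) (hβm : ∀ i, β (f i) = m)
    (i i' : Fin m) (hii' : i'.castSucc = i.succ)
    (hα : mfMatrix ends β (f i.succ) (f i.succ) = -2) (y : V → ℤ) :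
    (Matrix.mulVec (mfMatrix ends β) y) (f i.succ) =
      y (f i.castSucc) - 2 * y (f i.succ) + y (f i'.succ) := by
  have hii : e i ≠ e i' := by
    intro h
    have := hC.2.1 h
    rw [this] at hii'
    exact (Fin.castSucc_lt_succ (i := i')).ne hii'
  have hne1 : f i.succ ≠ f i.castSucc :=
    fun h => (Fin.castSucc_lt_succ (i := i)).ne (hC.1 h).symm
  have hne2 : f i.succ ≠ f i'.succ := by
    rw [← hii']
    exact fun h => (Fin.castSucc_lt_succ (i := i')).ne (hC.1 h)
  have hends2 := hC.2.2 i'
  rw [hii'] at hends2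
  rw [mulVec_apply_eq, hα, sum_tw ends y,
    Finset.sum_eq_add (e i) (e i') hii ?_ (fun h => absurd (Finset.mem_univ _) h)
      (fun h => absurd (Finset.mem_univ _) h),
    tw_of_ends ends y hne1 (e i) ((hC.2.2 i).symm), tw_of_ends ends y hne2 (e i') hends2]
  · ring
  · intro e' _ he'
    unfold tw
    have key : ∀ (_ : (ends e').1 = f i.succ ∨ (ends e').2 = f i.succ)
        (_ : (ends e').1 ≠ (ends e').2), False := by
      intro hat hnl
      rcases inner_edges ends f e β hβ hC hβm i i' hii' hα e' hat hnl with h | h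
      · exact he'.1 h
      · exact he'.2 h
    rw [if_neg, if_neg, add_zero]
    · rintro ⟨h1, h2⟩
      exact key (Or.inr h1) (fun h => h2 (h.trans h1))
    · rintro ⟨h1, h2⟩
      exact key (Or.inl h1) (fun h => h2 (h.symm.trans h1))

theorem inner_edges' (hβ : IsMultFn ends β) (hC : IsChain ends f e) (hβm : ∀ i, β (f i) = m)
    (hα : ∀ i, mfMatrix ends β (f i) (f i) = -2) (j : Fin (m + 1)) (h0 : j ≠ 0)
    (hl : j ≠ Fin.last m) (e' : E)
    (hat : (ends e').1 = f j ∨ (ends e').2 = f j) (hnl : (ends e').1 ≠ (ends e').2) :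
    e' ∈ Set.range e := by
  obtain ⟨i, rfl⟩ := Fin.exists_succ_eq.mpr h0
  obtain ⟨i', hi'⟩ := Fin.exists_castSucc_eq.mpr hl
  rcases inner_edges ends f e β hβ hC hβm i i' hi' (hα _) e' hat hnl with h | h
  · exact ⟨i, h.symm⟩
  · exact ⟨i', h.symm⟩

/-- position on the chain (zero off the chain) -/
def pos (v : V) : ℤ := ∑ j : Fin (m + 1), if f j = v then (j.val : ℤ) else 0

omit [Fintype V] [Fintype E] [DecidableEq E] in
theorem pos_f (hf : Function.Injective f) (j : Fin (m + 1)) : pos f (f j) = j.val := by
  unfold pos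
  rw [Finset.sum_eq_single j]
  · simp
  · intro j' _ hj'
    rw [if_neg (fun h => hj' (hf h))]
  · intro h; exact absurd (Finset.mem_univ _) h

omit [Fintype V] [Fintype E] [DecidableEq E] in
theorem pos_of_not_range (v : V) (h : v ∉ Set.range f) : pos f v = 0 := by
  unfold pos
  refine Finset.sum_eq_zero fun j _ => ?_
  rw [if_neg (fun h' => h ⟨j, h'⟩)]

/-- the vector `z` with `α z = e_{v₀} - e_{v_m}` -/
def zfun (B : Finset V) (v : V) : ℤ := if v ∈ B then β v else pos f v

section Z

variable (hβ : IsMultFn ends β) (hC : IsChain ends f e) (hβm : ∀ i, β (f i) = m)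
  (hα : ∀ i, mfMatrix ends β (f i) (f i) = -2)
  (il : Fin m) (hil : il.succ = Fin.last m) (B : Finset V) (h1 : f il.succ ∈ B)
  (h2 : f il.castSucc ∉ B)
  (hB : ∀ e' : E, ((ends e').1 ∈ B ↔ (ends e').2 ∉ B) ↔ e' = e il)

include hC hβm hil h1 h2 hB in
omit [Fintype V] [Fintype E] [DecidableEq E] in
theorem zfun_f (j : Fin (m + 1)) : zfun f β B (f j) = j.val := by
  unfold zfun
  split_ifs with h
  · have hlt := (mem_cut_iff ends f e hC il B h1 h2 hB j).mp h
    have : j = Fin.last m := by
      have h3 : il.castSucc.val + 1 = m := by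
        have := congrArg Fin.val hil
        simpa using this
      apply Fin.ext
      have := j.isLt
      simp only [Fin.lt_def] at hlt
      simp only [Fin.val_last]
      omega
    rw [hβm, this]; simp
  · exact pos_f f hC.1 j

include hβ hC hβm hα hil h1 hB in
theorem flux_zfun_of_not_range (e' : E) (he' : e' ∉ Set.range e) :
    flux ends β (zfun f β B) e' = 0 := by
  have hne : e' ≠ e il := fun h => he' ⟨il, h.symm⟩
  have hnc := (hB e').not.mpr hne
  have hposzero : ∀ x : V, ((ends e').1 = x ∨ (ends e').2 = x) → (ends e').1 ≠ (ends e').2 →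
      x ∉ B → pos f x = 0 := by
    intro x hx hnl hxB
    by_cases hr : x ∈ Set.range f
    · obtain ⟨j, rfl⟩ := hr
      by_cases h0 : j = 0
      · rw [pos_f f hC.1, h0]; simp
      · have hl : j ≠ Fin.last m := by
          rintro rfl
          exact hxB (hil ▸ h1)
        exact absurd (inner_edges' ends f e β hβ hC hβm hα j h0 hl e' hx hnl) he'
    · exact pos_of_not_range f x hr
  unfold flux zfun
  by_cases ha : (ends e').1 ∈ B
  · have hb : (ends e').2 ∈ B := by tauto
    rw [if_pos ha, if_pos hb]; ring
  · have hb : (ends e').2 ∉ B := by tauto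
    rw [if_neg ha, if_neg hb]
    by_cases hnl : (ends e').1 = (ends e').2
    · rw [hnl]; ring
    · rw [hposzero _ (Or.inl rfl) hnl ha, hposzero _ (Or.inr rfl) hnl hb]; ring

include hβ hC hβm hα hil h1 h2 hB in
theorem dvg_flux_zfun (v : V) :
    dvg ends (flux ends β (zfun f β B)) v =
      m * ((if f 0 = v then 1 else 0) - (if f (Fin.last m) = v then 1 else 0)) := by
  unfold dvg
  rw [← Finset.sum_subset (Finset.subset_univ (univ.image e))]
  · rw [Finset.sum_image (fun a _ b _ h => hC.2.1 h)]
    have hterm : ∀ i : Fin m,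
        ((if (ends (e i)).1 = v then (1 : ℤ) else 0) - (if (ends (e i)).2 = v then 1 else 0)) *
          flux ends β (zfun f β B) (e i) =
        m * (if f i.castSucc = v then 1 else 0) - m * (if f i.succ = v then 1 else 0) := by
      intro i
      have hz1 := zfun_f ends f e β hC hβm il hil B h1 h2 hB i.castSucc
      have hz2 := zfun_f ends f e β hC hβm il hil B h1 h2 hB i.succ
      unfold flux
      rcases hC.2.2 i with h | h
      · rw [h]; simp only [hz1, hz2, hβm, Fin.val_castSucc, Fin.val_succ]; push_cast; ring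
      · rw [h]; simp only [hz1, hz2, hβm, Fin.val_castSucc, Fin.val_succ]; push_cast; ring
    rw [Finset.sum_congr rfl fun i _ => hterm i, Finset.sum_sub_distrib, ← Finset.mul_sum,
      ← Finset.mul_sum]
    have hs1 := Fin.sum_univ_castSucc (fun j : Fin (m + 1) => if f j = v then (1 : ℤ) else 0)
    have hs2 := Fin.sum_univ_succ (fun j : Fin (m + 1) => if f j = v then (1 : ℤ) else 0)
    have : (∑ i : Fin m, if f i.castSucc = v then (1 : ℤ) else 0) -
        (∑ i : Fin m, if f i.succ = v then (1 : ℤ) else 0) =
        (if f 0 = v then 1 else 0) - (if f (Fin.last m) = v then 1 else 0) := by linarith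
    rw [← this]; ring
  · intro e' _ he'
    have : e' ∉ Set.range e := by
      rintro ⟨i, rfl⟩
      exact he' (Finset.mem_image_of_mem _ (Finset.mem_univ _))
    rw [flux_zfun_of_not_range ends f e β hβ hC hβm hα il hil B h1 hB e' this, mul_zero]

include hβ hC hβm hα hil h1 h2 hB in
/-- `α z = e_{v₀} - e_{v_m}` -/
theorem mulVec_zfun (v : V) :
    (Matrix.mulVec (mfMatrix ends β) (zfun f β B)) v =
      (if f 0 = v then 1 else 0) - (if f (Fin.last m) = v then 1 else 0) := by
  have h := beta_mul_mulVec ends β hβ (zfun f β B) v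
  rw [dvg_flux_zfun ends f e β hβ hC hβm hα il hil B h1 h2 hB v] at h
  by_cases h0 : f 0 = v
  · rw [← h0, hβm] at h
    have hm : (m : ℤ) ≠ 0 := by
      have := (hβ (f 0)).1
      rw [hβm] at this
      exact this.ne'
    rw [← h0]
    exact mul_left_cancel₀ hm h
  · by_cases hl : f (Fin.last m) = v
    · rw [← hl, hβm] at h
      have hm : (m : ℤ) ≠ 0 := by
        have := (hβ (f 0)).1
        rw [hβm] at this
        exact this.ne'
      rw [← hl]
      exact mul_left_cancel₀ hm h
    · rw [if_neg h0, if_neg hl] at h ⊢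
      have hv : β v ≠ 0 := (hβ v).1.ne'
      simpa [hv] using h

end Z


section Ctr

variable (hβ : IsMultFn ends β) (hC : IsChain ends f e) (hβm : ∀ i, β (f i) = m)

include hC hβm in
omit [Fintype V] [Fintype E] [DecidableEq V] in
theorem hconst_of_chain (u w : V)
    (h : ctrMk ends (univ.image e) u = ctrMk ends (univ.image e) w) : β u = β w := by
  rcases (ctrMk_eq_iff ends f e hC u w).mp h with h | ⟨⟨i, rfl⟩, ⟨j, rfl⟩⟩
  · rw [h]
  · rw [hβm, hβm]

include hC in
omit [Fintype E] in
theorem filter_chain :
    univ.filter (fun v => ctrMk ends (univ.image e) v = ctrMk ends (univ.image e) (f 0)) =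
      univ.image f := by
  ext v
  simp only [Finset.mem_filter, Finset.mem_univ, true_and, Finset.mem_image]
  rw [ctrMk_eq_iff ends f e hC]
  constructor
  · rintro (h | ⟨⟨j, hj⟩, _⟩)
    · exact ⟨0, h.symm⟩
    · exact ⟨j, hj⟩
  · rintro ⟨j, hj⟩
    exact Or.inr ⟨⟨j, hj⟩, ⟨0, rfl⟩⟩

include hC in
omit [Fintype E] [DecidableEq V] in
theorem filter_off (w : V) (hw : w ∉ Set.range f) :
    univ.filter (fun v => ctrMk ends (univ.image e) v = ctrMk ends (univ.image e) w) = {w} := by
  ext v
  simp only [Finset.mem_filter, Finset.mem_univ, true_and, Finset.mem_singleton]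
  rw [ctrMk_eq_iff ends f e hC]
  constructor
  · rintro (h | ⟨_, h⟩)
    · exact h
    · exact absurd h hw
  · intro h; exact Or.inl h

include hβ hC hβm in
theorem mulVec_ctr_chain (x' : CtrVert ends (univ.image e) → ℤ) :
    (Matrix.mulVec (mfMatrix (ctrEnds ends (univ.image e)) (ctrFn ends (univ.image e) β)) x')
        (ctrMk ends (univ.image e) (f 0)) =
      ∑ j : Fin (m + 1), (Matrix.mulVec (mfMatrix ends β)
        (fun v => x' (ctrMk ends (univ.image e) v))) (f j) := by
  have hconst := hconst_of_chain ends f e β hC hβm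
  have hβ' := isMultFn_ctrFn ends (univ.image e) β hβ hconst
  have hcompat := ctrFn_ctrMk ends (univ.image e) β hconst
  have h := beta_mul_mulVec_ctr ends (univ.image e) β hβ _ hβ' hcompat x'
    (ctrMk ends (univ.image e) (f 0))
  rw [filter_chain ends f e hC, Finset.sum_image (fun a _ b _ h => hC.1 h), hcompat, hβm] at h
  simp only [hβm] at h
  rw [← Finset.mul_sum] at h
  have hm : (m : ℤ) ≠ 0 := by
    have := (hβ (f 0)).1
    rw [hβm] at this
    exact this.ne'
  exact mul_left_cancel₀ hm h

include hβ hC hβm in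
theorem mulVec_ctr_off (x' : CtrVert ends (univ.image e) → ℤ) (w : V) (hw : w ∉ Set.range f) :
    (Matrix.mulVec (mfMatrix (ctrEnds ends (univ.image e)) (ctrFn ends (univ.image e) β)) x')
        (ctrMk ends (univ.image e) w) =
      (Matrix.mulVec (mfMatrix ends β) (fun v => x' (ctrMk ends (univ.image e) v))) w := by
  have hconst := hconst_of_chain ends f e β hC hβm
  have hβ' := isMultFn_ctrFn ends (univ.image e) β hβ hconst
  have hcompat := ctrFn_ctrMk ends (univ.image e) β hconst
  have h := beta_mul_mulVec_ctr ends (univ.image e) β hβ _ hβ' hcompat x'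
    (ctrMk ends (univ.image e) w)
  rw [filter_off ends f e hC w hw, Finset.sum_singleton, hcompat] at h
  exact mul_left_cancel₀ (hβ w).1.ne' h

omit [Fintype V] [Fintype E] in
theorem liftAt_chain (hC : IsChain ends f e) (x : CtrVert ends (univ.image e) → ℤ)
    (j : Fin (m + 1)) :
    liftAt ends (univ.image e) (f 0) x (f j) =
      if j = 0 then x (ctrMk ends (univ.image e) (f 0)) else 0 := by
  unfold liftAt
  by_cases hj : j = 0
  · subst hj; simp
  · have : f j ≠ f 0 := fun h => hj (hC.1 h)
    rw [if_pos ⟨ctrMk_chain ends f e hC j, this⟩, if_neg hj]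

omit [Fintype V] [Fintype E] in
theorem liftAt_off (hC : IsChain ends f e) (x : CtrVert ends (univ.image e) → ℤ)
    (w : V) (hw : w ∉ Set.range f) :
    liftAt ends (univ.image e) (f 0) x w = x (ctrMk ends (univ.image e) w) := by
  unfold liftAt
  rw [if_neg]
  rintro ⟨h, _⟩
  rcases (ctrMk_eq_iff ends f e hC w (f 0)).mp h with h | ⟨h, _⟩
  · exact hw ⟨0, h.symm⟩
  · exact hw h

end Ctr

end Groth.Agent.H74.LabChain
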