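import Groth.Agent.H74.LabChain

/-!
# Contracting a connecting chain of length `m` and multiplicity `m`: injectivity (helper74)
-/

open Finset

namespace Groth.Agent.H74.LabChain

universe u
variable {V E : Type u} [Fintype V] [Fintype E] [DecidableEq V] [DecidableEq E]

open LabGraph DualGr Groth.Agent.H74.LabFlux Groth.Agent.H74.LabCtr

variable (ends : E → V × V) {m : ℕ} (f : Fin (m + 1) → V) (e : Fin m → E) (β : V → ℤ)

theorem chain_injective (hβ : IsMultFn ends β) (hC : IsChain ends f e)
    (hconn : ∀ i, IsConnecting ends (e i)) (hβm : ∀ i, β (f i) = m)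
    (hα : ∀ i, mfMatrix ends β (f i) (f i) = -2)
    (x : CtrVert ends (univ.image e) → ℤ) (y : V → ℤ)
    (hy : Matrix.mulVec (mfMatrix ends β) y = liftAt ends (univ.image e) (f 0) x) :
    ∃ x', Matrix.mulVec (mfMatrix (ctrEnds ends (univ.image e))
      (ctrFn ends (univ.image e) β)) x' = x := by
  have hm : 0 < m := by
    have := (hβ (f 0)).1
    rw [hβm] at this
    exact_mod_cast this
  let il : Fin m := ⟨m - 1, by omega⟩
  have hil : il.succ = Fin.last m := by
    apply Fin.ext
    simp only [Fin.val_succ, Fin.val_last, il]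
    omega
  obtain ⟨B, h1, h2, hB⟩ := exists_cut ends f e hC il (hconn il)
  have hz := mulVec_zfun ends f e β hβ hC hβm hα il hil B h1 h2 hB
  have hzf := zfun_f ends f e β hC hβm il hil B h1 h2 hB
  -- linearity of `y` along the chain
  have h1lt : 1 < m + 1 := by omega
  set k := y (f 0) - y (f ⟨1, h1lt⟩) with hk
  have hlin : ∀ n (hn : n < m + 1), y (f ⟨n, hn⟩) = y (f 0) - n * k := by
    intro n
    induction n using Nat.strong_induction_on with
    | _ n ih =>
      intro hn
      match n, ih, hn with
      | 0, _, _ => simp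
      | 1, _, _ => rw [hk]; push_cast; ring
      | n + 2, ih, hn =>
        have e1 := ih n (by omega) (by omega)
        have e2 := ih (n + 1) (by omega) (by omega)
        let i : Fin m := ⟨n, by omega⟩
        let i' : Fin m := ⟨n + 1, by omega⟩
        have hii' : i'.castSucc = i.succ := rfl
        have hrow := mulVec_inner ends f e β hβ hC hβm i i' hii' (hα _) y
        have hzero : (Matrix.mulVec (mfMatrix ends β) y) (f i.succ) = 0 := by
          rw [hy, liftAt_chain ends f e hC x i.succ, if_neg (Fin.succ_ne_zero i)]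
        rw [hzero] at hrow
        have hrow' : 0 = y (f ⟨n, by omega⟩) - 2 * y (f ⟨n + 1, by omega⟩) + y (f ⟨n + 2, hn⟩) :=
          hrow
        rw [e1, e2] at hrow'
        push_cast at hrow' ⊢
        linarith
  have hlin' : ∀ j : Fin (m + 1), y (f j) = y (f 0) - j.val * k := fun j => hlin j.val j.isLt
  -- the corrected vector
  set X : V → ℤ := fun v => y v + k * zfun f β B v with hXdef
  have hX : ∀ j, X (f j) = y (f 0) := by
    intro j
    simp only [hXdef, hlin' j, hzf j]
    ring
  have hXconst : ∀ u w, ctrMk ends (univ.image e) u = ctrMk ends (univ.image e) w → X u = X w := by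
    intro u w h
    rcases (ctrMk_eq_iff ends f e hC u w).mp h with h | ⟨⟨i, rfl⟩, ⟨j, rfl⟩⟩
    · rw [h]
    · rw [hX, hX]
  have hx' := ctrFn_ctrMk ends (univ.image e) X hXconst
  have hfun : (fun v => ctrFn ends (univ.image e) X (ctrMk ends (univ.image e) v)) = X :=
    funext hx'
  have hαX : ∀ v, (Matrix.mulVec (mfMatrix ends β) X) v =
      liftAt ends (univ.image e) (f 0) x v +
        k * ((if f 0 = v then 1 else 0) - (if f (Fin.last m) = v then 1 else 0)) := by
    intro v
    have : X = y + k • zfun f β B := by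
      funext v; simp [hXdef]
    rw [this, Matrix.mulVec_add, Matrix.mulVec_smul, Pi.add_apply, Pi.smul_apply, hy, hz,
      smul_eq_mul]
  refine ⟨ctrFn ends (univ.image e) X, funext fun c => ?_⟩
  obtain ⟨v, rfl⟩ := ctrMk_surjective ends (univ.image e) c
  by_cases hv : v ∈ Set.range f
  · obtain ⟨j, rfl⟩ := hv
    rw [ctrMk_chain ends f e hC j, mulVec_ctr_chain ends f e β hβ hC hβm, hfun]
    simp_rw [hαX, liftAt_chain ends f e hC x]
    rw [Finset.sum_add_distrib, ← Finset.mul_sum, Finset.sum_sub_distrib]
    simp [hC.1.eq_iff]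
  · rw [mulVec_ctr_off ends f e β hβ hC hβm _ v hv, hfun, hαX, liftAt_off ends f e hC x v hv,
      if_neg (fun h => hv ⟨0, h⟩), if_neg (fun h => hv ⟨_, h⟩)]
    ring

end Groth.Agent.H74.LabChain
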