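import Groth.Agent.H74.LabChainInj

/-!
# Contracting a connecting chain of length `m` and multiplicity `m`: the induced map and its
surjectivity (helper74)
-/

open Finset

namespace Groth.Agent.H74.LabChain

universe u
variable {V E : Type u} [Fintype V] [Fintype E] [DecidableEq V] [DecidableEq E]

open LabGraph DualGr Groth.Agent.H74.LabFlux Groth.Agent.H74.LabCtr

variable (ends : E → V × V) {m : ℕ} (f : Fin (m + 1) → V) (e : Fin m → E) (β : V → ℤ)

omit [DecidableEq E] in
/-- Entries of `α` in the column of `v_i`, at the later chain vertices. -/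
theorem mfMatrix_chain_entry (hC : IsChain ends f e) (i : Fin m)
    (hconn : IsConnecting ends (e i)) (j : Fin (m + 1)) (hj : i.castSucc < j) :
    mfMatrix ends β (f j) (f i.castSucc) = if j = i.succ then 1 else 0 := by
  obtain ⟨B, h1, h2, hB⟩ := exists_cut ends f e hC i hconn
  have hjB : f j ∈ B := (mem_cut_iff ends f e hC i B h1 h2 hB j).mpr hj
  have hne : f j ≠ f i.castSucc := fun h => hj.ne (hC.1 h).symm
  unfold mfMatrix
  rw [if_neg hne]
  have hall : ∀ e' : E, (ends e' = (f j, f i.castSucc) ∨ ends e' = (f i.castSucc, f j)) →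
      e' = e i := by
    intro e' h
    apply (hB e').mp
    rcases h with h | h <;> rw [h] <;> simp [hjB, h2]
  unfold edgeMult
  by_cases hji : j = i.succ
  · rw [if_pos hji]
    have : (univ.filter fun e' : E => ends e' = (f j, f i.castSucc) ∨
        ends e' = (f i.castSucc, f j)) = {e i} := by
      ext e'
      simp only [Finset.mem_filter, Finset.mem_univ, true_and, Finset.mem_singleton]
      constructor
      · exact hall e'
      · rintro rfl
        rw [hji]
        exact (hC.2.2 i).symm
    rw [this]; simp
  · rw [if_neg hji]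
    have : (univ.filter fun e' : E => ends e' = (f j, f i.castSucc) ∨
        ends e' = (f i.castSucc, f j)) = ∅ := by
      ext e'
      simp only [Finset.mem_filter, Finset.mem_univ, true_and, Finset.notMem_empty, iff_false]
      intro h
      have he' := hall e' h
      subst he'
      have hfj : f j ≠ f i.succ := fun h => hji (hC.1 h)
      rcases hC.2.2 i with h' | h' <;> rcases h with h | h <;> rw [h'] at h <;>
        simp only [Prod.mk.injEq] at h
      · exact hne h.1.symm
      · exact hfj h.2.symm
      · exact hfj h.1.symm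
      · exact hne h.2.symm
    rw [this]; simp

omit [DecidableEq E] in
/-- Triangular elimination: modulo the image of `α`, every vector vanishes at `v_1, …, v_m`. -/
theorem exists_elim (hC : IsChain ends f e) (hconn : ∀ i, IsConnecting ends (e i)) (y : V → ℤ) :
    ∃ u : V → ℤ, ∀ j : Fin (m + 1), j ≠ 0 →
      (y - Matrix.mulVec (mfMatrix ends β) u) (f j) = 0 := by
  have key : ∀ n, n ≤ m → ∃ u : V → ℤ, ∀ j : Fin (m + 1), m - n < j.val →
      (y - Matrix.mulVec (mfMatrix ends β) u) (f j) = 0 := by
    intro n
    induction n with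
    | zero =>
      intro _
      refine ⟨0, fun j hj => ?_⟩
      have := j.isLt
      omega
    | succ n ih =>
      intro hn
      obtain ⟨u, hu⟩ := ih (by omega)
      let i : Fin m := ⟨m - n - 1, by omega⟩
      set c := (y - Matrix.mulVec (mfMatrix ends β) u) (f i.succ) with hc
      refine ⟨u + c • Pi.single (f i.castSucc) 1, fun j hj => ?_⟩
      have hlt : i.castSucc < j := by
        simp only [Fin.lt_def, Fin.val_castSucc, i]
        omega
      have hentry := mfMatrix_chain_entry ends f e β hC i (hconn i) j hlt
      have : (y - Matrix.mulVec (mfMatrix ends β) (u + c • Pi.single (f i.castSucc) 1)) (f j) =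
          (y - Matrix.mulVec (mfMatrix ends β) u) (f j) -
            c * mfMatrix ends β (f j) (f i.castSucc) := by
        rw [Matrix.mulVec_add, Matrix.mulVec_smul, Matrix.mulVec_single_one]
        simp only [Pi.sub_apply, Pi.add_apply, Pi.smul_apply, Matrix.col_apply, smul_eq_mul]
        ring
      rw [this, hentry]
      by_cases hji : j = i.succ
      · rw [if_pos hji, hji, ← hc]; ring
      · rw [if_neg hji, mul_zero, sub_zero]
        apply hu
        have : j.val ≠ i.val + 1 := fun h => hji (Fin.ext (by simpa using h))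
        simp only [i] at this
        omega
  obtain ⟨u, hu⟩ := key m le_rfl
  refine ⟨u, fun j hj => hu j ?_⟩
  have : j.val ≠ 0 := fun h => hj (Fin.ext (by simpa using h))
  omega


/-- `f ∘ α' = α ∘ h`: the lift of a column combination of `α'` is a column combination of `α`. -/
theorem liftAt_mulVec_ctr (hβ : IsMultFn ends β) (hC : IsChain ends f e)
    (hconn : ∀ i, IsConnecting ends (e i)) (hβm : ∀ i, β (f i) = m)
    (hα : ∀ i, mfMatrix ends β (f i) (f i) = -2)
    (x' : CtrVert ends (univ.image e) → ℤ) :
    ∃ u : V → ℤ, liftAt ends (univ.image e) (f 0)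
      (Matrix.mulVec (mfMatrix (ctrEnds ends (univ.image e)) (ctrFn ends (univ.image e) β)) x') =
        Matrix.mulVec (mfMatrix ends β) u := by
  have hm : 0 < m := by
    have := (hβ (f 0)).1
    rw [hβm] at this
    exact_mod_cast this
  let il : Fin m := ⟨m - 1, by omega⟩
  have hil : il.succ = Fin.last m := by
    apply Fin.ext
    simp only [Fin.val_succ, Fin.val_last, il]
    omega
  obtain ⟨B, h1, h2, hB⟩ := exists_cut ends f e hC il (hconn il)
  have hz := mulVec_zfun ends f e β hβ hC hβm hα il hil B h1 h2 hB
  set X : V → ℤ := fun v => x' (ctrMk ends (univ.image e) v) with hXdef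
  have hXc : ∀ j, X (f j) = X (f 0) := fun j => by
    simp only [hXdef, ctrMk_chain ends f e hC j]
  set t := (Matrix.mulVec (mfMatrix ends β) X) (f (Fin.last m)) with ht
  have h0l : (0 : Fin (m + 1)) ≠ Fin.last m := by
    intro h
    have := congrArg Fin.val h
    simp only [Fin.val_zero, Fin.val_last] at this
    omega
  have hinner : ∀ j : Fin (m + 1), j ≠ 0 → j ≠ Fin.last m →
      (Matrix.mulVec (mfMatrix ends β) X) (f j) = 0 := by
    intro j h0 hl
    obtain ⟨i, rfl⟩ := Fin.exists_succ_eq.mpr h0
    obtain ⟨i', hi'⟩ := Fin.exists_castSucc_eq.mpr hl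
    rw [mulVec_inner ends f e β hβ hC hβm i i' hi' (hα _) X, hXc, hXc i.succ, hXc i'.succ]
    ring
  refine ⟨X + t • zfun f β B, funext fun v => ?_⟩
  rw [Matrix.mulVec_add, Matrix.mulVec_smul, Pi.add_apply, Pi.smul_apply, hz, smul_eq_mul]
  by_cases hv : v ∈ Set.range f
  · obtain ⟨j, rfl⟩ := hv
    rw [liftAt_chain ends f e hC]
    by_cases hj0 : j = 0
    · subst hj0
      rw [if_pos rfl, mulVec_ctr_chain ends f e β hβ hC hβm x',
        Finset.sum_eq_add 0 (Fin.last m) h0l (fun j _ hj => hinner j hj.1 hj.2)
          (fun h => absurd (Finset.mem_univ _) h) (fun h => absurd (Finset.mem_univ _) h),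
        if_pos rfl, if_neg (fun h => h0l (hC.1 h).symm)]
      ring
    · rw [if_neg hj0, if_neg (fun h => hj0 (hC.1 h).symm)]
      by_cases hjl : j = Fin.last m
      · subst hjl
        rw [if_pos rfl]; ring
      · rw [if_neg (fun h => hjl (hC.1 h).symm), hinner j hj0 hjl]; ring
  · rw [liftAt_off ends f e hC _ v hv, mulVec_ctr_off ends f e β hβ hC hβm x' v hv,
      if_neg (fun h => hv ⟨0, h⟩), if_neg (fun h => hv ⟨_, h⟩)]
    ring

omit [Fintype E] in
/-- `β (lift x) = β' x`. -/
theorem sum_liftAt_mul (hC : IsChain ends f e) (hβm : ∀ i, β (f i) = m)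
    (x : CtrVert ends (univ.image e) → ℤ) :
    ∑ v : V, liftAt ends (univ.image e) (f 0) x v * β v =
      ∑ c : CtrVert ends (univ.image e), x c * ctrFn ends (univ.image e) β c := by
  have hconst := hconst_of_chain ends f e β hC hβm
  have hcompat := ctrFn_ctrMk ends (univ.image e) β hconst
  rw [← Finset.sum_fiberwise univ (ctrMk ends (univ.image e))]
  refine Finset.sum_congr rfl fun c _ => ?_
  obtain ⟨v, rfl⟩ := ctrMk_surjective ends (univ.image e) c
  by_cases hv : v ∈ Set.range f
  · obtain ⟨j, rfl⟩ := hv
    rw [ctrMk_chain ends f e hC j, filter_chain ends f e hC,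
      Finset.sum_image (fun a _ b _ h => hC.1 h)]
    simp_rw [liftAt_chain ends f e hC x, hβm]
    rw [hcompat, hβm]
    simp
  · rw [filter_off ends f e hC v hv, Finset.sum_singleton, liftAt_off ends f e hC x v hv, hcompat]

omit [Fintype E] in
/-- A vector vanishing at `v_1, …, v_m` is the lift of its push-forward. -/
theorem liftAt_push (hC : IsChain ends f e) (y : V → ℤ) (hy : ∀ j : Fin (m + 1), j ≠ 0 → y (f j) = 0) :
    liftAt ends (univ.image e) (f 0)
      (fun c => ∑ v ∈ univ.filter (fun v => ctrMk ends (univ.image e) v = c), y v) = y := by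
  funext v
  by_cases hv : v ∈ Set.range f
  · obtain ⟨j, rfl⟩ := hv
    rw [liftAt_chain ends f e hC]
    by_cases hj0 : j = 0
    · subst hj0
      rw [if_pos rfl, filter_chain ends f e hC, Finset.sum_image (fun a _ b _ h => hC.1 h),
        Finset.sum_eq_single 0 (fun j _ hj => hy j hj) (fun h => absurd (Finset.mem_univ _) h)]
    · rw [if_neg hj0, hy j hj0]
  · rw [liftAt_off ends f e hC _ v hv, filter_off ends f e hC v hv, Finset.sum_singleton]

end Groth.Agent.H74.LabChain
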