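import Groth.Agent.H74.LabFlux

/-!
# Contraction of an edge set and multiplicity functions (helper74)
-/

open Finset

namespace Groth.Agent.H74.LabCtr

universe u
variable {V E : Type u} [Fintype V] [Fintype E] [DecidableEq V] [DecidableEq E]

open LabGraph DualGr Groth.Agent.H74.LabFlux

omit [Fintype V] [Fintype E] [DecidableEq V] [DecidableEq E] in
theorem ctrFn_ctrMk (ends : E → V × V) (D : Finset E) (β : V → ℤ)
    (hconst : ∀ u w, ctrMk ends D u = ctrMk ends D w → β u = β w) (v : V) :
    ctrFn ends D β (ctrMk ends D v) = β v := by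
  unfold ctrFn
  apply hconst
  exact Quotient.out_eq _

/-- total weighted degree (loops counted twice) -/
def wdeg (ends : E → V × V) (β : V → ℤ) (v : V) : ℤ :=
  ∑ e : E, ((if (ends e).1 = v then β (ends e).2 else 0) +
    (if (ends e).2 = v then β (ends e).1 else 0))

omit [DecidableEq E] in
theorem dvd_offdiag_iff (ends : E → V × V) (β : V → ℤ) (v : V) :
    β v ∣ ∑ w ∈ univ.erase v, β w * (edgeMult ends v w : ℤ) ↔ β v ∣ wdeg ends β v := by
  have h : wdeg ends β v = ∑ w ∈ univ.erase v, β w * (edgeMult ends v w : ℤ) +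
      ∑ e : E, (if (ends e).1 = v ∧ (ends e).2 = v then 2 * β v else 0) := by
    rw [sum_erase_mul_edgeMult, wdeg, ← Finset.sum_add_distrib]
    refine Finset.sum_congr rfl fun e _ => ?_
    by_cases h3 : (ends e).1 = v <;> by_cases h4 : (ends e).2 = v <;> simp [h3, h4]
    · rw [h3.symm.trans h3, ← h4]; ring
  rw [h]
  refine (dvd_add_left ?_).symm
  refine Finset.dvd_sum fun e _ => ?_
  split_ifs
  · exact Dvd.intro_left 2 rfl
  · exact dvd_zero _

theorem isMultFn_ctrFn (ends : E → V × V) (D : Finset E) (β : V → ℤ) (hβ : IsMultFn ends β)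
    (hconst : ∀ u w, ctrMk ends D u = ctrMk ends D w → β u = β w) :
    IsMultFn (ctrEnds ends D) (ctrFn ends D β) := by
  have hcompat := ctrFn_ctrMk ends D β hconst
  intro c
  obtain ⟨v0, rfl⟩ := ctrMk_surjective ends D c
  refine ⟨by rw [hcompat]; exact (hβ v0).1, ?_⟩
  rw [dvd_offdiag_iff]
  set c := ctrMk ends D v0 with hc
  -- the full edge sum
  have hfull : ∑ v ∈ univ.filter (fun v => ctrMk ends D v = c), wdeg ends β v =
      ∑ e : E, ((if ctrMk ends D (ends e).1 = c then β (ends e).2 else 0) +
        (if ctrMk ends D (ends e).2 = c then β (ends e).1 else 0)) := by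
    simp only [wdeg]
    rw [Finset.sum_comm]
    refine Finset.sum_congr rfl fun e _ => ?_
    rw [Finset.sum_add_distrib, Finset.sum_ite_eq, Finset.sum_ite_eq]
    simp only [Finset.mem_filter, Finset.mem_univ, true_and]
  have hsplit : wdeg (ctrEnds ends D) (ctrFn ends D β) c =
      ∑ e ∈ univ.filter (fun e : E => e ∉ D),
        ((if ctrMk ends D (ends e).1 = c then β (ends e).2 else 0) +
        (if ctrMk ends D (ends e).2 = c then β (ends e).1 else 0)) := by
    rw [Finset.sum_subtype (Finset.univ.filter (fun e : E => e ∉ D)) (p := fun e => e ∉ D)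
      (F := inferInstance) (by intro e; simp)]
    simp only [wdeg, ctrEnds, hcompat]
  have hD : ctrFn ends D β c ∣ ∑ e ∈ univ.filter (fun e : E => ¬ (e ∉ D)),
        ((if ctrMk ends D (ends e).1 = c then β (ends e).2 else 0) +
        (if ctrMk ends D (ends e).2 = c then β (ends e).1 else 0)) := by
    refine Finset.dvd_sum fun e he => ?_
    have heD : e ∈ D := by simpa using he
    have h12 := ctrMk_fst_eq_ctrMk_snd ends D heD
    refine dvd_add ?_ ?_
    · split_ifs with h
      · rw [← h, h12, hcompat]
      · exact dvd_zero _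
    · split_ifs with h
      · rw [← h, ← h12, hcompat]
      · exact dvd_zero _
  have hcls : ctrFn ends D β c ∣ ∑ v ∈ univ.filter (fun v => ctrMk ends D v = c), wdeg ends β v := by
    refine Finset.dvd_sum fun v hv => ?_
    have hv' : ctrMk ends D v = c := by simpa using hv
    rw [← hv', hcompat]
    exact (dvd_offdiag_iff ends β v).mp (hβ v).2
  rw [hfull, ← Finset.sum_filter_add_sum_filter_not univ (fun e : E => e ∉ D), ← hsplit] at hcls
  exact (dvd_add_left hD).mp hcls


section Chain

variable (ends : E → V × V) {k : ℕ} (f : Fin (k + 1) → V) (e : Fin k → E)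

omit [Fintype V] [Fintype E] [DecidableEq V] in
theorem ctrMk_chain (hC : IsChain ends f e) (i : Fin (k + 1)) :
    ctrMk ends (univ.image e) (f i) = ctrMk ends (univ.image e) (f 0) := by
  induction i using Fin.induction with
  | zero => rfl
  | succ i ih =>
    rw [← ih]
    have hmem : e i ∈ univ.image e := Finset.mem_image_of_mem _ (Finset.mem_univ _)
    have h := ctrMk_fst_eq_ctrMk_snd ends (univ.image e) hmem
    rcases hC.2.2 i with h' | h'
    · rw [h'] at h; exact h.symm
    · rw [h'] at h; exact h

omit [Fintype V] [Fintype E] [DecidableEq V] in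
theorem ctrMk_eq_iff (hC : IsChain ends f e) (u w : V) :
    ctrMk ends (univ.image e) u = ctrMk ends (univ.image e) w ↔
      u = w ∨ (u ∈ Set.range f ∧ w ∈ Set.range f) := by
  constructor
  · intro h
    have h' : Relation.EqvGen (CtrRel ends (univ.image e)) u w := Quotient.exact h
    induction h' with
    | rel x y hxy =>
      obtain ⟨e', he', hends⟩ := hxy
      obtain ⟨i, _, rfl⟩ := Finset.mem_image.mp he'
      right
      rcases hC.2.2 i with h' | h'
      · rw [h'] at hends
        simp only [Prod.mk.injEq] at hends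
        exact ⟨⟨_, hends.1⟩, ⟨_, hends.2⟩⟩
      · rw [h'] at hends
        simp only [Prod.mk.injEq] at hends
        exact ⟨⟨_, hends.1⟩, ⟨_, hends.2⟩⟩
    | refl x => exact Or.inl rfl
    | symm x y _ ih =>
      rcases ih (Quotient.sound (by assumption)) with h | ⟨h1, h2⟩
      · exact Or.inl h.symm
      · exact Or.inr ⟨h2, h1⟩
    | trans x y z _ _ ih1 ih2 =>
      rcases ih1 (Quotient.sound (by assumption)) with h | ⟨h1, h2⟩
      · rcases ih2 (Quotient.sound (by assumption)) with h' | ⟨h3, h4⟩
        · exact Or.inl (h.trans h')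
        · exact Or.inr ⟨h ▸ h3, h4⟩
      · rcases ih2 (Quotient.sound (by assumption)) with h' | ⟨h3, h4⟩
        · exact Or.inr ⟨h1, h' ▸ h2⟩
        · exact Or.inr ⟨h1, h4⟩
  · rintro (rfl | ⟨⟨i, rfl⟩, ⟨j, rfl⟩⟩)
    · rfl
    · rw [ctrMk_chain ends f e hC i, ctrMk_chain ends f e hC j]

end Chain

end Groth.Agent.H74.LabCtr
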