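import Groth.Prelude.Def_W4c2conddiscmodels
import Mathlib

/-!
# Flux formalism for multigraphs with a multiplicity function (helper74)

General lemmas about `LabGraph.mfMatrix`: the off-diagonal weighted sums as edge sums, the "flux"
formula `β v * (α *ᵥ y) v = -∂(flux β y) v`, and the behaviour under contraction of an edge set.
-/

open Finset

namespace Groth.Agent.H74.LabFlux

universe u
variable {V E : Type u} [Fintype V] [Fintype E] [DecidableEq V] [DecidableEq E]

open LabGraph DualGr

omit [Fintype E] [DecidableEq E] in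
private theorem aux_sum (g : V → ℤ) (v a b : V) :
    ∑ w ∈ univ.erase v, g w * (if (a = v ∧ b = w) ∨ (a = w ∧ b = v) then (1:ℤ) else 0) =
      (if a = v ∧ b ≠ v then g b else 0) + (if b = v ∧ a ≠ v then g a else 0) := by
  have key : ∀ w ∈ univ.erase v, g w * (if (a = v ∧ b = w) ∨ (a = w ∧ b = v) then (1:ℤ) else 0) =
      (if b = w then (if a = v then g b else 0) else 0) +
      (if a = w then (if b = v then g a else 0) else 0) := by
    intro w hw
    have hwv : w ≠ v := Finset.ne_of_mem_erase hw
    by_cases h1 : b = w <;> by_cases h2 : a = w <;> by_cases h3 : a = v <;> by_cases h4 : b = v <;>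
      simp_all
  rw [Finset.sum_congr rfl key, Finset.sum_add_distrib, Finset.sum_ite_eq, Finset.sum_ite_eq]
  simp only [Finset.mem_erase, Finset.mem_univ, and_true, ne_eq]
  by_cases h3 : a = v <;> by_cases h4 : b = v <;> simp [h3, h4]

omit [DecidableEq E] in
/-- Off-diagonal weighted sum at `v` as a sum over edge-ends. -/
theorem sum_erase_mul_edgeMult (ends : E → V × V) (g : V → ℤ) (v : V) :
    ∑ w ∈ univ.erase v, g w * (edgeMult ends v w : ℤ) =
      ∑ e : E, ((if (ends e).1 = v ∧ (ends e).2 ≠ v then g (ends e).2 else 0) +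
        (if (ends e).2 = v ∧ (ends e).1 ≠ v then g (ends e).1 else 0)) := by
  classical
  have h1 : ∀ w : V, (edgeMult ends v w : ℤ) =
      ∑ e : E, if ((ends e).1 = v ∧ (ends e).2 = w) ∨ ((ends e).1 = w ∧ (ends e).2 = v)
        then (1 : ℤ) else 0 := by
    intro w
    simp only [edgeMult, Finset.card_filter]
    push_cast
    refine Finset.sum_congr rfl fun e _ => ?_
    rcases hab : ends e with ⟨a, b⟩
    simp only [Prod.mk.injEq]
  simp_rw [h1, Finset.mul_sum]
  rw [Finset.sum_comm]
  exact Finset.sum_congr rfl fun e _ => aux_sum g v _ _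

/-- The flux of `y` along the edge `e` (with respect to `β`). -/
def flux (ends : E → V × V) (β y : V → ℤ) (e : E) : ℤ :=
  β (ends e).1 * y (ends e).2 - β (ends e).2 * y (ends e).1

/-- The divergence of an edge vector at `v` (minus the prelude's boundary). -/
def dvg (ends : E → V × V) (γ : E → ℤ) (v : V) : ℤ :=
  ∑ e : E, ((if (ends e).1 = v then (1 : ℤ) else 0) - (if (ends e).2 = v then 1 else 0)) * γ e

omit [Fintype V] [DecidableEq E] in
theorem dvg_eq_neg_boundary (ends : E → V × V) (γ : E → ℤ) (v : V) :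
    dvg ends γ v = - LabGraph.boundary ends γ v := by
  simp only [dvg, LabGraph.boundary, ← Finset.sum_neg_distrib]
  refine Finset.sum_congr rfl fun e _ => ?_
  split_ifs <;> ring

omit [DecidableEq E] in
/-- Diagonal entry times `β v`. -/
theorem beta_mul_diag (ends : E → V × V) (β : V → ℤ) (hβ : IsMultFn ends β) (v : V) :
    β v * mfMatrix ends β v v = -(∑ u ∈ univ.erase v, β u * (edgeMult ends v u : ℤ)) := by
  simp only [mfMatrix, if_true]
  exact Int.mul_ediv_cancel' ((dvd_neg).mpr (hβ v).2)

omit [DecidableEq E] in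
theorem mulVec_apply_eq (ends : E → V × V) (β y : V → ℤ) (v : V) :
    (Matrix.mulVec (mfMatrix ends β) y) v =
      mfMatrix ends β v v * y v + ∑ w ∈ univ.erase v, y w * (edgeMult ends v w : ℤ) := by
  simp only [Matrix.mulVec, dotProduct]
  rw [← Finset.add_sum_erase _ _ (Finset.mem_univ v)]
  congr 1
  refine Finset.sum_congr rfl fun w hw => ?_
  have : v ≠ w := (Finset.ne_of_mem_erase hw).symm
  simp only [mfMatrix, if_neg this]
  ring

omit [DecidableEq E] in
/-- The flux formula. -/
theorem beta_mul_mulVec (ends : E → V × V) (β : V → ℤ) (hβ : IsMultFn ends β) (y : V → ℤ) (v : V) :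
    β v * (Matrix.mulVec (mfMatrix ends β) y) v = dvg ends (flux ends β y) v := by
  have h0 := mulVec_apply_eq ends β y v
  rw [h0, mul_add, ← mul_assoc, beta_mul_diag ends β hβ v, Finset.mul_sum, neg_mul, Finset.sum_mul,
    ← Finset.sum_neg_distrib, ← Finset.sum_add_distrib]
  have h1 : ∀ w ∈ univ.erase v, -(β w * (edgeMult ends v w : ℤ) * y v) +
      β v * (y w * (edgeMult ends v w : ℤ)) = (β v * y w - β w * y v) * (edgeMult ends v w : ℤ) := by
    intro w _; ring
  rw [Finset.sum_congr rfl h1, sum_erase_mul_edgeMult ends (fun w => β v * y w - β w * y v) v]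
  simp only [dvg, flux]
  refine Finset.sum_congr rfl fun e _ => ?_
  by_cases h3 : (ends e).1 = v <;> by_cases h4 : (ends e).2 = v <;> simp [h3, h4]


omit [DecidableEq E] in
/-- The total divergence vanishes. -/
theorem sum_dvg (ends : E → V × V) (γ : E → ℤ) : ∑ v : V, dvg ends γ v = 0 := by
  simp only [dvg]
  rw [Finset.sum_comm]
  refine Finset.sum_eq_zero fun e _ => ?_
  rw [← Finset.sum_mul, Finset.sum_sub_distrib, Finset.sum_ite_eq, Finset.sum_ite_eq]
  simp

omit [DecidableEq E] in
/-- `β ∘ α = 0`. -/
theorem sum_mulVec_mul_beta (ends : E → V × V) (β : V → ℤ) (hβ : IsMultFn ends β) (y : V → ℤ) :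
    ∑ v : V, (Matrix.mulVec (mfMatrix ends β) y) v * β v = 0 := by
  rw [← sum_dvg ends (flux ends β y)]
  refine Finset.sum_congr rfl fun v _ => ?_
  rw [mul_comm, beta_mul_mulVec ends β hβ]

/-- Divergence under contraction: the divergence of the restricted edge vector at a class is the
sum of the divergences over the class. -/
theorem dvg_ctr (ends : E → V × V) (D : Finset E) (γ : E → ℤ) (c : CtrVert ends D) :
    dvg (ctrEnds ends D) (fun e : CtrEdge D => γ e.1) c =
      ∑ v ∈ univ.filter (fun v => ctrMk ends D v = c), dvg ends γ v := by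
  have h := congrFun (pushV_boundaryHom ends D γ) c
  simp only [pushV, boundaryHom, resE, LinearMap.coe_mk, AddHom.coe_mk] at h
  rw [dvg_eq_neg_boundary]
  simp_rw [dvg_eq_neg_boundary]
  rw [Finset.sum_neg_distrib, h]

/-- Contraction identity for the matrix of a multiplicity function. -/
theorem beta_mul_mulVec_ctr (ends : E → V × V) (D : Finset E) (β : V → ℤ) (hβ : IsMultFn ends β)
    (β' : CtrVert ends D → ℤ) (hβ' : IsMultFn (ctrEnds ends D) β')
    (hcompat : ∀ v, β' (ctrMk ends D v) = β v) (x' : CtrVert ends D → ℤ) (c : CtrVert ends D) :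
    β' c * (Matrix.mulVec (mfMatrix (ctrEnds ends D) β') x') c =
      ∑ v ∈ univ.filter (fun v => ctrMk ends D v = c),
        β v * (Matrix.mulVec (mfMatrix ends β) (fun v => x' (ctrMk ends D v))) v := by
  rw [beta_mul_mulVec _ _ hβ']
  have : flux (ctrEnds ends D) β' x' =
      fun e : CtrEdge D => flux ends β (fun v => x' (ctrMk ends D v)) e.1 := by
    funext e
    simp only [flux, ctrEnds, hcompat]
  rw [this, dvg_ctr]
  refine Finset.sum_congr rfl fun v _ => ?_
  rw [beta_mul_mulVec _ _ hβ]

end Groth.Agent.H74.LabFlux
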