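import Groth.Agent.H74.LabKernel

/-!
# The index computation: `|det α₀| = r² · |ker β / im α|` (helper74)
-/

open Finset Matrix

namespace Groth.Agent.H74.LabIndex

universe u
variable {V : Type u} [Fintype V] [DecidableEq V]

open LabGraph Groth.Agent.H74.LabLaplacian

section Abstract

variable (α : Matrix V V ℤ) (β β' : V → ℤ) (m : ℤ) (v₀ : V) (r : ℕ)

/-- extension by zero as a linear map -/
def extL (v₀ : V) : ({v // v ≠ v₀} → ℤ) →ₗ[ℤ] (V → ℤ) where
  toFun := extZ v₀
  map_add' a b := by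
    funext v
    simp only [extZ, Pi.add_apply]
    split_ifs <;> simp
  map_smul' c a := by
    funext v
    simp only [extZ, Pi.smul_apply, RingHom.id_apply]
    split_ifs <;> simp

/-- restriction to the non-root vertices as a linear map -/
def resL (v₀ : V) : (V → ℤ) →ₗ[ℤ] ({v // v ≠ v₀} → ℤ) :=
  LinearMap.funLeft ℤ ℤ (Subtype.val : {v // v ≠ v₀} → V)

omit [Fintype V] in
theorem resL_apply (y : V → ℤ) (u : {v // v ≠ v₀}) : resL v₀ y u = y u.1 := rfl

omit [Fintype V] in
theorem extL_apply (s : {v // v ≠ v₀} → ℤ) (v : V) : extL v₀ s v = extZ v₀ s v := rfl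

omit [Fintype V] in
theorem extL_resL_of_root (y : V → ℤ) (hy : y v₀ = 0) : extL v₀ (resL v₀ y) = y := by
  funext v
  rw [extL_apply]
  by_cases hv : v = v₀
  · subst hv; rw [extZ_root, hy]
  · simp [extZ, hv, resL_apply]

/-- the reduced matrix is restriction ∘ α ∘ extension -/
theorem resL_mulVec_extL (s : {v // v ≠ v₀} → ℤ) :
    resL v₀ (α *ᵥ (extL v₀ s)) =
      (α.submatrix (Subtype.val : {v // v ≠ v₀} → V) Subtype.val) *ᵥ s := by
  funext u
  rw [resL_apply]
  simp only [Matrix.mulVec, dotProduct, submatrix_apply]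
  rw [sum_subtype_extZ v₀ s (fun v => α u.1 v)]
  rfl

theorem index_range_mulVecLin {n : Type*} [Fintype n] [DecidableEq n] (A : Matrix n n ℤ)
    (hA : A.det ≠ 0) :
    (LinearMap.range (Matrix.mulVecLin A)).toAddSubgroup.index = A.det.natAbs := by
  have hinj : Function.Injective (Matrix.mulVecLin A) := by
    rw [injective_iff_map_eq_zero]
    intro x hx
    by_contra hne
    exact hA (Matrix.exists_mulVec_eq_zero_iff.mp ⟨x, hne, hx⟩)
  let e : (n → ℤ) ≃ₗ[ℤ] LinearMap.range (Matrix.mulVecLin A) := LinearEquiv.ofInjective _ hinj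
  have h := Submodule.natAbs_det_equiv (LinearMap.range (Matrix.mulVecLin A)) e
  have hcomp : (LinearMap.range (Matrix.mulVecLin A)).subtype ∘ₗ
      AddMonoidHom.toIntLinearMap (e : (n → ℤ) →+ LinearMap.range (Matrix.mulVecLin A)) =
      Matrix.toLin' A := by
    ext x i
    simp [e, Matrix.toLin'_apply]
  rw [hcomp, LinearMap.det_toLin'] at h
  rw [h]
  rfl

theorem index_ker_of_surjective_zmod {G : Type*} [AddCommGroup G] (r : ℕ) (q : G →+ ZMod r)
    (hq : Function.Surjective q) : q.ker.index = r := by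
  rw [AddSubgroup.index_ker, AddMonoidHom.range_eq_top.mpr hq, AddSubgroup.card_top,
    Nat.card_zmod]

/-- The index computation. -/
theorem natAbs_det_reduced
    (hm : m ≠ 0) (hββ' : ∀ v, β v = m * β' v) (hbez : ∃ c : V → ℤ, ∑ v, β' v * c v = 1)
    (hr : β' v₀ = r) (hr0 : r ≠ 0)
    (hαβ : ∀ y : V → ℤ, ∑ v, (α *ᵥ y) v * β v = 0)
    (hβker : α *ᵥ β = 0)
    (hker : ∀ y : V → ℤ, α *ᵥ y = 0 → β v₀ • y = y v₀ • β)
    (hdet : (α.submatrix (Subtype.val : {v // v ≠ v₀} → V) Subtype.val).det ≠ 0) :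
    (α.submatrix (Subtype.val : {v // v ≠ v₀} → V) Subtype.val).det.natAbs =
      r * Nat.card ((LinearMap.ker (betaHom β)) ⧸
        (LinearMap.range (Matrix.mulVecLin α)).comap (LinearMap.ker (betaHom β)).subtype) * r := by
  classical
  obtain ⟨c, hc⟩ := hbez
  set Kb := LinearMap.ker (betaHom β) with hKb
  have hmemK : ∀ y : V → ℤ, y ∈ Kb ↔ ∑ v, y v * β v = 0 := by
    intro y
    simp [hKb, LinearMap.mem_ker, betaHom, Fintype.linearCombination_apply]
  let αK : (V → ℤ) →+ Kb :=
    ((Matrix.mulVecLin α).codRestrict Kb (fun y => (hmemK _).mpr (hαβ y))).toAddMonoidHom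
  let ιH : ({v // v ≠ v₀} → ℤ) →+ (V → ℤ) := (extL v₀).toAddMonoidHom
  let ρK : Kb →+ ({v // v ≠ v₀} → ℤ) := ((resL v₀).comp Kb.subtype).toAddMonoidHom
  have hαK : ∀ y, ((αK y : Kb) : V → ℤ) = α *ᵥ y := fun y => rfl
  have hρK : ∀ (x : Kb) (u : {v // v ≠ v₀}), ρK x u = (x : V → ℤ) u.1 := fun x u => rfl
  have hιH : ∀ s v, ιH s v = extZ v₀ s v := fun s v => rfl
  -- `α β' = 0`
  have hβ'ker : α *ᵥ β' = 0 := by
    have : m • (α *ᵥ β') = 0 := by
      rw [← Matrix.mulVec_smul]
      have : m • β' = β := by funext v; simp [hββ' v]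
      rw [this, hβker]
    rcases smul_eq_zero.mp this with h | h
    · exact absurd h hm
    · exact h
  -- the subgroup `A'`
  set N := (LinearMap.range (Matrix.mulVecLin α)).comap Kb.subtype with hN
  have hA' : N.toAddSubgroup = αK.range := by
    ext x
    simp only [Submodule.mem_toAddSubgroup, hN, Submodule.mem_comap, Submodule.subtype_apply,
      LinearMap.mem_range, Matrix.mulVecLin_apply, AddMonoidHom.mem_range]
    constructor
    · rintro ⟨y, hy⟩; exact ⟨y, Subtype.ext hy⟩
    · rintro ⟨y, hy⟩; exact ⟨y, congrArg Subtype.val hy⟩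
  -- a general splitting of sums at the root
  have hsplit : ∀ f : V → ℤ, ∑ v, f v = f v₀ + ∑ u : {v // v ≠ v₀}, f u.1 := by
    intro f
    rw [← Finset.sum_subtype (Finset.univ.filter (fun v : V => v ≠ v₀)) (by simp) f,
      Finset.filter_ne', Finset.add_sum_erase _ _ (Finset.mem_univ v₀)]
  have hβv₀ : β v₀ ≠ 0 := by
    rw [hββ' v₀, hr]
    exact mul_ne_zero hm (by exact_mod_cast hr0)
  -- (2)
  have hker_dvd : ∀ y : V → ℤ, α *ᵥ y = 0 → ((r : ℤ) ∣ y v₀) := by
    intro y hy
    have h := hker y hy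
    have h1 : ∀ v, (r : ℤ) * y v = y v₀ * β' v := by
      intro v
      have := congrFun h v
      simp only [Pi.smul_apply, smul_eq_mul, hββ' v₀, hββ' v, hr] at this
      have h' : m * ((r : ℤ) * y v) = m * (y v₀ * β' v) := by linarith
      exact mul_left_cancel₀ hm h'
    refine ⟨∑ v, y v * c v, ?_⟩
    calc y v₀ = y v₀ * ∑ v, β' v * c v := by rw [hc, mul_one]
      _ = ∑ v, (y v₀ * β' v) * c v := by
          rw [Finset.mul_sum]; exact Finset.sum_congr rfl fun v _ => by ring
      _ = ∑ v, ((r : ℤ) * y v) * c v := by simp_rw [h1]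
      _ = r * ∑ v, y v * c v := by
          rw [Finset.mul_sum]; exact Finset.sum_congr rfl fun v _ => by ring
  let q : (V → ℤ) →+ ZMod r :=
    (Int.castAddHom (ZMod r)).comp (Pi.evalAddMonoidHom (fun _ : V => ℤ) v₀)
  have hqapp : ∀ y, q y = ((y v₀ : ℤ) : ZMod r) := fun y => rfl
  have hq : Function.Surjective q := by
    intro a
    obtain ⟨n, rfl⟩ := ZMod.intCast_surjective a
    exact ⟨Pi.single v₀ n, by rw [hqapp, Pi.single_eq_same]⟩
  have hsup : ιH.range ⊔ αK.ker = q.ker := by
    apply le_antisymm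
    · refine sup_le ?_ ?_
      · rintro _ ⟨s, rfl⟩
        rw [AddMonoidHom.mem_ker, hqapp, hιH, extZ_root, Int.cast_zero]
      · intro y hy
        rw [AddMonoidHom.mem_ker] at hy ⊢
        have hy' : α *ᵥ y = 0 := by
          have := congrArg Subtype.val hy
          rwa [hαK] at this
        rw [hqapp]
        exact (ZMod.intCast_zmod_eq_zero_iff_dvd _ _).mpr (hker_dvd y hy')
    · intro y hy
      rw [AddMonoidHom.mem_ker, hqapp] at hy
      obtain ⟨k, hk⟩ := (ZMod.intCast_zmod_eq_zero_iff_dvd _ _).mp hy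
      rw [AddSubgroup.mem_sup]
      refine ⟨y - k • β', ?_, k • β', ?_, by abel⟩
      · refine ⟨resL v₀ (y - k • β'), ?_⟩
        apply extL_resL_of_root
        simp only [Pi.sub_apply, Pi.smul_apply, smul_eq_mul, hr, hk]
        ring
      · rw [AddMonoidHom.mem_ker]
        apply Subtype.ext
        rw [hαK, Matrix.mulVec_smul, hβ'ker, smul_zero]
        rfl
  have h2 : ((ιH.range).map αK).relIndex αK.range = r := by
    rw [AddMonoidHom.range_eq_map αK, AddSubgroup.relIndex_map_map, top_sup_eq,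
      AddSubgroup.relIndex_top_right, hsup, index_ker_of_surjective_zmod r q hq]
  -- (3)
  let q' : ({v // v ≠ v₀} → ℤ) →+ ZMod r :=
    (Int.castAddHom (ZMod r)).comp
      (Fintype.linearCombination ℤ (fun u : {v // v ≠ v₀} => β' u.1)).toAddMonoidHom
  have hq'app : ∀ s, q' s = ((∑ u : {v // v ≠ v₀}, s u * β' u.1 : ℤ) : ZMod r) := by
    intro s
    simp [q', Fintype.linearCombination_apply]
  have hq' : Function.Surjective q' := by
    intro a
    obtain ⟨n, rfl⟩ := ZMod.intCast_surjective a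
    refine ⟨n • (fun u : {v // v ≠ v₀} => c u.1), ?_⟩
    rw [map_zsmul, hq'app]
    have h1 := hsplit (fun v => β' v * c v)
    rw [hc, hr] at h1
    have h3 : (∑ u : {v // v ≠ v₀}, c u.1 * β' u.1 : ℤ) = 1 - r * c v₀ := by
      have : ∑ u : {v // v ≠ v₀}, c u.1 * β' u.1 = ∑ u : {v // v ≠ v₀}, β' u.1 * c u.1 :=
        Finset.sum_congr rfl fun u _ => mul_comm _ _
      rw [this]; linarith
    rw [h3]
    simp
  have hρrange : ρK.range = q'.ker := by
    ext s
    rw [AddMonoidHom.mem_range, AddMonoidHom.mem_ker, hq'app]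
    constructor
    · rintro ⟨x, rfl⟩
      have hx := (hmemK _).mp x.2
      have hx' : ∑ v, (x : V → ℤ) v * β' v = 0 := by
        have : m * ∑ v, (x : V → ℤ) v * β' v = 0 := by
          rw [Finset.mul_sum, ← hx]
          exact Finset.sum_congr rfl fun v _ => by rw [hββ' v]; ring
        rcases mul_eq_zero.mp this with h | h
        · exact absurd h hm
        · exact h
      rw [hsplit, hr] at hx'
      have : (∑ u : {v // v ≠ v₀}, ρK x u * β' u.1 : ℤ) = -((x : V → ℤ) v₀) * r := by
        simp only [hρK]; linarith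
      rw [this]
      simp
    · intro hs
      obtain ⟨t, ht⟩ := (ZMod.intCast_zmod_eq_zero_iff_dvd _ _).mp hs
      have hxmem : (extZ v₀ s - t • Pi.single v₀ 1 : V → ℤ) ∈ Kb := by
        rw [hmemK, hsplit]
        simp only [Pi.sub_apply, Pi.smul_apply, extZ_root, extZ_val, Pi.single_eq_same,
          smul_eq_mul, mul_one, zero_sub]
        have h1 : ∀ u : {v // v ≠ v₀}, (Pi.single v₀ (1 : ℤ) : V → ℤ) u.1 = 0 := fun u =>
          Pi.single_eq_of_ne u.2 _
        simp only [h1, mul_zero, sub_zero]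
        have h3 : ∑ u : {v // v ≠ v₀}, s u * β u.1 = m * ∑ u : {v // v ≠ v₀}, s u * β' u.1 := by
          rw [Finset.mul_sum]
          exact Finset.sum_congr rfl fun u _ => by rw [hββ' u.1]; ring
        rw [h3, ht, hββ' v₀, hr]
        ring
      refine ⟨⟨_, hxmem⟩, ?_⟩
      funext u
      rw [hρK]
      simp only [Pi.sub_apply, Pi.smul_apply, extZ_val, smul_eq_mul]
      rw [Pi.single_eq_of_ne u.2]
      ring
  have h3 : ρK.range.index = r := by
    rw [hρrange, index_ker_of_surjective_zmod r q' hq']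
  -- injectivity of `ρK`
  have hρinj : Function.Injective ρK := by
    rw [injective_iff_map_eq_zero]
    intro x hx
    have hxu : ∀ u : {v // v ≠ v₀}, (x : V → ℤ) u.1 = 0 := fun u => by
      rw [← hρK, hx]; rfl
    have hx0 := (hmemK _).mp x.2
    rw [hsplit] at hx0
    simp only [hxu, zero_mul, Finset.sum_const_zero, add_zero] at hx0
    have hxv₀ : (x : V → ℤ) v₀ = 0 := by
      rcases mul_eq_zero.mp hx0 with h | h
      · exact h
      · exact absurd h hβv₀
    apply Subtype.ext
    funext v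
    by_cases hv : v = v₀
    · subst hv; exact hxv₀
    · exact hxu ⟨v, hv⟩
  -- glue
  have hglue : ((ιH.range).map αK).map ρK =
      (LinearMap.range (Matrix.mulVecLin
        (α.submatrix (Subtype.val : {v // v ≠ v₀} → V)
          (Subtype.val : {v // v ≠ v₀} → V)))).toAddSubgroup := by
    rw [AddSubgroup.map_map, AddMonoidHom.map_range, LinearMap.range_toAddSubgroup]
    congr 1
    refine AddMonoidHom.ext fun s => funext fun u => ?_
    change (resL v₀ (α *ᵥ (extL v₀ s))) u = _
    rw [resL_mulVec_extL]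
    rfl
  have hle : (ιH.range).map αK ≤ αK.range := by
    rw [AddMonoidHom.range_eq_map αK]
    exact AddSubgroup.map_mono le_top
  have hidx := AddSubgroup.index_map_of_injective (H := (ιH.range).map αK) hρinj
  have hrel := AddSubgroup.relIndex_mul_index hle
  rw [← index_range_mulVecLin (α.submatrix (Subtype.val : {v // v ≠ v₀} → V) Subtype.val) hdet,
    ← hglue, hidx, h3, ← hrel, h2, ← hA']
  rfl

end Abstract

end Groth.Agent.H74.LabIndex
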