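import Groth.Agent.H74.LabTreeDeg

/-!
# Nondegeneracy of the reduced Laplacian and the kernel of the matrix of a multiplicity function
(helper74)
-/

open Finset Matrix

namespace Groth.Agent.H74.LabLaplacian

universe u
variable {V E : Type u} [Fintype V] [Fintype E] [DecidableEq V] [DecidableEq E]

open LabGraph DualGr Groth.Agent.H74.LabFlux Groth.Agent.H74.Incidence

/-- extension by zero at the root -/
def extZ (v₀ : V) (s : {v // v ≠ v₀} → ℤ) (v : V) : ℤ := if h : v ≠ v₀ then s ⟨v, h⟩ else 0

omit [Fintype V] in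
theorem extZ_val (v₀ : V) (s : {v // v ≠ v₀} → ℤ) (u : {v // v ≠ v₀}) : extZ v₀ s u.1 = s u := by
  simp [extZ, u.2]

omit [Fintype V] in
theorem extZ_root (v₀ : V) (s : {v // v ≠ v₀} → ℤ) : extZ v₀ s v₀ = 0 := by
  simp [extZ]

/-- sums over the non-root vertices against an extension by zero -/
theorem sum_subtype_extZ (v₀ : V) (s : {v // v ≠ v₀} → ℤ) (c : V → ℤ) :
    ∑ u : {v // v ≠ v₀}, c u.1 * s u = ∑ v : V, c v * extZ v₀ s v := by
  have h1 : ∑ u : {v // v ≠ v₀}, c u.1 * s u =
      ∑ u : {v // v ≠ v₀}, (fun v => c v * extZ v₀ s v) u.1 := by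
    refine Finset.sum_congr rfl fun u _ => ?_
    simp only [extZ_val]
  rw [h1, ← Finset.sum_subtype (Finset.univ.filter (fun v : V => v ≠ v₀)) (by simp)
    (fun v => c v * extZ v₀ s v), Finset.sum_filter]
  refine Finset.sum_congr rfl fun v _ => ?_
  by_cases hv : v = v₀
  · subst hv; simp [extZ_root]
  · simp [hv]

omit [Fintype E] [DecidableEq E] in
theorem incR_transpose_mulVec (ends : E → V × V) (v₀ : V) (s : {v // v ≠ v₀} → ℤ) (e : E) :
    ((incR ends v₀).transpose *ᵥ s) e = extZ v₀ s (ends e).2 - extZ v₀ s (ends e).1 := by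
  simp only [Matrix.mulVec, dotProduct, Matrix.transpose_apply, incR, submatrix_apply, id_eq]
  rw [sum_subtype_extZ v₀ s (fun v => inc ends v e)]
  simp only [inc, sub_mul, Finset.sum_sub_distrib, ite_mul, one_mul, zero_mul, Finset.sum_ite_eq,
    Finset.mem_univ, if_true]

/-- The reduced weighted Laplacian of a connected graph with positive weights is injective. -/
theorem reduced_laplacian_injective (ends : E → V × V) (hG : Connected ends) (w : E → ℤ)
    (hw : ∀ e, 0 < w e) (v₀ : V) (s : {v // v ≠ v₀} → ℤ)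
    (hs : (incR ends v₀ * Matrix.diagonal w * (incR ends v₀).transpose) *ᵥ s = 0) : s = 0 := by
  set g := (incR ends v₀).transpose *ᵥ s with hg
  have hq : ∑ e : E, w e * (g e * g e) = 0 := by
    have h0 : s ⬝ᵥ ((incR ends v₀ * Matrix.diagonal w * (incR ends v₀).transpose) *ᵥ s) = 0 := by
      rw [hs, dotProduct_zero]
    rw [← Matrix.mulVec_mulVec, ← Matrix.mulVec_mulVec, Matrix.dotProduct_mulVec,
      ← Matrix.mulVec_transpose, ← hg] at h0
    rw [← h0]
    simp only [dotProduct, Matrix.mulVec_diagonal]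
    refine Finset.sum_congr rfl fun e _ => ?_
    ring
  have hzero : ∀ e, g e = 0 := by
    intro e
    have hnn : ∀ e ∈ (Finset.univ : Finset E), 0 ≤ w e * (g e * g e) := fun e _ =>
      mul_nonneg (hw e).le (mul_self_nonneg _)
    have := (Finset.sum_eq_zero_iff_of_nonneg hnn).mp hq e (Finset.mem_univ _)
    have h2 : g e * g e = 0 := by
      rcases mul_eq_zero.mp this with h | h
      · exact absurd h (hw e).ne'
      · exact h
    exact mul_self_eq_zero.mp h2
  have hconst : ∀ v, Relation.ReflTransGen (Adj ends) v₀ v → extZ v₀ s v = 0 := by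
    intro v hv
    induction hv with
    | refl => exact extZ_root v₀ s
    | @tail b c _ hbc ih =>
      obtain ⟨e, he | he⟩ := hbc
      · have := hzero e
        rw [hg, incR_transpose_mulVec, he] at this
        simp only at this
        linarith
      · have := hzero e
        rw [hg, incR_transpose_mulVec, he] at this
        simp only at this
        linarith
  funext u
  rw [← extZ_val v₀ s u]
  exact hconst u.1 (hG.2 _ _)


theorem det_reduced_laplacian_ne_zero (ends : E → V × V) (hG : Connected ends) (w : E → ℤ)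
    (hw : ∀ e, 0 < w e) (v₀ : V) :
    (incR ends v₀ * Matrix.diagonal w * (incR ends v₀).transpose).det ≠ 0 := by
  intro h
  obtain ⟨s, hs, hs0⟩ := Matrix.exists_mulVec_eq_zero_iff.mpr h
  exact hs (reduced_laplacian_injective ends hG w hw v₀ s hs0)

theorem det_mfMatrix_reduced (ends : E → V × V) (β : V → ℤ) (hβ : IsMultFn ends β) (v₀ : V) :
    (∏ u : {v // v ≠ v₀}, β u.1) ^ 2 *
        ((mfMatrix ends β).submatrix (Subtype.val : {v // v ≠ v₀} → V) Subtype.val).det =
      (-1) ^ (Fintype.card {v // v ≠ v₀}) *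
        (incR ends v₀ * Matrix.diagonal (ew ends β) * (incR ends v₀).transpose).det := by
  have h := congrArg Matrix.det (diag_mul_mfMatrix_mul_diag_reduced ends β hβ v₀)
  rw [Matrix.det_mul, Matrix.det_mul, Matrix.det_diagonal, Matrix.det_neg] at h
  rw [← h]
  ring

omit [DecidableEq E] in
theorem ew_pos (ends : E → V × V) (β : V → ℤ) (hβ : IsMultFn ends β) (e : E) : 0 < ew ends β e :=
  mul_pos (hβ _).1 (hβ _).1

theorem det_mfMatrix_reduced_ne_zero (ends : E → V × V) (β : V → ℤ) (hβ : IsMultFn ends β)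
    (hG : Connected ends) (v₀ : V) :
    ((mfMatrix ends β).submatrix (Subtype.val : {v // v ≠ v₀} → V) Subtype.val).det ≠ 0 := by
  intro h
  have h1 := det_mfMatrix_reduced ends β hβ v₀
  rw [h, mul_zero] at h1
  have h2 := det_reduced_laplacian_ne_zero ends hG (ew ends β) (ew_pos ends β hβ) v₀
  have h3 : ((-1 : ℤ) ^ (Fintype.card {v // v ≠ v₀})) ≠ 0 := pow_ne_zero _ (by norm_num)
  exact (mul_ne_zero h3 h2) h1.symm

omit [DecidableEq E] in
/-- `α β = 0`. -/
theorem mulVec_beta (ends : E → V × V) (β : V → ℤ) (hβ : IsMultFn ends β) :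
    mfMatrix ends β *ᵥ β = 0 := by
  funext v
  have h := beta_mul_mulVec ends β hβ β v
  have h0 : dvg ends (flux ends β β) v = 0 := by
    simp only [dvg, flux]
    refine Finset.sum_eq_zero fun e _ => ?_
    ring
  rw [h0] at h
  rcases mul_eq_zero.mp h with h | h
  · exact absurd h (hβ v).1.ne'
  · exact h

/-- The kernel of `α` is spanned (rationally) by `β`. -/
theorem ker_mfMatrix (ends : E → V × V) (β : V → ℤ) (hβ : IsMultFn ends β)
    (hG : Connected ends) (v₀ : V) (y : V → ℤ) (hy : mfMatrix ends β *ᵥ y = 0) :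
    β v₀ • y = y v₀ • β := by
  set z : V → ℤ := β v₀ • y - y v₀ • β with hz
  have hαz : mfMatrix ends β *ᵥ z = 0 := by
    rw [hz, Matrix.mulVec_sub, Matrix.mulVec_smul, Matrix.mulVec_smul, hy, mulVec_beta ends β hβ]
    simp
  have hz0 : z v₀ = 0 := by
    simp only [hz, Pi.sub_apply, Pi.smul_apply, smul_eq_mul]
    ring
  set s : {v // v ≠ v₀} → ℤ := fun u => z u.1 with hs
  have hext : extZ v₀ s = z := by
    funext v
    by_cases hv : v = v₀
    · subst hv; rw [extZ_root, hz0]
    · simp [extZ, hv, hs]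
  have hs0 : ((mfMatrix ends β).submatrix (Subtype.val : {v // v ≠ v₀} → V) Subtype.val) *ᵥ s
      = 0 := by
    funext u
    simp only [Matrix.mulVec, dotProduct, submatrix_apply, Pi.zero_apply]
    rw [sum_subtype_extZ v₀ s (fun v => mfMatrix ends β u.1 v), hext]
    exact congrFun hαz u.1
  have hszero : s = 0 := by
    by_contra hne
    exact det_mfMatrix_reduced_ne_zero ends β hβ hG v₀
      (Matrix.exists_mulVec_eq_zero_iff.mp ⟨s, hne, hs0⟩)
  have hzzero : z = 0 := by
    rw [← hext, hszero]
    funext v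
    simp [extZ]
  have := sub_eq_zero.mp (hz ▸ hzzero)
  exact this

end Groth.Agent.H74.LabLaplacian
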