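import Groth.Agent.H74.LabFlux
import Groth.Agent.H74.Incidence
import Groth.Agent.H74.CauchyBinet

/-!
# The weighted Laplacian of a multigraph with multiplicity function and the matrix-tree theorem
(helper74)
-/

open Finset Matrix

namespace Groth.Agent.H74.LabLaplacian

universe u
variable {V E : Type u} [Fintype V] [Fintype E] [DecidableEq V] [DecidableEq E]

open LabGraph DualGr Groth.Agent.H74.LabFlux Groth.Agent.H74.Incidence

/-- the edge weights `β_a β_b` -/
def ew (ends : E → V × V) (β : V → ℤ) (e : E) : ℤ := β (ends e).1 * β (ends e).2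

/-- `B α B = - N W Nᵀ`. -/
theorem diag_mul_mfMatrix_mul_diag (ends : E → V × V) (β : V → ℤ) (hβ : IsMultFn ends β) :
    Matrix.diagonal β * mfMatrix ends β * Matrix.diagonal β =
      -(inc ends * Matrix.diagonal (ew ends β) * (inc ends).transpose) := by
  ext u v
  rw [Matrix.mul_diagonal, Matrix.diagonal_mul, Matrix.neg_apply, Matrix.mul_apply]
  have h := beta_mul_mulVec ends β hβ (Pi.single v (β v)) u
  rw [Matrix.mulVec_single] at h
  simp only [Pi.smul_apply, Matrix.col_apply, MulOpposite.smul_eq_mul_unop,
    MulOpposite.unop_op] at h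
  rw [mul_assoc, h, dvg, ← Finset.sum_neg_distrib]
  refine Finset.sum_congr rfl fun e _ => ?_
  rw [Matrix.mul_diagonal, Matrix.transpose_apply]
  simp only [flux, inc, ew, Pi.single_apply]
  have h1 : (if (ends e).2 = v then β v else 0) =
      β (ends e).2 * (if (ends e).2 = v then 1 else 0) := by
    split_ifs with h
    · rw [h]; ring
    · ring
  have h2 : (if (ends e).1 = v then β v else 0) =
      β (ends e).1 * (if (ends e).1 = v then 1 else 0) := by
    split_ifs with h
    · rw [h]; ring
    · ring
  rw [h1, h2]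
  ring


/-- The reduced form of `B α B = - N W Nᵀ`. -/
theorem diag_mul_mfMatrix_mul_diag_reduced (ends : E → V × V) (β : V → ℤ) (hβ : IsMultFn ends β)
    (v₀ : V) :
    Matrix.diagonal (fun u : {v // v ≠ v₀} => β u.1) *
        (mfMatrix ends β).submatrix Subtype.val Subtype.val *
        Matrix.diagonal (fun u : {v // v ≠ v₀} => β u.1) =
      -(incR ends v₀ * Matrix.diagonal (ew ends β) * (incR ends v₀).transpose) := by
  have h := congrArg (fun M : Matrix V V ℤ => M.submatrix (Subtype.val : {v // v ≠ v₀} → V)
    (Subtype.val : {v // v ≠ v₀} → V)) (diag_mul_mfMatrix_mul_diag ends β hβ)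
  convert h using 1
  · ext u v
    simp only [Matrix.mul_diagonal, Matrix.diagonal_mul, submatrix_apply]
  · ext u v
    simp only [Matrix.neg_apply, submatrix_apply, Matrix.mul_apply, incR, Matrix.transpose_apply,
      id_eq]

/-- The matrix-tree theorem for the reduced weighted Laplacian. -/
theorem det_reduced_laplacian (ends : E → V × V) (hG : Connected ends) (w : E → ℤ) (v₀ : V)
    [DecidablePred (IsSpanningTree ends)] :
    (incR ends v₀ * Matrix.diagonal w * (incR ends v₀).transpose).det =
      ∑ T ∈ Finset.univ.powerset.filter (fun T : Finset E => IsSpanningTree ends T),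
        ∏ e ∈ T, w e := by
  classical
  -- there is a function from the non-root vertices to the edges
  have : Nonempty ({v // v ≠ v₀} → E) := by
    by_cases hV : Nonempty {v // v ≠ v₀}
    · obtain ⟨u⟩ := hV
      have hr := hG.2 v₀ u.1
      rcases Relation.ReflTransGen.cases_head hr with h | ⟨c, ⟨e, _⟩, _⟩
      · exact absurd h.symm u.2
      · exact ⟨fun _ => e⟩
    · rw [not_nonempty_iff] at hV
      exact ⟨fun u => isEmptyElim u⟩
  let φ : Finset E → ({v // v ≠ v₀} → E) := fun S =>
    if h : S.card = Fintype.card {v // v ≠ v₀} then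
      Subtype.val ∘ (Fintype.equivOfCardEq (by rw [Fintype.card_coe, h]) : {v // v ≠ v₀} ≃ ↥S)
    else Classical.arbitrary _
  have hφ : ∀ S : Finset E, S.card = Fintype.card {v // v ≠ v₀} →
      Function.Injective (φ S) ∧ Finset.univ.image (φ S) = S := by
    intro S h
    simp only [φ, dif_pos h]
    refine ⟨Subtype.val_injective.comp (Equiv.injective _), ?_⟩
    ext e
    simp only [Finset.mem_image, Finset.mem_univ, true_and, Function.comp_apply]
    constructor
    · rintro ⟨u, rfl⟩; exact Subtype.coe_prop _
    · intro he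
      refine ⟨(Fintype.equivOfCardEq (by rw [Fintype.card_coe, h]) :
        {v // v ≠ v₀} ≃ ↥S).symm ⟨e, he⟩, ?_⟩
      simp
  rw [Groth.Agent.H74.CauchyBinet.det_mul_diagonal_mul_transpose (incR ends v₀) w φ hφ]
  have hterm : ∀ S ∈ Finset.powersetCard (Fintype.card {v // v ≠ v₀}) (Finset.univ : Finset E),
      (∏ e ∈ S, w e) * (((incR ends v₀).submatrix id (φ S)).det) ^ 2 =
        if IsSpanningTree ends S then ∏ e ∈ S, w e else 0 := by
    intro S hS
    have h : S.card = Fintype.card {v // v ≠ v₀} := (Finset.mem_powersetCard.mp hS).2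
    have hsq := det_incR_sq (fun e : S => ends e.1) v₀
      (Fintype.equivOfCardEq (by rw [Fintype.card_coe, h]) : {v // v ≠ v₀} ≃ ↥S)
    have hmat : (incR ends v₀).submatrix id (φ S) =
        (incR (fun e : S => ends e.1) v₀).submatrix id
          (Fintype.equivOfCardEq (by rw [Fintype.card_coe, h]) : {v // v ≠ v₀} ≃ ↥S) := by
      simp only [φ, dif_pos h]
      rfl
    rw [hmat, hsq]
    by_cases hT : IsSpanningTree ends S
    · have hT' : IsTree (fun e : S => ends e.1) := hT
      rw [if_pos hT', if_pos hT, mul_one]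
    · have hT' : ¬ IsTree (fun e : S => ends e.1) := hT
      rw [if_neg hT', if_neg hT, mul_zero]
  rw [Finset.sum_congr rfl hterm, ← Finset.sum_filter]
  refine Finset.sum_congr ?_ fun _ _ => rfl
  ext T
  simp only [Finset.mem_filter, Finset.mem_powersetCard, Finset.mem_powerset]
  constructor
  · rintro ⟨⟨h1, _⟩, h3⟩; exact ⟨h1, h3⟩
  · rintro ⟨h1, h3⟩
    refine ⟨⟨h1, ?_⟩, h3⟩
    have := card_edges_of_isTree (fun e : T => ends e.1) h3 v₀
    rw [Fintype.card_coe] at this
    exact this

end Groth.Agent.H74.LabLaplacian
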