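import Groth.Agent.H74.LabIndex

/-!
# The order of the component group of a multigraph with multiplicity function (helper74)
-/

open Finset Matrix

namespace Groth.Agent.H74.LabMatrixTree

universe u
variable {V E : Type u} [Fintype V] [Fintype E] [DecidableEq V] [DecidableEq E]

open LabGraph DualGr Groth.Agent.H74.LabFlux Groth.Agent.H74.Incidence
  Groth.Agent.H74.LabLaplacian Groth.Agent.H74.LabIndex

/-- The integral form: `|Φ| · β(v₀)² · (∏_{u ≠ v₀} β u)² = m² · Σ_T ∏_v β(v)^{n_T(v)}`. -/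
theorem card_compGrp_mul (ends : E → V × V) (β : V → ℤ) (hβ : IsMultFn ends β)
    (hG : Connected ends) (v₀ : V) [DecidablePred (IsSpanningTree ends)] :
    (Nat.card (CompGrp ends β) : ℤ) * (β v₀) ^ 2 * (∏ u : {v // v ≠ v₀}, β u.1) ^ 2 =
      (Finset.univ.gcd β) ^ 2 *
        ∑ T ∈ Finset.univ.powerset.filter (fun T : Finset E => IsSpanningTree ends T),
          ∏ v : V, β v ^ (nbrCount ends T v) := by
  classical
  set m : ℤ := Finset.univ.gcd β with hmdef
  have hmdvd : ∀ v, m ∣ β v := fun v => Finset.gcd_dvd (Finset.mem_univ v)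
  have hm0 : m ≠ 0 := by
    intro h
    have := (Finset.gcd_eq_zero_iff.mp h) v₀ (Finset.mem_univ _)
    exact (hβ v₀).1.ne' this
  have hmnn : 0 ≤ m := Int.nonneg_of_normalize_eq_self Finset.normalize_gcd
  have hmpos : 0 < m := lt_of_le_of_ne hmnn (Ne.symm hm0)
  set β' : V → ℤ := fun v => β v / m with hβ'def
  have hββ' : ∀ v, β v = m * β' v := fun v => (Int.mul_ediv_cancel' (hmdvd v)).symm
  have hβ'pos : 0 < β' v₀ := by
    have h1 := (hβ v₀).1
    rw [hββ' v₀] at h1
    exact (mul_pos_iff_of_pos_left hmpos).mp h1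
  set r : ℕ := (β' v₀).toNat with hrdef
  have hr : β' v₀ = r := (Int.toNat_of_nonneg hβ'pos.le).symm
  have hr0 : r ≠ 0 := by
    intro h
    rw [h] at hr
    simp only [Nat.cast_zero] at hr
    exact hβ'pos.ne' hr
  -- Bezout
  have hbez : ∃ c : V → ℤ, ∑ v, β' v * c v = 1 := by
    obtain ⟨g, hg⟩ := Finset.gcd_eq_sum_mul (Finset.univ : Finset V) β
    refine ⟨g, ?_⟩
    have : m * ∑ v, β' v * g v = m * 1 := by
      rw [mul_one, Finset.mul_sum]
      conv_rhs => rw [hmdef, hg]
      exact Finset.sum_congr rfl fun v _ => by rw [hββ' v]; ring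
    exact mul_left_cancel₀ hm0 this
  have hdet := det_mfMatrix_reduced_ne_zero ends β hβ hG v₀
  have hidx := natAbs_det_reduced (mfMatrix ends β) β β' m v₀ r hm0 hββ' hbez hr hr0
    (sum_mulVec_mul_beta ends β hβ) (mulVec_beta ends β hβ)
    (ker_mfMatrix ends β hβ hG v₀) hdet
  -- the determinant side
  have hdetL := det_mfMatrix_reduced ends β hβ v₀
  have htree := det_reduced_laplacian ends hG (ew ends β) v₀
  have hsum : ∑ T ∈ Finset.univ.powerset.filter (fun T : Finset E => IsSpanningTree ends T),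
      ∏ e ∈ T, ew ends β e =
      ∑ T ∈ Finset.univ.powerset.filter (fun T : Finset E => IsSpanningTree ends T),
        ∏ v : V, β v ^ (nbrCount ends T v) := by
    refine Finset.sum_congr rfl fun T hT => ?_
    rw [prod_ew]
    refine Finset.prod_congr rfl fun v _ => ?_
    rw [endCount_eq_nbrCount ends T (Finset.mem_filter.mp hT).2 v]
  rw [hsum] at htree
  set Sg := ∑ T ∈ Finset.univ.powerset.filter (fun T : Finset E => IsSpanningTree ends T),
        ∏ v : V, β v ^ (nbrCount ends T v) with hSg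
  have hSgnn : 0 ≤ Sg :=
    Finset.sum_nonneg fun T _ => Finset.prod_nonneg fun v _ => pow_nonneg (hβ v).1.le _
  rw [htree] at hdetL
  set d := ((mfMatrix ends β).submatrix (Subtype.val : {v // v ≠ v₀} → V) Subtype.val).det with hd
  set P := ∏ u : {v // v ≠ v₀}, β u.1 with hP
  -- `|d| * P² = Sg`
  have habs : (d.natAbs : ℤ) * P ^ 2 = Sg := by
    have h1 : |P ^ 2 * d| = |(-1) ^ Fintype.card {v // v ≠ v₀} * Sg| := by rw [hdetL]
    rw [abs_mul, abs_mul, abs_pow (-1 : ℤ), abs_neg, abs_one, one_pow, one_mul,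
      abs_of_nonneg hSgnn, abs_of_nonneg (sq_nonneg P)] at h1
    rw [Int.natCast_natAbs, mul_comm]
    exact h1
  rw [hidx] at habs
  -- conclude
  have hβv₀ : β v₀ = m * r := by rw [hββ' v₀, hr]
  rw [hβv₀]
  have : (Nat.card (CompGrp ends β) : ℤ) * (m * r) ^ 2 * P ^ 2 =
      m ^ 2 * (((r * Nat.card (CompGrp ends β) * r : ℕ) : ℤ) * P ^ 2) := by
    push_cast
    ring
  rw [this, habs]


/-- The order of the component group (rational form). -/
theorem card_compGrp (ends : E → V × V) (β : V → ℤ) (hβ : IsMultFn ends β)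
    (hG : Connected ends) [DecidablePred (IsSpanningTree ends)] :
    (Nat.card (CompGrp ends β) : ℚ) =
      ((Finset.univ.gcd β : ℤ) : ℚ) ^ 2 *
        ∑ T ∈ Finset.univ.powerset.filter (fun T : Finset E => IsSpanningTree ends T),
          ∏ v : V, ((β v : ℚ) ^ ((nbrCount ends T v : ℤ) - 2)) := by
  classical
  obtain ⟨v₀⟩ := hG.1
  have hint := card_compGrp_mul ends β hβ hG v₀
  have hβne : ∀ v, (β v : ℚ) ≠ 0 := fun v => by exact_mod_cast (hβ v).1.ne'
  set Q : ℚ := ∏ v : V, (β v : ℚ) with hQ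
  have hQne : Q ≠ 0 := Finset.prod_ne_zero_iff.mpr fun v _ => hβne v
  have hQsplit : Q = (β v₀ : ℚ) * ∏ u : {v // v ≠ v₀}, (β u.1 : ℚ) := by
    rw [hQ, ← Finset.prod_subtype (Finset.univ.filter (fun v : V => v ≠ v₀)) (by simp)
      (fun v => (β v : ℚ)), Finset.filter_ne']
    exact (Finset.mul_prod_erase _ (fun v => (β v : ℚ)) (Finset.mem_univ v₀)).symm
  have hterm : ∀ T : Finset E, ∏ v : V, ((β v : ℚ) ^ ((nbrCount ends T v : ℤ) - 2)) =
      ((∏ v : V, β v ^ (nbrCount ends T v) : ℤ) : ℚ) / Q ^ 2 := by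
    intro T
    rw [hQ, ← Finset.prod_pow, Int.cast_prod, ← Finset.prod_div_distrib]
    refine Finset.prod_congr rfl fun v _ => ?_
    rw [zpow_sub₀ (hβne v), zpow_natCast, Int.cast_pow]
    norm_num
  simp_rw [hterm]
  rw [← Finset.sum_div, mul_div_assoc', eq_div_iff (pow_ne_zero 2 hQne), hQsplit, mul_pow]
  have := congrArg (fun z : ℤ => (z : ℚ)) hint
  push_cast at this ⊢
  rw [← this]
  ring

end Groth.Agent.H74.LabMatrixTree
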