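import Groth.Agent.H74.LabLaplacian

/-!
# Degrees in spanning trees (helper74)
-/

open Finset Matrix

namespace Groth.Agent.H74.LabLaplacian

universe u
variable {V E : Type u} [Fintype V] [Fintype E] [DecidableEq V] [DecidableEq E]

open LabGraph DualGr Groth.Agent.H74.LabFlux Groth.Agent.H74.Incidence

omit [Fintype E] [DecidableEq E] in
/-- The product of the edge weights `β_a β_b` over `T` in terms of end counts. -/
theorem prod_ew (ends : E → V × V) (β : V → ℤ) (T : Finset E) :
    ∏ e ∈ T, ew ends β e = ∏ v : V, β v ^ (endCount ends T v) := by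
  classical
  have h1 : ∀ v : V, endCount ends T v =
      (T.filter (fun e => (ends e).1 = v)).card + (T.filter (fun e => (ends e).2 = v)).card := by
    intro v
    simp only [endCount, Finset.sum_add_distrib, Finset.card_filter]
  have h2 : ∀ (p : E → V), ∏ e ∈ T, β (p e) = ∏ v : V, β v ^ (T.filter (fun e => p e = v)).card := by
    intro p
    have : ∀ e ∈ T, β (p e) = ∏ v : V, if p e = v then β v else 1 := by
      intro e _
      rw [Finset.prod_ite_eq]
      simp
    rw [Finset.prod_congr rfl this, Finset.prod_comm]
    refine Finset.prod_congr rfl fun v _ => ?_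
    rw [Finset.prod_ite, Finset.prod_const, Finset.prod_const_one, mul_one]
  simp only [ew]
  rw [Finset.prod_mul_distrib, h2 (fun e => (ends e).1), h2 (fun e => (ends e).2),
    ← Finset.prod_mul_distrib]
  refine Finset.prod_congr rfl fun v _ => ?_
  rw [h1 v, pow_add]

omit [Fintype V] [Fintype E] [DecidableEq E] in
/-- A forest has no loops. -/
theorem no_loop_of_isForest (ends : E → V × V) (hF : IsForest ends) (e : E) :
    (ends e).1 ≠ (ends e).2 := by
  classical
  intro h
  obtain ⟨C', hC'⟩ := exists_circuit_of_even ends {e} (Finset.singleton_nonempty e) (by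
    intro v
    simp only [endCount, Finset.sum_singleton, h]
    split_ifs <;> decide)
  exact hF C' hC'

omit [Fintype V] [Fintype E] in
/-- A forest has no parallel edges. -/
theorem no_parallel_of_isForest (ends : E → V × V) (hF : IsForest ends) (e e' : E) (v w : V)
    (he : ends e = (v, w) ∨ ends e = (w, v)) (he' : ends e' = (v, w) ∨ ends e' = (w, v)) :
    e = e' := by
  classical
  by_contra hne
  obtain ⟨C', hC'⟩ := exists_circuit_of_even ends {e, e'} ⟨e, by simp⟩ (by
    intro x
    have hx : ∀ e'' : E, (ends e'' = (v, w) ∨ ends e'' = (w, v)) →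
        ((if (ends e'').1 = x then 1 else 0) + (if (ends e'').2 = x then 1 else 0) : ℕ) =
        (if v = x then 1 else 0) + (if w = x then 1 else 0) := by
      rintro e'' (h | h) <;> rw [h]
      simp only
      rw [add_comm]
    simp only [endCount]
    rw [Finset.sum_pair hne, hx e he, hx e' he']
    exact ⟨_, rfl⟩)
  exact hF C' hC'


omit [Fintype E] in
/-- In a spanning tree, the end count at a vertex is its number of neighbours. -/
theorem endCount_eq_nbrCount (ends : E → V × V) (T : Finset E) (hT : IsSpanningTree ends T)
    (v : V) : endCount ends T v = nbrCount ends T v := by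
  classical
  have hF : IsForest (fun e : T => ends e.1) := hT.2
  have hnl : ∀ e ∈ T, (ends e).1 ≠ (ends e).2 := fun e he =>
    no_loop_of_isForest (fun e : T => ends e.1) hF ⟨e, he⟩
  have hnp : ∀ e ∈ T, ∀ e' ∈ T, ∀ w : V, (ends e = (v, w) ∨ ends e = (w, v)) →
      (ends e' = (v, w) ∨ ends e' = (w, v)) → e = e' := by
    intro e he e' he' w h h'
    have := no_parallel_of_isForest (fun e : T => ends e.1) hF ⟨e, he⟩ ⟨e', he'⟩ v w h h'
    exact congrArg Subtype.val this
  set At := T.filter (fun e => (ends e).1 = v ∨ (ends e).2 = v) with hAt
  have h1 : endCount ends T v = At.card := by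
    rw [hAt, Finset.card_filter]
    simp only [endCount]
    refine Finset.sum_congr rfl fun e he => ?_
    have := hnl e he
    by_cases ha : (ends e).1 = v <;> by_cases hb : (ends e).2 = v
    · exact absurd (ha.trans hb.symm) this
    · simp [ha, hb]
    · simp [ha, hb]
    · simp [ha, hb]
  let other : E → V := fun e => if (ends e).1 = v then (ends e).2 else (ends e).1
  have hother : ∀ e ∈ At, ends e = (v, other e) ∨ ends e = (other e, v) := by
    intro e he
    simp only [hAt, Finset.mem_filter] at he
    by_cases ha : (ends e).1 = v
    · left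
      simp only [other, if_pos ha]
      exact Prod.ext ha rfl
    · right
      simp only [other, if_neg ha]
      exact Prod.ext rfl (he.2.resolve_left ha)
  have h2 : (Finset.univ.filter fun w : V => w ≠ v ∧ ∃ e ∈ T, ends e = (v, w) ∨ ends e = (w, v)) =
      At.image other := by
    ext w
    simp only [Finset.mem_filter, Finset.mem_univ, true_and, Finset.mem_image]
    constructor
    · rintro ⟨hwv, e, he, h | h⟩
      · refine ⟨e, ?_, ?_⟩
        · simp only [hAt, Finset.mem_filter]
          exact ⟨he, Or.inl (by rw [h])⟩
        · simp only [other, h, if_true]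
      · refine ⟨e, ?_, ?_⟩
        · simp only [hAt, Finset.mem_filter]
          exact ⟨he, Or.inr (by rw [h])⟩
        · simp only [other, h, if_neg hwv]
    · rintro ⟨e, he, rfl⟩
      have heT : e ∈ T := (Finset.mem_filter.mp he).1
      refine ⟨?_, e, heT, hother e he⟩
      have := hnl e heT
      rcases hother e he with h | h
      · intro h'
        rw [h] at this
        exact this h'.symm
      · intro h'
        rw [h] at this
        exact this h'
  unfold nbrCount
  rw [h1, h2, Finset.card_image_of_injOn]
  intro e he e' he' heq
  have heT : e ∈ T := (Finset.mem_filter.mp he).1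
  have heT' : e' ∈ T := (Finset.mem_filter.mp he').1
  have h := hother e he
  have h' := hother e' he'
  rw [← heq] at h'
  exact hnp e heT e' heT' (other e) h h'

end Groth.Agent.H74.LabLaplacian
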