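import Groth.Prelude.Def_PolLaw
import Mathlib

/-!
# Descent of polynomial laws along a quotient

A polynomial law `F : P → N` which is constant on the fibres of `S ⊗ P → S ⊗ B` for a surjective
linear map `q : P → B` descends to a law `B → N` (`descend`), multiplicative and homogeneous if `F`
is (`descendMul`).  The fibre condition holds as soon as `F ∘ α = F ∘ β` for a pair of algebra maps
`α β : P' → P` with a common section, `α y_j = f_j`, `β y_j = 0`, where the `f_j` generate the
kernel of `q` (`factors_of_coequalizer`).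
-/

set_option autoImplicit false
set_option linter.style.haveILetI false
universe u
open scoped TensorProduct

namespace Groth.Agent.H74.LawDescent

section Module

variable {A : Type u} [CommRing A] {P B N : Type u} [AddCommGroup P] [Module A P]
  [AddCommGroup B] [Module A B] [AddCommGroup N] [Module A N]

/-- `F` is constant on the fibres of `S ⊗ P → S ⊗ B`, for all test algebras `S`. -/
def Factors (F : P →ₚₗ[A] N) (q : P →ₗ[A] B) : Prop :=
  ∀ (S : Type u) [CommSemiring S] [Algebra A S] (x x' : S ⊗[A] P),
    q.lTensor S x = q.lTensor S x' → F.toFun' S x = F.toFun' S x'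

variable (F : P →ₚₗ[A] N) (q : P →ₗ[A] B) (hq : Function.Surjective q)

/-- A chosen lift along `S ⊗ P → S ⊗ B`. -/
noncomputable def liftEl (S : Type u) [CommSemiring S] [Algebra A S] (b : S ⊗[A] B) :
    S ⊗[A] P :=
  Function.surjInv (LinearMap.lTensor_surjective S hq) b

lemma liftEl_spec (S : Type u) [CommSemiring S] [Algebra A S] (b : S ⊗[A] B) :
    q.lTensor S (liftEl q hq S b) = b :=
  Function.surjInv_eq (LinearMap.lTensor_surjective S hq) b

variable (h : Factors F q)

/-- The law on the quotient. -/
noncomputable def descend : B →ₚₗ[A] N where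
  toFun' S _ _ b := F.toFun' S (liftEl q hq S b)
  isCompat' {S _ _ S' _ _} φ := by
    funext b
    simp only [Function.comp_apply]
    rw [F.isCompat_apply' φ]
    apply h
    rw [liftEl_spec, ← LinearMap.comp_apply, LinearMap.lTensor_comp_rTensor,
      ← LinearMap.rTensor_comp_lTensor, LinearMap.comp_apply, liftEl_spec]

theorem descend_apply (S : Type u) [CommSemiring S] [Algebra A S] (x : S ⊗[A] P) :
    (descend F q hq h).toFun' S (q.lTensor S x) = F.toFun' S x :=
  h S _ _ (liftEl_spec q hq S _)

end Module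

section Algebra

variable {A : Type u} [CommRing A] {P B C : Type u} [CommRing P] [Algebra A P] [CommRing B]
  [Algebra A B] [CommRing C] [Algebra A C] {d : ℕ}

/-- The multiplicative law on the quotient. -/
noncomputable def descendMul (F : PolLaw.MulLaw A P C d) (q : P →ₐ[A] B)
    (hq : Function.Surjective q) (h : Factors F.law q.toLinearMap) : PolLaw.MulLaw A B C d where
  law := descend F.law q.toLinearMap hq h
  homog S _ _ s b := by
    obtain ⟨x, rfl⟩ := LinearMap.lTensor_surjective S (g := q.toLinearMap) hq b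
    have e : s • q.toLinearMap.lTensor S x = q.toLinearMap.lTensor S (s • x) := by
      rw [PolLaw.lTensor_algHom_apply, PolLaw.lTensor_algHom_apply, map_smul]
    rw [e, descend_apply, descend_apply, F.homog]
  mult S _ _ := by
    refine ⟨?_, fun b b' => ?_⟩
    · have e : (1 : S ⊗[A] B) = q.toLinearMap.lTensor S 1 := by
        rw [PolLaw.lTensor_algHom_apply, map_one]
      rw [e, descend_apply, (F.mult S).1]
    · obtain ⟨x, rfl⟩ := LinearMap.lTensor_surjective S (g := q.toLinearMap) hq b
      obtain ⟨x', rfl⟩ := LinearMap.lTensor_surjective S (g := q.toLinearMap) hq b'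
      have e : q.toLinearMap.lTensor S x * q.toLinearMap.lTensor S x' =
          q.toLinearMap.lTensor S (x * x') := by
        rw [PolLaw.lTensor_algHom_apply, PolLaw.lTensor_algHom_apply,
          PolLaw.lTensor_algHom_apply, map_mul]
      rw [e, descend_apply, descend_apply, descend_apply, (F.mult S).2]

theorem descendMul_precomp (F : PolLaw.MulLaw A P C d) (q : P →ₐ[A] B)
    (hq : Function.Surjective q) (h : Factors F.law q.toLinearMap) :
    ((descendMul F q hq h).precomp q).law = F.law := by
  ext S _ _ x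
  exact descend_apply F.law q.toLinearMap hq h S x

end Algebra

section Coequalizer

variable {A : Type u} [CommRing A] {P P' B N : Type u} [CommRing P] [Algebra A P] [CommRing P']
  [Algebra A P'] [CommRing B] [Algebra A B] [AddCommGroup N] [Module A N]

variable (q : P →ₐ[A] B) {m : ℕ} (f : Fin m → P)
  (σ : P →ₐ[A] P') (α β : P' →ₐ[A] P) (y : Fin m → P')
  (hασ : α.comp σ = AlgHom.id A P) (hβσ : β.comp σ = AlgHom.id A P)
  (hαy : ∀ j, α (y j) = f j) (hβy : ∀ j, β (y j) = 0)
  (F : P →ₚₗ[A] N)
  (hF : PolLaw.precomp F α.toLinearMap = PolLaw.precomp F β.toLinearMap)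

include hασ hβσ hαy hβy hF in
lemma step (S : Type u) [CommSemiring S] [Algebra A S] (w : Fin m → S ⊗[A] P) (x : S ⊗[A] P) :
    F.toFun' S (x + ∑ j, w j * ((1 : S) ⊗ₜ[A] f j)) = F.toFun' S x := by
  let σS : S ⊗[A] P →ₐ[S] S ⊗[A] P' := Algebra.TensorProduct.map (AlgHom.id S S) σ
  let αS : S ⊗[A] P' →ₐ[S] S ⊗[A] P := Algebra.TensorProduct.map (AlgHom.id S S) α
  let βS : S ⊗[A] P' →ₐ[S] S ⊗[A] P := Algebra.TensorProduct.map (AlgHom.id S S) β
  have hα : ∀ u, αS (σS u) = u := by
    intro u
    have : αS.comp σS = AlgHom.id S _ := by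
      rw [← Algebra.TensorProduct.map_comp, hασ]
      simp
    exact congrArg (fun g : S ⊗[A] P →ₐ[S] S ⊗[A] P => g u) this
  have hβ : ∀ u, βS (σS u) = u := by
    intro u
    have : βS.comp σS = AlgHom.id S _ := by
      rw [← Algebra.TensorProduct.map_comp, hβσ]
      simp
    exact congrArg (fun g : S ⊗[A] P →ₐ[S] S ⊗[A] P => g u) this
  let z : S ⊗[A] P' := σS x + ∑ j, σS (w j) * ((1 : S) ⊗ₜ[A] y j)
  have hz1 : αS z = x + ∑ j, w j * ((1 : S) ⊗ₜ[A] f j) := by
    simp only [z, map_add, map_sum, map_mul, hα]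
    congr 1
    refine Finset.sum_congr rfl fun j _ => ?_
    simp [αS, hαy]
  have hz2 : βS z = x := by
    simp only [z, map_add, map_sum, map_mul, hβ]
    have : ∑ j, w j * βS ((1 : S) ⊗ₜ[A] y j) = 0 := by
      refine Finset.sum_eq_zero fun j _ => ?_
      simp [βS, hβy]
    rw [this, add_zero]
  have h1 : F.toFun' S (α.toLinearMap.lTensor S z) = F.toFun' S (β.toLinearMap.lTensor S z) :=
    congrArg (fun G : P' →ₚₗ[A] N => G.toFun' S z) hF
  rw [PolLaw.lTensor_algHom_apply, PolLaw.lTensor_algHom_apply] at h1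
  rw [← hz1]
  exact h1.trans (congrArg _ hz2)

include hασ hβσ hαy hβy hF in
theorem factors_of_coequalizer (hq : Function.Surjective q)
    (hker : RingHom.ker q.toRingHom = Ideal.span (Set.range f)) :
    Factors F q.toLinearMap := by
  intro S _ _ x x' hx
  let _ : Ring S := Algebra.semiringToRing A
  let K := RingHom.ker q.toRingHom
  let incl : K →ₗ[A] P := K.subtype.restrictScalars A
  have hex : Function.Exact incl q.toLinearMap := by
    intro p
    constructor
    · intro hp
      exact ⟨⟨p, hp⟩, rfl⟩
    · rintro ⟨k, rfl⟩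
      exact k.2
  have h2 := lTensor_exact S hex hq
  have h3 : q.toLinearMap.lTensor S (x - x') = 0 := by
    rw [map_sub, hx, sub_self]
  obtain ⟨t, ht⟩ := (h2 (x - x')).mp h3
  have hx1 : x = x' + incl.lTensor S t := by rw [ht]; abel
  rw [hx1]
  clear hx1 ht h3 hx x
  generalize x' = x
  induction t using TensorProduct.induction_on generalizing x with
  | zero => rw [map_zero, add_zero]
  | tmul s k =>
    rw [LinearMap.lTensor_tmul]
    have hk : (k : P) ∈ Ideal.span (Set.range f) := hker ▸ k.2
    obtain ⟨c, hc⟩ := (Ideal.mem_span_range_iff_exists_fun).mp hk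
    have e : s ⊗ₜ[A] incl k = ∑ j, (s ⊗ₜ[A] c j) * ((1 : S) ⊗ₜ[A] f j) := by
      have : incl k = ∑ j, c j * f j := hc.symm
      rw [this, TensorProduct.tmul_sum]
      refine Finset.sum_congr rfl fun j _ => ?_
      rw [Algebra.TensorProduct.tmul_mul_tmul, mul_one]
    rw [e]
    exact step f σ α β y hασ hβσ hαy hβy F hF S (fun j => s ⊗ₜ[A] c j) x
  | add t₁ t₂ h₁ h₂ =>
    rw [map_add, ← add_assoc, h₂, h₁]

end Coequalizer

end Groth.Agent.H74.LawDescent
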