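import Groth.Agent.H39.DeRham
import Mathlib

/-!
# Contraction and Lie derivative on the de Rham algebra

* `ctr ℓ` : contraction of the exterior algebra by a linear form, with its graded product rule.
* `lie R B θ` : the Lie derivative `L = d ∘ i + i ∘ d` along an `R`-derivation `θ` of `B`, acting on
  `ExteriorAlgebra B Ω[B⁄R]`; it is a derivation of the exterior algebra commuting with `d`.
-/

set_option autoImplicit false

open ExteriorAlgebra

namespace Groth.Agent.H74.LieDer

section Contract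

variable {B : Type*} {M : Type*} [CommRing B] [AddCommGroup M] [Module B M]

local notation "E" => ExteriorAlgebra B M

/-- Contraction of the exterior algebra by a linear form. -/
noncomputable def ctr (ℓ : Module.Dual B M) : E →ₗ[B] E :=
  CliffordAlgebra.contractLeft (Q := (0 : QuadraticForm B M)) ℓ

variable (ℓ : Module.Dual B M)

theorem ctr_ι_mul (a : M) (x : E) : ctr ℓ (ι B a * x) = ℓ a • x - ι B a * ctr ℓ x :=
  CliffordAlgebra.contractLeft_ι_mul (d := ℓ) a x

theorem ctr_algebraMap (r : B) : ctr ℓ (algebraMap B E r) = 0 :=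
  CliffordAlgebra.contractLeft_algebraMap _ ℓ r

theorem ctr_one : ctr ℓ (1 : E) = 0 :=
  CliffordAlgebra.contractLeft_one _ ℓ

theorem ctr_ι (a : M) : ctr ℓ (ι B a) = algebraMap B E (ℓ a) :=
  CliffordAlgebra.contractLeft_ι _ ℓ a

theorem ctr_ctr (x : E) : ctr ℓ (ctr ℓ x) = 0 :=
  CliffordAlgebra.contractLeft_contractLeft (d := ℓ) x

theorem involute_ctr (x : E) :
    CliffordAlgebra.involute (ctr ℓ x) = - ctr ℓ (CliffordAlgebra.involute x) := by
  induction x using CliffordAlgebra.left_induction with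
  | algebraMap r => simp [ctr_algebraMap]
  | add x y hx hy => simp only [map_add, hx, hy, neg_add]
  | ι_mul x m hx =>
    have e1 : ctr ℓ (CliffordAlgebra.ι 0 m * x) = ℓ m • x - CliffordAlgebra.ι 0 m * ctr ℓ x :=
      ctr_ι_mul ℓ m x
    have e2 : ctr ℓ (CliffordAlgebra.ι 0 m * CliffordAlgebra.involute x) =
        ℓ m • CliffordAlgebra.involute x -
          CliffordAlgebra.ι 0 m * ctr ℓ (CliffordAlgebra.involute x) :=
      ctr_ι_mul ℓ m _
    rw [e1, map_sub, map_smul, map_mul, hx, map_mul, CliffordAlgebra.involute_ι, neg_mul,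
      neg_mul, map_neg, e2]
    simp only [mul_neg, neg_neg, neg_sub]

/-- The graded product rule for the contraction. -/
theorem ctr_mul (x y : E) :
    ctr ℓ (x * y) = ctr ℓ x * y + CliffordAlgebra.involute x * ctr ℓ y := by
  induction x using CliffordAlgebra.left_induction with
  | algebraMap r =>
    rw [ctr_algebraMap, zero_mul, zero_add, AlgHom.commutes, ← Algebra.smul_def,
      ← Algebra.smul_def, map_smul]
  | add x y' hx hy => simp only [add_mul, map_add, hx, hy]; abel
  | ι_mul x m hx =>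
    rw [mul_assoc, ctr_ι_mul, hx, ctr_ι_mul, map_mul, CliffordAlgebra.involute_ι]
    simp only [sub_mul, mul_add, smul_mul_assoc, neg_mul, mul_assoc]
    abel

theorem ctr_mem_aux {n : ℕ} {x : E} (hx : x ∈ ⋀[B]^n M) :
    (n = 0 → ctr ℓ x = 0) ∧ ∀ p, n = p + 1 → ctr ℓ x ∈ ⋀[B]^p M := by
  induction hx using Submodule.pow_induction_on_left' with
  | algebraMap r =>
    exact ⟨fun _ => ctr_algebraMap ℓ r, fun p hp => by omega⟩
  | add x y i hx hy ihx ihy =>
    refine ⟨fun h => ?_, fun p hp => ?_⟩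
    · rw [map_add, ihx.1 h, ihy.1 h, add_zero]
    · rw [map_add]; exact add_mem (ihx.2 p hp) (ihy.2 p hp)
  | mem_mul m hm i x hx ih =>
    obtain ⟨ω, rfl⟩ := hm
    refine ⟨fun h => by omega, fun p hp => ?_⟩
    have hpi : p = i := by omega
    subst hpi
    rw [ctr_ι_mul]
    refine sub_mem (Submodule.smul_mem _ _ hx) ?_
    rcases Nat.eq_zero_or_pos p with h0 | hpos
    · rw [ih.1 h0, mul_zero]; exact zero_mem _
    · obtain ⟨q, rfl⟩ : ∃ q, p = q + 1 := ⟨p - 1, by omega⟩
      have := ih.2 q rfl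
      rw [exteriorPower, pow_succ']
      exact Submodule.mul_mem_mul (LinearMap.mem_range_self _ _) this

theorem ctr_mem {p : ℕ} {x : E} (hx : x ∈ ⋀[B]^(p + 1) M) : ctr ℓ x ∈ ⋀[B]^p M :=
  (ctr_mem_aux ℓ hx).2 p rfl

theorem ctr_eq_zero_of_mem_zero {x : E} (hx : x ∈ ⋀[B]^0 M) : ctr ℓ x = 0 :=
  (ctr_mem_aux ℓ hx).1 rfl

end Contract

section Lie

universe u

variable (R B : Type u) [CommRing R] [CommRing B] [Algebra R B]

local notation "E" => ExteriorAlgebra B (Ω[B⁄R])
local notation "dR" => Groth.Agent.H39.dR R B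

variable (θ : Derivation R B B)

/-- Contraction with the vector field `θ`. -/
noncomputable def cv : E →ₗ[B] E := ctr θ.liftKaehlerDifferential

/-- The Lie derivative along the vector field `θ` (Cartan's formula). -/
noncomputable def lie : E →ₗ[R] E :=
  dR ∘ₗ (cv R B θ).restrictScalars R + ((cv R B θ).restrictScalars R) ∘ₗ dR

theorem lie_apply (x : E) : lie R B θ x = dR (cv R B θ x) + cv R B θ (dR x) := rfl

theorem cv_mul (x y : E) :
    cv R B θ (x * y) = cv R B θ x * y + CliffordAlgebra.involute x * cv R B θ y :=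
  ctr_mul _ x y

theorem involute_cv (x : E) :
    CliffordAlgebra.involute (cv R B θ x) = - cv R B θ (CliffordAlgebra.involute x) :=
  involute_ctr _ x

theorem cv_algebraMap (b : B) : cv R B θ (algebraMap B E b) = 0 := ctr_algebraMap _ b

theorem cv_ι_D (b : B) : cv R B θ (ι B (KaehlerDifferential.D R B b)) = algebraMap B E (θ b) := by
  rw [cv, ctr_ι, Derivation.liftKaehlerDifferential_comp_D]

theorem cv_cv (x : E) : cv R B θ (cv R B θ x) = 0 := ctr_ctr _ x

theorem cv_mem {p : ℕ} {x : E} (hx : x ∈ ⋀[B]^(p + 1) (Ω[B⁄R])) :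
    cv R B θ x ∈ ⋀[B]^p (Ω[B⁄R]) := ctr_mem _ hx

theorem cv_eq_zero_of_mem_zero {x : E} (hx : x ∈ ⋀[B]^0 (Ω[B⁄R])) : cv R B θ x = 0 :=
  ctr_eq_zero_of_mem_zero _ hx

/-- The Lie derivative is a derivation of the exterior algebra. -/
theorem lie_mul (x y : E) : lie R B θ (x * y) = lie R B θ x * y + x * lie R B θ y := by
  simp only [lie_apply, cv_mul, Groth.Agent.H39.dR_mul, map_add, involute_cv,
    Groth.Agent.H39.dR_involute, CliffordAlgebra.involute_involute, neg_mul, add_mul,
    mul_add]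
  abel

theorem lie_algebraMap (b : B) : lie R B θ (algebraMap B E b) = algebraMap B E (θ b) := by
  rw [lie_apply, cv_algebraMap, map_zero, zero_add, Groth.Agent.H39.dR_algebraMap, cv_ι_D]

theorem lie_ι_D (b : B) :
    lie R B θ (ι B (KaehlerDifferential.D R B b)) = ι B (KaehlerDifferential.D R B (θ b)) := by
  rw [lie_apply, cv_ι_D, Groth.Agent.H39.dR_algebraMap, Groth.Agent.H39.dR_ι_D, map_zero,
    add_zero]

theorem lie_one : lie R B θ (1 : E) = 0 := by
  have := lie_algebraMap R B θ 1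
  rwa [map_one, Derivation.map_one_eq_zero, map_zero] at this

theorem lie_dR (x : E) : lie R B θ (dR x) = dR (lie R B θ x) := by
  rw [lie_apply, lie_apply, Groth.Agent.H39.dR_dR, map_zero, add_zero, map_add,
    Groth.Agent.H39.dR_dR, zero_add]

theorem lie_mem {p : ℕ} {x : E} (hx : x ∈ ⋀[B]^p (Ω[B⁄R])) :
    lie R B θ x ∈ ⋀[B]^p (Ω[B⁄R]) := by
  rw [lie_apply]
  refine add_mem ?_ (cv_mem R B θ (Groth.Agent.H39.dR_mem R B hx))
  rcases Nat.eq_zero_or_pos p with h0 | hpos
  · subst h0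
    rw [cv_eq_zero_of_mem_zero R B θ hx, map_zero]
    exact zero_mem _
  · obtain ⟨q, rfl⟩ : ∃ q, p = q + 1 := ⟨p - 1, by omega⟩
    exact Groth.Agent.H39.dR_mem R B (cv_mem R B θ hx)

end Lie

section Spectral

variable {R : Type*} [CommRing R] [Algebra ℚ R] {E : Type*} [AddCommGroup E] [Module R E]
  (L : E →ₗ[R] E)

/-- `1 / (m + 1)` in a `ℚ`-algebra. -/
noncomputable def cc (R : Type*) [CommRing R] [Algebra ℚ R] (m : ℕ) : R :=
  algebraMap ℚ R ((m + 1 : ℚ)⁻¹)

theorem cc_mul (m : ℕ) : ((m + 1 : ℕ) : R) * cc R m = 1 := by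
  have h : ((m + 1 : ℕ) : R) = algebraMap ℚ R ((m + 1 : ℕ) : ℚ) := by
    rw [map_natCast]
  rw [h, cc, ← map_mul]
  have : (((m + 1 : ℕ) : ℚ)) * ((m + 1 : ℚ)⁻¹) = 1 := by
    push_cast
    have : (m + 1 : ℚ) ≠ 0 := by positivity
    field_simp
  rw [this, map_one]

/-- The operator `∏_{k=1}^{m} (1 - L / k)`. -/
noncomputable def P : ℕ → (E →ₗ[R] E)
  | 0 => LinearMap.id
  | (m + 1) => P m ∘ₗ (LinearMap.id - cc R m • L)

/-- The operator with `1 - P m = L ∘ Q m`. -/
noncomputable def Q : ℕ → (E →ₗ[R] E)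
  | 0 => 0
  | (m + 1) => Q m + cc R m • P L m

theorem P_zero (x : E) : P L 0 x = x := rfl

theorem P_succ (m : ℕ) (x : E) : P L (m + 1) x = P L m (x - cc R m • L x) := rfl

theorem Q_zero (x : E) : Q L 0 x = 0 := rfl

theorem Q_succ (m : ℕ) (x : E) : Q L (m + 1) x = Q L m x + cc R m • P L m x := rfl

/-- Anything additive commuting with `L` and scalars commutes with `P m`. -/
theorem comm_P {E' : Type*} [AddCommGroup E'] [Module R E'] (L' : E' →ₗ[R] E')
    (T : E →ₗ[R] E') (h : ∀ x, T (L x) = L' (T x)) (m : ℕ) (x : E) :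
    T (P L m x) = P L' m (T x) := by
  induction m generalizing x with
  | zero => rfl
  | succ m ih => rw [P_succ, ih, P_succ, map_sub, map_smul, h]

theorem comm_Q {E' : Type*} [AddCommGroup E'] [Module R E'] (L' : E' →ₗ[R] E')
    (T : E →ₗ[R] E') (h : ∀ x, T (L x) = L' (T x)) (m : ℕ) (x : E) :
    T (Q L m x) = Q L' m (T x) := by
  induction m generalizing x with
  | zero => rw [Q_zero, Q_zero, map_zero]
  | succ m ih => rw [Q_succ, Q_succ, map_add, map_smul, ih, comm_P L L' T h]

theorem sub_P (m : ℕ) (x : E) : x - P L m x = L (Q L m x) := by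
  induction m generalizing x with
  | zero => rw [P_zero, Q_zero, sub_self, map_zero]
  | succ m ih =>
    rw [P_succ, Q_succ, map_sub, map_add, map_smul, map_smul, ← ih,
      ← comm_P L L L (fun _ => rfl)]
    abel

theorem P_mem (S : Submodule R E) (hS : ∀ x ∈ S, L x ∈ S) (m : ℕ) {x : E} (hx : x ∈ S) :
    P L m x ∈ S := by
  induction m generalizing x with
  | zero => exact hx
  | succ m ih => rw [P_succ]; exact ih (sub_mem hx (S.smul_mem _ (hS x hx)))

theorem Q_mem (S : Submodule R E) (hS : ∀ x ∈ S, L x ∈ S) (m : ℕ) {x : E} (hx : x ∈ S) :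
    Q L m x ∈ S := by
  induction m with
  | zero => rw [Q_zero]; exact zero_mem _
  | succ m ih => rw [Q_succ]; exact add_mem ih (S.smul_mem _ (P_mem L S hS m hx))

theorem P_of_eq_zero {g : E} (hg : L g = 0) (m : ℕ) : P L m g = g := by
  induction m with
  | zero => rfl
  | succ m ih => rw [P_succ, hg, smul_zero, sub_zero, ih]

theorem P_succ_of_eigen {g : E} {j : ℕ} (hg : L g = j • g) (m : ℕ) :
    P L (m + 1) g = (1 - cc R m * (j : R)) • P L m g := by
  rw [P_succ, hg, ← Nat.cast_smul_eq_nsmul R j g, smul_smul, ← map_smul, sub_smul, one_smul]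

theorem P_of_eigen {g : E} {j : ℕ} (hg : L g = j • g) (hj : 1 ≤ j) {m : ℕ} (hm : j ≤ m) :
    P L m g = 0 := by
  induction m, hm using Nat.le_induction with
  | base =>
    obtain ⟨k, rfl⟩ : ∃ k, j = k + 1 := ⟨j - 1, by omega⟩
    rw [P_succ_of_eigen L hg, mul_comm, cc_mul, sub_self, zero_smul]
  | succ m _ ih => rw [P_succ_of_eigen L hg, ih, smul_zero]

end Spectral

end Groth.Agent.H74.LieDer
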