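import Mathlib

/-!
# Fibrewise Lie algebras I: the characteristic polynomial of `ad a` over a projective module

For a Lie algebra `L` over `A` which is a finitely generated projective `A`-module, the
characteristic polynomial of `ad (1 ⊗ a)` on a field fibre `K ⊗[A] L` is controlled by the
characteristic polynomial of `g ∘ ad a ∘ f` on a free module `Fin n → A`, where `f ∘ g = id`.
-/

set_option linter.style.haveILetI false
set_option linter.unusedSectionVars false

universe u v w

namespace Groth.Agent.H74.LieFibA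

open TensorProduct Polynomial

section Charpoly

variable {R : Type*} [CommRing R]

/-- `X ^ rk V * charpoly (f ∘ g) = X ^ rk W * charpoly (g ∘ f)` for `f : V → W`, `g : W → V`. -/
theorem charpoly_comp_comm {V W : Type*} [AddCommGroup V] [AddCommGroup W] [Module R V]
    [Module R W] [Module.Free R V] [Module.Finite R V] [Module.Free R W] [Module.Finite R W]
    (f : V →ₗ[R] W) (g : W →ₗ[R] V) :
    X ^ Module.finrank R V * (f ∘ₗ g).charpoly = X ^ Module.finrank R W * (g ∘ₗ f).charpoly := by
  nontriviality R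
  classical
  let bV := Module.Free.chooseBasis R V
  let bW := Module.Free.chooseBasis R W
  rw [← LinearMap.charpoly_toMatrix (f ∘ₗ g) bW, ← LinearMap.charpoly_toMatrix (g ∘ₗ f) bV,
    LinearMap.toMatrix_comp bW bV bW f g, LinearMap.toMatrix_comp bV bW bV g f,
    Module.finrank_eq_card_chooseBasisIndex, Module.finrank_eq_card_chooseBasisIndex]
  exact Matrix.charpoly_mul_comm' _ _

end Charpoly

section Ad

variable {A : Type u} [CommRing A] {L : Type v} [LieRing L] [LieAlgebra A L]

/-- In the base change `K ⊗[A] L`, `ad (1 ⊗ a)` is the base change of `ad a`. -/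
theorem ad_one_tmul (K : Type w) [CommRing K] [Algebra A K] (a : L) :
    (LieAlgebra.ad K (K ⊗[A] L) ((1 : K) ⊗ₜ[A] a) : Module.End K (K ⊗[A] L)) =
      (LieAlgebra.ad A L a : L →ₗ[A] L).baseChange K := by
  apply TensorProduct.AlgebraTensorModule.ext
  intro c y
  rw [LieAlgebra.ad_apply, LieAlgebra.ExtendScalars.bracket_tmul, LinearMap.baseChange_tmul,
    one_mul, LieAlgebra.ad_apply]

variable [Module.Finite A L] [Module.Projective A L]

/-- The auxiliary endomorphism `g ∘ ad a ∘ f` of `Fin n → A`. -/
noncomputable def Psi {n : ℕ} (f : (Fin n → A) →ₗ[A] L) (g : L →ₗ[A] (Fin n → A)) (a : L) :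
    Module.End A (Fin n → A) :=
  g ∘ₗ (LieAlgebra.ad A L a : L →ₗ[A] L) ∘ₗ f

/-- Key formula: for a field (or any nontrivial commutative ring over which the fibre is free)
`K` over `A`,
`X ^ n * charpoly (ad (1 ⊗ a)) = X ^ dim (K ⊗ L) * (charpoly (Psi a)).map (algebraMap A K)`. -/
theorem charpoly_ad_fibre (K : Type w) [Field K] [Algebra A K] {n : ℕ}
    (f : (Fin n → A) →ₗ[A] L) (g : L →ₗ[A] (Fin n → A)) (hfg : f ∘ₗ g = LinearMap.id) (a : L) :
    X ^ n * (LieAlgebra.ad K (K ⊗[A] L) ((1 : K) ⊗ₜ[A] a) : Module.End K (K ⊗[A] L)).charpoly =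
      X ^ Module.finrank K (K ⊗[A] L) * ((Psi f g a).charpoly).map (algebraMap A K) := by
  have h1 : ((Psi f g a).baseChange K) =
      (g.baseChange K) ∘ₗ (((LieAlgebra.ad A L a : L →ₗ[A] L).baseChange K) ∘ₗ (f.baseChange K)) := by
    unfold Psi
    rw [LinearMap.baseChange_comp, LinearMap.baseChange_comp]
  have h2 : (((LieAlgebra.ad A L a : L →ₗ[A] L).baseChange K) ∘ₗ (f.baseChange K)) ∘ₗ
      (g.baseChange K) = (LieAlgebra.ad A L a : L →ₗ[A] L).baseChange K := by
    rw [LinearMap.comp_assoc, ← LinearMap.baseChange_comp, hfg, LinearMap.baseChange_id,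
      LinearMap.comp_id]
  have key := charpoly_comp_comm (R := K) (g.baseChange K)
    (((LieAlgebra.ad A L a : L →ₗ[A] L).baseChange K) ∘ₗ (f.baseChange K))
  have hA : Nontrivial A := (algebraMap A K).domain_nontrivial
  have hfin : Module.finrank K (K ⊗[A] (Fin n → A)) = n := by
    rw [Module.finrank_baseChange, Module.finrank_fin_fun]
  rw [h2, ← h1, LinearMap.charpoly_baseChange, hfin] at key
  rw [ad_one_tmul]
  exact key.symm

end Ad

end Groth.Agent.H74.LieFibA
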