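import Mathlib
import Groth.Agent.H74.LieFibA

/-!
# Fibrewise Lie algebras II: the regular locus of a section is open

For a Lie algebra `L` over `A`, finitely generated projective as a module, whose fibres have
locally constant nilpotent rank, the locus of primes at which a given `a : L` is regular in the
fibre is open.
-/

set_option linter.style.haveILetI false
set_option linter.unusedSectionVars false

universe u v w

namespace Groth.Agent.H74.LieFibB

open TensorProduct Polynomial Groth.Agent.H74.LieFibA

variable {A : Type u} [CommRing A] {L : Type v} [LieRing L] [LieAlgebra A L]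
  [Module.Finite A L] [Module.Projective A L]

/-- Regularity of `1 ⊗ a` in a field fibre in terms of a coefficient of the charpoly of `Psi`. -/
theorem isRegular_iff_coeff (K : Type w) [Field K] [Algebra A K] {n : ℕ}
    (f : (Fin n → A) →ₗ[A] L) (g : L →ₗ[A] (Fin n → A)) (hfg : f ∘ₗ g = LinearMap.id) (a : L)
    (r : ℕ) (hr : LieAlgebra.rank K (K ⊗[A] L) = r)
    (d : ℕ) (hd : Module.finrank K (K ⊗[A] L) = d) :
    LieAlgebra.IsRegular K ((1 : K) ⊗ₜ[A] a) ↔
      algebraMap A K ((Psi f g a).charpoly.coeff (r + n - d)) ≠ 0 := by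
  have hdn : d ≤ n := by
    have hinj : Function.Injective (g.baseChange K) := by
      apply Function.LeftInverse.injective (g := f.baseChange K)
      intro x
      rw [← LinearMap.comp_apply, ← LinearMap.baseChange_comp, hfg, LinearMap.baseChange_id,
        LinearMap.id_apply]
    have hA : Nontrivial A := (algebraMap A K).domain_nontrivial
    have h := LinearMap.finrank_le_finrank_of_injective hinj
    rw [hd, Module.finrank_baseChange, Module.finrank_fin_fun] at h
    exact h
  rw [LieAlgebra.isRegular_def, hr]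
  have key := charpoly_ad_fibre K f g hfg a
  rw [hd] at key
  have h1 : (LieAlgebra.ad K (K ⊗[A] L) ((1 : K) ⊗ₜ[A] a) :
      Module.End K (K ⊗[A] L)).charpoly.coeff r =
      algebraMap A K ((Psi f g a).charpoly.coeff (r + n - d)) := by
    have h2 : (X ^ n * (LieAlgebra.ad K (K ⊗[A] L) ((1 : K) ⊗ₜ[A] a) :
        Module.End K (K ⊗[A] L)).charpoly).coeff (r + n) =
        (X ^ d * ((Psi f g a).charpoly).map (algebraMap A K)).coeff (r + n) := by rw [key]
    rw [Polynomial.coeff_X_pow_mul, Polynomial.coeff_X_pow_mul', if_pos (by omega),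
      Polynomial.coeff_map] at h2
    exact h2
  rw [h1]

/-- **Openness of the regular locus of a section**, under local constancy of the nilpotent rank. -/
theorem isOpen_regular
    (hC0 : ∀ p : PrimeSpectrum A, ∃ f : A, f ∉ p.asIdeal ∧ ∀ q : PrimeSpectrum A, f ∉ q.asIdeal →
        LieAlgebra.rank q.asIdeal.ResidueField (q.asIdeal.ResidueField ⊗[A] L) =
          LieAlgebra.rank p.asIdeal.ResidueField (p.asIdeal.ResidueField ⊗[A] L)) (a : L) :
    IsOpen {p : PrimeSpectrum A |
      LieAlgebra.IsRegular p.asIdeal.ResidueField ((1 : p.asIdeal.ResidueField) ⊗ₜ[A] a)} := by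
  obtain ⟨n, f, g, -, -, hfg⟩ := Module.Finite.exists_comp_eq_id_of_projective A L
  rw [isOpen_iff_forall_mem_open]
  intro p hp
  obtain ⟨f₁, hf₁, hrank⟩ := hC0 p
  set r := LieAlgebra.rank p.asIdeal.ResidueField (p.asIdeal.ResidueField ⊗[A] L) with hr
  set d := Module.rankAtStalk (R := A) L p with hd
  set c := (Psi f g a).charpoly.coeff (r + n - d) with hc
  have hfin : ∀ q : PrimeSpectrum A,
      Module.finrank q.asIdeal.ResidueField (q.asIdeal.ResidueField ⊗[A] L) =
        Module.rankAtStalk (R := A) L q := fun q => (Module.rankAtStalk_eq q).symm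
  refine ⟨((PrimeSpectrum.basicOpen f₁ : Set (PrimeSpectrum A)) ∩
      {q | Module.rankAtStalk (R := A) L q = d}) ∩ (PrimeSpectrum.basicOpen c : Set _), ?_, ?_, ?_⟩
  · rintro q ⟨⟨hq1, hq2⟩, hq3⟩
    have hq1' : f₁ ∉ q.asIdeal := hq1
    have hq3' : c ∉ q.asIdeal := hq3
    rw [Set.mem_ofPred_eq] at hq2 ⊢
    rw [isRegular_iff_coeff q.asIdeal.ResidueField f g hfg a r (hrank q hq1') d
      ((hfin q).trans hq2)]
    rw [Ne, Ideal.algebraMap_residueField_eq_zero]
    exact hq3'
  · refine IsOpen.inter (IsOpen.inter (PrimeSpectrum.basicOpen f₁).isOpen ?_)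
      (PrimeSpectrum.basicOpen c).isOpen
    have : Module.FinitePresentation A L := Module.finitePresentation_of_projective A L
    exact (Module.isLocallyConstant_rankAtStalk (R := A) (M := L)).isOpen_fiber d
  · refine ⟨⟨hf₁, rfl⟩, ?_⟩
    rw [Set.mem_ofPred_eq, isRegular_iff_coeff p.asIdeal.ResidueField f g hfg a r rfl d (hfin p),
      Ne, Ideal.algebraMap_residueField_eq_zero] at hp
    exact hp

end Groth.Agent.H74.LieFibB
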