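import Mathlib
import Groth.Agent.H74.LieFibA

/-!
# Fibrewise Lie algebras III: invariance of rank and regularity

* `rank_eq_of_equiv`, `isRegular_iff_of_equiv`: invariance under bracket-preserving linear equivalences.
* `lie_rank_baseChange`, `isRegular_baseChange_iff`: invariance under extension of the base field.
* `cancelE`, `cancelE_bracket`: `K ⊗[B] (B ⊗[A] L) ≃ K ⊗[A] L` respects brackets.
* `rank_fibre_eq`, `isRegular_fibre_iff`: comparison of a fibre of `B ⊗[A] L` over `B` with the fibre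
  of `L` over `A` below it.
-/

set_option linter.style.haveILetI false
set_option linter.unusedSectionVars false

universe u v w

namespace Groth.Agent.H74.LieFibC

open Module LinearMap TensorProduct

section Inv
attribute [local instance 100] LieRing.ofAssociativeRing
variable {K : Type*} [CommRing K] [Nontrivial K] {M M' : Type*} [LieRing M] [LieAlgebra K M] [LieRing M'] [LieAlgebra K M']
  [Module.Free K M] [Module.Finite K M] [Module.Free K M'] [Module.Finite K M']

theorem ad_conj (e : M ≃ₗ[K] M') (he : ∀ x y, e ⁅x, y⁆ = ⁅e x, e y⁆) (x : M) :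
    (LieAlgebra.ad K M' (e x) : Module.End K M') = e.conj (LieAlgebra.ad K M x : Module.End K M) := by
  ext y
  rw [LieAlgebra.ad_apply, LinearEquiv.conj_apply, LinearMap.comp_apply, LinearMap.comp_apply,
    LinearEquiv.coe_coe, LinearEquiv.coe_coe, LieAlgebra.ad_apply, he, LinearEquiv.apply_symm_apply]

theorem rank_eq_of_equiv (e : M ≃ₗ[K] M') (he : ∀ x y, e ⁅x, y⁆ = ⁅e x, e y⁆) :
    LieAlgebra.rank K M = LieAlgebra.rank K M' := by
  classical
  let b := Module.Free.chooseBasis K M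
  let b' := b.map e
  rw [LieAlgebra.rank_eq_natTrailingDegree K M b, LieAlgebra.rank_eq_natTrailingDegree K M' b',
    polyCharpoly_eq_of_basis _ b b, polyCharpoly_eq_of_basis _ b' b']
  have hM : toMatrix b b.end (LieAlgebra.ad K M).toLinearMap =
      toMatrix b' b'.end (LieAlgebra.ad K M').toLinearMap := by
    ext ⟨i, k⟩ j
    rw [toMatrix_apply, toMatrix_apply, Basis.end_repr_apply, Basis.end_repr_apply]
    have : toMatrix b' b' ((LieAlgebra.ad K M').toLinearMap (b' j)) =
        toMatrix b b ((LieAlgebra.ad K M).toLinearMap (b j)) := by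
      ext i' k'
      rw [toMatrix_apply, toMatrix_apply]
      show b'.repr (⁅b' j, b' k'⁆) i' = b.repr ⁅b j, b k'⁆ i'
      simp only [b', Basis.map_apply, ← he, Basis.map_repr, LinearEquiv.trans_apply,
        LinearEquiv.symm_apply_apply]
    rw [this]
  unfold toMvPolynomial
  rw [hM]

theorem isRegular_iff_of_equiv (e : M ≃ₗ[K] M') (he : ∀ x y, e ⁅x, y⁆ = ⁅e x, e y⁆) (x : M) :
    LieAlgebra.IsRegular K (e x) ↔ LieAlgebra.IsRegular K x := by
  rw [LieAlgebra.isRegular_def, LieAlgebra.isRegular_def, ad_conj e he, LinearEquiv.charpoly_conj,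
    rank_eq_of_equiv e he]

end Inv

section BC
attribute [local instance 100] LieRing.ofAssociativeRing
variable {K : Type*} [Field K] {M : Type*} [LieRing M] [LieAlgebra K M] [Module.Finite K M]
  (K' : Type*) [Field K'] [Algebra K K']

theorem natTrailingDegree_map_of_injective {R S : Type*} [Semiring R] [Semiring S] (f : R →+* S)
    (hf : Function.Injective f) (p : Polynomial R) :
    (p.map f).natTrailingDegree = p.natTrailingDegree := by
  unfold Polynomial.natTrailingDegree Polynomial.trailingDegree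
  rw [Polynomial.support_map_of_injective _ hf]

theorem ad_baseChange_eq :
    (LieAlgebra.ad K' (K' ⊗[K] M)).toLinearMap =
      LinearMap.tensorProduct K K' M M ∘ₗ (LieAlgebra.ad K M).toLinearMap.baseChange K' := by
  apply TensorProduct.AlgebraTensorModule.ext
  intro c x
  apply TensorProduct.AlgebraTensorModule.ext
  intro d y
  rw [LinearMap.comp_apply, LinearMap.baseChange_tmul, LinearMap.tensorProduct,
    TensorProduct.AlgebraTensorModule.lift_apply, TensorProduct.lift.tmul]
  simp only [LieHom.coe_toLinearMap, LieAlgebra.ad_apply, LieAlgebra.ExtendScalars.bracket_tmul,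
    LinearMap.coe_restrictScalars, LinearMap.coe_mk, AddHom.coe_mk, LinearMap.smul_apply,
    LinearMap.baseChangeHom_apply, LinearMap.baseChange_tmul, TensorProduct.smul_tmul', smul_eq_mul]

theorem lie_rank_baseChange :
    LieAlgebra.rank K' (K' ⊗[K] M) = LieAlgebra.rank K M := by
  classical
  let b := Module.Free.chooseBasis K M
  rw [LieAlgebra.rank_eq_natTrailingDegree K M b,
    LieAlgebra.rank_eq_natTrailingDegree K' (K' ⊗[K] M) (Algebra.TensorProduct.basis K' b),
    ad_baseChange_eq, polyCharpoly_baseChange]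
  exact natTrailingDegree_map_of_injective _
    (MvPolynomial.map_injective _ (algebraMap K K').injective) _

theorem isRegular_baseChange_iff (x : M) :
    LieAlgebra.IsRegular K' ((1 : K') ⊗ₜ[K] x) ↔ LieAlgebra.IsRegular K x := by
  rw [LieAlgebra.isRegular_def, LieAlgebra.isRegular_def, lie_rank_baseChange,
    Groth.Agent.H74.LieFibA.ad_one_tmul, LinearMap.charpoly_baseChange, Polynomial.coeff_map]
  exact (map_ne_zero_iff _ (algebraMap K K').injective)

end BC

section T
variable {A : Type*} [CommRing A] {L : Type*} [LieRing L] [LieAlgebra A L]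
  (B : Type*) [CommRing B] [Algebra A B] (K : Type*) [CommRing K] [Algebra A K] [Algebra B K]
  [IsScalarTower A B K]

/-- `K ⊗[B] (B ⊗[A] L) ≃ K ⊗[A] L`. -/
noncomputable def cancelE : K ⊗[B] (B ⊗[A] L) ≃ₗ[K] K ⊗[A] L :=
  TensorProduct.AlgebraTensorModule.cancelBaseChange A B K K L

theorem cancelE_tmul (c : K) (b : B) (l : L) :
    cancelE (A := A) (L := L) B K (c ⊗ₜ[B] (b ⊗ₜ[A] l)) = (b • c) ⊗ₜ[A] l := by
  unfold cancelE
  rw [TensorProduct.AlgebraTensorModule.cancelBaseChange_tmul]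

theorem cancelE_bracket (x y : K ⊗[B] (B ⊗[A] L)) :
    cancelE (A := A) (L := L) B K ⁅x, y⁆ = ⁅cancelE B K x, cancelE B K y⁆ := by
  have hadd : ∀ x₁ x₂ y : K ⊗[B] (B ⊗[A] L), ⁅x₁ + x₂, y⁆ = ⁅x₁, y⁆ + ⁅x₂, y⁆ :=
    fun a b c => add_lie a b c
  have hadd' : ∀ x y₁ y₂ : K ⊗[B] (B ⊗[A] L), ⁅x, y₁ + y₂⁆ = ⁅x, y₁⁆ + ⁅x, y₂⁆ :=
    fun a b c => lie_add a b c
  have hz : ∀ y : K ⊗[B] (B ⊗[A] L), ⁅(0 : K ⊗[B] (B ⊗[A] L)), y⁆ = 0 := fun a => zero_lie a
  have hz' : ∀ x : K ⊗[B] (B ⊗[A] L), ⁅x, (0 : K ⊗[B] (B ⊗[A] L))⁆ = 0 := fun a => lie_zero a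
  have gadd : ∀ x₁ x₂ y : K ⊗[A] L, ⁅x₁ + x₂, y⁆ = ⁅x₁, y⁆ + ⁅x₂, y⁆ :=
    fun a b c => add_lie a b c
  have gadd' : ∀ x y₁ y₂ : K ⊗[A] L, ⁅x, y₁ + y₂⁆ = ⁅x, y₁⁆ + ⁅x, y₂⁆ :=
    fun a b c => lie_add a b c
  have gz : ∀ y : K ⊗[A] L, ⁅(0 : K ⊗[A] L), y⁆ = 0 := fun a => zero_lie a
  have gz' : ∀ x : K ⊗[A] L, ⁅x, (0 : K ⊗[A] L)⁆ = 0 := fun a => lie_zero a
  have badd : ∀ x₁ x₂ y : B ⊗[A] L, ⁅x₁ + x₂, y⁆ = ⁅x₁, y⁆ + ⁅x₂, y⁆ :=
    fun a b c => add_lie a b c
  have badd' : ∀ x y₁ y₂ : B ⊗[A] L, ⁅x, y₁ + y₂⁆ = ⁅x, y₁⁆ + ⁅x, y₂⁆ :=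
    fun a b c => lie_add a b c
  have bz : ∀ y : B ⊗[A] L, ⁅(0 : B ⊗[A] L), y⁆ = 0 := fun a => zero_lie a
  have bz' : ∀ x : B ⊗[A] L, ⁅x, (0 : B ⊗[A] L)⁆ = 0 := fun a => lie_zero a
  induction x using TensorProduct.induction_on with
  | zero => rw [hz, map_zero, gz]
  | add x₁ x₂ h₁ h₂ => rw [hadd, map_add, map_add, gadd, h₁, h₂]
  | tmul c u =>
    induction y using TensorProduct.induction_on with
    | zero => rw [hz', map_zero, gz']
    | add y₁ y₂ h₁ h₂ => rw [hadd', map_add, map_add, gadd', h₁, h₂]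
    | tmul d v =>
      rw [LieAlgebra.ExtendScalars.bracket_tmul]
      induction u using TensorProduct.induction_on with
      | zero => rw [bz, TensorProduct.tmul_zero, TensorProduct.tmul_zero, map_zero, gz]
      | add u₁ u₂ h₁ h₂ =>
        rw [badd, TensorProduct.tmul_add, map_add, h₁, h₂, TensorProduct.tmul_add, map_add,
          gadd]
      | tmul b l =>
        induction v using TensorProduct.induction_on with
        | zero => rw [bz', TensorProduct.tmul_zero, TensorProduct.tmul_zero, map_zero, gz']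
        | add v₁ v₂ h₁ h₂ =>
          rw [badd', TensorProduct.tmul_add, map_add, h₁, h₂, TensorProduct.tmul_add, map_add,
            gadd']
        | tmul b' l' =>
          rw [LieAlgebra.ExtendScalars.bracket_tmul, cancelE_tmul, cancelE_tmul, cancelE_tmul,
            LieAlgebra.ExtendScalars.bracket_tmul]
          congr 1
          rw [smul_mul_smul_comm]

theorem cancelE_one_tmul (a : L) :
    cancelE (A := A) (L := L) B K ((1 : K) ⊗ₜ[B] ((1 : B) ⊗ₜ[A] a)) = (1 : K) ⊗ₜ[A] a := by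
  rw [cancelE_tmul, one_smul]

end T

section Key

variable {A : Type*} [CommRing A] {L : Type*} [LieRing L] [LieAlgebra A L] [Module.Finite A L]
  (B : Type*) [CommRing B] [Algebra A B]
  (K : Type*) [Field K] [Algebra A K] (K' : Type*) [Field K'] [Algebra B K']
  (σ : K →+* K') (hσ : ∀ r : A, σ (algebraMap A K r) = algebraMap B K' (algebraMap A B r))

include hσ

/-- The nilpotent rank of a fibre of `B ⊗[A] L` over `B` is that of the fibre of `L` below it. -/
theorem rank_fibre_eq :
    LieAlgebra.rank K' (K' ⊗[B] (B ⊗[A] L)) = LieAlgebra.rank K (K ⊗[A] L) := by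
  letI : Algebra A K' := ((algebraMap B K').comp (algebraMap A B)).toAlgebra
  haveI : IsScalarTower A B K' := IsScalarTower.of_algebraMap_eq' rfl
  letI : Algebra K K' := σ.toAlgebra
  haveI : IsScalarTower A K K' := IsScalarTower.of_algebraMap_eq (fun r => (hσ r).symm)
  rw [rank_eq_of_equiv (cancelE (A := A) (L := L) B K') (cancelE_bracket B K'),
    ← rank_eq_of_equiv (cancelE (A := A) (L := L) K K') (cancelE_bracket K K'),
    lie_rank_baseChange]

/-- Regularity of `1 ⊗ (1 ⊗ a)` in a fibre of `B ⊗[A] L` over `B` is regularity of `1 ⊗ a` in the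
fibre of `L` below it. -/
theorem isRegular_fibre_iff (a : L) :
    LieAlgebra.IsRegular K' ((1 : K') ⊗ₜ[B] ((1 : B) ⊗ₜ[A] a)) ↔
      LieAlgebra.IsRegular K ((1 : K) ⊗ₜ[A] a) := by
  letI : Algebra A K' := ((algebraMap B K').comp (algebraMap A B)).toAlgebra
  haveI : IsScalarTower A B K' := IsScalarTower.of_algebraMap_eq' rfl
  letI : Algebra K K' := σ.toAlgebra
  haveI : IsScalarTower A K K' := IsScalarTower.of_algebraMap_eq (fun r => (hσ r).symm)
  rw [← isRegular_iff_of_equiv (cancelE (A := A) (L := L) B K') (cancelE_bracket B K'),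
    cancelE_one_tmul, ← cancelE_one_tmul (A := A) (L := L) K K',
    isRegular_iff_of_equiv (cancelE (A := A) (L := L) K K') (cancelE_bracket K K'),
    isRegular_baseChange_iff]

end Key

end Groth.Agent.H74.LieFibC
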