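import Mathlib
import Groth.Agent.H74.LieFibB
import Groth.Agent.H74.LieFibC

/-!
# Fibrewise Lie algebras IV: lifting regular elements of a fibre

* `isRegular_smul_iff`: regularity is invariant under nonzero scaling.
* `exists_smul_eq_one_tmul`: every element of the fibre `κ(p) ⊗ L` is, up to a unit of `κ(p)` coming
  from `A`, of the form `1 ⊗ a`.
* `exists_regular_nhds`: a regular element of a fibre spreads out to a section regular on a basic open
  neighbourhood (under local constancy of the nilpotent rank).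
* `isRegular_fibre_baseChange`: regularity in the fibres of `B ⊗[A] L` over `B`.
-/

set_option linter.style.haveILetI false
set_option linter.unusedSectionVars false

universe u v w

namespace Groth.Agent.H74.LieFibD

open Module LinearMap TensorProduct

section Scaling
variable {K : Type*} [Field K] {M : Type*} [LieRing M] [LieAlgebra K M] [Module.Finite K M]

theorem engel_smul (c : K) (hc : c ≠ 0) (x : M) :
    LieSubalgebra.engel K (c • x) = LieSubalgebra.engel K x := by
  ext y
  rw [LieSubalgebra.mem_engel_iff, LieSubalgebra.mem_engel_iff]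
  have h : ∀ n : ℕ, ((LieAlgebra.ad K M (c • x)) ^ n) y = c ^ n • ((LieAlgebra.ad K M x) ^ n) y := by
    intro n
    rw [map_smul, smul_pow, LinearMap.smul_apply]
  constructor
  · rintro ⟨n, hn⟩
    refine ⟨n, ?_⟩
    rw [h] at hn
    exact (smul_eq_zero.mp hn).resolve_left (pow_ne_zero n hc)
  · rintro ⟨n, hn⟩
    exact ⟨n, by rw [h, hn, smul_zero]⟩

theorem isRegular_smul_iff (c : K) (hc : c ≠ 0) (x : M) :
    LieAlgebra.IsRegular K (c • x) ↔ LieAlgebra.IsRegular K x := by
  rw [LieAlgebra.isRegular_iff_finrank_engel_eq_rank, LieAlgebra.isRegular_iff_finrank_engel_eq_rank,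
    engel_smul c hc]

end Scaling

section Lift
variable {A : Type u} [CommRing A] {L : Type v} [LieRing L] [LieAlgebra A L]

theorem exists_smul_eq_one_tmul (p : Ideal A) [p.IsPrime] (x : p.ResidueField ⊗[A] L) :
    ∃ s : A, s ∉ p ∧ ∃ a : L, s • x = (1 : p.ResidueField) ⊗ₜ[A] a := by
  induction x using TensorProduct.induction_on with
  | zero =>
    exact ⟨1, fun h => (Ideal.IsPrime.ne_top inferInstance) ((Ideal.eq_top_iff_one p).mpr h), 0,
      by simp⟩
  | tmul c l =>
    obtain ⟨c', rfl⟩ := IsLocalRing.residue_surjective c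
    obtain ⟨a', s, rfl⟩ := IsLocalization.exists_mk'_eq p.primeCompl c'
    refine ⟨s.1, s.2, a' • l, ?_⟩
    have h1 : (s.1 : A) • (IsLocalRing.residue (Localization.AtPrime p))
        (IsLocalization.mk' (Localization.AtPrime p) a' s) = algebraMap A p.ResidueField a' := by
      rw [Algebra.smul_def, IsScalarTower.algebraMap_apply A (Localization.AtPrime p) p.ResidueField,
        IsScalarTower.algebraMap_apply A (Localization.AtPrime p) p.ResidueField,
        IsLocalRing.ResidueField.algebraMap_eq, ← map_mul, IsLocalization.mul_mk'_eq_mk'_of_mul,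
        IsLocalization.mk'_mul_cancel_left]
    rw [TensorProduct.smul_tmul', h1, Algebra.algebraMap_eq_smul_one, TensorProduct.smul_tmul]
  | add x y hx hy =>
    obtain ⟨s, hs, a, ha⟩ := hx
    obtain ⟨t, ht, b, hb⟩ := hy
    refine ⟨s * t, fun h => (Ideal.IsPrime.mem_or_mem inferInstance h).elim hs ht,
      t • a + s • b, ?_⟩
    calc (s * t) • (x + y) = t • (s • x) + s • (t • y) := by
          rw [smul_add, mul_smul, mul_smul, smul_comm s t x]
      _ = (1 : p.ResidueField) ⊗ₜ[A] (t • a + s • b) := by
          rw [ha, hb, TensorProduct.tmul_add, TensorProduct.tmul_smul, TensorProduct.tmul_smul]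

end Lift

section Spread

variable {A : Type u} [CommRing A] {L : Type v} [LieRing L] [LieAlgebra A L]
  [Module.Finite A L] [Module.Projective A L]

/-- A regular element of the fibre at `p` spreads out to a section which is regular on a basic open
neighbourhood of `p`. -/
theorem exists_regular_nhds
    (hC0 : ∀ p : PrimeSpectrum A, ∃ f : A, f ∉ p.asIdeal ∧ ∀ q : PrimeSpectrum A, f ∉ q.asIdeal →
        LieAlgebra.rank q.asIdeal.ResidueField (q.asIdeal.ResidueField ⊗[A] L) =
          LieAlgebra.rank p.asIdeal.ResidueField (p.asIdeal.ResidueField ⊗[A] L))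
    (p : PrimeSpectrum A)
    (hp : ∃ x : p.asIdeal.ResidueField ⊗[A] L, LieAlgebra.IsRegular p.asIdeal.ResidueField x) :
    ∃ f : A, f ∉ p.asIdeal ∧ ∃ a : L, ∀ q : PrimeSpectrum A, f ∉ q.asIdeal →
      LieAlgebra.IsRegular q.asIdeal.ResidueField ((1 : q.asIdeal.ResidueField) ⊗ₜ[A] a) := by
  obtain ⟨x, hx⟩ := hp
  obtain ⟨s, hs, a, hsa⟩ := exists_smul_eq_one_tmul p.asIdeal x
  have hreg : LieAlgebra.IsRegular p.asIdeal.ResidueField
      ((1 : p.asIdeal.ResidueField) ⊗ₜ[A] a) := by
    rw [← hsa, ← algebraMap_smul p.asIdeal.ResidueField s x, isRegular_smul_iff]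
    · exact hx
    · rw [Ne, Ideal.algebraMap_residueField_eq_zero]
      exact hs
  have hopen := Groth.Agent.H74.LieFibB.isOpen_regular hC0 a
  obtain ⟨U, ⟨f, rfl⟩, hpU, hU⟩ :=
    PrimeSpectrum.isTopologicalBasis_basic_opens.exists_subset_of_mem_open hreg hopen
  exact ⟨f, hpU, a, fun q hq => hU hq⟩

end Spread

section BaseChange

variable {A : Type u} [CommRing A] {L : Type v} [LieRing L] [LieAlgebra A L] [Module.Finite A L]

/-- Regularity of `1 ⊗ (1 ⊗ a)` in the fibre of `B ⊗[A] L` at a prime `Q` of `B` is regularity of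
`1 ⊗ a` in the fibre of `L` at the contraction of `Q`. -/
theorem isRegular_fibre_baseChange (B : Type w) [CommRing B] [Algebra A B] (Q : PrimeSpectrum B)
    (a : L) :
    LieAlgebra.IsRegular Q.asIdeal.ResidueField
        ((1 : Q.asIdeal.ResidueField) ⊗ₜ[B] ((1 : B) ⊗ₜ[A] a)) ↔
      LieAlgebra.IsRegular (Q.asIdeal.comap (algebraMap A B)).ResidueField
        ((1 : (Q.asIdeal.comap (algebraMap A B)).ResidueField) ⊗ₜ[A] a) :=
  Groth.Agent.H74.LieFibC.isRegular_fibre_iff B _ _
    (Ideal.ResidueField.map (Q.asIdeal.comap (algebraMap A B)) Q.asIdeal (algebraMap A B) rfl)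
    (fun r => Ideal.ResidueField.map_algebraMap _ _ _ rfl r) a

/-- The nilpotent rank of the fibre of `B ⊗[A] L` at `Q` is that of the fibre of `L` at the
contraction of `Q`. -/
theorem rank_fibre_baseChange (B : Type w) [CommRing B] [Algebra A B] (Q : PrimeSpectrum B) :
    LieAlgebra.rank Q.asIdeal.ResidueField (Q.asIdeal.ResidueField ⊗[B] (B ⊗[A] L)) =
      LieAlgebra.rank (Q.asIdeal.comap (algebraMap A B)).ResidueField
        ((Q.asIdeal.comap (algebraMap A B)).ResidueField ⊗[A] L) :=
  Groth.Agent.H74.LieFibC.rank_fibre_eq B _ _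
    (Ideal.ResidueField.map (Q.asIdeal.comap (algebraMap A B)) Q.asIdeal (algebraMap A B) rfl)
    (fun r => Ideal.ResidueField.map_algebraMap _ _ _ rfl r)

end BaseChange

end Groth.Agent.H74.LieFibD
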