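import Mathlib
import Groth.Agent.H74.LieFibD

/-!
# Fibrewise Lie algebras V: a quasi-regular section after an étale faithfully flat base change

If the nilpotent rank of the fibres of `L` is locally constant and every fibre has a regular element,
then there is a (Zariski, hence étale) faithfully flat `A`-algebra `A'`, a finite product of
localizations `A_f`, and an element of `A' ⊗[A] L` which is regular in every fibre.
-/

set_option linter.style.haveILetI false
set_option linter.unusedSectionVars false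

universe u v w

namespace Groth.Agent.H74.LieFibE

open Module LinearMap TensorProduct

section Cover

variable {A : Type u} [CommRing A]

/-- A family `f p ∉ p` indexed by the primes has a finite subfamily spanning the unit ideal. -/
theorem exists_finset_span_eq_top (f : PrimeSpectrum A → A) (hf : ∀ p, f p ∉ p.asIdeal) :
    ∃ t : Finset A, Ideal.span (t : Set A) = ⊤ ∧ ∀ x ∈ t, ∃ p, f p = x := by
  have htop : Ideal.span (Set.range f) = ⊤ := by
    by_contra hne
    obtain ⟨m, hm, hle⟩ := Ideal.exists_le_maximal _ hne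
    exact hf ⟨m, hm.isPrime⟩ (hle (Ideal.subset_span ⟨⟨m, hm.isPrime⟩, rfl⟩))
  obtain ⟨t, ht, htt⟩ := (Ideal.span_eq_top_iff_finite _).mp htop
  exact ⟨t, htt, fun x hx => ht hx⟩

end Cover

section Prod
variable {A : Type u} [CommRing A] {ι : Type u} [Fintype ι] [DecidableEq ι] (g : ι → A)

abbrev Prd : Type u := ∀ i : ι, Localization.Away (g i)

/-- the idempotent `e i` of the product. -/
noncomputable def idem (i : ι) : Prd g := Pi.single i 1

theorem sum_idem : ∑ i, idem g i = 1 := by
  unfold idem
  exact Finset.univ_sum_single (1 : Prd g)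

theorem idem_mul_idem_of_ne {i j : ι} (h : i ≠ j) : idem g i * idem g j = 0 := by
  unfold idem
  ext k
  rw [Pi.mul_apply, Pi.zero_apply]
  by_cases hk : k = i
  · subst hk
    rw [Pi.single_eq_of_ne h, mul_zero]
  · rw [Pi.single_eq_of_ne hk, zero_mul]

theorem exists_idem_notMem (Q : Ideal (Prd g)) [hQ : Q.IsPrime] :
    ∃ i₀, idem g i₀ ∉ Q ∧ (∀ j, j ≠ i₀ → idem g j ∈ Q) ∧ algebraMap A (Prd g) (g i₀) ∉ Q := by
  have h1 : ∃ i₀, idem g i₀ ∉ Q := by
    by_contra hcon
    simp only [not_exists, not_not] at hcon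
    have : (1 : Prd g) ∈ Q := by
      rw [← sum_idem g]
      exact Q.sum_mem (fun i _ => hcon i)
    exact hQ.ne_top ((Ideal.eq_top_iff_one Q).mpr this)
  obtain ⟨i₀, hi₀⟩ := h1
  refine ⟨i₀, hi₀, fun j hj => ?_, fun hmem => ?_⟩
  · have : idem g j * idem g i₀ ∈ Q := by rw [idem_mul_idem_of_ne g hj]; exact Q.zero_mem
    exact (hQ.mem_or_mem this).resolve_right hi₀
  · obtain ⟨u, hu⟩ := (IsLocalization.Away.algebraMap_isUnit (S := Localization.Away (g i₀)) (g i₀)).exists_right_inv
    apply hi₀
    have : idem g i₀ = algebraMap A (Prd g) (g i₀) * Pi.single i₀ u := by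
      unfold idem
      ext k
      rw [Pi.mul_apply]
      by_cases hk : k = i₀
      · subst hk
        rw [Pi.single_eq_same, Pi.single_eq_same, Pi.algebraMap_apply, hu]
      · rw [Pi.single_eq_of_ne hk, Pi.single_eq_of_ne hk, mul_zero]
    rw [this]
    exact Q.mul_mem_right _ hmem

instance : Algebra.Etale A (Prd g) := by
  have : ∀ i, Algebra.Etale A (Localization.Away (g i)) :=
    fun i => Algebra.Etale.of_isLocalizationAway (g i)
  infer_instance

theorem faithfullyFlat_prd (hg : Ideal.span (Set.range g) = ⊤) : Module.FaithfullyFlat A (Prd g) := by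
  apply Module.FaithfullyFlat.of_comap_surjective
  intro q
  have : ∃ i, g i ∉ q.asIdeal := by
    by_contra hcon
    simp only [not_exists, not_not] at hcon
    have : Ideal.span (Set.range g) ≤ q.asIdeal := Ideal.span_le.mpr (by rintro _ ⟨i, rfl⟩; exact hcon i)
    rw [hg] at this
    exact q.isPrime.ne_top (top_le_iff.mp this)
  obtain ⟨i, hi⟩ := this
  have hdisj : Disjoint (Submonoid.powers (g i) : Set A) (q.asIdeal : Set A) := by
    rw [Ideal.disjoint_powers_iff_notMem _ q.isPrime.isRadical]
    exact hi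
  let Q' : Ideal (Localization.Away (g i)) := Ideal.map (algebraMap A _) q.asIdeal
  have hQ' : Q'.IsPrime := IsLocalization.isPrime_of_isPrime_disjoint (Submonoid.powers (g i)) _ _ q.isPrime hdisj
  have hcomap : Q'.comap (algebraMap A (Localization.Away (g i))) = q.asIdeal :=
    IsLocalization.comap_map_of_isPrime_disjoint (Submonoid.powers (g i)) _ q.isPrime hdisj
  refine ⟨⟨Q'.comap (Pi.evalRingHom (fun i => Localization.Away (g i)) i), inferInstance⟩, ?_⟩
  ext x
  simp only [PrimeSpectrum.comap_asIdeal, Ideal.mem_comap]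
  rw [← hcomap]
  rfl

end Prod

section Glue
variable {A : Type u} [CommRing A] {ι : Type u} [Fintype ι] [DecidableEq ι] (g : ι → A)
  {L : Type v} [LieRing L] [LieAlgebra A L] (a : ι → L)

/-- the glued section `∑ e i ⊗ a i`. -/
noncomputable def glue : Prd g ⊗[A] L := ∑ i, idem g i ⊗ₜ[A] a i

theorem one_tmul_glue (Q : Ideal (Prd g)) [Q.IsPrime] (i₀ : ι)
    (hj : ∀ j, j ≠ i₀ → idem g j ∈ Q) :
    (1 : Q.ResidueField) ⊗ₜ[Prd g] glue g a =
      (1 : Q.ResidueField) ⊗ₜ[Prd g] ((1 : Prd g) ⊗ₜ[A] a i₀) := by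
  have hterm : ∀ i, (1 : Q.ResidueField) ⊗ₜ[Prd g] (idem g i ⊗ₜ[A] a i) =
      (algebraMap (Prd g) Q.ResidueField (idem g i)) ⊗ₜ[Prd g] ((1 : Prd g) ⊗ₜ[A] a i) := by
    intro i
    have : idem g i ⊗ₜ[A] a i = idem g i • ((1 : Prd g) ⊗ₜ[A] a i) := by
      rw [TensorProduct.smul_tmul', smul_eq_mul, mul_one]
    rw [this, ← TensorProduct.smul_tmul, Algebra.smul_def, mul_one]
  have hzero : ∀ j, j ≠ i₀ → algebraMap (Prd g) Q.ResidueField (idem g j) = 0 := fun j hjne =>
    Ideal.algebraMap_residueField_eq_zero.mpr (hj j hjne)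
  have hone : algebraMap (Prd g) Q.ResidueField (idem g i₀) = 1 := by
    have h1 : algebraMap (Prd g) Q.ResidueField (∑ i, idem g i) = 1 := by
      rw [sum_idem, map_one]
    rw [map_sum, Finset.sum_eq_single i₀ (fun j _ hjne => hzero j hjne)
      (fun h => absurd (Finset.mem_univ _) h)] at h1
    exact h1
  unfold glue
  rw [TensorProduct.tmul_sum, Finset.sum_eq_single i₀]
  · rw [hterm, hone]
  · intro j _ hjne
    rw [hterm, hzero j hjne, TensorProduct.zero_tmul]
  · intro h
    exact absurd (Finset.mem_univ _) h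

end Glue

section Main

variable {A : Type u} [CommRing A] {L : Type u} [LieRing L] [LieAlgebra A L]
  [Module.Finite A L] [Module.Projective A L]

/-- Under local constancy of the nilpotent rank, if every fibre of `L` has a regular element then after
an étale faithfully flat base change `A → A'` (a finite product of localizations `A_f`) the Lie algebra
`A' ⊗[A] L` has an element which is regular in every fibre. -/
theorem exists_etale_quasiRegular
    (hC0 : ∀ p : PrimeSpectrum A, ∃ f : A, f ∉ p.asIdeal ∧ ∀ q : PrimeSpectrum A, f ∉ q.asIdeal →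
        LieAlgebra.rank q.asIdeal.ResidueField (q.asIdeal.ResidueField ⊗[A] L) =
          LieAlgebra.rank p.asIdeal.ResidueField (p.asIdeal.ResidueField ⊗[A] L))
    (hreg : ∀ p : PrimeSpectrum A, ∃ x : p.asIdeal.ResidueField ⊗[A] L,
      LieAlgebra.IsRegular p.asIdeal.ResidueField x) :
    ∃ (A' : Type u) (_ : CommRing A') (_ : Algebra A A'), Algebra.Etale A A' ∧
      Module.FaithfullyFlat A A' ∧ ∃ a' : A' ⊗[A] L, ∀ Q : PrimeSpectrum A',
        LieAlgebra.IsRegular Q.asIdeal.ResidueField ((1 : Q.asIdeal.ResidueField) ⊗ₜ[A'] a') := by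
  classical
  choose f hf a ha using fun p => Groth.Agent.H74.LieFibD.exists_regular_nhds hC0 p (hreg p)
  obtain ⟨t, ht, hp⟩ := exists_finset_span_eq_top f hf
  choose P hP using fun x : ↥t => hp x.1 x.2
  let g : ↥t → A := fun x => x.1
  have hg : Ideal.span (Set.range g) = ⊤ := by
    have : Set.range g = (t : Set A) := Subtype.range_coe
    rw [this, ht]
  refine ⟨Prd g, inferInstance, inferInstance, inferInstance, faithfullyFlat_prd g hg,
    glue g (fun x => a (P x)), fun Q => ?_⟩
  obtain ⟨i₀, -, hj, hi₀⟩ := exists_idem_notMem g Q.asIdeal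
  rw [one_tmul_glue g (fun x => a (P x)) Q.asIdeal i₀ hj,
    Groth.Agent.H74.LieFibD.isRegular_fibre_baseChange]
  apply ha (P i₀) ⟨Q.asIdeal.comap (algebraMap A (Prd g)), inferInstance⟩
  rw [hP i₀]
  exact hi₀

end Main

end Groth.Agent.H74.LieFibE
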