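import Mathlib
import Groth.Agent.H74.LieFibD

/-!
# Fibrewise Lie algebras VI: a Cartan subalgebra after faithfully flat base change forces the
nilpotent rank of the fibres to be locally constant
-/

set_option linter.style.haveILetI false
set_option linter.unusedSectionVars false

universe u v w

namespace Groth.Agent.H74.LieFibF

open Module LinearMap TensorProduct

section Retract

variable {R : Type*} [CommRing R] {M : Type*} [AddCommGroup M] [Module R M]

/-- A submodule with projective quotient is a retract. -/
theorem exists_retraction (N : Submodule R M) [Module.Projective R (M ⧸ N)] :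
    ∃ r : M →ₗ[R] N, r ∘ₗ N.subtype = LinearMap.id := by
  obtain ⟨s, hs⟩ := Module.projective_lifting_property N.mkQ LinearMap.id
    (Submodule.mkQ_surjective N)
  have hmem : ∀ x : M, x - s (N.mkQ x) ∈ N := by
    intro x
    rw [← Submodule.Quotient.mk_eq_zero, Submodule.Quotient.mk_sub]
    have := LinearMap.congr_fun hs (N.mkQ x)
    rw [LinearMap.comp_apply, LinearMap.id_apply] at this
    rw [← Submodule.mkQ_apply, ← Submodule.mkQ_apply, this, sub_self]
  refine ⟨LinearMap.codRestrict N (LinearMap.id - s ∘ₗ N.mkQ) hmem, ?_⟩
  ext x
  simp only [LinearMap.comp_apply, Submodule.subtype_apply, LinearMap.codRestrict_apply,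
    LinearMap.sub_apply, LinearMap.id_apply]
  rw [Submodule.mkQ_apply, (Submodule.Quotient.mk_eq_zero N).mpr x.2, map_zero, sub_zero]

theorem projective_of_quotient [Module.Projective R M] (N : Submodule R M)
    [Module.Projective R (M ⧸ N)] : Module.Projective R N := by
  obtain ⟨r, hr⟩ := exists_retraction N
  exact Module.Projective.of_split N.subtype r hr

theorem finite_of_quotient [Module.Finite R M] (N : Submodule R M)
    [Module.Projective R (M ⧸ N)] : Module.Finite R N := by
  obtain ⟨r, hr⟩ := exists_retraction N
  apply Module.Finite.of_surjective r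
  intro x
  exact ⟨x, LinearMap.congr_fun hr x⟩

/-- The fibre dimension of the image of `κ ⊗ N → κ ⊗ M` is the rank of `N` at the prime. -/
theorem finrank_baseChange_eq_rankAtStalk [Module.Finite R M] [Module.Projective R M]
    (N : Submodule R M) [Module.Projective R (M ⧸ N)] (Q : PrimeSpectrum R) :
    Module.finrank Q.asIdeal.ResidueField (N.baseChange Q.asIdeal.ResidueField) =
      Module.rankAtStalk (R := R) N Q := by
  obtain ⟨r, hr⟩ := exists_retraction N
  have hinj : Function.Injective (N.subtype.baseChange Q.asIdeal.ResidueField) := by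
    apply Function.LeftInverse.injective (g := r.baseChange Q.asIdeal.ResidueField)
    intro x
    rw [← LinearMap.comp_apply, ← LinearMap.baseChange_comp, hr, LinearMap.baseChange_id,
      LinearMap.id_apply]
  have hNproj : Module.Projective R N := projective_of_quotient N
  have hNfin : Module.Finite R N := finite_of_quotient N
  rw [Module.rankAtStalk_eq]
  exact (LinearEquiv.ofInjective _ hinj).finrank_eq.symm

end Retract

section Main

variable {A : Type u} [CommRing A] {L : Type v} [LieRing L] [LieAlgebra A L]
  [Module.Finite A L] [Module.Projective A L]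

/-- If after a faithfully flat base change `A → A'` there is a submodule `N` of `A' ⊗ L` with
projective quotient whose fibre dimension at every prime is the nilpotent rank of the fibre of
`A' ⊗ L`, then the nilpotent rank of the fibres of `L` is locally constant on `Spec A`. -/
theorem rank_locallyConstant (A' : Type w) [CommRing A'] [Algebra A A'] [Module.FaithfullyFlat A A']
    (N : Submodule A' (A' ⊗[A] L)) [Module.Projective A' ((A' ⊗[A] L) ⧸ N)]
    (hN : ∀ Q : PrimeSpectrum A',
      Module.finrank Q.asIdeal.ResidueField (N.baseChange Q.asIdeal.ResidueField) =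
        LieAlgebra.rank Q.asIdeal.ResidueField (Q.asIdeal.ResidueField ⊗[A'] (A' ⊗[A] L)))
    (p : PrimeSpectrum A) :
    ∃ f : A, f ∉ p.asIdeal ∧ ∀ q : PrimeSpectrum A, f ∉ q.asIdeal →
      LieAlgebra.rank q.asIdeal.ResidueField (q.asIdeal.ResidueField ⊗[A] L) =
        LieAlgebra.rank p.asIdeal.ResidueField (p.asIdeal.ResidueField ⊗[A] L) := by
  set ρ : PrimeSpectrum A → ℕ := fun q =>
    LieAlgebra.rank q.asIdeal.ResidueField (q.asIdeal.ResidueField ⊗[A] L) with hρ
  have hNproj : Module.Projective A' N := projective_of_quotient N
  have hNfin : Module.Finite A' N := finite_of_quotient N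
  have hNfp : Module.FinitePresentation A' N := Module.finitePresentation_of_projective A' N
  have hquot : Topology.IsQuotientMap (PrimeSpectrum.comap (algebraMap A A')) :=
    PrimeSpectrum.isQuotientMap_of_generalizingMap
      (PrimeSpectrum.comap_surjective_of_faithfullyFlat)
      (RingHom.Flat.generalizingMap_comap (f := algebraMap A A') (by
        rw [RingHom.flat_algebraMap_iff]; infer_instance))
  have hpull : ∀ Q : PrimeSpectrum A', ρ (PrimeSpectrum.comap (algebraMap A A') Q) =
      Module.rankAtStalk (R := A') N Q := by
    intro Q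
    rw [← finrank_baseChange_eq_rankAtStalk N Q, hN Q,
      Groth.Agent.H74.LieFibD.rank_fibre_baseChange A' Q]
    rfl
  have hopen : IsOpen {q : PrimeSpectrum A | ρ q = ρ p} := by
    rw [← hquot.isOpen_preimage]
    have : (PrimeSpectrum.comap (algebraMap A A')) ⁻¹' {q : PrimeSpectrum A | ρ q = ρ p} =
        {Q : PrimeSpectrum A' | Module.rankAtStalk (R := A') N Q = ρ p} := by
      ext Q
      simp only [Set.mem_preimage, Set.mem_setOf_eq, hpull]
    rw [this]
    exact (Module.isLocallyConstant_rankAtStalk (R := A') (M := N)).isOpen_fiber (ρ p)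
  obtain ⟨U, ⟨f, rfl⟩, hpU, hU⟩ :=
    PrimeSpectrum.isTopologicalBasis_basic_opens.exists_subset_of_mem_open
      (show p ∈ {q : PrimeSpectrum A | ρ q = ρ p} from rfl) hopen
  exact ⟨f, hpU, fun q hq => hU hq⟩

end Main

end Groth.Agent.H74.LieFibF
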