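import Groth.Prelude.Def_EtMil
import Mathlib

set_option autoImplicit false
universe u
open TensorProduct

namespace Groth.Agent.H74
namespace Milnor

variable {B' B A' A : Type u} [CommRing B'] [CommRing B] [CommRing A'] [CommRing A]
  [Algebra B' B] [Algebra B' A'] [Algebra B A] [Algebra A' A] [Algebra B' A]
  [IsScalarTower B' B A] [IsScalarTower B' A' A]

theorem compat (b' : B') :
    algebraMap B A (algebraMap B' B b') = algebraMap A' A (algebraMap B' A' b') := by
  rw [← IsScalarTower.algebraMap_apply, ← IsScalarTower.algebraMap_apply]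

theorem inj (hsq : EtMil.IsFibreSquare B' B A' A) {x y : B'}
    (h1 : algebraMap B' B x = algebraMap B' B y) (h2 : algebraMap B' A' x = algebraMap B' A' y) :
    x = y := by
  obtain ⟨z, _, hz⟩ := hsq.2 (algebraMap B' B x) (algebraMap B' A' x) (compat x)
  rw [hz x ⟨rfl, rfl⟩, hz y ⟨h1.symm, h2.symm⟩]

/-- the unique lift of a compatible pair -/
noncomputable def lift (hsq : EtMil.IsFibreSquare B' B A' A) (b : B) (a' : A')
    (h : algebraMap B A b = algebraMap A' A a') : B' :=
  (hsq.2 b a' h).choose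

theorem lift_fst (hsq : EtMil.IsFibreSquare B' B A' A) (b : B) (a' : A')
    (h : algebraMap B A b = algebraMap A' A a') : algebraMap B' B (lift hsq b a' h) = b :=
  (hsq.2 b a' h).choose_spec.1.1

theorem lift_snd (hsq : EtMil.IsFibreSquare B' B A' A) (b : B) (a' : A')
    (h : algebraMap B A b = algebraMap A' A a') : algebraMap B' A' (lift hsq b a' h) = a' :=
  (hsq.2 b a' h).choose_spec.1.2

theorem surj_fst (hsq : EtMil.IsFibreSquare B' B A' A) : Function.Surjective (algebraMap B' B) := by
  intro b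
  obtain ⟨a', ha'⟩ := hsq.1 (algebraMap B A b)
  exact ⟨lift hsq b a' ha'.symm, lift_fst hsq b a' ha'.symm⟩

theorem star_aux (a' : A') (j : B') (hj : algebraMap B' B j = 0) :
    algebraMap B A 0 = algebraMap A' A (a' * algebraMap B' A' j) := by
  rw [map_zero, map_mul, ← compat (B := B) (A := A) j, hj, map_zero, mul_zero]

/-- the action of `A'` on `J = ker (B' → B)` -/
noncomputable def star (hsq : EtMil.IsFibreSquare B' B A' A) (a' : A') (j : B')
    (hj : algebraMap B' B j = 0) : B' :=
  lift hsq 0 (a' * algebraMap B' A' j) (star_aux a' j hj)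

theorem star_fst (hsq : EtMil.IsFibreSquare B' B A' A) (a' : A') (j : B')
    (hj : algebraMap B' B j = 0) : algebraMap B' B (star hsq a' j hj) = 0 :=
  lift_fst hsq _ _ _

theorem star_snd (hsq : EtMil.IsFibreSquare B' B A' A) (a' : A') (j : B')
    (hj : algebraMap B' B j = 0) :
    algebraMap B' A' (star hsq a' j hj) = a' * algebraMap B' A' j :=
  lift_snd hsq _ _ _

theorem star_one (hsq : EtMil.IsFibreSquare B' B A' A) (j : B')
    (hj : algebraMap B' B j = 0) : star hsq 1 j hj = j := by
  apply inj hsq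
  · rw [star_fst, hj]
  · rw [star_snd, one_mul]

theorem star_add (hsq : EtMil.IsFibreSquare B' B A' A) (a₁ a₂ : A') (j : B')
    (hj : algebraMap B' B j = 0) :
    star hsq (a₁ + a₂) j hj = star hsq a₁ j hj + star hsq a₂ j hj := by
  apply inj hsq
  · rw [map_add, star_fst, star_fst, star_fst, add_zero]
  · rw [map_add, star_snd, star_snd, star_snd, add_mul]

theorem star_smul (hsq : EtMil.IsFibreSquare B' B A' A) (c : B') (a' : A') (j : B')
    (hj : algebraMap B' B j = 0) :
    star hsq (c • a') j hj = c * star hsq a' j hj := by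
  apply inj hsq
  · rw [map_mul, star_fst, star_fst, mul_zero]
  · rw [map_mul, star_snd, star_snd, Algebra.smul_def, mul_assoc]

variable (L' : Type u) [AddCommGroup L'] [Module B' L']

/-- for `j ∈ J`, the map `A' ⊗ L' → L'`, `a' ⊗ l ↦ (a' ⋆ j) • l` -/
noncomputable def psi (hsq : EtMil.IsFibreSquare B' B A' A) (j : B')
    (hj : algebraMap B' B j = 0) : A' ⊗[B'] L' →ₗ[B'] L' :=
  TensorProduct.lift
    { toFun := fun a' =>
        { toFun := fun l => star hsq a' j hj • l
          map_add' := fun x y => smul_add _ x y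
          map_smul' := fun c x => by simp only [RingHom.id_apply]; rw [smul_comm] }
      map_add' := fun a₁ a₂ => by
        ext l
        simp only [LinearMap.coe_mk, AddHom.coe_mk, LinearMap.add_apply]
        rw [star_add, add_smul]
      map_smul' := fun c a' => by
        ext l
        simp only [LinearMap.coe_mk, AddHom.coe_mk, RingHom.id_apply, LinearMap.smul_apply]
        rw [star_smul, mul_smul] }

theorem psi_tmul (hsq : EtMil.IsFibreSquare B' B A' A) (j : B')
    (hj : algebraMap B' B j = 0) (a' : A') (l : L') :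
    psi L' hsq j hj (a' ⊗ₜ l) = star hsq a' j hj • l := rfl

/-- if `1 ⊗ l = 0` in `A' ⊗ L'` then `J` kills `l` -/
theorem smul_eq_zero_of_tmul_eq_zero (hsq : EtMil.IsFibreSquare B' B A' A) (l : L')
    (h2 : ((1 : A') ⊗ₜ[B'] l : A' ⊗[B'] L') = 0) (j : B') (hj : algebraMap B' B j = 0) :
    j • l = 0 := by
  have := psi_tmul L' hsq j hj 1 l
  rw [h2, map_zero, star_one] at this
  exact this.symm

theorem surj_ofId (hsq : EtMil.IsFibreSquare B' B A' A) : Function.Surjective (Algebra.ofId B' B) :=
  fun b => surj_fst hsq b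

theorem ker_ofId : RingHom.ker (Algebra.ofId B' B) = RingHom.ker (algebraMap B' B) :=
  Ideal.ext fun _ => Iff.rfl

/-- `B ⊗ L' ≃ L' ⧸ J L'` -/
noncomputable def tensorEquivQuot (hsq : EtMil.IsFibreSquare B' B A' A) :
    B ⊗[B'] L' ≃ₗ[B'] L' ⧸ (RingHom.ker (Algebra.ofId B' B) • (⊤ : Submodule B' L')) :=
  (TensorProduct.congr
    ((Ideal.quotientKerAlgEquivOfSurjective (surj_ofId hsq)).symm.toLinearEquiv)
    (LinearEquiv.refl B' L')) ≪≫ₗ
  TensorProduct.quotTensorEquivQuotSMul L' (RingHom.ker (Algebra.ofId B' B))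

theorem tensorEquivQuot_one_tmul (hsq : EtMil.IsFibreSquare B' B A' A) (l : L') :
    tensorEquivQuot L' hsq ((1 : B) ⊗ₜ[B'] l) = Submodule.Quotient.mk l := by
  simp only [tensorEquivQuot, LinearEquiv.trans_apply, TensorProduct.congr_tmul, LinearEquiv.refl_apply]
  have : ((Ideal.quotientKerAlgEquivOfSurjective (surj_ofId hsq)).symm.toLinearEquiv) (1 : B) =
      Ideal.Quotient.mk _ 1 := by
    simp
  rw [this, map_one]
  exact TensorProduct.quotTensorEquivQuotSMul_mk_one_tmul (RingHom.ker (Algebra.ofId B' B)) l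

/-- if `1 ⊗ l = 0` in `B ⊗ L'` then `l ∈ J L'` -/
theorem mem_smul_top_of_tmul_eq_zero (hsq : EtMil.IsFibreSquare B' B A' A) (l : L')
    (h1 : ((1 : B) ⊗ₜ[B'] l : B ⊗[B'] L') = 0) :
    l ∈ (RingHom.ker (algebraMap B' B)) • (⊤ : Submodule B' L') := by
  have := tensorEquivQuot_one_tmul L' hsq l
  rw [h1, map_zero] at this
  rw [← ker_ofId]
  exact (Submodule.Quotient.mk_eq_zero _).1 this.symm

end Milnor
end Groth.Agent.H74
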