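import Groth.Agent.H74.Milnor

set_option autoImplicit false
universe u
open TensorProduct

namespace Groth.Agent.H74
namespace Milnor

variable {B' B A' A : Type u} [CommRing B'] [CommRing B] [CommRing A'] [CommRing A]
  [Algebra B' B] [Algebra B' A'] [Algebra B A] [Algebra A' A] [Algebra B' A]
  [IsScalarTower B' B A] [IsScalarTower B' A' A]

theorem isPushout (hsq : EtMil.IsFibreSquare B' B A' A) : Algebra.IsPushout B' B A' A := by
  constructor
  apply IsBaseChange.of_lift_unique
  intro Q _ _ _ _ g
  set f : A' →ₗ[B'] A := (IsScalarTower.toAlgHom B' A' A).toLinearMap with hf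
  have hfapp : ∀ x : A', f x = algebraMap A' A x := fun x => rfl
  have hsurj : Function.Surjective f := hsq.1
  -- g kills ker f
  have hker : ∀ i : A', f i = 0 → g i = 0 := by
    intro i hi
    rw [hfapp] at hi
    have hc : algebraMap B A 0 = algebraMap A' A i := by rw [map_zero, hi]
    have h1 := lift_fst hsq 0 i hc
    have h2 := lift_snd hsq 0 i hc
    rw [← h2, Algebra.algebraMap_eq_smul_one, map_smul, ← algebraMap_smul B, h1, zero_smul]
  have hwd : ∀ x y : A', f x = f y → g x = g y := by
    intro x y hxy
    have : x = y + (x - y) := by ring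
    rw [this, map_add, hker (x - y) (by rw [map_sub, hxy, sub_self]), add_zero]
  let s : A → A' := fun a => (hsurj a).choose
  have hs : ∀ a, f (s a) = a := fun a => (hsurj a).choose_spec
  let g' : A →ₗ[B] Q :=
    { toFun := fun a => g (s a)
      map_add' := by
        intro a b
        rw [← map_add]
        apply hwd
        rw [map_add, hs, hs, hs]
      map_smul' := by
        intro b a
        obtain ⟨b', rfl⟩ := surj_fst hsq b
        simp only [RingHom.id_apply]
        rw [algebraMap_smul B b' (g (s a)), ← map_smul g b' (s a)]
        apply hwd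
        rw [map_smul f b' (s a), hs, hs, algebraMap_smul B b' a] }
  refine ⟨g', ?_, ?_⟩
  · ext x
    simp only [LinearMap.comp_apply, LinearMap.restrictScalars_apply]
    exact hwd _ _ (hs _)
  · intro g'' hg''
    ext a
    obtain ⟨x, rfl⟩ := hsurj a
    have : g'' (f x) = g x := by
      rw [← hg'']; rfl
    rw [this]
    exact (hwd _ _ (hs _)).symm

end Milnor
end Groth.Agent.H74
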