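import Groth.Agent.S4604
import Groth.Agent.S4610
import Groth.Agent.H54.Dim
import Groth.Agent.Lead.RegularLocalization
import Mathlib

set_option autoImplicit false
universe u

namespace Groth.Agent.H74.MonicLocal

open IsLocalRing Groth.Agent.S4604

section General

variable {A : Type u} [CommRing A] {r : ℕ} (d : Fin r → ℕ) (c : Fin r → ℕ → A)

/-- The one-variable monic polynomials. -/
noncomputable def P (i : Fin r) : Polynomial A :=
  Polynomial.X ^ d i + ∑ k ∈ Finset.range (d i), Polynomial.C (c i k) * Polynomial.X ^ k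

theorem degree_lt (i : Fin r) :
    (∑ k ∈ Finset.range (d i), Polynomial.C (c i k) * Polynomial.X ^ k : Polynomial A).degree
      < (d i : WithBot ℕ) := by
  rw [Finset.sum_range]
  exact Polynomial.degree_sum_fin_lt _

theorem P_monic (i : Fin r) : (P d c i).Monic :=
  Polynomial.monic_X_pow_add (degree_lt d c i)

theorem P_natDegree [Nontrivial A] (i : Fin r) : (P d c i).natDegree = d i := by
  rw [P, Polynomial.natDegree_add_eq_left_of_degree_lt, Polynomial.natDegree_X_pow]
  rw [Polynomial.degree_X_pow]
  exact degree_lt d c i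

theorem aeval_P (i : Fin r) :
    Polynomial.aeval (MvPolynomial.X i : MvPolynomial (Fin r) A) (P d c i) = Fpoly d c i := by
  simp only [P, Fpoly, map_add, map_pow, Polynomial.aeval_X, map_sum, map_mul, Polynomial.aeval_C]
  rfl

theorem free_and_finrank [Nontrivial A] :
    Module.Free A (Q d c) ∧ Module.finrank A (Q d c) = ∏ i, d i := by
  have h := Groth.Agent.S4610.result (P d c) (P_monic d c)
  have hfun : (fun i => Polynomial.aeval (MvPolynomial.X i : MvPolynomial (Fin r) A) (P d c i)) =
      Fpoly d c := funext (aeval_P d c)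
  rw [hfun] at h
  refine ⟨h.1, ?_⟩
  rw [h.2]
  exact Finset.prod_congr rfl fun i _ => P_natDegree d c i

theorem finrank_pos [Nontrivial A] (hd : ∀ i, 2 ≤ d i) : 0 < Module.finrank A (Q d c) := by
  rw [(free_and_finrank d c).2]
  exact Finset.prod_pos fun i _ => by have := hd i; omega

theorem finite [Nontrivial A] (hd : ∀ i, 2 ≤ d i) : Module.Finite A (Q d c) := by
  have := (free_and_finrank d c).1
  exact Module.finite_of_finrank_pos (finrank_pos d c hd)

theorem algebraMap_injective [Nontrivial A] (hd : ∀ i, 2 ≤ d i) :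
    Function.Injective (algebraMap A (Q d c)) := by
  have := (free_and_finrank d c).1
  have : Nontrivial (Q d c) := Module.nontrivial_of_finrank_pos (R := A) (finrank_pos d c hd)
  exact FaithfulSMul.algebraMap_injective A (Q d c)

theorem ringKrullDim_eq [Nontrivial A] (hd : ∀ i, 2 ≤ d i) :
    ringKrullDim (Q d c) = ringKrullDim A := by
  have := finite d c hd
  have : Algebra.IsIntegral A (Q d c) := Algebra.IsIntegral.of_finite A (Q d c)
  exact (Groth.Agent.H54.ringKrullDim_eq_of_isIntegral_of_injective
    (algebraMap_injective d c hd)).symm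

/-- `mk p - p(0)` lies in the ideal generated by the `t_i`. -/
theorem mk_sub_mem_span_t (p : MvPolynomial (Fin r) A) :
    (Ideal.Quotient.mk _ p : Q d c) - algebraMap A (Q d c) (MvPolynomial.constantCoeff p) ∈
      Ideal.span (Set.range (t d c)) := by
  induction p using MvPolynomial.induction_on with
  | C a =>
    simp only [MvPolynomial.constantCoeff_C]
    have : (Ideal.Quotient.mk (Ideal.span (Set.range (Fpoly d c))) (MvPolynomial.C a) : Q d c) =
        algebraMap A (Q d c) a := rfl
    rw [this, sub_self]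
    exact Ideal.zero_mem _
  | add p q hp hq =>
    rw [map_add, map_add, map_add]
    have := Ideal.add_mem _ hp hq
    convert this using 1
    ring
  | mul_X p i hp =>
    rw [map_mul, map_mul, MvPolynomial.constantCoeff_X, mul_zero, map_zero, sub_zero]
    exact Ideal.mul_mem_left _ _ (Ideal.subset_span ⟨i, rfl⟩)

end General

section Local

variable {A : Type u} [CommRing A] [IsLocalRing A] {r : ℕ} (d : Fin r → ℕ) (hd : ∀ i, 2 ≤ d i)
  (c : Fin r → ℕ → A) (hc : ∀ i k, c i k ∈ maximalIdeal A)

/-- The augmentation `A' → K`. -/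
noncomputable def epsK : Q d c →ₐ[A] A ⧸ maximalIdeal A :=
  aug d c hd (maximalIdeal A) (fun i => hc i 0)

theorem epsK_mk (p : MvPolynomial (Fin r) A) :
    epsK d hd c hc (Ideal.Quotient.mk _ p) =
      Ideal.Quotient.mk (maximalIdeal A) (MvPolynomial.constantCoeff p) :=
  aug_mk d c hd (maximalIdeal A) (fun i => hc i 0) p

theorem epsK_surjective : Function.Surjective (epsK d hd c hc) := by
  intro y
  obtain ⟨a, rfl⟩ := Ideal.Quotient.mk_surjective y
  exact ⟨algebraMap A (Q d c) a, by simp⟩

theorem ker_epsK_isMaximal :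
    (RingHom.ker (epsK d hd c hc : Q d c →+* A ⧸ maximalIdeal A)).IsMaximal := by
  let _ : Field (A ⧸ maximalIdeal A) := Ideal.Quotient.field _
  exact RingHom.ker_isMaximal_of_surjective _ (epsK_surjective d hd c hc)

include hd in
theorem algebraMap_mem_of_isMaximal (M : Ideal (Q d c)) [M.IsMaximal] (a : A)
    (ha : a ∈ maximalIdeal A) : algebraMap A (Q d c) a ∈ M := by
  have := finite d c hd
  have : Algebra.IsIntegral A (Q d c) := Algebra.IsIntegral.of_finite A (Q d c)
  have hmax : (M.comap (algebraMap A (Q d c))).IsMaximal :=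
    Ideal.isMaximal_comap_of_isIntegral_of_isMaximal M
  have : M.comap (algebraMap A (Q d c)) = maximalIdeal A := IsLocalRing.eq_maximalIdeal hmax
  have h2 : a ∈ M.comap (algebraMap A (Q d c)) := by rw [this]; exact ha
  exact h2

include hd hc in
theorem t_mem_of_isMaximal (M : Ideal (Q d c)) [hM : M.IsMaximal] (i : Fin r) : t d c i ∈ M := by
  have h := relation d c i
  have h1 : (t d c i) ^ d i = - (Finset.range (d i)).sum
      (fun k => algebraMap A (Q d c) (c i k) * (t d c i) ^ k) := eq_neg_of_add_eq_zero_left h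
  have h2 : (t d c i) ^ d i ∈ M := by
    rw [h1]
    apply Ideal.neg_mem_iff _ |>.mpr
    apply Ideal.sum_mem
    intro k _
    exact Ideal.mul_mem_right _ _ (algebraMap_mem_of_isMaximal d hd c M _ (hc i k))
  exact hM.isPrime.mem_of_pow_mem _ h2

include hd hc in
theorem ker_epsK_le (M : Ideal (Q d c)) [hM : M.IsMaximal] :
    RingHom.ker (epsK d hd c hc : Q d c →+* A ⧸ maximalIdeal A) ≤ M := by
  intro x hx
  obtain ⟨p, rfl⟩ := Ideal.Quotient.mk_surjective x
  rw [RingHom.mem_ker] at hx
  have hx' : epsK d hd c hc (Ideal.Quotient.mk _ p) = 0 := hx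
  rw [epsK_mk, Ideal.Quotient.eq_zero_iff_mem] at hx'
  have h1 := mk_sub_mem_span_t d c p
  have h2 : Ideal.span (Set.range (t d c)) ≤ M := by
    rw [Ideal.span_le]
    rintro _ ⟨i, rfl⟩
    exact t_mem_of_isMaximal d hd c hc M i
  have h3 := algebraMap_mem_of_isMaximal d hd c M _ hx'
  have := M.add_mem (h2 h1) h3
  simpa using this

include hd hc in
theorem eq_ker_epsK (M : Ideal (Q d c)) [hM : M.IsMaximal] :
    M = RingHom.ker (epsK d hd c hc : Q d c →+* A ⧸ maximalIdeal A) :=
  ((ker_epsK_isMaximal d hd c hc).eq_of_le hM.ne_top (ker_epsK_le d hd c hc M)).symm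

include hd hc in
theorem isLocalRing : IsLocalRing (Q d c) :=
  IsLocalRing.of_unique_max_ideal
    ⟨_, ker_epsK_isMaximal d hd c hc, fun M hM => by
      have := hM
      exact eq_ker_epsK d hd c hc M⟩

include hd hc in
theorem residue_surjective (M : Ideal (Q d c)) [hM : M.IsMaximal] :
    Function.Surjective ((Ideal.Quotient.mk M).comp (algebraMap A (Q d c))) := by
  intro y
  obtain ⟨x, rfl⟩ := Ideal.Quotient.mk_surjective y
  obtain ⟨p, rfl⟩ := Ideal.Quotient.mk_surjective x
  refine ⟨MvPolynomial.constantCoeff p, ?_⟩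
  rw [RingHom.comp_apply, Ideal.Quotient.eq, eq_ker_epsK d hd c hc M, RingHom.mem_ker, map_sub]
  change epsK d hd c hc _ - epsK d hd c hc _ = 0
  rw [epsK_mk, AlgHom.commutes, Ideal.Quotient.algebraMap_eq, sub_self]

end Local

section Theta

variable {A : Type u} [CommRing A] [IsLocalRing A] {r : ℕ} (d : Fin r → ℕ) (hd : ∀ i, 2 ≤ d i)
  (c : Fin r → ℕ → A) (hc : ∀ i k, c i k ∈ maximalIdeal A)

/-- The residue field as a quotient. -/
local notation "K" => A ⧸ maximalIdeal A

/-- truncation to degree `≤ 1` modulo `𝔪`, on polynomials -/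
noncomputable def theta0 : MvPolynomial (Fin r) A →ₐ[A] TrivSqZeroExt K (Fin r → K) :=
  MvPolynomial.aeval (fun i => TrivSqZeroExt.inr (Pi.single i 1))

theorem inr_pow_eq_zero (v : Fin r → K) (n : ℕ) (hn : 2 ≤ n) :
    (TrivSqZeroExt.inr v : TrivSqZeroExt K (Fin r → K)) ^ n = 0 := by
  obtain ⟨m, rfl⟩ : ∃ m, n = m + 2 := ⟨n - 2, by omega⟩
  rw [pow_add, pow_two, TrivSqZeroExt.inr_mul_inr, mul_zero]

theorem algebraMap_tsz_eq_zero (a : A) (ha : a ∈ maximalIdeal A) :
    algebraMap A (TrivSqZeroExt K (Fin r → K)) a = 0 := by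
  rw [TrivSqZeroExt.algebraMap_eq_inl', Ideal.Quotient.algebraMap_eq,
    Ideal.Quotient.eq_zero_iff_mem.mpr ha, TrivSqZeroExt.inl_zero]

include hd hc in
theorem theta0_Fpoly (i : Fin r) : theta0 (A := A) (r := r) (Fpoly d c i) = 0 := by
  rw [Fpoly, map_add, map_pow, theta0, MvPolynomial.aeval_X, inr_pow_eq_zero _ _ (hd i), zero_add,
    map_sum]
  refine Finset.sum_eq_zero fun k _ => ?_
  rw [map_mul, MvPolynomial.aeval_C, algebraMap_tsz_eq_zero _ (hc i k), zero_mul]

/-- truncation to degree `≤ 1` modulo `𝔪`, on `A'` -/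
noncomputable def theta : Q d c →ₐ[A] TrivSqZeroExt K (Fin r → K) :=
  Ideal.Quotient.liftₐ _ (theta0 (A := A) (r := r)) (by
    have : Ideal.span (Set.range (Fpoly d c)) ≤
        RingHom.ker (theta0 (A := A) (r := r)).toRingHom := by
      rw [Ideal.span_le]
      rintro _ ⟨i, rfl⟩
      exact theta0_Fpoly d hd c hc i
    intro a ha
    exact this ha)

theorem theta_mk (p : MvPolynomial (Fin r) A) :
    theta d hd c hc (Ideal.Quotient.mk _ p) = theta0 p := rfl

theorem theta_t (i : Fin r) : theta d hd c hc (t d c i) = TrivSqZeroExt.inr (Pi.single i 1) := by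
  rw [t, theta_mk, theta0, MvPolynomial.aeval_X]

theorem fst_theta (x : Q d c) : (theta d hd c hc x).fst = epsK d hd c hc x := by
  obtain ⟨p, rfl⟩ := Ideal.Quotient.mk_surjective x
  rw [theta_mk, epsK_mk]
  have h : (TrivSqZeroExt.fstHom A K (Fin r → K)).comp (theta0 (A := A) (r := r)) =
      (Ideal.Quotient.mkₐ A (maximalIdeal A)).comp
        (MvPolynomial.aeval (fun _ => (0 : A)) : MvPolynomial (Fin r) A →ₐ[A] A) := by
    apply MvPolynomial.algHom_ext
    intro i
    simp [theta0]
  have h2 := congrArg (fun f => f p) h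
  simp only [AlgHom.comp_apply, TrivSqZeroExt.fstHom_apply, Ideal.Quotient.mkₐ_eq_mk] at h2
  rw [h2, MvPolynomial.aeval_zero']
  rfl

section Cot

variable [hQ : IsLocalRing (Q d c)]

include hd hc in
theorem maximalIdeal_eq :
    maximalIdeal (Q d c) = RingHom.ker (epsK d hd c hc : Q d c →+* K) :=
  eq_ker_epsK d hd c hc (maximalIdeal (Q d c))

include hd hc in
theorem mem_maximalIdeal_iff (p : MvPolynomial (Fin r) A) :
    (Ideal.Quotient.mk _ p : Q d c) ∈ maximalIdeal (Q d c) ↔
      MvPolynomial.constantCoeff p ∈ maximalIdeal A := by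
  rw [maximalIdeal_eq d hd c hc, RingHom.mem_ker]
  change epsK d hd c hc (Ideal.Quotient.mk _ p) = 0 ↔ _
  rw [epsK_mk, Ideal.Quotient.eq_zero_iff_mem]

include hd hc in
theorem algebraMap_mem_maximalIdeal (a : A) (ha : a ∈ maximalIdeal A) :
    algebraMap A (Q d c) a ∈ maximalIdeal (Q d c) := by
  have : algebraMap A (Q d c) a = Ideal.Quotient.mk _ (MvPolynomial.C a) := rfl
  rw [this, mem_maximalIdeal_iff d hd c hc, MvPolynomial.constantCoeff_C]
  exact ha

include hd hc in
theorem t_mem_maximalIdeal (i : Fin r) : t d c i ∈ maximalIdeal (Q d c) := by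
  rw [t, mem_maximalIdeal_iff d hd c hc, MvPolynomial.constantCoeff_X]
  exact zero_mem _

include hd hc in
theorem algebraMap_c_zero_mem_sq (i : Fin r) :
    algebraMap A (Q d c) (c i 0) ∈ maximalIdeal (Q d c) ^ 2 := by
  have ht := t_mem_maximalIdeal d hd c hc i
  have hcm : ∀ k, algebraMap A (Q d c) (c i k) ∈ maximalIdeal (Q d c) := fun k =>
    algebraMap_mem_maximalIdeal d hd c hc _ (hc i k)
  have hrel := relation d c i
  obtain ⟨e, he⟩ : ∃ e, d i = e + 2 := ⟨d i - 2, by have := hd i; omega⟩
  rw [he, Finset.sum_range_succ', pow_zero, mul_one, ← add_assoc] at hrel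
  have h1 : algebraMap A (Q d c) (c i 0) =
      - ((t d c i) ^ (e + 2) + (Finset.range (e + 1)).sum
        (fun k => algebraMap A (Q d c) (c i (k + 1)) * (t d c i) ^ (k + 1))) :=
    eq_neg_of_add_eq_zero_right hrel
  rw [h1]
  apply Ideal.neg_mem_iff _ |>.mpr
  apply Ideal.add_mem
  · rw [pow_add, mul_comm]
    exact Ideal.mul_mem_right _ _ (Ideal.pow_mem_pow ht 2)
  · apply Ideal.sum_mem
    intro k _
    rw [pow_two]
    apply Ideal.mul_mem_mul (hcm _)
    rw [pow_succ]
    exact Ideal.mul_mem_left _ _ ht

include hd hc in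
/-- elements of `𝔪` lying in `𝔪'^2` are in `𝔪^2 + (c_{i0})`. -/
theorem mem_of_algebraMap_mem_sq (a : A)
    (ha2 : algebraMap A (Q d c) a ∈ maximalIdeal (Q d c) ^ 2) :
    a ∈ maximalIdeal A ^ 2 ⊔ Ideal.span (Set.range fun i => c i 0) := by
  set J : Ideal A := maximalIdeal A ^ 2 ⊔ Ideal.span (Set.range fun i => c i 0) with hJ
  have hcJ : ∀ i, c i 0 ∈ J := fun i => Ideal.mem_sup_right (Ideal.subset_span ⟨i, rfl⟩)
  let εJ : Q d c →ₐ[A] A ⧸ J := aug d c hd J hcJ
  have hεJ : ∀ p, εJ (Ideal.Quotient.mk _ p) =
      Ideal.Quotient.mk J (MvPolynomial.constantCoeff p) := aug_mk d c hd J hcJ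
  have hsq : maximalIdeal (Q d c) ^ 2 ≤ RingHom.ker (εJ : Q d c →+* A ⧸ J) := by
    rw [pow_two, Ideal.mul_le]
    intro x hx y hy
    obtain ⟨p, rfl⟩ := Ideal.Quotient.mk_surjective x
    obtain ⟨q, rfl⟩ := Ideal.Quotient.mk_surjective y
    rw [mem_maximalIdeal_iff d hd c hc] at hx hy
    rw [RingHom.mem_ker, ← map_mul]
    change εJ (Ideal.Quotient.mk _ (p * q)) = 0
    rw [hεJ, map_mul, Ideal.Quotient.eq_zero_iff_mem]
    apply Ideal.mem_sup_left
    rw [pow_two]
    exact Ideal.mul_mem_mul hx hy
  have h3 := hsq ha2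
  rw [RingHom.mem_ker] at h3
  have h4 : εJ (algebraMap A (Q d c) a) = Ideal.Quotient.mk J a := by simp
  have h5 : Ideal.Quotient.mk J a = 0 := h4 ▸ h3
  exact Ideal.Quotient.eq_zero_iff_mem.mp h5

/-- The map on cotangent spaces `𝔪/𝔪² → 𝔪'/𝔪'²`. -/
noncomputable def alpha :
    (maximalIdeal A).Cotangent →ₗ[A] (maximalIdeal (Q d c)).Cotangent :=
  Ideal.mapCotangent (maximalIdeal A) (maximalIdeal (Q d c)) (Algebra.ofId A (Q d c))
    (fun a ha => algebraMap_mem_maximalIdeal d hd c hc a ha)

theorem alpha_toCotangent (a : A) (ha : a ∈ maximalIdeal A) :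
    alpha d hd c hc ((maximalIdeal A).toCotangent ⟨a, ha⟩) =
      (maximalIdeal (Q d c)).toCotangent
        ⟨algebraMap A (Q d c) a, algebraMap_mem_maximalIdeal d hd c hc a ha⟩ := rfl

/-- The classes of the constant terms. -/
noncomputable def cbar (i : Fin r) : (maximalIdeal A).Cotangent :=
  (maximalIdeal A).toCotangent ⟨c i 0, hc i 0⟩

/-- The classes of the `t_i`. -/
noncomputable def tbar (i : Fin r) : (maximalIdeal (Q d c)).Cotangent :=
  (maximalIdeal (Q d c)).toCotangent ⟨t d c i, t_mem_maximalIdeal d hd c hc i⟩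

theorem alpha_cbar (i : Fin r) : alpha d hd c hc (cbar c hc i) = 0 := by
  rw [cbar, alpha_toCotangent, Ideal.toCotangent_eq_zero]
  exact algebraMap_c_zero_mem_sq d hd c hc i

theorem ker_alpha :
    LinearMap.ker (alpha d hd c hc) = Submodule.span A (Set.range (cbar c hc)) := by
  apply le_antisymm
  · intro x hx
    obtain ⟨⟨a, ha⟩, rfl⟩ := (maximalIdeal A).toCotangent_surjective x
    rw [LinearMap.mem_ker, alpha_toCotangent, Ideal.toCotangent_eq_zero] at hx
    have hJ := mem_of_algebraMap_mem_sq d hd c hc a hx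
    obtain ⟨u, hu, v, hv, rfl⟩ := Submodule.mem_sup.mp hJ
    obtain ⟨b, rfl⟩ := (Ideal.mem_span_range_iff_exists_fun).mp hv
    have : (maximalIdeal A).toCotangent ⟨u + ∑ i, b i * c i 0, ha⟩ =
        ∑ i, b i • cbar c hc i := by
      have h1 : ∑ i, b i • cbar c hc i =
          (maximalIdeal A).toCotangent (∑ i, b i • (⟨c i 0, hc i 0⟩ : maximalIdeal A)) := by
        rw [map_sum]
        refine Finset.sum_congr rfl fun i _ => ?_
        rw [map_smul]
        rfl
      rw [h1, Ideal.toCotangent_eq]
      have h2 : ((∑ i, b i • (⟨c i 0, hc i 0⟩ : maximalIdeal A) : maximalIdeal A) : A) =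
          ∑ i, b i * c i 0 := by
        rw [Submodule.coe_sum]
        rfl
      rw [h2]
      simpa using hu
    rw [this]
    exact Submodule.sum_mem _ fun i _ => Submodule.smul_mem _ _ (Submodule.subset_span ⟨i, rfl⟩)
  · rw [Submodule.span_le]
    rintro _ ⟨i, rfl⟩
    exact alpha_cbar d hd c hc i

/-- The `T`-linear part. -/
noncomputable def delta : (maximalIdeal (Q d c)).Cotangent →ₗ[A] (Fin r → K) :=
  Ideal.Cotangent.lift
    ((((TrivSqZeroExt.sndHom K (Fin r → K)).restrictScalars A) ∘ₗ
      (theta d hd c hc).toLinearMap) ∘ₗ ((maximalIdeal (Q d c)).subtype.restrictScalars A))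
    (by
      intro x y
      have hx : (theta d hd c hc (x : Q d c)).fst = 0 := by
        rw [fst_theta]
        have h1 : (x : Q d c) ∈ RingHom.ker (epsK d hd c hc : Q d c →+* K) :=
          (maximalIdeal_eq d hd c hc) ▸ x.2
        exact h1
      have hy : (theta d hd c hc (y : Q d c)).fst = 0 := by
        rw [fst_theta]
        have h1 : (y : Q d c) ∈ RingHom.ker (epsK d hd c hc : Q d c →+* K) :=
          (maximalIdeal_eq d hd c hc) ▸ y.2
        exact h1
      change (theta d hd c hc ((x : Q d c) * (y : Q d c))).snd = 0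
      rw [map_mul, TrivSqZeroExt.snd_mul, hx, hy, zero_smul, MulOpposite.op_zero, zero_smul,
        add_zero])

theorem delta_toCotangent (x : maximalIdeal (Q d c)) :
    delta d hd c hc ((maximalIdeal (Q d c)).toCotangent x) = (theta d hd c hc (x : Q d c)).snd :=
  rfl

theorem delta_tbar (i : Fin r) : delta d hd c hc (tbar d hd c hc i) = Pi.single i 1 := by
  rw [tbar, delta_toCotangent]
  change (theta d hd c hc (t d c i)).snd = _
  rw [theta_t, TrivSqZeroExt.snd_inr]

theorem delta_alpha (v : (maximalIdeal A).Cotangent) : delta d hd c hc (alpha d hd c hc v) = 0 := by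
  obtain ⟨⟨a, ha⟩, rfl⟩ := (maximalIdeal A).toCotangent_surjective v
  rw [alpha_toCotangent, delta_toCotangent]
  change (theta d hd c hc (algebraMap A (Q d c) a)).snd = 0
  rw [AlgHom.commutes, TrivSqZeroExt.algebraMap_eq_inl', TrivSqZeroExt.snd_inl]

theorem exists_decomp (x : (maximalIdeal (Q d c)).Cotangent) :
    ∃ (v₀ : (maximalIdeal A).Cotangent) (a : Fin r → A),
      x = alpha d hd c hc v₀ + ∑ i, a i • tbar d hd c hc i := by
  obtain ⟨⟨q, hq⟩, rfl⟩ := (maximalIdeal (Q d c)).toCotangent_surjective x
  obtain ⟨p, rfl⟩ := Ideal.Quotient.mk_surjective q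
  have hc0 := (mem_maximalIdeal_iff d hd c hc p).mp hq
  obtain ⟨g, hg⟩ := Ideal.mem_span_range_iff_exists_fun.mp (mk_sub_mem_span_t d c p)
  have hres := residue_surjective d hd c hc (maximalIdeal (Q d c))
  choose a ha using fun i => hres (Ideal.Quotient.mk _ (g i))
  have ha' : ∀ i, g i - algebraMap A (Q d c) (a i) ∈ maximalIdeal (Q d c) := by
    intro i
    have := ha i
    rw [RingHom.comp_apply, Ideal.Quotient.eq] at this
    have h2 := (Ideal.neg_mem_iff _).mpr this
    simpa using h2
  refine ⟨(maximalIdeal A).toCotangent ⟨_, hc0⟩, a, ?_⟩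
  rw [alpha_toCotangent]
  have hsplit : (⟨Ideal.Quotient.mk _ p, hq⟩ : maximalIdeal (Q d c)) =
      ⟨algebraMap A (Q d c) (MvPolynomial.constantCoeff p),
        algebraMap_mem_maximalIdeal d hd c hc _ hc0⟩ +
        ∑ i, g i • (⟨t d c i, t_mem_maximalIdeal d hd c hc i⟩ : maximalIdeal (Q d c)) := by
    apply Subtype.ext
    rw [Submodule.coe_add, Submodule.coe_sum]
    simp only [Submodule.coe_smul, smul_eq_mul]
    rw [hg]
    ring
  rw [hsplit, map_add, map_sum]
  congr 1
  refine Finset.sum_congr rfl fun i _ => ?_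
  rw [map_smul]
  change g i • tbar d hd c hc i = a i • tbar d hd c hc i
  have h3 : (g i - algebraMap A (Q d c) (a i)) • tbar d hd c hc i = 0 :=
    Ideal.Cotangent.smul_eq_zero_of_mem (ha' i) _
  have h5 : g i • tbar d hd c hc i - algebraMap A (Q d c) (a i) • tbar d hd c hc i = 0 := by
    rw [← h3]
    exact (sub_smul (g i) (algebraMap A (Q d c) (a i)) (tbar d hd c hc i)).symm
  rw [sub_eq_zero.mp h5]
  exact algebraMap_smul (Q d c) (a i) (tbar d hd c hc i)

theorem delta_sum (a : Fin r → A) :
    delta d hd c hc (∑ i, a i • tbar d hd c hc i) = fun i => Ideal.Quotient.mk _ (a i) := by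
  rw [map_sum]
  simp only [map_smul, delta_tbar]
  funext j
  rw [Finset.sum_apply, Finset.sum_eq_single j]
  · rw [Pi.smul_apply, Pi.single_eq_same, Algebra.smul_def, mul_one]
    rfl
  · intro i _ hij
    rw [Pi.smul_apply, Pi.single_eq_of_ne (Ne.symm hij), smul_zero]
  · intro h
    exact absurd (Finset.mem_univ j) h

theorem delta_surjective : Function.Surjective (delta d hd c hc) := by
  intro y
  choose a ha using fun i => Ideal.Quotient.mk_surjective (y i)
  exact ⟨∑ i, a i • tbar d hd c hc i, by rw [delta_sum]; exact funext ha⟩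

theorem ker_delta : LinearMap.ker (delta d hd c hc) = LinearMap.range (alpha d hd c hc) := by
  apply le_antisymm
  · intro x hx
    obtain ⟨v₀, a, rfl⟩ := exists_decomp d hd c hc x
    rw [LinearMap.mem_ker, map_add, delta_alpha, zero_add, delta_sum] at hx
    have ha : ∀ i, a i ∈ maximalIdeal A := fun i =>
      Ideal.Quotient.eq_zero_iff_mem.mp (congrFun hx i)
    have hz : ∑ i, a i • tbar d hd c hc i = 0 := by
      refine Finset.sum_eq_zero fun i _ => ?_
      have h6 : algebraMap A (Q d c) (a i) • tbar d hd c hc i = a i • tbar d hd c hc i :=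
        algebraMap_smul (Q d c) (a i) (tbar d hd c hc i)
      rw [← h6]
      exact Ideal.Cotangent.smul_eq_zero_of_mem
        (algebraMap_mem_maximalIdeal d hd c hc _ (ha i)) _
    rw [hz, add_zero]
    exact LinearMap.mem_range_self _ _
  · rintro _ ⟨v, rfl⟩
    exact delta_alpha d hd c hc v

theorem length_residue : Module.length A K = 1 := by
  rw [Module.length_eq_one_iff, isSimpleModule_iff_isCoatom, ← Ideal.isMaximal_def]
  infer_instance

theorem length_V :
    Module.length A (maximalIdeal A).Cotangent =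
      Module.length A (LinearMap.ker (alpha d hd c hc)) +
        Module.length A (LinearMap.range (alpha d hd c hc)) :=
  Module.length_eq_add_of_exact (LinearMap.ker (alpha d hd c hc)).subtype
    (alpha d hd c hc).rangeRestrict (Submodule.subtype_injective _)
    (LinearMap.surjective_rangeRestrict _)
    (LinearMap.exact_iff.mpr (by rw [LinearMap.ker_rangeRestrict, Submodule.range_subtype]))

theorem length_V' :
    Module.length A (maximalIdeal (Q d c)).Cotangent =
      Module.length A (LinearMap.range (alpha d hd c hc)) + r := by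
  rw [Module.length_eq_add_of_exact (LinearMap.range (alpha d hd c hc)).subtype
    (delta d hd c hc) (Submodule.subtype_injective _) (delta_surjective d hd c hc)
    (LinearMap.exact_iff.mpr (by rw [ker_delta, Submodule.range_subtype])),
    Module.length_pi, length_residue]
  simp

theorem length_cotangent_A [IsNoetherianRing A] :
    Module.length A (maximalIdeal A).Cotangent =
      Module.finrank (ResidueField A) (CotangentSpace A) := by
  rw [← Module.length_eq_finrank (ResidueField A) (CotangentSpace A)]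
  exact Module.length_eq_of_surjective (S := A) (R := ResidueField A) (M := CotangentSpace A)
    IsLocalRing.residue_surjective

include hd hc in
theorem length_cotangent_Q [IsNoetherianRing A] :
    Module.length A (maximalIdeal (Q d c)).Cotangent =
      Module.finrank (ResidueField (Q d c)) (CotangentSpace (Q d c)) := by
  have hsurj : Function.Surjective (algebraMap A (ResidueField (Q d c))) :=
    residue_surjective d hd c hc (maximalIdeal (Q d c))
  have : IsScalarTower A (ResidueField (Q d c)) (CotangentSpace (Q d c)) :=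
    IsScalarTower.of_algebraMap_smul fun a x => by
      rw [IsScalarTower.algebraMap_apply A (Q d c) (ResidueField (Q d c)), algebraMap_smul,
        algebraMap_smul]
  rw [← Module.length_eq_finrank (ResidueField (Q d c)) (CotangentSpace (Q d c))]
  exact Module.length_eq_of_surjective (S := A) (R := ResidueField (Q d c))
    (M := CotangentSpace (Q d c)) hsurj

theorem length_ker_alpha :
    Module.length A (LinearMap.ker (alpha d hd c hc)) =
      Module.finrank (ResidueField A)
        (Submodule.span (ResidueField A) (Set.range (cbar c hc))) := by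
  have : Module.Finite (ResidueField A)
      (Submodule.span (ResidueField A) (Set.range (cbar c hc))) :=
    FiniteDimensional.span_of_finite _ (Set.finite_range _)
  rw [ker_alpha, ← Submodule.restrictScalars_span A (ResidueField A)
    IsLocalRing.residue_surjective (Set.range (cbar c hc)),
    ← Module.length_eq_finrank (ResidueField A)
      (Submodule.span (ResidueField A) (Set.range (cbar c hc))),
    ← Module.length_eq_of_surjective (S := A) (R := ResidueField A)
      (M := Submodule.span (ResidueField A) (Set.range (cbar c hc)))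
      IsLocalRing.residue_surjective]
  exact ((Submodule.restrictScalarsEquiv A (ResidueField A) _
    (Submodule.span (ResidueField A) (Set.range (cbar c hc)))).restrictScalars A).length_eq

include hd hc in
theorem isRegularLocalRing_iff (hreg : IsRegularLocalRing A) :
    IsRegularLocalRing (Q d c) ↔ LinearIndependent (ResidueField A) (cbar c hc) := by
  have hA : IsNoetherianRing A := inferInstance
  have hQN : IsNoetherianRing (Q d c) := inferInstance
  rw [IsRegularLocalRing.iff_finrank_cotangentSpace, ringKrullDim_eq d c hd,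
    ← (IsRegularLocalRing.iff_finrank_cotangentSpace A).mp hreg,
    linearIndependent_iff_card_eq_finrank_span, Fintype.card_fin, Set.finrank]
  have h1 := length_V d hd c hc
  have h2 := length_V' d hd c hc
  rw [length_cotangent_A, length_ker_alpha] at h1
  rw [length_cotangent_Q d hd c hc] at h2
  obtain ⟨l, hl⟩ : ∃ l : ℕ, Module.length A (LinearMap.range (alpha d hd c hc)) = l := by
    refine ENat.ne_top_iff_exists.mp ?_ |>.imp fun _ h => h.symm
    intro htop
    rw [htop, add_top] at h1
    exact ENat.natCast_ne_top _ h1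
  rw [hl] at h1 h2
  have h1' : Module.finrank (ResidueField A) (CotangentSpace A) =
      Module.finrank (ResidueField A)
        (Submodule.span (ResidueField A) (Set.range (cbar c hc))) + l := by exact_mod_cast h1
  have h2' : Module.finrank (ResidueField (Q d c)) (CotangentSpace (Q d c)) = l + r := by
    exact_mod_cast h2
  rw [h1', h2']
  constructor
  · intro h
    have h3 : l + r = Module.finrank (ResidueField A)
        (Submodule.span (ResidueField A) (Set.range (cbar c hc))) + l := by exact_mod_cast h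
    omega
  · intro h
    rw [← h]
    push_cast
    ring

end Cot

end Theta

end Groth.Agent.H74.MonicLocal
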