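import Groth.Agent.H74.FrobBasic
import Mathlib.AlgebraicGeometry.Morphisms.Proper
import Mathlib.AlgebraicGeometry.Morphisms.QuasiSeparated
import Mathlib.AlgebraicGeometry.Morphisms.Separated
import Mathlib.AlgebraicGeometry.Morphisms.Immersion

/-!
# Descent of properties of morphisms along surjective morphisms (helper library, helper74)
-/

set_option autoImplicit false

universe u

open CategoryTheory CategoryTheory.Limits AlgebraicGeometry

namespace Groth.Agent.H74.MorDescent

variable {X' X Y : Scheme.{u}} (g : X' ⟶ X) (f : X ⟶ Y)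

/-- the map `X' ×_Y X' ⟶ X ×_Y X` induced by `g` -/
noncomputable abbrev diagMap : pullback (g ≫ f) (g ≫ f) ⟶ pullback f f :=
  pullback.map (g ≫ f) (g ≫ f) f f g g (𝟙 Y) ((Category.comp_id _).trans rfl)
    ((Category.comp_id _).trans rfl)

theorem diagonal_comp_diagMap :
    pullback.diagonal (g ≫ f) ≫ diagMap g f = g ≫ pullback.diagonal f := by
  apply pullback.hom_ext
  · rw [Category.assoc, Category.assoc, pullback.lift_fst, pullback.diagonal_fst_assoc,
      pullback.diagonal_fst, Category.comp_id]
  · rw [Category.assoc, Category.assoc, pullback.lift_snd, pullback.diagonal_snd_assoc,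
      pullback.diagonal_snd, Category.comp_id]

theorem diagMap_mem (P : MorphismProperty Scheme.{u}) [P.IsStableUnderBaseChange]
    [P.IsStableUnderComposition] (hg : P g) : P (diagMap g f) :=
  MorphismProperty.pullbackMap (P := P) hg hg rfl rfl

theorem quasiCompact_of_comp_surjective [QuasiCompact (g ≫ f)] [Surjective g] :
    QuasiCompact f := by
  constructor
  intro U hU hUc
  have h1 : IsCompact ((g ≫ f) ⁻¹' U) := QuasiCompact.isCompact_preimage U hU hUc
  have h2 : f ⁻¹' U = g '' ((g ≫ f) ⁻¹' U) := by
    ext x
    constructor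
    · intro hx
      obtain ⟨x', rfl⟩ := g.surjective x
      exact ⟨x', hx, rfl⟩
    · rintro ⟨x', hx', rfl⟩
      exact hx'
  rw [h2]
  exact h1.image g.continuous

theorem quasiSeparated_of_comp_surjective [QuasiSeparated (g ≫ f)] [Surjective g]
    [QuasiCompact g] : QuasiSeparated f := by
  constructor
  haveI : QuasiCompact (diagMap g f) := diagMap_mem g f @QuasiCompact ‹_›
  haveI : QuasiCompact (g ≫ pullback.diagonal f) := by
    rw [← diagonal_comp_diagMap]; infer_instance
  exact quasiCompact_of_comp_surjective g (pullback.diagonal f)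

theorem isSeparated_of_comp_surjective [IsSeparated (g ≫ f)] [Surjective g]
    [UniversallyClosed g] : IsSeparated f := by
  constructor
  haveI : UniversallyClosed (diagMap g f) := diagMap_mem g f @UniversallyClosed ‹_›
  apply IsClosedImmersion.of_isPreimmersion
  have h1 : Set.range (pullback.diagonal f) = Set.range (g ≫ pullback.diagonal f) := by
    ext z
    constructor
    · rintro ⟨x, rfl⟩
      obtain ⟨x', rfl⟩ := g.surjective x
      exact ⟨x', rfl⟩
    · rintro ⟨x', rfl⟩
      exact ⟨g x', rfl⟩
  rw [h1, ← diagonal_comp_diagMap]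
  have h2 : Set.range (pullback.diagonal (g ≫ f) ≫ diagMap g f) =
      (diagMap g f) '' Set.range (pullback.diagonal (g ≫ f)) := by
    ext z
    constructor
    · rintro ⟨x, rfl⟩
      exact ⟨_, ⟨x, rfl⟩, rfl⟩
    · rintro ⟨_, ⟨x, rfl⟩, rfl⟩
      exact ⟨x, rfl⟩
  rw [h2]
  exact (diagMap g f).isClosedMap _ (pullback.diagonal (g ≫ f)).isClosedEmbedding.isClosed_range

theorem universallyInjective_of_comp_surjective [UniversallyInjective (g ≫ f)] [Surjective g] :
    UniversallyInjective f := by
  rw [UniversallyInjective.iff_diagonal]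
  haveI : Surjective (diagMap g f) := diagMap_mem g f @Surjective ‹_›
  haveI : Surjective (pullback.diagonal (g ≫ f)) :=
    (UniversallyInjective.iff_diagonal _).mp ‹_›
  haveI : Surjective (g ≫ pullback.diagonal f) := by
    rw [← diagonal_comp_diagMap]; infer_instance
  exact Surjective.of_comp g (pullback.diagonal f)

/-- if `f ≫ g` is surjective and `g` injective then `f` is surjective -/
theorem surjective_of_comp_injective {X Y Z : Scheme.{u}} (f : X ⟶ Y) (g : Y ⟶ Z)
    [Surjective (f ≫ g)] (hg : Function.Injective g) : Surjective f := by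
  constructor
  intro y
  obtain ⟨x, hx⟩ := (f ≫ g).surjective (g y)
  exact ⟨x, hg hx⟩

/-- characterisation of universal homeomorphisms -/
theorem isUnivHomeo_iff {X Y : Scheme.{u}} (f : X ⟶ Y) :
    FlatMor.IsUnivHomeo f ↔ UniversallyInjective f ∧ Surjective f ∧ UniversallyClosed f := by
  constructor
  · intro h
    refine ⟨⟨?_⟩, ⟨?_⟩, ⟨?_⟩⟩
    · intro X' Y' i₁ i₂ f' hpb
      exact (h _ _ _ hpb : IsHomeomorph f').injective
    · exact (h _ _ _ IsPullback.of_id_snd : IsHomeomorph f).surjective
    · intro X' Y' i₁ i₂ f' hpb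
      exact ((isHomeomorph_iff_continuous_isClosedMap_bijective).mp
        (h _ _ _ hpb : IsHomeomorph f')).2.1
  · rintro ⟨h1, h2, h3⟩
    intro X' Y' i₁ i₂ f' h
    have h1' : UniversallyInjective f' := MorphismProperty.of_isPullback h.flip h1
    have h2' : Surjective f' := MorphismProperty.of_isPullback h.flip h2
    have h3' : UniversallyClosed f' := MorphismProperty.of_isPullback h.flip h3
    change IsHomeomorph f'
    rw [isHomeomorph_iff_continuous_isClosedMap_bijective]
    exact ⟨f'.continuous, f'.isClosedMap, f'.injective, f'.surjective⟩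

end Groth.Agent.H74.MorDescent
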