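import Mathlib
import Groth.Prelude.Def_PolLaw2

/-!
# Determinant of the action: naturality without freeness of `M`, and integrality

* `NormDetA.det_actEnd_map`: for `ψ : R →ₐ[A] R'` with `R ⊗[A] M` finite free over `R`, the determinant of the action
  of `x ∈ R ⊗ B` on `R ⊗ M` maps under `ψ` to the determinant of the action of the image of `x` on `R' ⊗ M`.
* `NormDetA.isIntegral_det_of_stable`: an endomorphism of a finite-dimensional `L`-vector space stabilising a finitely
  generated `R`-submodule which spans has determinant integral over `R`.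
-/

set_option autoImplicit false
set_option linter.style.haveILetI false
universe u
open scoped TensorProduct

namespace Groth.Agent.H74.NormDetA

open PolLaw

section Nat

variable {A : Type u} [CommRing A] {B : Type u} [CommRing B] [Algebra A B]
  (M : Type u) [AddCommGroup M] [Module A M] [Module B M] [IsScalarTower A B M]

theorem det_actEnd_map {R R' : Type u} [CommRing R] [Algebra A R] [CommRing R'] [Algebra A R']
    (ψ : R →ₐ[A] R') [Module.Free R (R ⊗[A] M)] [Module.Finite R (R ⊗[A] M)] (x : R ⊗[A] B) :
    LinearMap.det (actEnd M R' (Algebra.TensorProduct.map ψ (AlgHom.id A B) x)) =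
      ψ (LinearMap.det (actEnd M R x)) := by
  letI : Algebra R R' := ψ.toRingHom.toAlgebra
  haveI : IsScalarTower A R R' := IsScalarTower.of_algebraMap_eq fun a => (ψ.commutes a).symm
  let e := TensorProduct.AlgebraTensorModule.cancelBaseChange A R R' R' M
  have he : ∀ (r' : R') (z : R ⊗[A] M), e (r' ⊗ₜ[R] z) = r' • ψ.toLinearMap.rTensor M z := by
    intro r' z
    induction z using TensorProduct.induction_on with
    | zero => simp
    | tmul r m =>
      rw [TensorProduct.AlgebraTensorModule.cancelBaseChange_tmul, LinearMap.rTensor_tmul,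
        TensorProduct.smul_tmul', AlgHom.toLinearMap_apply]
      congr 1
      rw [Algebra.smul_def, smul_eq_mul, mul_comm]
      rfl
    | add a b ha hb => rw [TensorProduct.tmul_add, map_add, ha, hb, map_add, smul_add]
  have key : ∀ w, actEnd M R' (Algebra.TensorProduct.map ψ (AlgHom.id A B) x) (e w) =
      e ((actEnd M R x).baseChange R' w) := by
    intro w
    induction w using TensorProduct.induction_on with
    | zero => simp
    | tmul r' z =>
      rw [LinearMap.baseChange_tmul, he, he, map_smul, rTensor_actEnd]
    | add a b ha hb => simp only [map_add, ha, hb]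
  have key2 : actEnd M R' (Algebra.TensorProduct.map ψ (AlgHom.id A B) x) =
      e.toLinearMap ∘ₗ (actEnd M R x).baseChange R' ∘ₗ e.symm.toLinearMap := by
    apply LinearMap.ext
    intro v
    obtain ⟨w, rfl⟩ := e.surjective v
    rw [key]
    simp
  rw [key2, LinearMap.det_conj, LinearMap.det_baseChange]
  rfl

end Nat

section Int

variable {R L V : Type*} [CommRing R] [Field L] [Algebra R L] [AddCommGroup V] [Module L V] [Module R V]
  [IsScalarTower R L V] [FiniteDimensional L V]

theorem isIntegral_det_of_stable (N' : Submodule R V) (hfg : N'.FG)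
    (hspan : Submodule.span L (N' : Set V) = ⊤) (f : V →ₗ[L] V) (hf : ∀ v ∈ N', f v ∈ N') :
    IsIntegral R (LinearMap.det f) := by
  classical
  obtain ⟨s, hsN, hs_span, hs_li⟩ := exists_linearIndependent L (N' : Set V)
  let b : Module.Basis s L V := Module.Basis.mk hs_li (by
    rw [Subtype.range_coe, hs_span, hspan])
  haveI : Fintype s := FiniteDimensional.fintypeBasisIndex b
  have hb : ∀ i, b i ∈ N' := fun i => by
    rw [Module.Basis.mk_apply]
    exact hsN i.2
  obtain ⟨k, n, hn⟩ := Submodule.fg_iff_exists_fin_generating_family.1 hfg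
  let J : Submodule R L := Submodule.span R (Set.range fun σ : s → Fin k => b.det (n ∘ σ))
  have hexp : ∀ v : s → V, (∀ i, v i ∈ N') → b.det v ∈ J := by
    intro v hv
    have hv' : ∀ i, ∃ c : Fin k → R, ∑ j, c j • n j = v i := fun i => by
      have := hv i
      rw [← hn] at this
      exact (Submodule.mem_span_range_iff_exists_fun R).1 this
    choose c hc using hv'
    have hveq : v = fun i => ∑ j, (algebraMap R L (c i j)) • n j := by
      funext i
      rw [← hc i]
      exact Finset.sum_congr rfl fun j _ => (algebraMap_smul L (c i j) (n j)).symm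
    rw [hveq]
    have h1 := (b.det : MultilinearMap L (fun _ : s => V) L).map_sum
      (fun (i : s) (j : Fin k) => (algebraMap R L (c i j)) • n j)
    rw [AlternatingMap.coe_multilinearMap] at h1
    rw [h1]
    refine Submodule.sum_mem _ fun σ _ => ?_
    have h2 := (b.det : MultilinearMap L (fun _ : s => V) L).map_smul_univ
      (fun i : s => algebraMap R L (c i (σ i))) (fun i => n (σ i))
    rw [AlternatingMap.coe_multilinearMap] at h2
    rw [h2, ← map_prod, algebraMap_smul]
    exact Submodule.smul_mem _ _ (Submodule.subset_span ⟨σ, rfl⟩)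
  have hJfg : J.FG := Submodule.fg_span (Set.finite_range _)
  have hJne : J ≠ ⊥ := by
    intro h
    have h1 : b.det b ∈ J := hexp _ hb
    rw [h, Submodule.mem_bot, Module.Basis.det_self] at h1
    exact one_ne_zero h1
  have hn_mem : ∀ j, n j ∈ N' := fun j => by
    rw [← hn]
    exact Submodule.subset_span ⟨j, rfl⟩
  refine isIntegral_of_smul_mem_submodule J hJne hJfg (LinearMap.det f) ?_
  intro y hy
  induction hy using Submodule.span_induction with
  | mem y hy =>
    obtain ⟨σ, rfl⟩ := hy
    rw [smul_eq_mul, ← Module.Basis.det_comp]
    exact hexp _ fun i => hf _ (hn_mem _)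
  | zero => simp
  | add a b _ _ ha hb => rw [smul_add]; exact J.add_mem ha hb
  | smul r a _ ha => rw [smul_comm]; exact J.smul_mem r ha

end Int

end Groth.Agent.H74.NormDetA
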