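import Mathlib
import Groth.Prelude.Def_PolLaw2
import Groth.Agent.H74.NormDetA

/-!
# The determinant over a normal test domain

For an integrally closed domain `R` over a domain `A` (with `A → R` injective) and `M` finite over `A`, the determinant of
the action of `x ∈ R ⊗ B` on `Frac R ⊗ M` lies in `R` (`exists_det`, `detR`), and it is natural for maps of such `R` which
are compatible with maps `Frac A ⊗ R → Frac A ⊗ R'` (`detR_map`).
-/

set_option autoImplicit false
set_option linter.style.haveILetI false
universe u
open scoped TensorProduct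

namespace Groth.Agent.H74.NormDetB

open PolLaw Groth.Agent.H74.NormDetA

section Free

variable {A : Type u} [CommRing A] (K : Type u) [Field K] [Algebra A K]
  (M : Type u) [AddCommGroup M] [Module A M]

theorem free_of_field_algebra (R : Type u) [CommRing R] [Algebra K R] [Algebra A R]
    [IsScalarTower A K R] : Module.Free R (R ⊗[A] M) :=
  Module.Free.of_equiv (TensorProduct.AlgebraTensorModule.cancelBaseChange A K R R M)

theorem finrank_of_field_algebra (L : Type u) [Field L] [Algebra K L] [Algebra A L]
    [IsScalarTower A K L] :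
    Module.finrank L (L ⊗[A] M) = Module.finrank K (K ⊗[A] M) := by
  rw [← (TensorProduct.AlgebraTensorModule.cancelBaseChange A K L L M).finrank_eq,
    Module.finrank_baseChange]

end Free

section Inj

variable {A : Type u} [CommRing A] [IsDomain A] (R : Type u) [CommRing R] [Algebra A R]
  (L : Type u) [Field L] [Algebra R L] [Algebra A L] [IsScalarTower A R L]
  (g : FractionRing A →ₐ[A] L)

/-- The map `Frac A ⊗ R → L`. -/
noncomputable def jmap : FractionRing A ⊗[A] R →ₐ[A] L :=
  Algebra.TensorProduct.lift g (IsScalarTower.toAlgHom A R L) (fun _ _ => Commute.all _ _)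

theorem jmap_tmul (k : FractionRing A) (r : R) : jmap R L g (k ⊗ₜ[A] r) = g k * algebraMap R L r := by
  rw [jmap, Algebra.TensorProduct.lift_tmul]
  rfl

theorem exists_denom (z : FractionRing A ⊗[A] R) :
    ∃ (a : A) (r : R), a ≠ 0 ∧ a • z = (1 : FractionRing A) ⊗ₜ[A] r := by
  induction z using TensorProduct.induction_on with
  | zero => exact ⟨1, 0, one_ne_zero, by simp⟩
  | tmul k r =>
    obtain ⟨⟨a', a⟩, hk⟩ := IsLocalization.surj (nonZeroDivisors A) k
    refine ⟨a, a' • r, nonZeroDivisors.ne_zero a.2, ?_⟩
    rw [TensorProduct.smul_tmul', Algebra.smul_def, mul_comm, hk, Algebra.algebraMap_eq_smul_one,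
      TensorProduct.smul_tmul]
  | add z₁ z₂ h₁ h₂ =>
    obtain ⟨a₁, r₁, ha₁, e₁⟩ := h₁
    obtain ⟨a₂, r₂, ha₂, e₂⟩ := h₂
    refine ⟨a₁ * a₂, a₂ • r₁ + a₁ • r₂, mul_ne_zero ha₁ ha₂, ?_⟩
    rw [smul_add, mul_comm a₁ a₂, mul_smul, e₁, mul_comm a₂ a₁, mul_smul, e₂, TensorProduct.tmul_add,
      TensorProduct.tmul_smul, TensorProduct.tmul_smul]

theorem jmap_injective (hinj : Function.Injective (algebraMap R L)) :
    Function.Injective (jmap R L g) := by
  rw [injective_iff_map_eq_zero]
  intro z hz
  obtain ⟨a, r, ha, e⟩ := exists_denom R z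
  have h1 : jmap R L g (a • z) = 0 := by rw [map_smul, hz, smul_zero]
  rw [e, jmap_tmul, map_one, one_mul] at h1
  have hr : r = 0 := hinj (by rw [h1, map_zero])
  rw [hr, TensorProduct.tmul_zero] at e
  have ha' : algebraMap A (FractionRing A) a ≠ 0 := by
    intro h
    exact ha ((IsFractionRing.injective A (FractionRing A)) (by rw [h, map_zero]))
  have : z = (algebraMap A (FractionRing A) a)⁻¹ • (algebraMap A (FractionRing A) a) • z := by
    rw [smul_smul, inv_mul_cancel₀ ha', one_smul]
  rw [this, algebraMap_smul, e, smul_zero]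

end Inj

section Main

variable {A : Type u} [CommRing A] [IsDomain A] {B : Type u} [CommRing B] [Algebra A B]
  (M : Type u) [AddCommGroup M] [Module A M] [Module B M] [IsScalarTower A B M] [Module.Finite A M]
  (R : Type u) [CommRing R] [IsDomain R] [IsIntegrallyClosed R] [Algebra A R]

theorem exists_det (x : R ⊗[A] B) :
    ∃ r : R, algebraMap R (FractionRing R) r =
      LinearMap.det (actEnd M (FractionRing R) (Algebra.TensorProduct.map
        (IsScalarTower.toAlgHom A R (FractionRing R)) (AlgHom.id A B) x)) := by
  rw [← IsIntegrallyClosed.isIntegral_iff (R := R) (K := FractionRing R)]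
  let rT : R ⊗[A] M →ₗ[R] FractionRing R ⊗[A] M :=
    TensorProduct.AlgebraTensorModule.map (Algebra.linearMap R (FractionRing R))
      (LinearMap.id : M →ₗ[A] M)
  have hrT : ∀ z, rT z =
      (IsScalarTower.toAlgHom A R (FractionRing R)).toLinearMap.rTensor M z := by
    intro z
    induction z using TensorProduct.induction_on with
    | zero => simp
    | tmul r m => rfl
    | add a b ha hb => rw [map_add, map_add, ha, hb]
  refine isIntegral_det_of_stable (LinearMap.range rT) ?_ ?_ _ ?_
  · rw [LinearMap.range_eq_map]
    exact Submodule.FG.map _ Module.Finite.fg_top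
  · rw [eq_top_iff]
    intro v hv
    clear hv
    induction v using TensorProduct.induction_on with
    | zero => exact Submodule.zero_mem _
    | tmul l m =>
      have : l ⊗ₜ[A] m = l • rT ((1 : R) ⊗ₜ[A] m) := by
        rw [hrT, LinearMap.rTensor_tmul, AlgHom.toLinearMap_apply, map_one, TensorProduct.smul_tmul',
          smul_eq_mul, mul_one]
      rw [this]
      exact Submodule.smul_mem _ _ (Submodule.subset_span ⟨_, rfl⟩)
    | add a b ha hb => exact Submodule.add_mem _ ha hb
  · rintro v ⟨z, rfl⟩
    refine ⟨actEnd M R x z, ?_⟩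
    rw [hrT, hrT, rTensor_actEnd]

/-- The determinant of the action on `Frac R ⊗ M`, as an element of `R`. -/
noncomputable def detR (x : R ⊗[A] B) : R := (exists_det M R x).choose

theorem detR_spec (x : R ⊗[A] B) :
    algebraMap R (FractionRing R) (detR M R x) =
      LinearMap.det (actEnd M (FractionRing R) (Algebra.TensorProduct.map
        (IsScalarTower.toAlgHom A R (FractionRing R)) (AlgHom.id A B) x)) :=
  (exists_det M R x).choose_spec

theorem detR_one : detR (A := A) (B := B) M R 1 = 1 := by
  apply IsFractionRing.injective R (FractionRing R)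
  rw [detR_spec, map_one, map_one, map_one, map_one]

theorem detR_mul (x y : R ⊗[A] B) : detR M R (x * y) = detR M R x * detR M R y := by
  apply IsFractionRing.injective R (FractionRing R)
  rw [map_mul, detR_spec, detR_spec, detR_spec, map_mul, map_mul]
  exact map_mul LinearMap.det _ _

end Main

section KLevel

variable {A : Type u} [CommRing A] [IsDomain A] {B : Type u} [CommRing B] [Algebra A B]
  (M : Type u) [AddCommGroup M] [Module A M] [Module B M] [IsScalarTower A B M] [Module.Finite A M]
  (R : Type u) [CommRing R] [IsDomain R] [IsIntegrallyClosed R] [Algebra A R]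

instance free_K : Module.Free (FractionRing A ⊗[A] R) ((FractionRing A ⊗[A] R) ⊗[A] M) :=
  free_of_field_algebra (FractionRing A) M (FractionRing A ⊗[A] R)

/-- `Frac A → Frac R`. -/
noncomputable def gmap (hAR : Function.Injective (algebraMap A R)) :
    FractionRing A →ₐ[A] FractionRing R :=
  IsFractionRing.liftAlgHom (g := Algebra.ofId A (FractionRing R)) (by
    intro a b h
    apply hAR
    apply IsFractionRing.injective R (FractionRing R)
    rw [← IsScalarTower.algebraMap_apply, ← IsScalarTower.algebraMap_apply]
    exact h)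

/-- `R → Frac A ⊗ R`. -/
noncomputable abbrev incl : R →ₐ[A] FractionRing A ⊗[A] R := Algebra.TensorProduct.includeRight

theorem jmap_incl (hAR : Function.Injective (algebraMap A R)) (r : R) :
    jmap R (FractionRing R) (gmap R hAR) (incl R r) = algebraMap R (FractionRing R) r := by
  rw [incl, Algebra.TensorProduct.includeRight_apply, jmap_tmul, map_one, one_mul]

theorem incl_injective (hAR : Function.Injective (algebraMap A R)) :
    Function.Injective (incl (A := A) R) := by
  intro a b h
  apply IsFractionRing.injective R (FractionRing R)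
  rw [← jmap_incl R hAR, ← jmap_incl R hAR, h]

theorem detR_spec_K (hAR : Function.Injective (algebraMap A R)) (x : R ⊗[A] B) :
    incl (A := A) R (detR M R x) =
      detAct M (FractionRing A ⊗[A] R) (Algebra.TensorProduct.map (incl R) (AlgHom.id A B) x) := by
  apply jmap_injective R (FractionRing R) (gmap R hAR) (IsFractionRing.injective R (FractionRing R))
  unfold detAct
  rw [← det_actEnd_map M (jmap R (FractionRing R) (gmap R hAR)), jmap_incl, detR_spec]
  congr 2
  have : (jmap R (FractionRing R) (gmap R hAR)).comp (incl R) =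
      IsScalarTower.toAlgHom A R (FractionRing R) := by
    apply AlgHom.ext
    intro r
    rw [AlgHom.comp_apply, jmap_incl]
    rfl
  rw [← this, ← AlgHom.comp_apply, ← Algebra.TensorProduct.map_comp, AlgHom.comp_id]

end KLevel

section Compat

variable {A : Type u} [CommRing A] [IsDomain A] {B : Type u} [CommRing B] [Algebra A B]
  (M : Type u) [AddCommGroup M] [Module A M] [Module B M] [IsScalarTower A B M] [Module.Finite A M]
  {R₁ : Type u} [CommRing R₁] [IsDomain R₁] [IsIntegrallyClosed R₁] [Algebra A R₁]
  {R₂ : Type u} [CommRing R₂] [IsDomain R₂] [IsIntegrallyClosed R₂] [Algebra A R₂]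

theorem detR_map (h₁ : Function.Injective (algebraMap A R₁)) (h₂ : Function.Injective (algebraMap A R₂))
    (φ : R₁ →ₐ[A] R₂) (x : R₁ ⊗[A] B) :
    φ (detR M R₁ x) = detR M R₂ (Algebra.TensorProduct.map φ (AlgHom.id A B) x) := by
  apply incl_injective R₂ h₂
  let φ' : FractionRing A ⊗[A] R₁ →ₐ[A] FractionRing A ⊗[A] R₂ :=
    Algebra.TensorProduct.map (AlgHom.id A (FractionRing A)) φ
  have hφ' : φ'.comp (incl R₁) = (incl R₂).comp φ := by
    apply AlgHom.ext
    intro r
    simp [φ', incl]
  have e1 : incl R₂ (φ (detR M R₁ x)) = φ' (incl R₁ (detR M R₁ x)) := by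
    rw [← AlgHom.comp_apply, ← AlgHom.comp_apply, hφ']
  rw [e1, detR_spec_K M R₁ h₁, detR_spec_K M R₂ h₂]
  unfold detAct
  rw [← det_actEnd_map M φ']
  congr 2
  rw [← AlgHom.comp_apply, ← AlgHom.comp_apply, ← Algebra.TensorProduct.map_comp,
    ← Algebra.TensorProduct.map_comp, hφ']

end Compat

section Homog

variable {A : Type u} [CommRing A] [IsDomain A] {B : Type u} [CommRing B] [Algebra A B]
  (M : Type u) [AddCommGroup M] [Module A M] [Module B M] [IsScalarTower A B M] [Module.Finite A M]
  (R : Type u) [CommRing R] [IsDomain R] [IsIntegrallyClosed R] [Algebra A R]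

theorem map_smul' {R' : Type u} [CommRing R'] [Algebra A R'] (ι : R →ₐ[A] R') (r : R) (x : R ⊗[A] B) :
    Algebra.TensorProduct.map ι (AlgHom.id A B) (r • x) =
      ι r • Algebra.TensorProduct.map ι (AlgHom.id A B) x := by
  induction x using TensorProduct.induction_on with
  | zero => simp
  | tmul s b =>
    rw [TensorProduct.smul_tmul', Algebra.TensorProduct.map_tmul, Algebra.TensorProduct.map_tmul,
      TensorProduct.smul_tmul', smul_eq_mul, smul_eq_mul, map_mul]
  | add a b ha hb => rw [smul_add, map_add, ha, hb, map_add, smul_add]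

theorem detR_smul (hAR : Function.Injective (algebraMap A R)) (r : R) (x : R ⊗[A] B) :
    detR M R (r • x) =
      r ^ Module.finrank (FractionRing A) (FractionRing A ⊗[A] M) * detR M R x := by
  apply IsFractionRing.injective R (FractionRing R)
  letI : Algebra (FractionRing A) (FractionRing R) := (gmap R hAR).toRingHom.toAlgebra
  haveI : IsScalarTower A (FractionRing A) (FractionRing R) :=
    IsScalarTower.of_algebraMap_eq fun a => ((gmap R hAR).commutes a).symm
  rw [map_mul, map_pow, detR_spec, detR_spec, map_smul', map_smul, LinearMap.det_smul,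
    finrank_of_field_algebra (FractionRing A) M (FractionRing R)]
  rfl

end Homog

end Groth.Agent.H74.NormDetB
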