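import Mathlib
import Groth.Prelude.Def_PolLaw2
import Groth.Agent.H74.NormDetB
import Groth.Agent.H88.PolyLawFam

/-!
# The determinant law over a normal base

`exists_law`: for an integrally closed domain `A`, `M` a `B`-module finite over `A` of generic rank `d`, there is a
multiplicative law `B → A`, homogeneous of degree `d`, whose members over the polynomial rings are the determinants of the
action on `Frac(A[t]) ⊗ M`. `law_unique`: laws agreeing over polynomial rings are equal.
Generic: `isMult_of_poly`, `isHomog_of_poly` (multiplicativity / homogeneity can be tested on polynomial rings, semiring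
test algebras included).
-/

set_option autoImplicit false
set_option linter.style.haveILetI false
universe u
open scoped TensorProduct

namespace Groth.Agent.H74.NormDetC

open PolLaw Groth.Agent.H74.NormDetA Groth.Agent.H74.NormDetB

section Generic

variable {A : Type u} [CommRing A] {B C : Type u} [CommRing B] [Algebra A B] [CommRing C] [Algebra A C]

theorem rTensor_smul {N : Type u} [AddCommGroup N] [Module A N] {R S : Type u} [CommSemiring R] [Algebra A R]
    [CommSemiring S] [Algebra A S] (ψ : R →ₐ[A] S) (r : R) (z : R ⊗[A] N) :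
    ψ.toLinearMap.rTensor N (r • z) = ψ r • ψ.toLinearMap.rTensor N z := by
  induction z using TensorProduct.induction_on with
  | zero => simp
  | tmul s b =>
    rw [TensorProduct.smul_tmul', LinearMap.rTensor_tmul, LinearMap.rTensor_tmul,
      TensorProduct.smul_tmul', smul_eq_mul, smul_eq_mul, AlgHom.toLinearMap_apply, map_mul,
      AlgHom.toLinearMap_apply]
  | add a b ha hb => rw [smul_add, map_add, ha, hb, map_add, smul_add]

theorem isHomog_of_poly (F : B →ₚₗ[A] C) (d : ℕ)
    (h : ∀ (n : ℕ) (r : MvPolynomial (Fin n) A) (x : MvPolynomial (Fin n) A ⊗[A] B),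
      F.toFun' (MvPolynomial (Fin n) A) (r • x) = r ^ d • F.toFun' (MvPolynomial (Fin n) A) x) :
    PolLaw.IsHomog F d := by
  intro S _ _ s x
  obtain ⟨n, ψ, p, q, rfl, rfl⟩ := PolynomialLaw.exists_lift' (R := A) x s
  rw [← rTensor_smul, ← F.isCompat_apply', ← F.isCompat_apply', h, rTensor_smul, map_pow]

theorem isMult_of_poly (F : B →ₚₗ[A] C)
    (h1 : ∀ n : ℕ, F.toFun' (MvPolynomial (Fin n) A) 1 = 1)
    (hmul : ∀ (n : ℕ) (x y : MvPolynomial (Fin n) A ⊗[A] B),
      F.toFun' (MvPolynomial (Fin n) A) (x * y) =
        F.toFun' (MvPolynomial (Fin n) A) x * F.toFun' (MvPolynomial (Fin n) A) y) :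
    PolLaw.IsMult F := by
  classical
  intro S _ _
  have compat : ∀ {P : Type u} [CommRing P] [Algebra A P] (ψ : P →ₐ[A] S) (z : P ⊗[A] B),
      F.toFun' S (ψ.toLinearMap.rTensor B z) = ψ.toLinearMap.rTensor C (F.toFun' P z) := by
    intro P _ _ ψ z
    exact (congr_fun (F.isCompat' ψ) z).symm
  refine ⟨?_, ?_⟩
  · have h := compat (MvPolynomial.aeval (fun _ : Fin 0 => (0 : S))) 1
    rw [rTensor_algHom_apply, rTensor_algHom_apply, h1 0, map_one, map_one] at h
    exact h
  · intro x y
    obtain ⟨n1, ψ1, p1, hp1⟩ := PolynomialLaw.exists_lift (R := A) (M := B) x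
    obtain ⟨n2, ψ2, p2, hp2⟩ := PolynomialLaw.exists_lift (R := A) (M := B) y
    let ψ : MvPolynomial (Fin (n1 + n2)) A →ₐ[A] S :=
      MvPolynomial.aeval (Fin.append (fun i => ψ1 (MvPolynomial.X i)) (fun i => ψ2 (MvPolynomial.X i)))
    let r1 : MvPolynomial (Fin n1) A →ₐ[A] MvPolynomial (Fin (n1 + n2)) A :=
      MvPolynomial.rename (Fin.castAdd n2)
    let r2 : MvPolynomial (Fin n2) A →ₐ[A] MvPolynomial (Fin (n1 + n2)) A :=
      MvPolynomial.rename (Fin.natAdd n1)
    have e1 : ψ.comp r1 = ψ1 := by
      apply MvPolynomial.algHom_ext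
      intro i
      simp [ψ, r1]
    have e2 : ψ.comp r2 = ψ2 := by
      apply MvPolynomial.algHom_ext
      intro i
      simp [ψ, r2]
    set q1 := r1.toLinearMap.rTensor B p1 with hq1
    set q2 := r2.toLinearMap.rTensor B p2 with hq2
    have hx : ψ.toLinearMap.rTensor B q1 = x := by
      rw [hq1, ← LinearMap.comp_apply, ← LinearMap.rTensor_comp, ← AlgHom.comp_toLinearMap, e1, hp1]
    have hy : ψ.toLinearMap.rTensor B q2 = y := by
      rw [hq2, ← LinearMap.comp_apply, ← LinearMap.rTensor_comp, ← AlgHom.comp_toLinearMap, e2, hp2]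
    have hxy : ψ.toLinearMap.rTensor B (q1 * q2) = x * y := by
      rw [rTensor_algHom_apply, map_mul, ← rTensor_algHom_apply, ← rTensor_algHom_apply, hx, hy]
    rw [← hxy, compat, hmul, rTensor_algHom_apply, map_mul, ← rTensor_algHom_apply,
      ← rTensor_algHom_apply, ← compat, ← compat, hx, hy]

theorem law_ext_poly (F G : B →ₚₗ[A] C)
    (h : ∀ (n : ℕ) (x : MvPolynomial (Fin n) A ⊗[A] B),
      F.toFun' (MvPolynomial (Fin n) A) x = G.toFun' (MvPolynomial (Fin n) A) x) : F = G := by
  apply (Groth.Agent.H88.PolyLawFam.bijective_restrict (A := A) (M := B) (N := C)).1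
  apply Subtype.ext
  funext n x
  exact h n x

end Generic

section Law

variable {A : Type u} [CommRing A] [IsDomain A] [IsIntegrallyClosed A] {B : Type u} [CommRing B] [Algebra A B]
  (M : Type u) [AddCommGroup M] [Module A M] [Module B M] [IsScalarTower A B M] [Module.Finite A M]

theorem isIntegrallyClosed_mvPolynomial_fin (n : ℕ) : IsIntegrallyClosed (MvPolynomial (Fin n) A) := by
  induction n with
  | zero =>
    exact IsIntegrallyClosed.of_equiv (MvPolynomial.isEmptyAlgEquiv A (Fin 0)).symm.toRingEquiv
  | succ n ih =>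
    haveI := ih
    exact IsIntegrallyClosed.of_equiv (MvPolynomial.finSuccEquiv A n).symm.toRingEquiv

attribute [local instance] isIntegrallyClosed_mvPolynomial_fin

theorem algebraMap_injective (n : ℕ) : Function.Injective (algebraMap A (MvPolynomial (Fin n) A)) :=
  MvPolynomial.C_injective _ _

/-- The family of determinants over the polynomial rings. -/
noncomputable def T (n : ℕ) (x : MvPolynomial (Fin n) A ⊗[A] B) : MvPolynomial (Fin n) A ⊗[A] A :=
  detR M (MvPolynomial (Fin n) A) x ⊗ₜ[A] (1 : A)

theorem T_compat (n m : ℕ) (φ : MvPolynomial (Fin n) A →ₐ[A] MvPolynomial (Fin m) A) :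
    φ.toLinearMap.rTensor A ∘ T (B := B) M n = T M m ∘ φ.toLinearMap.rTensor B := by
  funext x
  simp only [Function.comp_apply, T]
  rw [LinearMap.rTensor_tmul, AlgHom.toLinearMap_apply, rTensor_algHom_apply,
    detR_map M (algebraMap_injective n) (algebraMap_injective m)]

/-- The determinant law of a finite module over a normal domain. -/
noncomputable def law : B →ₚₗ[A] A := Groth.Agent.H88.PolyLawFam.ofFamily (T M) (T_compat M)

theorem law_toFun' (n : ℕ) (x : MvPolynomial (Fin n) A ⊗[A] B) :
    (law (B := B) M).toFun' (MvPolynomial (Fin n) A) x = T M n x := by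
  show Groth.Agent.H88.PolyLawFam.toFunAux (T M) (MvPolynomial (Fin n) A) x = T M n x
  have := Groth.Agent.H88.PolyLawFam.toFunAux_eq (T (B := B) M) (T_compat M) (MvPolynomial (Fin n) A) n
    (AlgHom.id A _) x
  simpa using this

theorem law_isMult : PolLaw.IsMult (A := A) (B := B) (C := A) (law M) := by
  apply isMult_of_poly
  · intro n
    rw [law_toFun', T, detR_one]
    rfl
  · intro n x y
    rw [law_toFun', law_toFun', law_toFun', T, T, T, detR_mul, Algebra.TensorProduct.tmul_mul_tmul,
      mul_one]

theorem law_isHomog : PolLaw.IsHomog (A := A) (M := B) (N := A) (law M)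
    (Module.finrank (FractionRing A) (FractionRing A ⊗[A] M)) := by
  apply isHomog_of_poly
  intro n r x
  rw [law_toFun', law_toFun', T, T, detR_smul M _ (algebraMap_injective n), TensorProduct.smul_tmul',
    smul_eq_mul]

theorem exists_law (d : ℕ) (hd : Module.finrank (FractionRing A) (FractionRing A ⊗[A] M) = d) :
    ∃ N : PolLaw.MulLaw A B A d, ∀ (n : ℕ) (x : MvPolynomial (Fin n) A ⊗[A] B),
      algebraMap (MvPolynomial (Fin n) A) (FractionRing (MvPolynomial (Fin n) A))
          (TensorProduct.rid A (MvPolynomial (Fin n) A) (N.law.toFun' (MvPolynomial (Fin n) A) x)) =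
        LinearMap.det (PolLaw.actEnd M (FractionRing (MvPolynomial (Fin n) A))
          (Algebra.TensorProduct.map
            (IsScalarTower.toAlgHom A (MvPolynomial (Fin n) A) (FractionRing (MvPolynomial (Fin n) A)))
            (AlgHom.id A B) x)) := by
  subst hd
  refine ⟨⟨law M, law_isHomog M, law_isMult M⟩, ?_⟩
  intro n x
  show algebraMap _ _ (TensorProduct.rid A _ ((law M).toFun' _ x)) = _
  rw [law_toFun', T, TensorProduct.rid_tmul, one_smul, detR_spec]

end Law

end Groth.Agent.H74.NormDetC
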