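import Groth.Prelude.Def_PLie
import Mathlib

/-!
# Killing-orthogonality of a normalised ad-nilpotent subalgebra (helper74)
-/

open LieAlgebra LieModule

namespace Groth.Agent.H74.PLieKilling

variable {k : Type*} [Field k] {L : Type*} [LieRing L] [LieAlgebra k L]

/-- `ad h` preserves the lower central series of `L` as a `U`-module when `h` normalises `U`. -/
theorem lie_mem_lcs (U : LieSubalgebra k L) (h : L) (hh : ∀ u ∈ U, ⁅h, u⁆ ∈ U) (i : ℕ) :
    ∀ m : L, m ∈ lowerCentralSeries k U L i → ⁅h, m⁆ ∈ lowerCentralSeries k U L i := by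
  induction i with
  | zero => intro m _; simp
  | succ i ih =>
    intro m hm
    rw [lowerCentralSeries_succ] at hm ⊢
    rw [← LieSubmodule.mem_toSubmodule, LieSubmodule.lieIdeal_oper_eq_linear_span'] at hm ⊢
    refine Submodule.span_induction ?_ ?_ ?_ ?_ hm
    · rintro _ ⟨u, -, n, hn, rfl⟩
      have e : ⁅h, ⁅u, n⁆⁆ = ⁅(⟨⁅h, (u : L)⁆, hh u u.2⟩ : U), n⁆ + ⁅u, ⁅h, n⁆⁆ := by
        rw [LieSubalgebra.coe_bracket_of_module, LieSubalgebra.coe_bracket_of_module,
          LieSubalgebra.coe_bracket_of_module]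
        exact leibniz_lie h (u : L) n
      rw [e]
      refine Submodule.add_mem _ (Submodule.subset_span ⟨_, LieSubmodule.mem_top _, n, hn, rfl⟩)
        (Submodule.subset_span ⟨u, LieSubmodule.mem_top _, _, ih n hn, rfl⟩)
    · simp
    · intro x y _ _ hx hy
      rw [lie_add]; exact Submodule.add_mem _ hx hy
    · intro c x _ hx
      rw [lie_smul]; exact Submodule.smul_mem _ c hx

variable [Module.Finite k L]

/-- If `U` consists of ad-nilpotent elements and `h` normalises `U`, then `h ⊥ U` for the Killing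
form. -/
theorem killing_eq_zero (U : LieSubalgebra k L) (hnil : ∀ u ∈ U, IsNilpotent (ad k L u)) (h : L)
    (hh : ∀ u ∈ U, ⁅h, u⁆ ∈ U) (x : L) (hx : x ∈ U) : killingForm k L h x = 0 := by
  haveI : LieModule.IsNilpotent U L := by
    rw [LieModule.isNilpotent_iff_forall (R := k)]
    rintro ⟨u, hu⟩
    have : toEnd k U L ⟨u, hu⟩ = ad k L u := LinearMap.ext fun m => rfl
    rw [this]
    exact hnil u hu
  obtain ⟨n, hn⟩ := LieModule.IsNilpotent.nilpotent k U L
  set T : L →ₗ[k] L := (ad k L h) ∘ₗ (ad k L x) with hT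
  have hstep : ∀ i (m : L), m ∈ lowerCentralSeries k U L i →
      T m ∈ lowerCentralSeries k U L (i + 1) := by
    intro i m hm
    have h1 : ⁅x, m⁆ ∈ lowerCentralSeries k U L (i + 1) := by
      rw [lowerCentralSeries_succ]
      have := LieSubmodule.lie_mem_lie (LieSubmodule.mem_top (⟨x, hx⟩ : U)) hm
      exact this
    exact lie_mem_lcs U h hh (i + 1) _ h1
  have hpow : ∀ i (m : L), (T ^ i) m ∈ lowerCentralSeries k U L i := by
    intro i
    induction i with
    | zero => intro m; simp
    | succ i ih =>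
      intro m
      rw [pow_succ', Module.End.mul_apply]
      exact hstep i _ (ih m)
  have hTn : T ^ n = 0 := by
    refine LinearMap.ext fun m => ?_
    have := hpow n m
    rw [hn] at this
    simpa using this
  have htr : IsNilpotent (LinearMap.trace k L T) :=
    LinearMap.isNilpotent_trace_of_isNilpotent ⟨n, hTn⟩
  rw [killingForm_apply_apply]
  exact htr.eq_zero

end Groth.Agent.H74.PLieKilling
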