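import Groth.Agent.H74.RelFrobPoly
import Mathlib.RingTheory.MvPolynomial.Expand
import Mathlib.Algebra.CharP.Frobenius
import Mathlib.RingTheory.Ideal.Quotient.Basic
import Mathlib.LinearAlgebra.LinearIndependent.Defs

set_option autoImplicit false
universe u v

namespace Groth.Agent.H74.PRootField

open MvPolynomial Groth.Agent.H74.RelFrobPoly

variable (p : ℕ) [hp : Fact p.Prime] {σ : Type v} [Fintype σ] [DecidableEq σ]
  (K : Type u) [Field K] [CharP K p] (a : σ → K)

/-- The ideal `(X_i ^ p - a_i)`. -/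
noncomputable def rootIdeal : Ideal (MvPolynomial σ K) :=
  Ideal.span (Set.range fun i => (X i : MvPolynomial σ K) ^ p - C (a i))

/-- The "Frobenius-semilinear evaluation" `f ↦ f^{(p)}(a)`. -/
noncomputable def kap : MvPolynomial σ K →+* K := eval₂Hom (frobenius K p) a

omit [Fintype σ] [DecidableEq σ] in
theorem rootIdeal_le_ker : rootIdeal p K a ≤ RingHom.ker (kap p K a) := by
  rw [rootIdeal, Ideal.span_le]
  rintro _ ⟨i, rfl⟩
  simp [kap, RingHom.mem_ker, frobenius_def]

omit hp [Fintype σ] [DecidableEq σ] [CharP K p] in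
theorem mk_expand (h : MvPolynomial σ K) :
    Ideal.Quotient.mk (rootIdeal p K a) (expand p h) =
      Ideal.Quotient.mk (rootIdeal p K a) (C (eval a h)) := by
  induction h using MvPolynomial.induction_on with
  | C c => simp
  | add f g hf hg => simp only [map_add, hf, hg]
  | mul_X f i hf =>
    have hX : Ideal.Quotient.mk (rootIdeal p K a) ((X i : MvPolynomial σ K) ^ p) =
        Ideal.Quotient.mk (rootIdeal p K a) (C (a i)) := by
      rw [Ideal.Quotient.eq]
      exact Ideal.subset_span ⟨i, rfl⟩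
    rw [map_mul, map_mul, hf, expand_X, hX, map_mul, eval_X, map_mul, map_mul]

omit [Fintype σ] [DecidableEq σ] in
theorem mk_pow (f : MvPolynomial σ K) :
    Ideal.Quotient.mk (rootIdeal p K a) (f ^ p) =
      Ideal.Quotient.mk (rootIdeal p K a) (C (kap p K a f)) := by
  have h1 : f ^ p = expand p (map (frobenius K p) f) := by
    rw [← map_expand, map_frobenius_expand]
  rw [h1, mk_expand, eval_map]
  rfl

theorem mem_rootIdeal_of_kap_eq_zero
    (hind : LinearIndependent ↥(frobenius K p).fieldRange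
      (fun e : σ → Fin p => ∏ i, a i ^ (e i : ℕ)))
    (f : MvPolynomial σ K) (hf : kap p K a f = 0) : f ∈ rootIdeal p K a := by
  obtain ⟨γ, rfl⟩ := Lam_surjective p hp.out.ne_zero K f
  set g' : MvPolynomial σ K := ∑ e : σ → Fin p, C (eval a (γ e)) * monomial (eF p e) 1 with hg'
  have hmk : Ideal.Quotient.mk (rootIdeal p K a) (Lam p K γ) =
      Ideal.Quotient.mk (rootIdeal p K a) g' := by
    rw [Lam, hg', map_sum, map_sum]
    refine Finset.sum_congr rfl fun e _ => ?_
    rw [map_mul, map_mul, mk_expand]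
  have hκ : kap p K a g' = 0 := by
    rw [← hf]
    have : Lam p K γ - g' ∈ RingHom.ker (kap p K a) :=
      rootIdeal_le_ker p K a (Ideal.Quotient.eq.mp hmk)
    rw [RingHom.mem_ker, map_sub, sub_eq_zero] at this
    exact this.symm
  have hκ' : kap p K a g' = ∑ e : σ → Fin p, (eval a (γ e)) ^ p * ∏ i, a i ^ (e i : ℕ) := by
    rw [hg', map_sum]
    refine Finset.sum_congr rfl fun e _ => ?_
    rw [map_mul, kap, coe_eval₂Hom, eval₂_C, eval₂_monomial, map_one, one_mul, frobenius_def]
    congr 1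
    rw [Finsupp.prod_fintype]
    · rfl
    · intro i; exact pow_zero _
  have hc : ∀ e, eval a (γ e) = 0 := by
    have hz : ∑ e : σ → Fin p,
        (⟨(eval a (γ e)) ^ p, ⟨eval a (γ e), rfl⟩⟩ : ↥(frobenius K p).fieldRange) •
          (∏ i, a i ^ (e i : ℕ)) = 0 := by
      rw [← hκ, hκ']
      rfl
    have := Fintype.linearIndependent_iff.mp hind
      (fun e => ⟨(eval a (γ e)) ^ p, ⟨eval a (γ e), rfl⟩⟩) hz
    intro e
    have h2 : (eval a (γ e)) ^ p = 0 := congrArg Subtype.val (this e)
    exact (pow_eq_zero_iff hp.out.ne_zero).mp h2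
  have hg0 : g' = 0 := by
    rw [hg']
    refine Finset.sum_eq_zero fun e _ => ?_
    rw [hc e, map_zero, zero_mul]
  rw [← Ideal.Quotient.eq_zero_iff_mem, hmk, hg0, map_zero]

/-- If the monomials `∏ a_i ^ e_i` (`0 ≤ e_i < p`) are linearly independent over `K ^ p`,
the ideal `(X_i ^ p - a_i)` of `K[X_i]` is maximal. -/
theorem isMaximal_rootIdeal
    (hind : LinearIndependent ↥(frobenius K p).fieldRange
      (fun e : σ → Fin p => ∏ i, a i ^ (e i : ℕ))) :
    (rootIdeal p K a).IsMaximal := by
  apply Ideal.Quotient.maximal_of_isField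
  refine ⟨⟨0, 1, ?_⟩, mul_comm, ?_⟩
  · intro h01
    have h1 : (1 : MvPolynomial σ K) ∈ rootIdeal p K a := by
      rw [← Ideal.Quotient.eq_zero_iff_mem, map_one]
      exact h01.symm
    have := rootIdeal_le_ker p K a h1
    rw [RingHom.mem_ker, map_one] at this
    exact one_ne_zero this
  · intro x hx
    obtain ⟨f, rfl⟩ := Ideal.Quotient.mk_surjective x
    have hκ : kap p K a f ≠ 0 := by
      intro h0
      apply hx
      rw [Ideal.Quotient.eq_zero_iff_mem]
      exact mem_rootIdeal_of_kap_eq_zero p K a hind f h0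
    refine ⟨Ideal.Quotient.mk _ (f ^ (p - 1)) * Ideal.Quotient.mk _ (C (kap p K a f)⁻¹), ?_⟩
    rw [← mul_assoc, ← map_mul, ← pow_succ', Nat.sub_add_cancel hp.out.one_le, mk_pow, ← map_mul,
      ← C_mul, mul_inv_cancel₀ hκ, C_1, map_one]

end Groth.Agent.H74.PRootField
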