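import Mathlib

/-!
# Small general lemmas: powers of an ideal generated by two elements, evaluation of power series in
two variables at nilpotent elements, powers of `ω` in a quadratic algebra with `ω² = θ`.
-/

set_option autoImplicit false

namespace Groth.Agent.H74.PairPow

theorem span_pair_pow_le {A : Type*} [CommRing A] (x y : A) (i : ℕ) (hi : 1 ≤ i) :
    Ideal.span {x, y} ^ i ≤ Ideal.span {y ^ i, x * y ^ (i - 1)} ⊔ Ideal.span {x ^ 2} := by
  induction i, hi using Nat.le_induction with
  | base =>
    rw [pow_one]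
    refine le_sup_of_le_left ?_
    rw [Ideal.span_le]
    rintro z (rfl | rfl)
    · exact Ideal.subset_span (by simp)
    · exact Ideal.subset_span (by simp)
  | succ i hi ih =>
    rw [pow_succ]
    refine (Ideal.mul_mono_left ih).trans ?_
    rw [Ideal.sup_mul]
    refine sup_le ?_ ((Ideal.mul_le_left).trans le_sup_right)
    rw [Ideal.span_pair_mul_span_pair, Ideal.span_le]
    have e : i + 1 - 1 = i := by omega
    have e' : y ^ (i - 1) * y = y ^ i := by
      rw [← pow_succ]; congr 1; omega
    rintro z (rfl | rfl | rfl | rfl)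
    · refine Ideal.mem_sup_left (Ideal.subset_span ?_)
      rw [e]; right; exact mul_comm _ _
    · refine Ideal.mem_sup_left (Ideal.subset_span ?_)
      left; exact (pow_succ y i).symm
    · refine Ideal.mem_sup_right (Ideal.mem_span_singleton'.2 ⟨y ^ (i - 1), ?_⟩)
      ring
    · refine Ideal.mem_sup_left (Ideal.subset_span ?_)
      rw [e]; right; rw [mul_assoc, e']; rfl

/-- Evaluation of power series in two variables at nilpotent elements. -/
theorem exists_evalNil {R : Type*} [CommRing R] {T : Type*} [CommRing T] [Algebra R T]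
    (a : Fin 2 → T) (ha : ∀ s, IsNilpotent (a s)) :
    ∃ Φ : MvPowerSeries (Fin 2) R →ₐ[R] T, ∀ s, Φ (MvPowerSeries.X s) = a s := by
  let _ : UniformSpace R := ⊥
  let _ : UniformSpace T := ⊥
  have : DiscreteTopology R := ⟨rfl⟩
  have : DiscreteTopology T := ⟨rfl⟩
  have : ContinuousSMul R T := ⟨continuous_of_discreteTopology⟩
  have hev : MvPowerSeries.HasEval a := by
    refine ⟨fun s => ?_, ?_⟩
    · obtain ⟨n, hn⟩ := ha s
      unfold IsTopologicallyNilpotent
      rw [nhds_discrete, Filter.tendsto_pure]
      filter_upwards [Filter.eventually_ge_atTop n] with m hm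
      exact pow_eq_zero_of_le hm hn
    · rw [Filter.cofinite_eq_bot]; exact Filter.tendsto_bot
  refine ⟨MvPowerSeries.aeval hev, fun s => ?_⟩
  rw [← MvPolynomial.coe_X, MvPowerSeries.aeval_coe, MvPolynomial.aeval_X]

section Quad

open QuadraticAlgebra

variable {R : Type*} [CommRing R] (θ : R)

theorem omega_sq : (ω : QuadraticAlgebra R θ 0) * ω = algebraMap R _ θ := by
  ext <;> simp

theorem omega_pow_even (k : ℕ) :
    (ω : QuadraticAlgebra R θ 0) ^ (2 * k) = algebraMap R _ (θ ^ k) := by
  rw [pow_mul, pow_two, omega_sq, ← map_pow]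

theorem omega_pow_odd (k : ℕ) :
    (ω : QuadraticAlgebra R θ 0) ^ (2 * k + 1) = algebraMap R _ (θ ^ k) * ω := by
  rw [pow_succ, omega_pow_even]

theorem re_algebraMap_mul (r : R) (z : QuadraticAlgebra R θ 0) :
    (algebraMap R _ r * z).re = r * z.re := by
  simp

theorem im_algebraMap_mul (r : R) (z : QuadraticAlgebra R θ 0) :
    (algebraMap R _ r * z).im = r * z.im := by
  simp

theorem re_mul_algebraMap_mul_omega (z : QuadraticAlgebra R θ 0) (r : R) :
    (z * (algebraMap R _ r * ω)).re = θ * z.im * r := by
  simp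

theorem im_mul_algebraMap_mul_omega (z : QuadraticAlgebra R θ 0) (r : R) :
    (z * (algebraMap R _ r * ω)).im = z.re * r := by
  simp

theorem re_algebraMap_mul_algebraMap (a r : R) :
    (algebraMap R (QuadraticAlgebra R θ 0) a * algebraMap R _ r).re = a * r := by
  simp

theorem im_mul_algebraMap (z : QuadraticAlgebra R θ 0) (r : R) :
    (z * algebraMap R _ r).im = z.im * r := by
  simp

theorem im_algebraMap_mul_algebraMap_mul_omega (a r : R) :
    (algebraMap R (QuadraticAlgebra R θ 0) a * (algebraMap R _ r * ω)).im = a * r := by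
  simp

end Quad

end Groth.Agent.H74.PairPow
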