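import Groth.Agent.H74.PerfRoot

/-!
# A scheme whose perfection is affine is affine (helper library, helper74)
-/

set_option autoImplicit false

universe u

open CategoryTheory CategoryTheory.Limits AlgebraicGeometry Opposite

namespace Groth.Agent.H74.Perf

open FrobSch

variable (p : ℕ) [Fact p.Prime]

theorem add_pow_p_pow {R : Type*} [CommRing R] (h0 : (p : R) = 0) (x y : R) (m : ℕ) :
    (x + y) ^ p ^ m = x ^ p ^ m + y ^ p ^ m := by
  rcases subsingleton_or_nontrivial R with hR | hR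
  · exact Subsingleton.elim _ _
  · haveI : CharP R p := (CharP.charP_iff_prime_eq_zero Fact.out).2 h0
    exact add_pow_char_pow x y p m

variable {X XP : Scheme.{u}} [IsCharP X p] [IsCharP XP p] {π : XP ⟶ X}

theorem pRoot_of_isCompact (h : IsPerfection π p) [QuasiSeparatedSpace X] (S : X.Opens)
    (hS : IsCompact (S : Set X)) : PRoot p π S := by
  haveI := perf_surjective p h
  refine compact_open_induction_on (P := PRoot p π) S hS (pRoot_bot p) ?_
  intro S hS U hPS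
  exact pRoot_sup p π.surjective hS U.2.isCompact hPS (pRoot_of_isAffineOpen p h U.2)

theorem isHomeomorph_perf (h : IsPerfection π p) : IsHomeomorph π :=
  perf_isUnivHomeo p h _ _ _ IsPullback.of_id_snd

theorem isAffine_of_perf (h : IsPerfection π p) [IsAffine XP] : IsAffine X := by
  haveI := perf_surjective p h
  have hsurj : Function.Surjective π := π.surjective
  haveI : CompactSpace X := Function.Surjective.compactSpace π.continuous hsurj
  haveI : QuasiSeparatedSpace X :=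
    (quasiSeparatedSpace_congr (isHomeomorph_perf p h).homeomorph).mp inferInstance
  have hroot : ∀ b : Γ(XP, ⊤), ∃ (n : ℕ) (a : Γ(X, ⊤)), π.appTop a = b ^ p ^ n :=
    pRoot_of_isCompact p h ⊤ isCompact_univ
  have hker : ∀ a : Γ(X, ⊤), π.appTop a = 0 → IsNilpotent a :=
    fun a ha => isNilpotent_of_app_eq_zero hsurj isCompact_univ a ha
  -- the set of good functions
  let s : Set Γ(X, ⊤) := {a | IsAffineOpen (X.basicOpen a)}
  have hpre : ∀ a : Γ(X, ⊤), π ⁻¹ᵁ X.basicOpen a = XP.basicOpen (π.appTop a) :=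
    fun a => Scheme.preimage_basicOpen_top π a
  -- the good basic opens cover
  have hcover : ∀ x : X, ∃ a ∈ s, x ∈ X.basicOpen a := by
    intro x
    obtain ⟨_, ⟨W, hW, rfl⟩, hxW, -⟩ :=
      X.isBasis_affineOpens.exists_subset_of_mem_open (Set.mem_univ x) isOpen_univ
    obtain ⟨x', rfl⟩ := hsurj x
    obtain ⟨b, hbW, hxb⟩ := (isAffineOpen_top XP).exists_basicOpen_le
      (V := π ⁻¹ᵁ W) ⟨x', hxW⟩ trivial
    obtain ⟨n, a, ha⟩ := hroot b
    have hpa : π ⁻¹ᵁ X.basicOpen a = XP.basicOpen b := by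
      rw [hpre, ha, Scheme.basicOpen_pow XP b (pow_pos (Fact.out : p.Prime).pos n)]
    have hle : X.basicOpen a ≤ W := by
      intro y hy
      obtain ⟨y', rfl⟩ := hsurj y
      have : y' ∈ π ⁻¹ᵁ X.basicOpen a := hy
      rw [hpa] at this
      exact hbW this
    refine ⟨a, ?_, ?_⟩
    · change IsAffineOpen (X.basicOpen a)
      have h1 := hW.basicOpen (X.presheaf.map (homOfLE (le_top : W ≤ ⊤)).op a)
      rwa [Scheme.basicOpen_res, inf_eq_right.mpr hle] at h1
    · have : x' ∈ π ⁻¹ᵁ X.basicOpen a := by rw [hpa]; exact hxb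
      exact this
  -- spanning
  have hspanP : Ideal.span ((π.appTop) '' s) = ⊤ := by
    rw [← (isAffineOpen_top XP).self_le_iSup_basicOpen_iff]
    intro x' _
    obtain ⟨a, has, hxa⟩ := hcover (π x')
    have : x' ∈ XP.basicOpen (π.appTop a) := by rw [← hpre]; exact hxa
    exact TopologicalSpace.Opens.mem_iSup.mpr ⟨⟨π.appTop a, a, has, rfl⟩, this⟩
  have hclaim : ∀ y ∈ Ideal.span ((π.appTop) '' s),
      ∃ (N : ℕ) (a : Γ(X, ⊤)), a ∈ Ideal.span s ∧ π.appTop a = y ^ p ^ N := by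
    intro y hy
    induction hy using Submodule.span_induction with
    | mem y hy =>
      obtain ⟨a, has, rfl⟩ := hy
      exact ⟨0, a, Ideal.subset_span has, by simp⟩
    | zero => exact ⟨0, 0, Ideal.zero_mem _, by simp⟩
    | add y₁ y₂ _ _ ih₁ ih₂ =>
      obtain ⟨N₁, a₁, ha₁, h₁⟩ := ih₁
      obtain ⟨N₂, a₂, ha₂, h₂⟩ := ih₂
      refine ⟨N₁ + N₂, a₁ ^ p ^ N₂ + a₂ ^ p ^ N₁,
        Ideal.add_mem _ (Ideal.pow_mem_of_mem _ ha₁ _ (pow_pos (Fact.out : p.Prime).pos _))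
          (Ideal.pow_mem_of_mem _ ha₂ _ (pow_pos (Fact.out : p.Prime).pos _)), ?_⟩
      rw [map_add, map_pow, map_pow, h₁, h₂,
        add_pow_p_pow p (natCast_eq_zero_app XP p ⊤), ← pow_mul, ← pow_mul, ← pow_add, ← pow_add,
        add_comm N₂ N₁]
    | smul c y _ ih =>
      obtain ⟨N, a, ha, h₁⟩ := ih
      obtain ⟨n, c₀, hc₀⟩ := hroot c
      refine ⟨n + N, c₀ ^ p ^ N * a ^ p ^ n, Ideal.mul_mem_left _ _
        (Ideal.pow_mem_of_mem _ ha _ (pow_pos (Fact.out : p.Prime).pos _)), ?_⟩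
      rw [map_mul, map_pow, map_pow, h₁, hc₀, smul_eq_mul, mul_pow, ← pow_mul, ← pow_mul,
        ← pow_add, ← pow_add, add_comm N n]
  have hspan : Ideal.span s = ⊤ := by
    obtain ⟨N, a, ha, h1⟩ := hclaim 1 (hspanP ▸ Submodule.mem_top)
    rw [one_pow] at h1
    have h2 : π.appTop (1 - a) = 0 := by rw [map_sub, map_one, h1, sub_self]
    have h3 : IsNilpotent (1 - a) := hker _ h2
    have h4 : IsUnit a := by
      have := h3.isUnit_one_sub
      rwa [sub_sub_cancel] at this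
    exact Ideal.eq_top_of_isUnit_mem _ ha h4
  exact isAffine_of_isAffineOpen_basicOpen s hspan (fun a ha => ha)

end Groth.Agent.H74.Perf

namespace Groth.Agent.H74.Perf

open FrobSch

variable (p : ℕ) [Fact p.Prime]

theorem isAffineHom_of_isAffineHom_perf {X Y XP YP : Scheme.{u}} [IsCharP X p] [IsCharP Y p]
    [IsCharP XP p] [IsCharP YP p] (πX : XP ⟶ X) (πY : YP ⟶ Y) (hX : IsPerfection πX p)
    (hY : IsPerfection πY p) (f : X ⟶ Y) (fP : XP ⟶ YP) (w : fP ≫ πY = πX ≫ f)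
    [IsAffineHom fP] : IsAffineHom f := by
  haveI := perf_isAffineHom p hY
  constructor
  intro U hU
  have h1 : IsAffineOpen (πY ⁻¹ᵁ U) := hU.preimage πY
  have h2 : IsAffineOpen (fP ⁻¹ᵁ (πY ⁻¹ᵁ U)) := h1.preimage fP
  rw [← perf_preimage_eq f fP w U] at h2
  haveI : IsCharP (πX ⁻¹ᵁ (f ⁻¹ᵁ U) : Scheme.{u}) p := IsCharP.of_hom (πX ⁻¹ᵁ (f ⁻¹ᵁ U)).ι p
  haveI : IsCharP (f ⁻¹ᵁ U : Scheme.{u}) p := IsCharP.of_hom (f ⁻¹ᵁ U).ι p
  haveI : IsAffine (πX ⁻¹ᵁ (f ⁻¹ᵁ U) : Scheme.{u}) := h2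
  exact isAffine_of_perf p (perf_restrict p hX (f ⁻¹ᵁ U))

end Groth.Agent.H74.Perf
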