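import Groth.Agent.H74.FrobBasic
import Mathlib.AlgebraicGeometry.Restrict
import Mathlib.AlgebraicGeometry.Limits

/-!
# Perfect schemes and perfections: formal properties (helper library, helper74)
-/

set_option autoImplicit false

universe u

open CategoryTheory CategoryTheory.Limits AlgebraicGeometry

namespace Groth.Agent.H74.Perf

open FrobSch

variable (p : ℕ) [Fact p.Prime]

/-- The inverse of the Frobenius of a perfect scheme is the identity on points. -/
theorem inv_frob_base_apply {X : Scheme.{u}} [IsCharP X p] (hX : IsPerfect X p) (x : X) :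
    (inv (frob X p)) x = x := by
  haveI := hX
  have h := congrArg (fun h : X ⟶ X => h x) (IsIso.hom_inv_id (frob X p))
  exact h

/-- An open subscheme of a perfect scheme is perfect. -/
theorem isPerfect_of_isOpenImmersion {U X : Scheme.{u}} [IsCharP U p] [IsCharP X p] (j : U ⟶ X)
    [IsOpenImmersion j] (hX : IsPerfect X p) : IsPerfect U p := by
  haveI := hX
  have hr : Set.range (j ≫ inv (frob X p)) ⊆ Set.range j := by
    rintro _ ⟨x, rfl⟩
    refine ⟨x, ?_⟩
    exact (inv_frob_base_apply p hX (j x)).symm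
  let g : U ⟶ U := IsOpenImmersion.lift j (j ≫ inv (frob X p)) hr
  have hg : g ≫ j = j ≫ inv (frob X p) := IsOpenImmersion.lift_fac _ _ _
  refine ⟨g, ?_, ?_⟩
  · rw [← cancel_mono j, Category.assoc, hg, frob_comp_assoc, IsIso.hom_inv_id, Category.comp_id,
      Category.id_comp]
  · rw [← cancel_mono j, Category.assoc, frob_comp, reassoc_of% hg, IsIso.inv_hom_id,
      Category.comp_id, Category.id_comp]

/-- An iso-invariant formulation: a scheme isomorphic to a perfect scheme is perfect. -/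
theorem isPerfect_of_iso {U X : Scheme.{u}} [IsCharP U p] [IsCharP X p] (e : U ≅ X)
    (hX : IsPerfect X p) : IsPerfect U p :=
  isPerfect_of_isOpenImmersion p e.hom hX

section Perfection

variable {XP X : Scheme.{u}} [IsCharP XP p] (π : XP ⟶ X)

theorem perf_isPerfect {π : XP ⟶ X} (h : IsPerfection π p) : IsPerfect XP p := h.1

/-- existence and uniqueness of lifts through a perfection -/
theorem perf_existsUnique_lift {π : XP ⟶ X} (h : IsPerfection π p) {Y : Scheme.{u}}
    [IsCharP Y p] (hY : IsPerfect Y p) (g : Y ⟶ X) : ∃! k : Y ⟶ XP, k ≫ π = g := by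
  obtain ⟨k, hk⟩ := (h.2 Y hY).2 g
  exact ⟨k, hk, fun k' hk' => (h.2 Y hY).1 (hk'.trans hk.symm)⟩

theorem perf_hom_ext {π : XP ⟶ X} (h : IsPerfection π p) {Y : Scheme.{u}}
    [IsCharP Y p] (hY : IsPerfect Y p) {k k' : Y ⟶ XP} (e : k ≫ π = k' ≫ π) : k = k' :=
  (h.2 Y hY).1 e

/-- Two perfections of the same scheme are isomorphic over it. -/
theorem perf_exists_iso {XP' : Scheme.{u}} [IsCharP XP' p] {π : XP ⟶ X} {π' : XP' ⟶ X}
    (h : IsPerfection π p) (h' : IsPerfection π' p) : ∃ e : XP ≅ XP', e.hom ≫ π' = π := by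
  obtain ⟨a, ha, -⟩ := perf_existsUnique_lift p h' h.1 π
  obtain ⟨b, hb, -⟩ := perf_existsUnique_lift p h h'.1 π'
  refine ⟨⟨a, b, ?_, ?_⟩, ha⟩
  · apply perf_hom_ext p h h.1
    rw [Category.assoc, hb, ha, Category.id_comp]
  · apply perf_hom_ext p h' h'.1
    rw [Category.assoc, ha, hb, Category.id_comp]

/-- Precomposing a perfection with an isomorphism gives a perfection. -/
theorem perf_iso_comp {XP' : Scheme.{u}} [IsCharP XP' p] {π : XP ⟶ X}
    (h : IsPerfection π p) (e : XP' ≅ XP) : IsPerfection (e.hom ≫ π) p := by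
  refine ⟨isPerfect_of_iso p e h.1, fun Y _ hY => ⟨?_, ?_⟩⟩
  · intro k k' hk
    have : (k ≫ e.hom) ≫ π = (k' ≫ e.hom) ≫ π := by simpa using hk
    have := perf_hom_ext p h hY this
    exact (cancel_mono e.hom).mp this
  · intro g
    obtain ⟨k, hk, -⟩ := perf_existsUnique_lift p h hY g
    exact ⟨k ≫ e.inv, by simp [hk]⟩

/-- Postcomposing a perfection with an isomorphism gives a perfection. -/
theorem perf_comp_iso {X' : Scheme.{u}} {π : XP ⟶ X}
    (h : IsPerfection π p) (e : X ≅ X') : IsPerfection (π ≫ e.hom) p := by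
  refine ⟨h.1, fun Y _ hY => ⟨?_, ?_⟩⟩
  · intro k k' hk
    have : k ≫ π = k' ≫ π := by
      have := congrArg (fun t => t ≫ e.inv) hk
      simpa using this
    exact perf_hom_ext p h hY this
  · intro g
    obtain ⟨k, hk, -⟩ := perf_existsUnique_lift p h hY (g ≫ e.inv)
    exact ⟨k, by simp [reassoc_of% hk]⟩

/-- The base change of a perfection along any morphism is a perfection, as soon as the fibre
product is perfect. -/
theorem perf_of_isPullback {U UP : Scheme.{u}} [IsCharP UP p] {π : XP ⟶ X}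
    (h : IsPerfection π p) {j : U ⟶ X} {j' : UP ⟶ XP} {π' : UP ⟶ U}
    (sq : IsPullback j' π' π j) (hUP : IsPerfect UP p) : IsPerfection π' p := by
  refine ⟨hUP, fun Y _ hY => ⟨?_, ?_⟩⟩
  · intro k k' hk
    have hk2 : k ≫ π' = k' ≫ π' := hk
    apply sq.hom_ext _ hk2
    apply perf_hom_ext p h hY
    rw [Category.assoc, Category.assoc, sq.w, reassoc_of% hk2]
  · intro g
    obtain ⟨k, hk, -⟩ := perf_existsUnique_lift p h hY (g ≫ j)
    exact ⟨sq.lift k g hk, sq.lift_snd _ _ _⟩

/-- Restriction of a perfection to an open subscheme. -/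
theorem perf_restrict {π : XP ⟶ X} (h : IsPerfection π p) (U : X.Opens) :
    haveI : IsCharP (π ⁻¹ᵁ U : Scheme.{u}) p := IsCharP.of_hom (π ⁻¹ᵁ U).ι p
    IsPerfection (π ∣_ U) p := by
  haveI : IsCharP (π ⁻¹ᵁ U : Scheme.{u}) p := IsCharP.of_hom (π ⁻¹ᵁ U).ι p
  exact perf_of_isPullback p h (isPullback_morphismRestrict π U).flip
    (isPerfect_of_isOpenImmersion p (π ⁻¹ᵁ U).ι h.1)

end Perfection

end Groth.Agent.H74.Perf
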