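import Groth.Agent.H74.PerfBasic

/-!
# Perfection of an open immersion (helper library, helper74)
-/

set_option autoImplicit false

universe u

open CategoryTheory CategoryTheory.Limits AlgebraicGeometry

namespace Groth.Agent.H74.Perf

open FrobSch

variable (p : ℕ) [Fact p.Prime]

theorem isOpenImmersion_perf {X Y XP YP : Scheme.{u}}
    [IsCharP XP p] [IsCharP YP p]
    (πX : XP ⟶ X) (πY : YP ⟶ Y) (hX : IsPerfection πX p) (hY : IsPerfection πY p)
    (f : X ⟶ Y) (fP : XP ⟶ YP) (w : fP ≫ πY = πX ≫ f)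
    [IsOpenImmersion f] : IsOpenImmersion fP := by
  haveI : IsCharP (πY ⁻¹ᵁ f.opensRange : Scheme.{u}) p := IsCharP.of_hom (πY ⁻¹ᵁ f.opensRange).ι p
  have h1 : IsPerfection (πY ∣_ f.opensRange) p := perf_restrict p hY f.opensRange
  have h2 : IsPerfection (πX ≫ f.isoOpensRange.hom) p := perf_comp_iso p hX f.isoOpensRange
  obtain ⟨e, he⟩ := perf_exists_iso p h2 h1
  have hfP : fP = e.hom ≫ (πY ⁻¹ᵁ f.opensRange).ι := by
    apply perf_hom_ext p hY hX.1
    rw [w, Category.assoc, ← morphismRestrict_ι, reassoc_of% he,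
      Scheme.Hom.isoOpensRange_hom_ι]
  rw [hfP]
  infer_instance

end Groth.Agent.H74.Perf
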