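import Groth.Agent.H74.PerfSquare
import Groth.Agent.H74.PerfOpen
import Mathlib.AlgebraicGeometry.Morphisms.ClosedImmersion
import Mathlib.AlgebraicGeometry.Morphisms.Immersion

/-!
# Perfection of closed immersions and immersions (helper library, helper74)
-/

set_option autoImplicit false

universe u

open CategoryTheory CategoryTheory.Limits AlgebraicGeometry

namespace Groth.Agent.H74.Perf

open FrobSch

variable (p : ℕ) [Fact p.Prime]

/-- Reduction of a target-local statement about a square of perfections to the case of an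
affine base. -/
theorem perf_square_target_local (P Q : MorphismProperty Scheme.{u}) [IsZariskiLocalAtTarget P]
    [IsZariskiLocalAtTarget Q]
    (H : ∀ {X Y XP YP : Scheme.{u}} [IsCharP X p] [IsCharP Y p] [IsCharP XP p] [IsCharP YP p]
      {πX : XP ⟶ X} {πY : YP ⟶ Y} (_ : IsPerfection πX p) (_ : IsPerfection πY p)
      (f : X ⟶ Y) (fP : XP ⟶ YP) (_ : fP ≫ πY = πX ≫ f) [IsAffine Y], Q f → P fP)
    {X Y XP YP : Scheme.{u}} [IsCharP X p] [IsCharP Y p] [IsCharP XP p] [IsCharP YP p]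
    {πX : XP ⟶ X} {πY : YP ⟶ Y} (hX : IsPerfection πX p) (hY : IsPerfection πY p)
    (f : X ⟶ Y) (fP : XP ⟶ YP) (w : fP ≫ πY = πX ≫ f) (hf : Q f) : P fP := by
  apply IsZariskiLocalAtTarget.of_iSup_eq_top (P := P) (fun i : Y.affineOpens => πY ⁻¹ᵁ i.1)
    (πY.iSup_preimage_eq_top (iSup_affineOpens_eq_top Y))
  intro U
  rw [← Scheme.Hom.resLE_eq_morphismRestrict,
    Scheme.Hom.resLE_congr fP le_rfl rfl (perf_preimage_eq f fP w U.1).symm P]
  haveI : IsCharP (U.1 : Scheme.{u}) p := IsCharP.of_hom U.1.ι p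
  haveI : IsCharP (f ⁻¹ᵁ U.1 : Scheme.{u}) p := IsCharP.of_hom (f ⁻¹ᵁ U.1).ι p
  haveI : IsCharP (πY ⁻¹ᵁ U.1 : Scheme.{u}) p := IsCharP.of_hom (πY ⁻¹ᵁ U.1).ι p
  haveI : IsCharP (πX ⁻¹ᵁ (f ⁻¹ᵁ U.1) : Scheme.{u}) p :=
    IsCharP.of_hom (πX ⁻¹ᵁ (f ⁻¹ᵁ U.1)).ι p
  haveI : IsAffine (U.1 : Scheme.{u}) := U.2
  refine H (perf_restrict p hX (f ⁻¹ᵁ U.1)) (perf_restrict p hY U.1)
    (f.resLE U.1 (f ⁻¹ᵁ U.1) le_rfl) _ (perf_resLE_square f fP w le_rfl) ?_
  rw [Scheme.Hom.resLE_eq_morphismRestrict]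
  exact IsZariskiLocalAtTarget.restrict hf U.1

end Groth.Agent.H74.Perf

namespace Groth.Agent.H74.Perf

open FrobSch

variable (p : ℕ) [Fact p.Prime]

theorem charP_Γ_of_nonempty (X : Scheme.{u}) [IsCharP X p] [Nonempty X] : CharP Γ(X, ⊤) p := by
  haveI : Nonempty (⊤ : X.Opens) := ⟨⟨Classical.arbitrary X, trivial⟩⟩
  exact (CharP.charP_iff_prime_eq_zero Fact.out).2 (IsCharP.natCast_eq_zero (X := X) (p := p))

theorem isClosedImmersion_perf_affine {X Y XP YP : Scheme.{u}} [IsCharP X p] [IsCharP Y p]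
    [IsCharP XP p] [IsCharP YP p] {πX : XP ⟶ X} {πY : YP ⟶ Y} (hX : IsPerfection πX p)
    (hY : IsPerfection πY p) (f : X ⟶ Y) (fP : XP ⟶ YP) (w : fP ≫ πY = πX ≫ f) [IsAffine Y]
    (hf : IsClosedImmersion f) : IsClosedImmersion fP := by
  obtain ⟨hXa, hsurj⟩ := IsClosedImmersion.isAffine_surjective_of_isAffine f
  rcases isEmpty_or_nonempty X with hE | hN
  · haveI : IsEmpty XP := Function.isEmpty πX
    infer_instance
  · haveI : Nonempty Y := ⟨f (Classical.arbitrary X)⟩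
    haveI := charP_Γ_of_nonempty p X
    haveI := charP_Γ_of_nonempty p Y
    obtain ⟨eX, eY, -, -, hfP⟩ := perf_square_affine_model p hX hY f fP w
    haveI : IsClosedImmersion (Spec.map (CommRingCat.ofHom (perfMap p f.appTop.hom))) :=
      IsClosedImmersion.spec_of_surjective _ (perfMap_surjective p _ hsurj)
    rw [hfP]
    infer_instance

theorem isClosedImmersion_perf {X Y XP YP : Scheme.{u}} [IsCharP X p] [IsCharP Y p]
    [IsCharP XP p] [IsCharP YP p] (πX : XP ⟶ X) (πY : YP ⟶ Y) (hX : IsPerfection πX p)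
    (hY : IsPerfection πY p) (f : X ⟶ Y) (fP : XP ⟶ YP) (w : fP ≫ πY = πX ≫ f)
    [hf : IsClosedImmersion f] : IsClosedImmersion fP :=
  perf_square_target_local p @IsClosedImmersion @IsClosedImmersion
    (fun hX hY f fP w _ hf => isClosedImmersion_perf_affine p hX hY f fP w hf) hX hY f fP w hf

end Groth.Agent.H74.Perf

namespace Groth.Agent.H74.Perf

open FrobSch

variable (p : ℕ) [Fact p.Prime]

theorem isImmersion_perf {X Y XP YP : Scheme.{u}} [IsCharP X p] [IsCharP Y p]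
    [IsCharP XP p] [IsCharP YP p] (πX : XP ⟶ X) (πY : YP ⟶ Y) (hX : IsPerfection πX p)
    (hY : IsPerfection πY p) (f : X ⟶ Y) (fP : XP ⟶ YP) (w : fP ≫ πY = πX ≫ f)
    [hf : IsImmersion f] : IsImmersion fP := by
  obtain ⟨Z, g₁, g₂, hg₁, hg₂, hg⟩ := IsImmersion.isImmersion_iff_exists.mp hf
  haveI : IsCharP Z p := IsCharP.of_hom g₂ p
  haveI : IsCharP (πY ⁻¹ᵁ g₂.opensRange : Scheme.{u}) p :=
    IsCharP.of_hom (πY ⁻¹ᵁ g₂.opensRange).ι p
  haveI : IsCharP (g₂.opensRange : Scheme.{u}) p := IsCharP.of_hom g₂.opensRange.ι p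
  have hZ : IsPerfection ((πY ∣_ g₂.opensRange) ≫ g₂.isoOpensRange.symm.hom) p :=
    perf_comp_iso p (perf_restrict p hY g₂.opensRange) g₂.isoOpensRange.symm
  obtain ⟨g₁P, hg₁P, -⟩ := perf_existsUnique_lift p hZ hX.1 (πX ≫ g₁)
  haveI : IsClosedImmersion g₁P := isClosedImmersion_perf p πX _ hX hZ g₁ g₁P hg₁P
  have hfP : fP = g₁P ≫ (πY ⁻¹ᵁ g₂.opensRange).ι := by
    apply perf_hom_ext p hY hX.1
    have h1 : (πY ∣_ g₂.opensRange) =
        ((πY ∣_ g₂.opensRange) ≫ g₂.isoOpensRange.symm.hom) ≫ g₂.isoOpensRange.hom := by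
      simp
    rw [w, Category.assoc, ← morphismRestrict_ι, h1, Category.assoc, Category.assoc,
      Scheme.Hom.isoOpensRange_hom_ι, reassoc_of% hg₁P, hg]
  rw [hfP]
  infer_instance

end Groth.Agent.H74.Perf
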