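import Groth.Agent.H74.PerfModel
import Mathlib.AlgebraicGeometry.Morphisms.Etale
import Mathlib.AlgebraicGeometry.Morphisms.FlatMono
import Mathlib.AlgebraicGeometry.Morphisms.FormallyUnramified

/-!
# Perfection of étale morphisms (helper library, helper74)
-/

set_option autoImplicit false

universe u

open CategoryTheory CategoryTheory.Limits AlgebraicGeometry

namespace Groth.Agent.H74.Perf

open FrobSch

variable (p : ℕ) [Fact p.Prime]

/-- An open immersion which is surjective is an isomorphism. -/
theorem isIso_of_isOpenImmersion_of_surjective {X Y : Scheme.{u}} (f : X ⟶ Y)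
    [IsOpenImmersion f] [Surjective f] : IsIso f := by
  haveI : Epi f.base := (TopCat.epi_iff_surjective _).mpr f.surjective
  exact IsOpenImmersion.isIso f

/-- An étale, universally injective, surjective morphism is an isomorphism. -/
theorem isIso_of_etale_of_universallyInjective_of_surjective {X Y : Scheme.{u}} (f : X ⟶ Y)
    [Etale f] [UniversallyInjective f] [Surjective f] : IsIso f := by
  haveI : IsOpenImmersion (pullback.diagonal f) := inferInstance
  haveI : Surjective (pullback.diagonal f) := (UniversallyInjective.iff_diagonal f).mp ‹_›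
  haveI : IsIso (pullback.diagonal f) := isIso_of_isOpenImmersion_of_surjective _
  haveI : Mono f := (pullback.isIso_diagonal_iff f).mp ‹_›
  haveI : IsOpenImmersion f := IsOpenImmersion.of_flat_of_mono f
  exact isIso_of_isOpenImmersion_of_surjective f

/-- The relative Frobenius of an étale morphism is an isomorphism. -/
theorem isIso_relFrob_of_etale {X S : Scheme.{u}} [IsCharP S p] (g : X ⟶ S) [Etale g] :
    IsIso (relFrob g p) := by
  haveI : Etale (relFrob g p ≫ pullback.snd g (frob S p)) := by
    rw [relFrob_snd]; infer_instance
  haveI : Etale (relFrob g p) :=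
    MorphismProperty.of_postcomp (W := @Etale) (W' := @Etale) (relFrob g p)
      (pullback.snd g (frob S p)) inferInstance ‹_›
  exact isIso_of_etale_of_universallyInjective_of_surjective _

/-- A scheme étale over a perfect scheme is perfect. -/
theorem isPerfect_of_etale {X S : Scheme.{u}} [IsCharP S p] [IsCharP X p] (g : X ⟶ S) [Etale g]
    (hS : IsPerfect S p) : IsPerfect X p := by
  haveI : IsIso (frob S p) := hS
  haveI := isIso_relFrob_of_etale p g
  change IsIso (frob X p)
  rw [← relFrob_fst g p]
  infer_instance

theorem isPullback_perf_of_etale {X Y XP YP : Scheme.{u}} [IsCharP X p] [IsCharP Y p]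
    [IsCharP XP p] [IsCharP YP p] (πX : XP ⟶ X) (πY : YP ⟶ Y) (hX : IsPerfection πX p)
    (hY : IsPerfection πY p) (f : X ⟶ Y) (fP : XP ⟶ YP) (w : fP ≫ πY = πX ≫ f)
    [Etale f] : IsPullback fP πX πY f := by
  haveI : IsCharP (pullback πY f) p := IsCharP.of_hom (pullback.fst πY f) p
  have hperf : IsPerfect (pullback πY f) p := isPerfect_of_etale p (pullback.fst πY f) hY.1
  have h1 : IsPerfection (pullback.snd πY f) p :=
    perf_of_isPullback p hY (IsPullback.of_hasPullback πY f) hperf
  obtain ⟨e, he⟩ := perf_exists_iso p hX h1
  have he2 : e.hom ≫ pullback.fst πY f = fP := by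
    apply perf_hom_ext p hY hX.1
    rw [Category.assoc, pullback.condition, reassoc_of% he, w]
  exact IsPullback.of_iso_pullback ⟨w⟩ e he2 he

end Groth.Agent.H74.Perf
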