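import Groth.Agent.H74.PerfModel
import Groth.Agent.H74.MorDescent

/-!
# Properties of morphisms and their perfections (helper library, helper74)
-/

set_option autoImplicit false

universe u

open CategoryTheory CategoryTheory.Limits AlgebraicGeometry

namespace Groth.Agent.H74.Perf

open FrobSch MorDescent

variable (p : ℕ) [Fact p.Prime] {X Y XP YP : Scheme.{u}}
  [IsCharP X p] [IsCharP Y p] [IsCharP XP p] [IsCharP YP p]
  (πX : XP ⟶ X) (πY : YP ⟶ Y) (hX : IsPerfection πX p) (hY : IsPerfection πY p)
  (f : X ⟶ Y) (fP : XP ⟶ YP) (w : fP ≫ πY = πX ≫ f)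

include hX hY w

theorem quasiCompact_iff : QuasiCompact f ↔ QuasiCompact fP := by
  haveI := perf_isIntegralHom p hX
  haveI := perf_isIntegralHom p hY
  haveI := perf_surjective p hX
  constructor
  · intro hf
    haveI : QuasiCompact (fP ≫ πY) := by rw [w]; infer_instance
    exact QuasiCompact.of_comp fP πY
  · intro hf
    haveI : QuasiCompact (πX ≫ f) := by rw [← w]; infer_instance
    exact quasiCompact_of_comp_surjective πX f

theorem quasiSeparated_iff : QuasiSeparated f ↔ QuasiSeparated fP := by
  haveI := perf_isIntegralHom p hX
  haveI := perf_isIntegralHom p hY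
  haveI := perf_surjective p hX
  constructor
  · intro hf
    haveI : QuasiSeparated (fP ≫ πY) := by rw [w]; infer_instance
    exact QuasiSeparated.of_comp fP πY
  · intro hf
    haveI : QuasiSeparated (πX ≫ f) := by rw [← w]; infer_instance
    exact quasiSeparated_of_comp_surjective πX f

theorem isSeparated_iff : IsSeparated f ↔ IsSeparated fP := by
  haveI := perf_isIntegralHom p hX
  haveI := perf_isIntegralHom p hY
  haveI := perf_surjective p hX
  constructor
  · intro hf
    haveI : IsSeparated (fP ≫ πY) := by rw [w]; infer_instance
    exact IsSeparated.of_comp fP πY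
  · intro hf
    haveI : IsSeparated (πX ≫ f) := by rw [← w]; infer_instance
    exact isSeparated_of_comp_surjective πX f

theorem universallyClosed_iff : UniversallyClosed f ↔ UniversallyClosed fP := by
  haveI := perf_isIntegralHom p hX
  haveI := perf_isIntegralHom p hY
  haveI := perf_surjective p hX
  constructor
  · intro hf
    haveI : UniversallyClosed (fP ≫ πY) := by rw [w]; infer_instance
    exact UniversallyClosed.of_comp_of_isSeparated fP πY
  · intro hf
    haveI : UniversallyClosed (πX ≫ f) := by rw [← w]; infer_instance
    exact UniversallyClosed.of_comp_surjective πX f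

theorem isUnivHomeo_iff_perf : FlatMor.IsUnivHomeo f ↔ FlatMor.IsUnivHomeo fP := by
  haveI := perf_isIntegralHom p hX
  haveI := perf_isIntegralHom p hY
  haveI := perf_surjective p hX
  haveI := perf_surjective p hY
  haveI := perf_universallyInjective p hX
  haveI := perf_universallyInjective p hY
  rw [isUnivHomeo_iff, isUnivHomeo_iff]
  constructor
  · rintro ⟨h1, h2, h3⟩
    haveI : UniversallyInjective (fP ≫ πY) := by
      rw [w]; exact MorphismProperty.comp_mem @UniversallyInjective _ _ inferInstance h1
    haveI : Surjective (fP ≫ πY) := by rw [w]; infer_instance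
    haveI : UniversallyClosed (fP ≫ πY) := by rw [w]; infer_instance
    exact ⟨FrobBasic.universallyInjective_of_comp fP πY,
      surjective_of_comp_injective fP πY πY.injective,
      UniversallyClosed.of_comp_of_isSeparated fP πY⟩
  · rintro ⟨h1, h2, h3⟩
    haveI : UniversallyInjective (πX ≫ f) := by
      rw [← w]; exact MorphismProperty.comp_mem @UniversallyInjective _ _ h1 inferInstance
    haveI : Surjective (πX ≫ f) := by rw [← w]; infer_instance
    haveI : UniversallyClosed (πX ≫ f) := by rw [← w]; infer_instance
    exact ⟨universallyInjective_of_comp_surjective πX f, Surjective.of_comp πX f,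
      UniversallyClosed.of_comp_surjective πX f⟩

theorem isAffineHom_of_perf_of_isAffineHom [IsAffineHom f] : IsAffineHom fP := by
  haveI := perf_isIntegralHom p hX
  haveI := perf_isIntegralHom p hY
  haveI : IsAffineHom (fP ≫ πY) := by rw [w]; infer_instance
  exact IsAffineHom.of_comp fP πY

end Groth.Agent.H74.Perf
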