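import Groth.Agent.H74.PerfFlatRing
import Groth.Agent.H74.PerfClosedImm
import Groth.Agent.H74.PerfMor
import Mathlib.AlgebraicGeometry.Morphisms.Flat

/-!
# Perfection of flat morphisms (helper library, helper74)
-/

set_option autoImplicit false

universe u

open CategoryTheory CategoryTheory.Limits AlgebraicGeometry

namespace Groth.Agent.H74.Perf

open FrobSch

variable (p : ℕ) [Fact p.Prime]

/-- Reduction of a source-local statement about a square of perfections to the case of an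
affine source. -/
theorem perf_square_source_local (P Q : MorphismProperty Scheme.{u}) [IsZariskiLocalAtSource P]
    [IsZariskiLocalAtSource Q]
    {Y YP : Scheme.{u}} [IsCharP Y p] [IsCharP YP p] {πY : YP ⟶ Y} (hY : IsPerfection πY p)
    (H : ∀ {X XP : Scheme.{u}} [IsCharP X p] [IsCharP XP p]
      {πX : XP ⟶ X} (_ : IsPerfection πX p)
      (f : X ⟶ Y) (fP : XP ⟶ YP) (_ : fP ≫ πY = πX ≫ f) [IsAffine X], Q f → P fP)
    {X XP : Scheme.{u}} [IsCharP X p] [IsCharP XP p]
    {πX : XP ⟶ X} (hX : IsPerfection πX p)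
    (f : X ⟶ Y) (fP : XP ⟶ YP) (w : fP ≫ πY = πX ≫ f) (hf : Q f) : P fP := by
  apply IsZariskiLocalAtSource.of_iSup_eq_top (P := P) (fun i : X.affineOpens => πX ⁻¹ᵁ i.1)
    (πX.iSup_preimage_eq_top (iSup_affineOpens_eq_top X))
  intro U
  haveI : IsCharP (U.1 : Scheme.{u}) p := IsCharP.of_hom U.1.ι p
  haveI : IsCharP (πX ⁻¹ᵁ U.1 : Scheme.{u}) p := IsCharP.of_hom (πX ⁻¹ᵁ U.1).ι p
  haveI : IsAffine (U.1 : Scheme.{u}) := U.2
  refine H (perf_restrict p hX U.1) (U.1.ι ≫ f) _ ?_ (IsZariskiLocalAtSource.comp hf _)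
  rw [Category.assoc, w, morphismRestrict_ι_assoc]

theorem flat_perf_affine {X Y XP YP : Scheme.{u}} [IsCharP X p] [IsCharP Y p]
    [IsCharP XP p] [IsCharP YP p] {πX : XP ⟶ X} {πY : YP ⟶ Y} (hX : IsPerfection πX p)
    (hY : IsPerfection πY p) (f : X ⟶ Y) (fP : XP ⟶ YP) (w : fP ≫ πY = πX ≫ f) [IsAffine X]
    [IsAffine Y] (hf : Flat f) : Flat fP := by
  rcases isEmpty_or_nonempty X with hE | hN
  · haveI : IsEmpty XP := Function.isEmpty πX
    haveI : IsOpenImmersion fP := inferInstance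
    infer_instance
  · haveI : Nonempty Y := ⟨f (Classical.arbitrary X)⟩
    haveI := charP_Γ_of_nonempty p X
    haveI := charP_Γ_of_nonempty p Y
    obtain ⟨eX, eY, -, -, hfP⟩ := perf_square_affine_model p hX hY f fP w
    have h1 : f.appTop.hom.Flat := (HasRingHomProperty.iff_of_isAffine (P := @Flat)).mp hf
    haveI : Flat (Spec.map (CommRingCat.ofHom (perfMap p f.appTop.hom))) :=
      (HasRingHomProperty.Spec_iff (P := @Flat)).mpr (perfMap_flat p _ h1)
    rw [hfP]
    infer_instance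

theorem flat_perf {X Y XP YP : Scheme.{u}} [IsCharP X p] [IsCharP Y p]
    [IsCharP XP p] [IsCharP YP p] (πX : XP ⟶ X) (πY : YP ⟶ Y) (hX : IsPerfection πX p)
    (hY : IsPerfection πY p) (f : X ⟶ Y) (fP : XP ⟶ YP) (w : fP ≫ πY = πX ≫ f)
    [hf : Flat f] : Flat fP :=
  perf_square_target_local p @Flat @Flat
    (fun hX hY f fP w _ hf =>
      perf_square_source_local p @Flat @Flat hY
        (fun hX f fP w _ hf => flat_perf_affine p hX hY f fP w hf) hX f fP w hf) hX hY f fP w hf

theorem surjective_perf {X Y XP YP : Scheme.{u}} [IsCharP X p] [IsCharP Y p]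
    [IsCharP XP p] [IsCharP YP p] (πX : XP ⟶ X) (πY : YP ⟶ Y) (hX : IsPerfection πX p)
    (hY : IsPerfection πY p) (f : X ⟶ Y) (fP : XP ⟶ YP) (w : fP ≫ πY = πX ≫ f)
    [hf : Surjective f] : Surjective fP := by
  haveI := perf_surjective p hX
  haveI := perf_universallyInjective p hY
  haveI : Surjective (fP ≫ πY) := by rw [w]; infer_instance
  exact MorDescent.surjective_of_comp_injective fP πY πY.injective

end Groth.Agent.H74.Perf
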