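import Groth.Agent.H74.PerfSquare
import Mathlib.RingTheory.Flat.EquationalCriterion
import Mathlib.RingTheory.RingHom.Flat

/-!
# Flatness of the map induced on perfect closures (helper library, helper74)
-/

set_option autoImplicit false

universe u

namespace Groth.Agent.H74.Perf

variable (p : ℕ) [Fact p.Prime]

section mkHom

variable (K : Type u) [CommRing K] [CharP K p]

/-- `a ↦ a^(1/p^N)` as a ring homomorphism `K →+* K^perf` -/
noncomputable def mkHom (N : ℕ) : K →+* PerfectClosure K p :=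
  ((iterateFrobeniusEquiv (PerfectClosure K p) p N).symm : PerfectClosure K p →+* _).comp
    (PerfectClosure.of K p)

theorem mkHom_apply (N : ℕ) (a : K) : mkHom p K N a = PerfectClosure.mk K p (N, a) := by
  change (iterateFrobeniusEquiv (PerfectClosure K p) p N).symm (PerfectClosure.of K p a) = _
  rw [RingEquiv.symm_apply_eq, iterateFrobeniusEquiv_def, mk_pow_eq_of]

theorem mkHom_add_pow (N m : ℕ) (a : K) : mkHom p K (N + m) (a ^ p ^ m) = mkHom p K N a := by
  rw [mkHom_apply, mkHom_apply]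
  apply (frobenius_inj (PerfectClosure K p) p).iterate (N + m)
  rw [iterate_frobenius, iterate_frobenius, mk_pow_eq_of, pow_add, pow_mul, mk_pow_eq_of, map_pow]

theorem mkHom_eq_zero_iff (N : ℕ) (a : K) : mkHom p K N a = 0 ↔ ∃ m, a ^ p ^ m = 0 := by
  rw [mkHom_apply, PerfectClosure.zero_def, PerfectClosure.mk_eq_iff]
  simp only [zero_add, iterate_frobenius, iterate_map_zero]

theorem exists_common_mkHom {ι : Type*} [Fintype ι] (e : ι → PerfectClosure K p) :
    ∃ (N : ℕ) (k : ι → K), ∀ i, e i = mkHom p K N (k i) := by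
  classical
  choose x hx using fun i => PerfectClosure.mk_surjective K p (e i)
  refine ⟨∑ i, (x i).1, fun i => (x i).2 ^ p ^ (∑ j, (x j).1 - (x i).1), fun i => ?_⟩
  have hle : (x i).1 ≤ ∑ j, (x j).1 :=
    Finset.single_le_sum (f := fun j => (x j).1) (fun _ _ => Nat.zero_le _) (Finset.mem_univ i)
  have h1 : mkHom p K ((x i).1 + (∑ j, (x j).1 - (x i).1))
      ((x i).2 ^ p ^ (∑ j, (x j).1 - (x i).1)) = mkHom p K (x i).1 (x i).2 := mkHom_add_pow p K _ _ _
  rw [Nat.add_sub_cancel' hle] at h1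
  rw [h1, mkHom_apply, ← hx i]

end mkHom

section Flat

variable {A B : Type u} [CommRing A] [CommRing B] [CharP A p] [CharP B p] (φ : A →+* B)

theorem perfMap_mkHom (N : ℕ) (a : A) : perfMap p φ (mkHom p A N a) = mkHom p B N (φ a) := by
  rw [mkHom_apply, mkHom_apply, perfMap_mk]

theorem perfMap_flat (hφ : φ.Flat) : (perfMap p φ).Flat := by
  letI : Algebra A B := φ.toAlgebra
  letI : Algebra (PerfectClosure A p) (PerfectClosure B p) := (perfMap p φ).toAlgebra
  haveI : Module.Flat A B := hφ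
  change Module.Flat (PerfectClosure A p) (PerfectClosure B p)
  apply Module.Flat.of_forall_isTrivialRelation
  intro l f x hfx
  obtain ⟨N₁, g₁, hg₁⟩ := exists_common_mkHom p A f
  obtain ⟨N₂, z₂, hz₂⟩ := exists_common_mkHom p B x
  -- common denominators `N = N₁ + N₂`
  let N := N₁ + N₂
  let g : Fin l → A := fun i => g₁ i ^ p ^ N₂
  let z : Fin l → B := fun i => z₂ i ^ p ^ N₁
  have hg : ∀ i, f i = mkHom p A N (g i) := fun i => by
    rw [hg₁ i]; exact (mkHom_add_pow p A N₁ N₂ (g₁ i)).symm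
  have hz : ∀ i, x i = mkHom p B N (z i) := fun i => by
    rw [hz₂ i]
    have := (mkHom_add_pow p B N₂ N₁ (z₂ i)).symm
    rwa [add_comm N₂ N₁] at this
  have hsmul : ∀ (a : PerfectClosure A p) (b : PerfectClosure B p), a • b = perfMap p φ a * b :=
    fun a b => rfl
  have h1 : mkHom p B N (∑ i, φ (g i) * z i) = 0 := by
    rw [map_sum, ← hfx]
    refine Finset.sum_congr rfl fun i _ => ?_
    rw [map_mul, hsmul, hg i, hz i, perfMap_mkHom]
  obtain ⟨m, hm⟩ := (mkHom_eq_zero_iff p B N _).mp h1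
  have h2 : ∑ i, (g i ^ p ^ m) • (z i ^ p ^ m) = 0 := by
    rw [sum_pow_char_pow] at hm
    rw [← hm]
    refine Finset.sum_congr rfl fun i _ => ?_
    change φ (g i ^ p ^ m) * z i ^ p ^ m = _
    rw [map_pow, mul_pow]
  obtain ⟨k, a, y, hxy, hfa⟩ := Module.Flat.isTrivialRelation_of_sum_smul_eq_zero h2
  have hxy' : ∀ i, z i ^ p ^ m = ∑ j, φ (a i j) * y j := hxy
  have hfa' : ∀ j, ∑ i, g i ^ p ^ m * a i j = 0 := hfa
  refine ⟨k, fun i j => mkHom p A (N + m) (a i j), fun j => mkHom p B (N + m) (y j), ?_, ?_⟩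
  · intro i
    rw [hz i, ← mkHom_add_pow p B N m (z i), hxy' i, map_sum]
    refine Finset.sum_congr rfl fun j _ => ?_
    change _ = perfMap p φ (mkHom p A (N + m) (a i j)) * mkHom p B (N + m) (y j)
    rw [perfMap_mkHom, ← map_mul]
  · intro j
    have : ∑ i, f i * mkHom p A (N + m) (a i j) =
        mkHom p A (N + m) (∑ i, g i ^ p ^ m * a i j) := by
      rw [map_sum]
      refine Finset.sum_congr rfl fun i _ => ?_
      rw [map_mul, mkHom_add_pow p A N m (g i), hg i]
    rw [this, hfa' j, map_zero]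

end Flat

end Groth.Agent.H74.Perf
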