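import Groth.Agent.H74.PerfAffine
import Mathlib.AlgebraicGeometry.Morphisms.Basic

/-!
# Local structure of a perfection (helper library, helper74)
-/

set_option autoImplicit false

universe u

open CategoryTheory CategoryTheory.Limits AlgebraicGeometry

namespace Groth.Agent.H74.Perf

open FrobSch

variable (p : ℕ) [Fact p.Prime]

/-- Over an affine open `U` with nontrivial ring of sections, a perfection is isomorphic to
`Spec Γ(U)^perf ⟶ Spec Γ(U)`. -/
theorem perf_affine_model {X XP : Scheme.{u}} [IsCharP X p] [IsCharP XP p] {π : XP ⟶ X}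
    (h : IsPerfection π p) [IsAffine X] [CharP Γ(X, ⊤) p] :
    ∃ e : XP ≅ Spec (CommRingCat.of (PerfectClosure Γ(X, ⊤) p)),
      π = e.hom ≫ perfSpec p Γ(X, ⊤) ≫ X.isoSpec.inv := by
  have h2 : IsPerfection (perfSpec p Γ(X, ⊤) ≫ X.isoSpec.symm.hom) p :=
    perf_comp_iso p (isPerfection_perfSpec p Γ(X, ⊤)) X.isoSpec.symm
  obtain ⟨e, he⟩ := perf_exists_iso p h h2
  exact ⟨e, he.symm⟩

/-- A property of morphisms which is local on the target, holds for isomorphisms and for the
model perfections `Spec A^perf ⟶ Spec A`, holds for every perfection. -/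
theorem perf_property (P : MorphismProperty Scheme.{u}) [IsZariskiLocalAtTarget P]
    [P.ContainsIdentities]
    (hP : ∀ (A : Type u) [CommRing A] [CharP A p], P (perfSpec p A))
    {X XP : Scheme.{u}} [IsCharP X p] [IsCharP XP p] {π : XP ⟶ X}
    (h : IsPerfection π p) : P π := by
  apply IsZariskiLocalAtTarget.of_iSup_eq_top (P := P) (fun i : X.affineOpens => (i : X.Opens))
    (iSup_affineOpens_eq_top X)
  intro U
  haveI : IsCharP (π ⁻¹ᵁ U.1 : Scheme.{u}) p := IsCharP.of_hom (π ⁻¹ᵁ U.1).ι p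
  haveI : IsCharP (U.1 : Scheme.{u}) p := IsCharP.of_hom U.1.ι p
  have hU : IsPerfection (π ∣_ U.1) p := perf_restrict p h U.1
  haveI : IsAffine (U.1 : Scheme.{u}) := U.2
  rcases isEmpty_or_nonempty (U.1 : Scheme.{u}) with hE | hN
  · haveI : IsIso (π ∣_ U.1) := isIso_of_isEmpty _
    exact P.of_isIso _
  · haveI : Nonempty (⊤ : (U.1 : Scheme.{u}).Opens) := ⟨⟨Classical.arbitrary _, trivial⟩⟩
    haveI : CharP Γ((U.1 : Scheme.{u}), ⊤) p :=
      (CharP.charP_iff_prime_eq_zero Fact.out).2
        (IsCharP.natCast_eq_zero (X := (U.1 : Scheme.{u})) (p := p))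
    obtain ⟨e, he⟩ := perf_affine_model p hU
    rw [he]
    rw [P.cancel_left_of_respectsIso, P.cancel_right_of_respectsIso]
    exact hP _

end Groth.Agent.H74.Perf
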