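import Groth.Agent.H74.PerfLocal
import Mathlib.RingTheory.Ideal.GoingUp

/-!
# Properties of the model perfection `Spec A^perf ⟶ Spec A` and of all perfections
(helper library, helper74)
-/

set_option autoImplicit false

universe u

open CategoryTheory CategoryTheory.Limits AlgebraicGeometry

namespace Groth.Agent.H74.Perf

open FrobSch

variable (p : ℕ) [Fact p.Prime]

section Model

variable (A : Type u) [CommRing A] [CharP A p]

theorem mk_pow_eq_of (n : ℕ) (a : A) :
    (PerfectClosure.mk A p (n, a)) ^ p ^ n = PerfectClosure.of A p a := by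
  rw [← iterate_frobenius, PerfectClosure.iterate_frobenius_mk]

theorem isIntegral_of : (PerfectClosure.of A p).IsIntegral := by
  intro x
  induction x using PerfectClosure.induction_on with
  | _ x =>
    obtain ⟨n, a⟩ := x
    refine ⟨Polynomial.X ^ p ^ n - Polynomial.C a,
      Polynomial.monic_X_pow_sub_C _ (pow_pos (Fact.out : p.Prime).pos n).ne', ?_⟩
    rw [Polynomial.eval₂_sub, Polynomial.eval₂_pow, Polynomial.eval₂_X, Polynomial.eval₂_C,
      mk_pow_eq_of, sub_self]

instance isIntegralHom_perfSpec : IsIntegralHom (perfSpec p A) :=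
  IsIntegralHom.SpecMap_iff.mpr (isIntegral_of p A)

theorem ker_of_le_nilradical (a : A) (h : PerfectClosure.of A p a = 0) : IsNilpotent a := by
  have h0 : PerfectClosure.mk A p (0, a) = PerfectClosure.mk A p (0, 0) := h
  rw [PerfectClosure.mk_eq_iff] at h0
  obtain ⟨z, hz⟩ := h0
  simp only [zero_add, iterate_frobenius, zero_pow (pow_pos (Fact.out : p.Prime).pos z).ne'] at hz
  exact ⟨p ^ z, hz⟩

instance surjective_perfSpec : Surjective (perfSpec p A) := by
  constructor
  intro P
  letI : Algebra A (PerfectClosure A p) := (PerfectClosure.of A p).toAlgebra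
  haveI : Algebra.IsIntegral A (PerfectClosure A p) := ⟨isIntegral_of p A⟩
  have hker : (⊥ : Ideal (PerfectClosure A p)).comap (algebraMap A (PerfectClosure A p)) ≤
      P.asIdeal := by
    intro a ha
    have ha' : PerfectClosure.of A p a = 0 := ha
    obtain ⟨k, hk⟩ := ker_of_le_nilradical p A a ha'
    exact P.2.mem_of_pow_mem k (hk ▸ P.asIdeal.zero_mem)
  obtain ⟨Q, -, hQ, hQP⟩ := Ideal.exists_ideal_over_prime_of_isIntegral P.asIdeal
    (⊥ : Ideal (PerfectClosure A p)) hker
  refine ⟨⟨Q, hQ⟩, ?_⟩
  apply PrimeSpectrum.ext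
  exact hQP

instance universallyInjective_perfSpec : UniversallyInjective (perfSpec p A) := by
  have h01 := (tfae_universallyInjective (perfSpec p A)).out 0 1
  rw [h01]
  intro K _ g g' hgg
  have hgg' : g ≫ Spec.map (CommRingCat.ofHom (PerfectClosure.of A p)) =
      g' ≫ Spec.map (CommRingCat.ofHom (PerfectClosure.of A p)) := hgg
  apply hom_Spec_ext
  have h1 := ΓSpecIso_inv_comp_appTop g (CommRingCat.ofHom (PerfectClosure.of A p))
  have h2 := ΓSpecIso_inv_comp_appTop g' (CommRingCat.ofHom (PerfectClosure.of A p))
  rw [hgg'] at h1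
  have h3 := h1.symm.trans h2
  -- the two ring maps `A^perf → K`
  let ψ : PerfectClosure A p →+* K :=
    ((Scheme.ΓSpecIso (CommRingCat.of (PerfectClosure A p))).inv ≫ g.appTop ≫
      (Scheme.ΓSpecIso (CommRingCat.of K)).hom).hom
  let ψ' : PerfectClosure A p →+* K :=
    ((Scheme.ΓSpecIso (CommRingCat.of (PerfectClosure A p))).inv ≫ g'.appTop ≫
      (Scheme.ΓSpecIso (CommRingCat.of K)).hom).hom
  have h4 : ∀ a : A, ψ (PerfectClosure.of A p a) = ψ' (PerfectClosure.of A p a) := by
    intro a
    have := congrArg (fun t => (Scheme.ΓSpecIso (CommRingCat.of K)).hom.hom (t.hom a)) h3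
    exact this
  have hK0 : (p : K) = 0 := by
    have := congrArg ψ (CharP.cast_eq_zero (PerfectClosure A p) p)
    rwa [map_natCast, map_zero] at this
  haveI : CharP K p := (CharP.charP_iff_prime_eq_zero Fact.out).2 hK0
  have h5 : ψ = ψ' := by
    ext x
    induction x using PerfectClosure.induction_on with
    | _ x =>
      obtain ⟨n, a⟩ := x
      apply (frobenius_inj K p).iterate n
      rw [iterate_frobenius, iterate_frobenius, ← map_pow, ← map_pow, mk_pow_eq_of]
      exact h4 a
  have h6 : (Scheme.ΓSpecIso (CommRingCat.of (PerfectClosure A p))).inv ≫ g.appTop ≫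
      (Scheme.ΓSpecIso (CommRingCat.of K)).hom =
      (Scheme.ΓSpecIso (CommRingCat.of (PerfectClosure A p))).inv ≫ g'.appTop ≫
      (Scheme.ΓSpecIso (CommRingCat.of K)).hom := CommRingCat.hom_ext h5
  have h7 := congrArg (fun t => t ≫ (Scheme.ΓSpecIso (CommRingCat.of K)).inv) h6
  simpa using h7

end Model

end Groth.Agent.H74.Perf

namespace Groth.Agent.H74.Perf

open FrobSch

variable (p : ℕ) [Fact p.Prime]

section General

variable {X XP : Scheme.{u}} [IsCharP X p] [IsCharP XP p] {π : XP ⟶ X}

theorem perf_isIntegralHom (h : IsPerfection π p) : IsIntegralHom π :=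
  perf_property p @IsIntegralHom (fun A _ _ => isIntegralHom_perfSpec p A) h

theorem perf_universallyInjective (h : IsPerfection π p) : UniversallyInjective π :=
  perf_property p @UniversallyInjective (fun A _ _ => universallyInjective_perfSpec p A) h

theorem perf_surjective (h : IsPerfection π p) : Surjective π :=
  perf_property p @Surjective (fun A _ _ => surjective_perfSpec p A) h

theorem perf_isAffineHom (h : IsPerfection π p) : IsAffineHom π :=
  haveI := perf_isIntegralHom p h
  inferInstance

theorem perf_isUnivHomeo (h : IsPerfection π p) : FlatMor.IsUnivHomeo π :=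
  haveI := perf_isIntegralHom p h
  haveI := perf_universallyInjective p h
  haveI := perf_surjective p h
  FrobBasic.isUnivHomeo_of π

end General

end Groth.Agent.H74.Perf
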