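import Groth.Agent.H74.PerfSquare
import Mathlib.AlgebraicGeometry.Morphisms.QuasiSeparated

/-!
# Sections of a perfection have `p`-power roots downstairs (helper library, helper74)
-/

set_option autoImplicit false

universe u

open CategoryTheory CategoryTheory.Limits AlgebraicGeometry Opposite

namespace Groth.Agent.H74.Perf

open FrobSch

variable (p : ℕ) [Fact p.Prime]

theorem charP_Γ_of_nonempty' (X : Scheme.{u}) [IsCharP X p] [Nonempty X] : CharP Γ(X, ⊤) p := by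
  haveI : Nonempty (⊤ : X.Opens) := ⟨⟨Classical.arbitrary X, trivial⟩⟩
  exact (CharP.charP_iff_prime_eq_zero Fact.out).2 (IsCharP.natCast_eq_zero (X := X) (p := p))

theorem iso_hom_appTop_inv_appTop {X Y : Scheme.{u}} (e : X ≅ Y) (a : Γ(X, ⊤)) :
    e.hom.appTop (e.inv.appTop a) = a := by
  have h : (e.hom ≫ e.inv).appTop a = a := by
    rw [e.hom_inv_id]; rfl
  rwa [Scheme.Hom.comp_appTop] at h

theorem iso_inv_appTop_hom_appTop {X Y : Scheme.{u}} (e : X ≅ Y) (a : Γ(Y, ⊤)) :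
    e.inv.appTop (e.hom.appTop a) = a :=
  iso_hom_appTop_inv_appTop e.symm a

section Global

variable {X XP : Scheme.{u}} [IsCharP X p] [IsCharP XP p] {π : XP ⟶ X}

/-- Lemma L: over an affine base, every global section of the perfection has a `p`-power in the
image of the global sections of the base. -/
theorem perf_appTop_root (h : IsPerfection π p) [IsAffine X] (b : Γ(XP, ⊤)) :
    ∃ (n : ℕ) (a : Γ(X, ⊤)), π.appTop a = b ^ p ^ n := by
  rcases isEmpty_or_nonempty X with hE | hN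
  · haveI : IsEmpty XP := Function.isEmpty π
    exact ⟨0, 0, Subsingleton.elim _ _⟩
  · haveI := charP_Γ_of_nonempty' p X
    obtain ⟨e, he⟩ := perf_affine_model p h
    -- transport `b` to `A^perf`
    let c : Γ(Spec (CommRingCat.of (PerfectClosure Γ(X, ⊤) p)), ⊤) := e.inv.appTop b
    let c' : PerfectClosure Γ(X, ⊤) p := (Scheme.ΓSpecIso _).hom c
    obtain ⟨⟨n, a₀⟩, hc'⟩ := PerfectClosure.mk_surjective Γ(X, ⊤) p c'
    have hpow : c' ^ p ^ n = PerfectClosure.of Γ(X, ⊤) p a₀ := by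
      rw [← hc', mk_pow_eq_of]
    let a₁ : Γ(Spec (CommRingCat.of Γ(X, ⊤)), ⊤) := (Scheme.ΓSpecIso (CommRingCat.of Γ(X, ⊤))).inv a₀
    refine ⟨n, X.isoSpec.hom.appTop a₁, ?_⟩
    have h1 : X.isoSpec.inv.appTop (X.isoSpec.hom.appTop a₁) = a₁ :=
      iso_inv_appTop_hom_appTop X.isoSpec a₁
    have h2 : (perfSpec p Γ(X, ⊤)).appTop a₁ = c ^ p ^ n := by
      have hn := Scheme.ΓSpecIso_inv_naturality
        (CommRingCat.ofHom (PerfectClosure.of Γ(X, ⊤) p))
      have := congrArg (fun t => t.hom a₀) hn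
      have h3 : (perfSpec p Γ(X, ⊤)).appTop a₁ =
          (Scheme.ΓSpecIso _).inv (PerfectClosure.of Γ(X, ⊤) p a₀) := this.symm
      rw [h3, ← hpow, map_pow]
      congr 1
      exact (Scheme.ΓSpecIso _).hom_inv_id_apply c
    have h4 : e.hom.appTop c = b := iso_hom_appTop_inv_appTop e b
    rw [he]
    simp only [Scheme.Hom.comp_appTop, CommRingCat.comp_apply]
    rw [h1, h2, map_pow, h4]

end Global

end Groth.Agent.H74.Perf

namespace Groth.Agent.H74.Perf

open FrobSch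

variable (p : ℕ) [Fact p.Prime]

section Local

variable {X XP : Scheme.{u}} [IsCharP X p] [IsCharP XP p] {π : XP ⟶ X}

/-- `PRoot U`: every section of `XP` over `π⁻¹ U` has a `p`-power coming from `Γ(X, U)`. -/
def PRoot (π : XP ⟶ X) (U : X.Opens) : Prop :=
  ∀ b : Γ(XP, π ⁻¹ᵁ U), ∃ (n : ℕ) (a : Γ(X, U)), π.app U a = b ^ p ^ n

theorem pRoot_bot : PRoot p π ⊥ := by
  intro b
  exact ⟨0, 0, Subsingleton.elim (α := Γ(XP, ⊥)) _ _⟩

theorem pRoot_of_isAffineOpen (h : IsPerfection π p) {U : X.Opens} (hU : IsAffineOpen U) :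
    PRoot p π U := by
  intro b
  haveI : IsCharP (π ⁻¹ᵁ U : Scheme.{u}) p := IsCharP.of_hom (π ⁻¹ᵁ U).ι p
  haveI : IsCharP (U : Scheme.{u}) p := IsCharP.of_hom U.ι p
  have hres : IsPerfection (π ∣_ U) p := perf_restrict p h U
  haveI : IsAffine (U : Scheme.{u}) := hU
  obtain ⟨n, a', ha'⟩ := perf_appTop_root p hres ((π ⁻¹ᵁ U).topIso.inv b)
  refine ⟨n, U.topIso.hom a', ?_⟩
  have h1 : (π ∣_ U).appTop = U.topIso.hom ≫ π.app U ≫ (π ⁻¹ᵁ U).topIso.inv := by
    rw [← Scheme.Hom.resLE_eq_morphismRestrict]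
    change (π.resLE U (π ⁻¹ᵁ U) le_rfl).app ⊤ = _
    rw [Scheme.Hom.resLE_app_top, Scheme.Hom.appLE_eq_app]
  rw [h1] at ha'
  have h2 : (π ⁻¹ᵁ U).topIso.inv (π.app U (U.topIso.hom a')) =
      (π ⁻¹ᵁ U).topIso.inv (b ^ p ^ n) := by
    rw [map_pow]; exact ha'
  have hinj : Function.Injective (π ⁻¹ᵁ U).topIso.inv :=
    (ConcreteCategory.bijective_of_isIso (π ⁻¹ᵁ U).topIso.inv).injective
  exact hinj h2

/-- sections killed by `π♯` have empty non-vanishing locus -/
theorem basicOpen_eq_bot_of_app_eq_zero (hs : Function.Surjective π) {U : X.Opens} (a : Γ(X, U))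
    (ha : π.app U a = 0) : X.basicOpen a = ⊥ := by
  rw [eq_bot_iff]
  intro x hx
  obtain ⟨x', rfl⟩ := hs x
  have h1 : x' ∈ π ⁻¹ᵁ X.basicOpen a := hx
  rw [Scheme.preimage_basicOpen, ha, Scheme.basicOpen_zero] at h1
  exact h1

theorem isNilpotent_of_app_eq_zero (hs : Function.Surjective π) {U : X.Opens}
    (hU : IsCompact (U : Set X)) (a : Γ(X, U)) (ha : π.app U a = 0) : IsNilpotent a :=
  (Scheme.isNilpotent_iff_basicOpen_eq_bot_of_isCompact hU a).mpr
    (basicOpen_eq_bot_of_app_eq_zero hs a ha)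

end Local

end Groth.Agent.H74.Perf

namespace Groth.Agent.H74.Perf

open FrobSch

variable (p : ℕ) [Fact p.Prime]

theorem sub_pow_p_pow {R : Type*} [CommRing R] (h0 : (p : R) = 0) (x y : R) (m : ℕ) :
    (x - y) ^ p ^ m = x ^ p ^ m - y ^ p ^ m := by
  rcases subsingleton_or_nontrivial R with hR | hR
  · exact Subsingleton.elim _ _
  · haveI : CharP R p := (CharP.charP_iff_prime_eq_zero Fact.out).2 h0
    exact sub_pow_char_pow x y m

section Glue

variable {X XP : Scheme.{u}} {π : XP ⟶ X}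

theorem app_res {V W : X.Opens} (h : V ≤ W) (a : Γ(X, W)) :
    π.app V (X.presheaf.map (homOfLE h).op a) =
      XP.presheaf.map (homOfLE (π.preimage_mono h)).op (π.app W a) := by
  have := congrArg (fun t => t.hom a) (π.naturality (homOfLE h).op)
  exact this

theorem res_res (Z : Scheme.{u}) {U V W : Z.Opens} (h1 : U ≤ V) (h2 : V ≤ W) (s : Γ(Z, W)) :
    Z.presheaf.map (homOfLE h1).op (Z.presheaf.map (homOfLE h2).op s) =
      Z.presheaf.map (homOfLE (h1.trans h2)).op s := by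
  rw [← CommRingCat.comp_apply, ← Functor.map_comp]
  rfl

variable [IsCharP X p] [IsCharP XP p]

theorem pRoot_sup (hs : Function.Surjective π) [QuasiSeparatedSpace X] {S U : X.Opens}
    (hS : IsCompact (S : Set X)) (hU : IsCompact (U : Set X)) (hPS : PRoot p π S)
    (hPU : PRoot p π U) : PRoot p π (S ⊔ U) := by
  intro b
  obtain ⟨n₁, a₁, h₁⟩ := hPS (XP.presheaf.map (homOfLE (π.preimage_mono le_sup_left)).op b)
  obtain ⟨n₂, a₂, h₂⟩ := hPU (XP.presheaf.map (homOfLE (π.preimage_mono le_sup_right)).op b)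
  -- common exponent
  have h₁' : π.app S (a₁ ^ p ^ n₂) =
      (XP.presheaf.map (homOfLE (π.preimage_mono le_sup_left)).op b) ^ p ^ (n₁ + n₂) := by
    rw [map_pow, h₁, pow_add, pow_mul]
  have h₂' : π.app U (a₂ ^ p ^ n₁) =
      (XP.presheaf.map (homOfLE (π.preimage_mono le_sup_right)).op b) ^ p ^ (n₁ + n₂) := by
    rw [map_pow, h₂, add_comm n₁ n₂, pow_add, pow_mul]
  -- difference on the intersection
  have hcomp : IsCompact ((S ⊓ U : X.Opens) : Set X) :=
    QuasiSeparatedSpace.inter_isCompact S.1 U.1 S.2 hS U.2 hU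
  have hd : π.app (S ⊓ U) (X.presheaf.map (homOfLE inf_le_left).op (a₁ ^ p ^ n₂) -
      X.presheaf.map (homOfLE inf_le_right).op (a₂ ^ p ^ n₁)) = 0 := by
    rw [map_sub, app_res, app_res, h₁', h₂', map_pow, map_pow, res_res, res_res, sub_self]
  obtain ⟨k, hk⟩ := isNilpotent_of_app_eq_zero hs hcomp _ hd
  have hk' : (X.presheaf.map (homOfLE inf_le_left).op (a₁ ^ p ^ n₂) -
      X.presheaf.map (homOfLE inf_le_right).op (a₂ ^ p ^ n₁)) ^ p ^ k = 0 :=
    pow_eq_zero_of_le (Nat.lt_pow_self (Fact.out : p.Prime).one_lt).le hk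
  rw [sub_pow_p_pow p (natCast_eq_zero_app X p (S ⊓ U)), sub_eq_zero, ← map_pow, ← map_pow] at hk'
  -- glue
  let x : (CommRingCat.of <| RingHom.eqLocus
      (RingHom.comp (X.sheaf.obj.map (homOfLE inf_le_left : S ⊓ U ⟶ S).op).hom
        (RingHom.fst (X.sheaf.obj.obj <| op S) (X.sheaf.obj.obj <| op U)))
      (RingHom.comp (X.sheaf.obj.map (homOfLE inf_le_right : S ⊓ U ⟶ U).op).hom
        (RingHom.snd (X.sheaf.obj.obj <| op S) (X.sheaf.obj.obj <| op U)))) :=
    ⟨((a₁ ^ p ^ n₂) ^ p ^ k, (a₂ ^ p ^ n₁) ^ p ^ k), hk'⟩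
  let a : Γ(X, S ⊔ U) := (X.sheaf.objSupIsoProdEqLocus S U).inv x
  have haS : X.presheaf.map (homOfLE le_sup_left).op a = (a₁ ^ p ^ n₂) ^ p ^ k :=
    X.sheaf.objSupIsoProdEqLocus_inv_fst S U x
  have haU : X.presheaf.map (homOfLE le_sup_right).op a = (a₂ ^ p ^ n₁) ^ p ^ k :=
    X.sheaf.objSupIsoProdEqLocus_inv_snd S U x
  refine ⟨n₁ + n₂ + k, a, ?_⟩
  apply XP.sheaf.eq_of_locally_eq₂ (homOfLE (π.preimage_mono le_sup_left))
    (homOfLE (π.preimage_mono le_sup_right)) le_rfl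
  · change XP.presheaf.map _ _ = XP.presheaf.map _ _
    rw [← app_res (le_sup_left : S ≤ S ⊔ U), haS, map_pow, h₁', map_pow,
      pow_add (p) (n₁ + n₂) k, pow_mul]
  · change XP.presheaf.map _ _ = XP.presheaf.map _ _
    rw [← app_res (le_sup_right : U ≤ S ⊔ U), haU, map_pow, h₂', map_pow,
      pow_add (p) (n₁ + n₂) k, pow_mul]

end Glue

end Groth.Agent.H74.Perf
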