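import Groth.Agent.H74.PerfModel

/-!
# Squares of perfections: localisation and affine models (helper library, helper74)
-/

set_option autoImplicit false

universe u

open CategoryTheory CategoryTheory.Limits AlgebraicGeometry

namespace Groth.Agent.H74.Perf

open FrobSch

variable (p : ℕ) [Fact p.Prime]

section Ring

variable {A B : Type u} [CommRing A] [CommRing B] [CharP A p] [CharP B p] (φ : A →+* B)

/-- the map induced on perfect closures -/
noncomputable def perfMap : PerfectClosure A p →+* PerfectClosure B p :=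
  PerfectClosure.lift A p (PerfectClosure B p) ((PerfectClosure.of B p).comp φ)

theorem perfMap_comp_of :
    (perfMap p φ).comp (PerfectClosure.of A p) = (PerfectClosure.of B p).comp φ :=
  (PerfectClosure.lift A p (PerfectClosure B p)).symm_apply_apply _

theorem perfMap_of (a : A) :
    perfMap p φ (PerfectClosure.of A p a) = PerfectClosure.of B p (φ a) :=
  congrArg (fun t : A →+* PerfectClosure B p => t a) (perfMap_comp_of p φ)

theorem perfMap_mk (n : ℕ) (a : A) :
    perfMap p φ (PerfectClosure.mk A p (n, a)) = PerfectClosure.mk B p (n, φ a) := by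
  apply (frobenius_inj (PerfectClosure B p) p).iterate n
  rw [iterate_frobenius, iterate_frobenius, ← map_pow, mk_pow_eq_of, mk_pow_eq_of, perfMap_of]

theorem perfMap_surjective (hφ : Function.Surjective φ) : Function.Surjective (perfMap p φ) := by
  intro y
  induction y using PerfectClosure.induction_on with
  | _ y =>
    obtain ⟨n, b⟩ := y
    obtain ⟨a, rfl⟩ := hφ b
    exact ⟨PerfectClosure.mk A p (n, a), perfMap_mk p φ n a⟩

end Ring

section Square

variable {X Y XP YP : Scheme.{u}} [IsCharP X p] [IsCharP Y p] [IsCharP XP p] [IsCharP YP p]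
  {πX : XP ⟶ X} {πY : YP ⟶ Y} (hX : IsPerfection πX p) (hY : IsPerfection πY p)
  (f : X ⟶ Y) (fP : XP ⟶ YP) (w : fP ≫ πY = πX ≫ f)

include hX hY w in
/-- affine model for a square of perfections -/
theorem perf_square_affine_model [IsAffine X] [IsAffine Y] [CharP Γ(X, ⊤) p] [CharP Γ(Y, ⊤) p] :
    ∃ (eX : XP ≅ Spec (CommRingCat.of (PerfectClosure Γ(X, ⊤) p)))
      (eY : YP ≅ Spec (CommRingCat.of (PerfectClosure Γ(Y, ⊤) p))),
      πX = eX.hom ≫ perfSpec p Γ(X, ⊤) ≫ X.isoSpec.inv ∧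
      πY = eY.hom ≫ perfSpec p Γ(Y, ⊤) ≫ Y.isoSpec.inv ∧
      fP = eX.hom ≫ Spec.map (CommRingCat.ofHom (perfMap p f.appTop.hom)) ≫ eY.inv := by
  obtain ⟨eX, heX⟩ := perf_affine_model p hX
  obtain ⟨eY, heY⟩ := perf_affine_model p hY
  refine ⟨eX, eY, heX, heY, ?_⟩
  rw [← Category.assoc, Iso.eq_comp_inv]
  apply perf_hom_ext p (isPerfection_perfSpec p Γ(Y, ⊤)) hX.1
  rw [← cancel_mono Y.isoSpec.inv]
  have h1 : (fP ≫ eY.hom) ≫ perfSpec p Γ(Y, ⊤) ≫ Y.isoSpec.inv = fP ≫ πY := by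
    rw [heY, Category.assoc]
  have h2 : Spec.map (CommRingCat.ofHom (perfMap p f.appTop.hom)) ≫ perfSpec p Γ(Y, ⊤) =
      perfSpec p Γ(X, ⊤) ≫ Spec.map f.appTop := by
    unfold perfSpec
    rw [← Spec.map_comp, ← Spec.map_comp]
    congr 1
  rw [Category.assoc, h1, w, Category.assoc, Category.assoc, reassoc_of% h2,
    Scheme.isoSpec_inv_naturality, heX, Category.assoc, Category.assoc]

include w in
theorem perf_preimage_le {U : Y.Opens} {V : X.Opens} (e : V ≤ f ⁻¹ᵁ U) :
    πX ⁻¹ᵁ V ≤ fP ⁻¹ᵁ (πY ⁻¹ᵁ U) := by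
  intro x hx
  have h1 : f (πX x) ∈ U := e hx
  have h2 : πY (fP x) = f (πX x) := congrArg (fun t : XP ⟶ Y => t x) w
  change πY (fP x) ∈ U
  rw [h2]; exact h1

include w in
theorem perf_preimage_eq (U : Y.Opens) :
    πX ⁻¹ᵁ (f ⁻¹ᵁ U) = fP ⁻¹ᵁ (πY ⁻¹ᵁ U) := by
  ext x
  have h2 : πY (fP x) = f (πX x) := congrArg (fun t : XP ⟶ Y => t x) w
  change f (πX x) ∈ U ↔ πY (fP x) ∈ U
  rw [h2]

include w in
/-- the restricted square commutes -/
theorem perf_resLE_square {U : Y.Opens} {V : X.Opens} (e : V ≤ f ⁻¹ᵁ U) :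
    fP.resLE (πY ⁻¹ᵁ U) (πX ⁻¹ᵁ V) (perf_preimage_le f fP w e) ≫ (πY ∣_ U) =
      (πX ∣_ V) ≫ f.resLE U V e := by
  rw [← cancel_mono U.ι]
  simp only [Category.assoc, morphismRestrict_ι, Scheme.Hom.resLE_comp_ι,
    Scheme.Hom.resLE_comp_ι_assoc, morphismRestrict_ι_assoc, w]

end Square

end Groth.Agent.H74.Perf
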