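import Groth.Agent.H74.RootTowerBC
import Mathlib.AlgebraicGeometry.Morphisms.Flat

set_option autoImplicit false
universe u

/-!
# Extractions of `p`-th roots are stable under base change
-/

namespace Groth.Agent.H74.PthRootBC

open CategoryTheory CategoryTheory.Limits AlgebraicGeometry Quiet Groth.Agent.H74.RootTower

theorem isPthRoot_of_isPullback (p : ℕ) {X Y X' Y' : Scheme.{u}} (f : Y ⟶ X) (g : X' ⟶ X)
    (f' : Y' ⟶ X') (g' : Y' ⟶ Y) (H : IsPullback g' f' f g) (hf : Quiet.IsPthRoot p f) :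
    Quiet.IsPthRoot p f' := by
  intro x'
  obtain ⟨U, hxU, hfU, n, hn⟩ := hf (g x')
  obtain ⟨_, ⟨U', hU', rfl⟩, hx'U', hU'le⟩ :=
    X'.isBasis_affineOpens.exists_subset_of_mem_open (show x' ∈ (g ⁻¹ᵁ U.1 : Set X') from hxU)
      (g ⁻¹ᵁ U.1).isOpen
  have hUST : U' ≤ g ⁻¹ᵁ U.1 := hU'le
  have hUSX : f ⁻¹ᵁ U.1 ≤ f ⁻¹ᵁ U.1 := le_rfl
  have hUY : f' ⁻¹ᵁ U' = g' ⁻¹ᵁ (f ⁻¹ᵁ U.1) ⊓ f' ⁻¹ᵁ U' := by
    refine (inf_eq_right.2 ?_).symm
    have h1 : f' ⁻¹ᵁ U' ≤ f' ⁻¹ᵁ (g ⁻¹ᵁ U.1) := f'.preimage_mono hUST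
    rwa [← Scheme.Hom.comp_preimage, ← H.w, Scheme.Hom.comp_preimage] at h1
  have hiso := isIso_pushoutSection_of_isAffineOpen H hUST hUSX hUY U.2 hU' hfU
  have hpo := (isIso_pushoutSection_iff H hUST hUSX hUY).1 hiso
  have hUY' : IsAffineOpen (f' ⁻¹ᵁ U') := by
    have : IsAffine (U.1 : Scheme) := U.2
    have : IsAffine (U' : Scheme) := hU'
    have : IsAffine ((f ⁻¹ᵁ U.1 : Y.Opens) : Scheme) := hfU
    exact .of_isIso (Scheme.Hom.isPullback_resLE H hUST hUSX hUY).isoPullback.hom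
  refine ⟨⟨U', hU'⟩, hx'U', hUY', n, ?_⟩
  change IsRootTowerHom p n (f'.app U').hom
  have hn' : IsRootTowerHom p n (f.appLE U.1 (f ⁻¹ᵁ U.1) hUSX).hom := by
    rw [Scheme.Hom.appLE_eq_app]
    exact hn
  have := isRootTowerHom_of_isPushout p n _ _ _ _ hpo hn'
  rwa [Scheme.Hom.appLE_eq_app] at this

end Groth.Agent.H74.PthRootBC
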