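import Groth.Prelude.Def_QFDual
import Groth.Prelude.Def_RegImm
import Groth.Agent.H78.QFFlat.Factor
import Groth.Agent.H26.OmegaGor
import Groth.Agent.H26.GorLCI
import Groth.Agent.H26.GorFieldAny
import Groth.Agent.H46.SyntLCI
import Groth.Agent.H47.Synt.BaseChange
import Groth.Agent.H47.Synt.Transport

set_option autoImplicit false
set_option linter.style.haveILetI false
universe u

/-!
# The relative dualizing module of a quasi-finite syntomic algebra: the fibre step
-/

namespace Groth.Agent.H74.QFSyntOmega

open CategoryTheory CategoryTheory.Limits AlgebraicGeometry TensorProduct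

/-- An open immersion into the spectrum of an Artinian ring is the inclusion of a direct factor. -/
theorem exists_idem_of_isOpenImmersion {R S : Type u} [CommRing R] [CommRing S] [Algebra R S]
    [IsArtinianRing R]
    (h : IsOpenImmersion (Spec.map (CommRingCat.ofHom (algebraMap R S)))) :
    ∃ e : R, IsIdempotentElem e ∧ Function.Surjective (algebraMap R S) ∧
      RingHom.ker (algebraMap R S) = Ideal.span {1 - e} := by
  set f : CommRingCat.of R ⟶ CommRingCat.of S := CommRingCat.ofHom (algebraMap R S) with hf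
  have hclopen : IsClopen (Set.range (Spec.map f)) :=
    ⟨isClosed_discrete _, (Spec.map f).isOpenEmbedding.isOpen_range⟩
  obtain ⟨e₀, he₀, he₀'⟩ := PrimeSpectrum.isClopen_iff_zeroLocus.mp hclopen
  let φ : CommRingCat.of R ⟶ CommRingCat.of (R ⧸ Ideal.span {e₀}) :=
    CommRingCat.ofHom (Ideal.Quotient.mk (.span {e₀}))
  have : IsOpenImmersion (Spec.map φ) :=
    have : IsLocalization.Away (1 - e₀) (R ⧸ Ideal.span {e₀}) :=
      IsLocalization.away_of_isIdempotentElem he₀.one_sub (by simp) Ideal.Quotient.mk_surjective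
    IsOpenImmersion.of_isLocalization (1 - e₀)
  have H : Set.range (Spec.map φ) = Set.range (Spec.map f) :=
    ((range_comap_of_surjective _ _
      Ideal.Quotient.mk_surjective).trans (by simp)).trans he₀'.symm
  let i : CommRingCat.of S ≅ CommRingCat.of (R ⧸ Ideal.span {e₀}) := (Scheme.Spec.preimageIso
    (IsOpenImmersion.isoOfRangeEq (Spec.map φ) (Spec.map f) H)).unop
  have hi : Function.Bijective i.inv.hom := ConcreteCategory.bijective_of_isIso i.inv
  have hfφ : f = φ ≫ i.inv := by
    apply Spec.map_injective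
    simp [i, ← Scheme.Spec_map]
  have hf' : algebraMap R S = i.inv.hom.comp φ.hom := by
    have := congrArg CommRingCat.Hom.hom hfφ
    simpa [hf] using this
  refine ⟨1 - e₀, he₀.one_sub, ?_, ?_⟩
  · rw [hf']
    exact hi.2.comp Ideal.Quotient.mk_surjective
  · rw [hf', RingHom.ker_eq_comap_bot, ← Ideal.comap_comap, ← RingHom.ker_eq_comap_bot,
      (RingHom.injective_iff_ker_eq_bot i.inv.hom).mp hi.1, ← RingHom.ker_eq_comap_bot]
    simp [φ]

section Fibre

open Groth.Agent.H73.DiffBCOmega

attribute [local instance] iA iB iA2 tA tB tAA' tAB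

/-- Over a field: if `Spec S → Spec R` is an open immersion with `R` finite and `S` Gorenstein,
then `ω = S ⊗_R Hom_κ(R, κ)` is an invertible `S`-module. -/
theorem invertible_omega_of_field (κ R S : Type u) [Field κ] [CommRing R] [CommRing S]
    [Algebra κ R] [Algebra R S] [Algebra κ S] [IsScalarTower κ R S] [Module.Finite κ R]
    (h : IsOpenImmersion (Spec.map (CommRingCat.ofHom (algebraMap R S))))
    (hG : LocCoh.IsGorensteinRing S) : Module.Invertible S (QFDual.omega κ R S) := by
  haveI : IsArtinianRing R := IsArtinianRing.of_finite κ R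
  obtain ⟨e, he, hsurj, hker⟩ := exists_idem_of_isOpenImmersion h
  have hbc := Groth.Agent.H78.QFFlat.isBaseChange_res (R := κ) hsurj hker he
  haveI : Module.Finite κ S :=
    Module.Finite.of_surjective (IsScalarTower.toAlgHom κ R S).toLinearMap hsurj
  obtain ⟨ε⟩ := (Groth.Agent.H26.OmegaGor.field_case κ S).mp hG
  exact Module.Invertible.congr (ε.trans hbc.equiv.symm)

end Fibre

section Main

/-- The fibre condition of `QFDual.invertible_omega_iff_fibres` holds for syntomic algebras. -/
theorem fibre_step (A B' B : Type u) [CommRing A] [CommRing B'] [CommRing B] [Algebra A B']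
    [Algebra B' B] [Algebra A B] [IsScalarTower A B' B]
    (hf : QFDual.IsQFFactor A B' B) (hs : Synt.IsSyntomic A B)
    (p : Ideal A) [p.IsPrime] (B'₁ B₁ : Type u) [CommRing B'₁] [CommRing B₁] [Algebra B' B'₁]
    [Algebra p.ResidueField B'₁] [Algebra A B'₁] [IsScalarTower A p.ResidueField B'₁]
    [IsScalarTower A B' B'₁] [Algebra B B₁] [Algebra p.ResidueField B₁] [Algebra A B₁]
    [IsScalarTower A p.ResidueField B₁] [IsScalarTower A B B₁] [Algebra B'₁ B₁] [Algebra B' B₁]
    [IsScalarTower B' B'₁ B₁] [IsScalarTower B' B B₁] [IsScalarTower p.ResidueField B'₁ B₁]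
    (h1 : Algebra.IsPushout A p.ResidueField B' B'₁)
    (h2 : Algebra.IsPushout A p.ResidueField B B₁) :
    Module.Invertible B₁ (QFDual.omega p.ResidueField B'₁ B₁) := by
  haveI := hf.finite
  haveI := h1
  haveI := h2
  haveI : Module.Finite p.ResidueField B'₁ :=
    Module.Finite.equiv (Algebra.IsPushout.equiv A p.ResidueField B' B'₁).toLinearEquiv
  -- the fibre is Gorenstein
  have hsynt : Synt.IsSyntomic p.ResidueField B₁ :=
    Groth.Agent.H47.Synt.isSyntomic_of_algEquiv (Algebra.IsPushout.equiv A p.ResidueField B B₁)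
      (Groth.Agent.H47.Synt.isSyntomic_baseChange A p.ResidueField B hs)
  have hlci := Groth.Agent.H46.SyntLCI.isLCI_of_isSyntomic p.ResidueField B₁ hsynt
  have hG : LocCoh.IsGorensteinRing B₁ :=
    Groth.Agent.H26.GorLCI.isGorensteinRing_of_isLCI p.ResidueField B₁
      (Groth.Agent.H26.GorFieldAny.isGorensteinRing_of_isRegularRing p.ResidueField) hlci
  -- the open immersion on the fibre
  have tower : IsScalarTower A B'₁ B₁ := IsScalarTower.of_algebraMap_eq fun x => by
    rw [IsScalarTower.algebraMap_apply A p.ResidueField B₁,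
      IsScalarTower.algebraMap_apply p.ResidueField B'₁ B₁,
      ← IsScalarTower.algebraMap_apply A p.ResidueField B'₁]
  haveI h1' : Algebra.IsPushout A B' p.ResidueField B'₁ := h1.symm
  have hpo : Algebra.IsPushout B' B B'₁ B₁ :=
    (Algebra.IsPushout.comp_iff A B' p.ResidueField (S' := B'₁) (T := B) (T' := B₁)).mp h2.symm
  have hcat := CommRingCat.isPushout_of_isPushout B' B B'₁ B₁
  have hpb := isPullback_SpecMap_of_isPushout _ _ _ _ hcat
  have hoi : IsOpenImmersion (Spec.map (CommRingCat.ofHom (algebraMap B'₁ B₁))) :=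
    MorphismProperty.of_isPullback (P := @IsOpenImmersion) hpb hf.isOpenImmersion
  exact invertible_omega_of_field p.ResidueField B'₁ B₁ hoi hG

/-- `S8964` from the fibrewise criterion `S8963` (passed as a hypothesis). -/
theorem invertible_omega_of_isSyntomic (A B' B : Type u) [CommRing A] [CommRing B'] [CommRing B]
    [Algebra A B'] [Algebra B' B] [Algebra A B] [IsScalarTower A B' B]
    (hf : QFDual.IsQFFactor A B' B) (hs : Synt.IsSyntomic A B)
    (H : (∀ (p : Ideal A) [p.IsPrime] (B'₁ B₁ : Type u) [CommRing B'₁] [CommRing B₁]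
      [Algebra B' B'₁] [Algebra p.ResidueField B'₁] [Algebra A B'₁]
      [IsScalarTower A p.ResidueField B'₁] [IsScalarTower A B' B'₁] [Algebra B B₁]
      [Algebra p.ResidueField B₁] [Algebra A B₁] [IsScalarTower A p.ResidueField B₁]
      [IsScalarTower A B B₁] [Algebra B'₁ B₁] [Algebra B' B₁] [IsScalarTower B' B'₁ B₁]
      [IsScalarTower B' B B₁] [IsScalarTower p.ResidueField B'₁ B₁],
      Algebra.IsPushout A p.ResidueField B' B'₁ → Algebra.IsPushout A p.ResidueField B B₁ →
      Module.Invertible B₁ (QFDual.omega p.ResidueField B'₁ B₁)) →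
      Module.Invertible B (QFDual.omega A B' B)) :
    Module.Invertible B (QFDual.omega A B' B) := by
  refine H ?_
  intro p hp B'₁ B₁ _ _ _ _ _ _ _ _ _ _ _ _ _ _ _ _ _ h1 h2
  exact fibre_step A B' B hf hs p B'₁ B₁ h1 h2

end Main

end Groth.Agent.H74.QFSyntOmega
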