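import Mathlib

/-!
# Homomorphisms out of the generalised quaternion group
-/

namespace Groth.Agent.H74

open QuaternionGroup

section

variable {G : Type*} [Group G] {n : ℕ} [NeZero n]

/-- `σ ^ i` for `i : ZMod (2n)` -/
def zpw (σ : G) (i : ZMod (2 * n)) : G := σ ^ i.val

lemma zpw_add {σ : G} (h : σ ^ (2 * n) = 1) (i j : ZMod (2 * n)) :
    zpw σ (i + j) = zpw σ i * zpw σ j := by
  unfold zpw
  rw [ZMod.val_add, ← pow_add, ← pow_eq_pow_mod _ h]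

lemma zpw_zero (σ : G) : zpw σ (0 : ZMod (2 * n)) = 1 := by
  unfold zpw; simp

lemma zpw_sub {σ : G} (h : σ ^ (2 * n) = 1) (i j : ZMod (2 * n)) :
    zpw σ (j - i) = zpw σ j * (zpw σ i)⁻¹ := by
  rw [eq_mul_inv_iff_mul_eq, ← zpw_add h, sub_add_cancel]

lemma zpw_natCast_n (σ : G) : zpw σ ((n : ℕ) : ZMod (2 * n)) = σ ^ n := by
  unfold zpw
  rw [ZMod.val_natCast, Nat.mod_eq_of_lt]
  have := NeZero.pos n
  omega

lemma zpw_comm (σ : G) (i j : ZMod (2 * n)) : zpw σ i * zpw σ j = zpw σ j * zpw σ i := by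
  unfold zpw
  rw [← pow_add, ← pow_add, add_comm]

lemma zpw_mul_tau {σ τ : G} (hrel : τ * σ * τ⁻¹ = σ⁻¹) (i : ZMod (2 * n)) :
    zpw σ i * τ = τ * (zpw σ i)⁻¹ := by
  unfold zpw
  have h1 : τ * σ ^ i.val * τ⁻¹ = (σ ^ i.val)⁻¹ := by
    rw [← conj_pow, hrel, inv_pow]
  have h2 : τ * σ ^ i.val = (σ ^ i.val)⁻¹ * τ := by
    rw [← h1]; group
  calc σ ^ i.val * τ = σ ^ i.val * ((σ ^ i.val)⁻¹ * τ) * (σ ^ i.val)⁻¹ := by rw [← h2]; group
    _ = τ * (σ ^ i.val)⁻¹ := by group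

/-- the map of the quaternion group determined by `σ`, `τ`. -/
def quatFun (σ τ : G) : QuaternionGroup n → G
  | a i => zpw σ i
  | xa i => τ * zpw σ i

/-- The homomorphism of the quaternion group determined by elements `σ`, `τ` satisfying
the relations. -/
noncomputable def quatHom (σ τ : G) (h : σ ^ (2 * n) = 1) (hτ : τ * τ = σ ^ n)
    (hrel : τ * σ * τ⁻¹ = σ⁻¹) : QuaternionGroup n →* G :=
  MonoidHom.mk' (quatFun σ τ) (by
    rintro (i | i) (j | j)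
    · simp only [a_mul_a, quatFun, zpw_add h]
    · simp only [a_mul_xa, quatFun, zpw_sub h]
      have hc : (zpw σ i)⁻¹ * zpw σ j = zpw σ j * (zpw σ i)⁻¹ := by
        rw [inv_mul_eq_iff_eq_mul, ← mul_assoc, zpw_comm σ i j, mul_assoc, mul_inv_cancel, mul_one]
      rw [← mul_assoc (zpw σ i), zpw_mul_tau hrel, mul_assoc, hc]
    · simp only [xa_mul_a, quatFun, zpw_add h, mul_assoc]
    · simp only [xa_mul_xa, quatFun]
      have hc : (zpw σ i)⁻¹ * zpw σ j = zpw σ j * (zpw σ i)⁻¹ := by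
        rw [inv_mul_eq_iff_eq_mul, ← mul_assoc, zpw_comm σ i j, mul_assoc, mul_inv_cancel, mul_one]
      rw [zpw_sub h, zpw_add h, zpw_natCast_n, ← hτ]
      calc τ * τ * zpw σ j * (zpw σ i)⁻¹ = τ * (τ * (zpw σ i)⁻¹) * zpw σ j := by
            rw [mul_assoc (τ * τ), ← hc]; group
        _ = τ * zpw σ i * (τ * zpw σ j) := by
            rw [← zpw_mul_tau hrel]; group)

@[simp] lemma quatHom_a (σ τ : G) (h : σ ^ (2 * n) = 1) (hτ : τ * τ = σ ^ n)
    (hrel : τ * σ * τ⁻¹ = σ⁻¹) (i : ZMod (2 * n)) :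
    quatHom σ τ h hτ hrel (a i) = σ ^ i.val := rfl

@[simp] lemma quatHom_xa (σ τ : G) (h : σ ^ (2 * n) = 1) (hτ : τ * τ = σ ^ n)
    (hrel : τ * σ * τ⁻¹ = σ⁻¹) (i : ZMod (2 * n)) :
    quatHom σ τ h hτ hrel (xa i) = τ * σ ^ i.val := rfl

end

end Groth.Agent.H74
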