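import Groth.Agent.H74.QuietTower
import Groth.Agent.H74.PthRootBC
import Groth.Prelude.Def_Frob
import Mathlib.AlgebraicGeometry.Morphisms.Etale

set_option autoImplicit false
universe u

/-!
# Composition of quasi-étale morphisms: the affine core
-/

namespace Groth.Agent.H74.QuietComp

open CategoryTheory CategoryTheory.Limits AlgebraicGeometry Quiet
open Groth.Agent.H74.RootTower Groth.Agent.H74.QuietTower

/-- Root towers on sections restrict along base change to any smaller affine open. -/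
theorem isRootTowerHom_app_of_isPullback (p : ℕ) {X Y X' Y' : Scheme.{u}} (f : Y ⟶ X) (g : X' ⟶ X)
    (f' : Y' ⟶ X') (g' : Y' ⟶ Y) (H : IsPullback g' f' f g) {U : X.Opens} (hU : IsAffineOpen U)
    (hfU : IsAffineOpen (f ⁻¹ᵁ U)) {n : ℕ} (hn : IsRootTowerHom p n (f.app U).hom)
    {U' : X'.Opens} (hU' : IsAffineOpen U') (hle : U' ≤ g ⁻¹ᵁ U) :
    IsAffineOpen (f' ⁻¹ᵁ U') ∧ IsRootTowerHom p n (f'.app U').hom := by
  have hUSX : f ⁻¹ᵁ U ≤ f ⁻¹ᵁ U := le_rfl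
  have hUY : f' ⁻¹ᵁ U' = g' ⁻¹ᵁ (f ⁻¹ᵁ U) ⊓ f' ⁻¹ᵁ U' := by
    refine (inf_eq_right.2 ?_).symm
    have h1 : f' ⁻¹ᵁ U' ≤ f' ⁻¹ᵁ (g ⁻¹ᵁ U) := f'.preimage_mono hle
    rwa [← Scheme.Hom.comp_preimage, ← H.w, Scheme.Hom.comp_preimage] at h1
  have hiso := isIso_pushoutSection_of_isAffineOpen H hle hUSX hUY hU hU' hfU
  have hpo := (isIso_pushoutSection_iff H hle hUSX hUY).1 hiso
  have hUY' : IsAffineOpen (f' ⁻¹ᵁ U') := by
    have : IsAffine (U : Scheme) := hU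
    have : IsAffine (U' : Scheme) := hU'
    have : IsAffine ((f ⁻¹ᵁ U : Y.Opens) : Scheme) := hfU
    exact .of_isIso (Scheme.Hom.isPullback_resLE H hle hUSX hUY).isoPullback.hom
  refine ⟨hUY', ?_⟩
  have hn' : IsRootTowerHom p n (f.appLE U (f ⁻¹ᵁ U) hUSX).hom := by
    rw [Scheme.Hom.appLE_eq_app]
    exact hn
  have := isRootTowerHom_of_isPushout p n _ _ _ _ hpo hn'
  rwa [Scheme.Hom.appLE_eq_app] at this

/-- The affine core of the composition theorem: a root tower, then an étale map, then a root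
tower (all between affine schemes of characteristic `p`) can be rewritten as a root tower followed
by an étale map. -/
theorem exists_factor_of_affine (p : ℕ) [Fact p.Prime] {TA TB TC TD : Scheme.{u}} [IsAffine TA]
    [IsAffine TB] [IsAffine TC] [IsAffine TD] (m₁ : TB ⟶ TA) (m₂ : TC ⟶ TB) (m₃ : TD ⟶ TC)
    [FrobSch.IsCharP TA p] [Nonempty TC] [Etale m₂] {n₁ n₂ : ℕ}
    (h₁ : IsRootTowerHom p n₂ m₁.appTop.hom) (h₃ : IsRootTowerHom p n₁ m₃.appTop.hom) :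
    ∃ (T₀ : Scheme.{u}) (ρ : TD ⟶ T₀) (ε : T₀ ⟶ TA),
      IsPthRoot p ρ ∧ Etale ε ∧ ρ ≫ ε = m₃ ≫ m₂ ≫ m₁ := by
  have hb : m₂.appTop.hom.Etale :=
    (HasRingHomProperty.iff_of_isAffine (P := @Etale) (f := m₂)).1 inferInstance
  have hp : ((p : ℕ) : Γ(TA, ⊤)) = 0 := FrobSch.IsCharP.natCast_eq_zero
  have hne : Nonempty (⊤ : TC.Opens) := by
    obtain ⟨x⟩ := (inferInstance : Nonempty TC)
    exact ⟨⟨x, trivial⟩⟩
  have hnt : Nontrivial Γ(TC, ⊤) := Scheme.component_nontrivial TC ⊤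
  obtain ⟨E₀, α, γ, hα, H⟩ := exists_isPushout_etale p n₂ m₁.appTop m₂.appTop hp hnt h₁ hb
  have hγ : IsRootTowerHom p n₂ γ.hom := isRootTowerHom_of_isPushout p n₂ _ _ _ _ H h₁
  have hγc : IsRootTowerHom p (n₂ + n₁) (γ ≫ m₃.appTop).hom :=
    isRootTowerHom_comp p n₂ n₁ γ.hom m₃.appTop.hom hγ h₃
  refine ⟨Spec E₀, TD.isoSpec.hom ≫ Spec.map (γ ≫ m₃.appTop), Spec.map α ≫ TA.isoSpec.inv,
    ?_, ?_, ?_⟩
  · intro x
    refine ⟨⟨⊤, isAffineOpen_top _⟩, trivial, isAffineOpen_top TD, n₂ + n₁, ?_⟩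
    change IsRootTowerHom p (n₂ + n₁) (TD.isoSpec.hom ≫ Spec.map (γ ≫ m₃.appTop)).appTop.hom
    have key : (TD.isoSpec.hom ≫ Spec.map (γ ≫ m₃.appTop)).appTop =
        (Scheme.ΓSpecIso E₀).hom ≫ (γ ≫ m₃.appTop) := by
      rw [Scheme.Hom.comp_appTop]
      have h1 : TD.isoSpec.hom.appTop = (Scheme.ΓSpecIso Γ(TD, ⊤)).hom := Scheme.toSpecΓ_appTop TD
      rw [h1, Scheme.ΓSpecIso_naturality]
    rw [key]
    exact isRootTowerHom_comp_of_bijective_left p (n₂ + n₁) (Scheme.ΓSpecIso E₀).hom.hom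
      (γ ≫ m₃.appTop).hom (ConcreteCategory.bijective_of_isIso (Scheme.ΓSpecIso E₀).hom) hγc
  · have : Etale (Spec.map α) := (HasRingHomProperty.Spec_iff (P := @Etale)).2 hα
    infer_instance
  · rw [Category.assoc, ← Spec.map_comp_assoc, ← Category.assoc α, ← H.w, Category.assoc,
      Spec.map_comp, Spec.map_comp, Category.assoc, Category.assoc,
      Scheme.isoSpec_hom_naturality_assoc, Scheme.isoSpec_hom_naturality_assoc,
      Scheme.isoSpec_hom_naturality_assoc, Iso.hom_inv_id, Category.comp_id]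

end Groth.Agent.H74.QuietComp
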