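import Groth.Agent.H74.QuietComp
import Groth.Prelude.Def_W4c2gaugesfzipsQuiet

set_option autoImplicit false
universe u

/-!
# Quasi-étale morphisms compose (characteristic `p`)
-/

namespace Groth.Agent.H74.QuietComp

open CategoryTheory CategoryTheory.Limits AlgebraicGeometry Quiet
open Groth.Agent.H74.RootTower Groth.Agent.H74.QuietTower

theorem isRootTowerHom_app_congr (p n : ℕ) {X Y : Scheme.{u}} (f : X ⟶ Y) {U U' : Y.Opens}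
    (h : U = U') (hn : IsRootTowerHom p n (f.app U).hom) : IsRootTowerHom p n (f.app U').hom := by
  subst h
  exact hn

theorem isRootTowerHom_morphismRestrict_appTop (p n : ℕ) {X Y : Scheme.{u}} (f : X ⟶ Y)
    (U : Y.Opens) (hn : IsRootTowerHom p n (f.app U).hom) :
    IsRootTowerHom p n (f ∣_ U).appTop.hom := by
  rw [morphismRestrict_appTop]
  have h1 : IsRootTowerHom p n (f.app (U.ι ''ᵁ ⊤)).hom :=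
    isRootTowerHom_app_congr p n f U.ι_image_top.symm hn
  exact isRootTowerHom_comp_of_bijective_right p n _ _ h1
    (ConcreteCategory.bijective_of_isIso
      (X.presheaf.map (eqToHom (image_morphismRestrict_preimage f U ⊤)).op))

/-- Precomposing an extraction of `p`-th roots with an isomorphism. -/
theorem isPthRoot_iso_comp (p : ℕ) {X Y Y' : Scheme.{u}} (i : Y' ⟶ Y) [IsIso i] (f : Y ⟶ X)
    (hf : IsPthRoot p f) : IsPthRoot p (i ≫ f) :=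
  Groth.Agent.H74.PthRootBC.isPthRoot_of_isPullback p f (𝟙 X) (i ≫ f) i
    (IsPullback.of_horiz_isIso ⟨by simp⟩) hf

theorem isQuiet_comp (p : ℕ) [Fact p.Prime] {X Y Z : Scheme.{u}} [FrobSch.IsCharP X p]
    (f : Y ⟶ X) (g : Z ⟶ Y) (hf : Quiet.IsQuiet p f) (hg : Quiet.IsQuiet p g) :
    Quiet.IsQuiet p (g ≫ f) := by
  intro z
  obtain ⟨W, Y', r₁, e₁, hzW, hr₁, he₁, hc₁⟩ := hg z
  obtain ⟨V, X', r₂, e₂, hyV, hr₂, he₂, hc₂⟩ := hf (g z)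
  set w₀ : W := ⟨z, hzW⟩ with hw₀
  set v₀ : V := ⟨g z, hyV⟩ with hv₀
  have hy : e₁ (r₁ w₀) = g z := by
    have h := congrArg (fun φ : (W : Scheme.{u}) ⟶ Y => φ w₀) hc₁
    simpa using h
  obtain ⟨U', hx'U', hU'aff, n₂, hn₂⟩ := hr₂ (r₂ v₀)
  obtain ⟨U₁, hy'U₁, hU₁aff, n₁, hn₁⟩ := hr₁ (r₁ w₀)
  replace hn₂ : IsRootTowerHom p n₂ (r₂.app U'.1).hom := hn₂
  replace hn₁ : IsRootTowerHom p n₁ (r₁.app U₁.1).hom := hn₁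
  -- an affine neighbourhood of `r₁ w₀` inside `U₁` mapping into `r₂⁻¹ U'`
  let O : Y'.Opens := U₁.1 ⊓ e₁ ⁻¹ᵁ (V.ι ''ᵁ (r₂ ⁻¹ᵁ U'.1))
  have hy'O : r₁ w₀ ∈ O := by
    refine ⟨hy'U₁, ?_⟩
    change e₁ (r₁ w₀) ∈ V.ι ''ᵁ (r₂ ⁻¹ᵁ U'.1)
    rw [hy]
    exact ⟨v₀, hx'U', rfl⟩
  obtain ⟨Y'₁, hY'₁aff, hy'Y'₁, hY'₁le⟩ :
      ∃ Y'₁ : Y'.Opens, IsAffineOpen Y'₁ ∧ r₁ w₀ ∈ Y'₁ ∧ Y'₁ ≤ O := by
    obtain ⟨_, ⟨Y'₁, hY'₁aff, rfl⟩, hy'Y'₁, hY'₁le⟩ :=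
      Y'.isBasis_affineOpens.exists_subset_of_mem_open hy'O O.isOpen
    exact ⟨Y'₁, hY'₁aff, hy'Y'₁, hY'₁le⟩
  have Hid : IsPullback (𝟙 (W : Scheme.{u})) r₁ r₁ (𝟙 Y') := IsPullback.of_horiz_isIso ⟨by simp⟩
  obtain ⟨hDaff, hn₁'⟩ := isRootTowerHom_app_of_isPullback p r₁ (𝟙 Y') r₁ (𝟙 _) Hid U₁.2 hU₁aff
    hn₁ hY'₁aff (by
      intro x hx
      exact (hY'₁le hx).1)
  have : IsAffine (U'.1 : Scheme.{u}) := U'.2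
  have : IsAffine ((r₂ ⁻¹ᵁ U'.1 : V.toScheme.Opens) : Scheme.{u}) := hU'aff
  have : IsAffine (Y'₁ : Scheme.{u}) := hY'₁aff
  have : IsAffine ((r₁ ⁻¹ᵁ Y'₁ : W.toScheme.Opens) : Scheme.{u}) := hDaff
  -- the étale map in the middle
  let j : ((r₂ ⁻¹ᵁ U'.1 : V.toScheme.Opens) : Scheme.{u}) ⟶ Y := (r₂ ⁻¹ᵁ U'.1).ι ≫ V.ι
  have hrange : Set.range (Y'₁.ι ≫ e₁) ⊆ Set.range j := by
    rintro _ ⟨y₁, rfl⟩
    have h1 : (Y'₁.ι y₁) ∈ O := hY'₁le y₁.2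
    obtain ⟨v, hv, hv'⟩ := h1.2
    refine ⟨⟨v, hv⟩, ?_⟩
    simpa [j] using hv'
  let m₂ : (Y'₁ : Scheme.{u}) ⟶ ((r₂ ⁻¹ᵁ U'.1 : V.toScheme.Opens) : Scheme.{u}) :=
    IsOpenImmersion.lift j (Y'₁.ι ≫ e₁) hrange
  have hm₂ : m₂ ≫ j = Y'₁.ι ≫ e₁ := IsOpenImmersion.lift_fac _ _ _
  have hm₂et : Etale m₂ := by
    have h1 : Etale (m₂ ≫ j) := by
      rw [hm₂]
      infer_instance
    exact MorphismProperty.of_postcomp (W := @Etale) (W' := @Etale) m₂ j inferInstance h1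
  have : FrobSch.IsCharP (U'.1 : Scheme.{u}) p := FrobSch.IsCharP.of_hom (U'.1.ι ≫ e₂) p
  have : Nonempty (Y'₁ : Scheme.{u}) := ⟨⟨r₁ w₀, hy'Y'₁⟩⟩
  obtain ⟨T₀, ρ, ε, hρ, hε, hcomm⟩ := exists_factor_of_affine p (r₂ ∣_ U'.1) m₂ (r₁ ∣_ Y'₁)
    (isRootTowerHom_morphismRestrict_appTop p n₂ r₂ U'.1 hn₂)
    (isRootTowerHom_morphismRestrict_appTop p n₁ r₁ Y'₁ hn₁')
  refine ⟨W.ι ''ᵁ (r₁ ⁻¹ᵁ Y'₁), T₀, (W.ι.isoImage (r₁ ⁻¹ᵁ Y'₁)).inv ≫ ρ, ε ≫ U'.1.ι ≫ e₂,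
    ⟨w₀, hy'Y'₁, rfl⟩, isPthRoot_iso_comp p _ ρ hρ, inferInstance, ?_⟩
  rw [Category.assoc, reassoc_of% hcomm, morphismRestrict_ι_assoc, hc₂]
  have h3 : m₂ ≫ (r₂ ⁻¹ᵁ U'.1).ι ≫ V.ι = Y'₁.ι ≫ e₁ := hm₂
  rw [reassoc_of% h3, morphismRestrict_ι_assoc, reassoc_of% hc₁, Scheme.Hom.isoImage_inv_ι_assoc]

end Groth.Agent.H74.QuietComp
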