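import Groth.Agent.H74.RootTower
import Mathlib.Algebra.Category.Ring.Constructions
import Mathlib.CategoryTheory.Limits.Shapes.Pullback.IsPullback.Basic

set_option autoImplicit false
universe u

/-!
# Root towers are stable under base change (pushouts of commutative rings)
-/

namespace Groth.Agent.H74.RootTower

open Polynomial Quiet CategoryTheory CategoryTheory.Limits

/-- `IsRootTower` for a ring homomorphism (no algebra instances). -/
def IsRootTowerHom (p n : ℕ) {A B : Type u} [CommRing A] [CommRing B] (ψ : A →+* B) : Prop :=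
  @IsRootTower p n A B _ _ ψ.toAlgebra

theorem isRootTower_iff_hom (p n : ℕ) (A B : Type u) [CommRing A] [CommRing B]
    [inst : Algebra A B] : IsRootTower p n A B ↔ IsRootTowerHom p n (algebraMap A B) := by
  have : (algebraMap A B).toAlgebra = inst := Algebra.algebra_ext _ _ (fun _ => rfl)
  unfold IsRootTowerHom
  rw [this]

theorem isRootTowerHom_zero_iff (p : ℕ) {A B : Type u} [CommRing A] [CommRing B] (ψ : A →+* B) :
    IsRootTowerHom p 0 ψ ↔ Function.Bijective ψ := by
  unfold IsRootTowerHom
  rw [IsRootTower]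
  let _ := ψ.toAlgebra
  constructor
  · rintro ⟨e⟩
    have h : ∀ a, e (ψ a) = a := fun a => e.commutes a
    have hψ : (ψ : A → B) = e.symm := by
      funext a
      rw [← h a, e.symm_apply_apply, h a]
    rw [hψ]
    exact e.symm.bijective
  · intro hb
    exact ⟨(AlgEquiv.ofBijective (Algebra.ofId A B) hb).symm⟩

theorem isRootTowerHom_succ_iff (p n : ℕ) {A B : Type u} [CommRing A] [CommRing B] (ψ : A →+* B) :
    IsRootTowerHom p (n + 1) ψ ↔ ∃ (a : A) (w : RootRing p A a →+* B),
      w.comp (algebraMap A (RootRing p A a)) = ψ ∧ IsRootTowerHom p n w := by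
  unfold IsRootTowerHom
  rw [IsRootTower]
  let _ := ψ.toAlgebra
  constructor
  · rintro ⟨a, alg, tower, h⟩
    refine ⟨a, algebraMap (RootRing p A a) B, ?_, ?_⟩
    · ext x
      exact (IsScalarTower.algebraMap_apply A (RootRing p A a) B x).symm
    · exact (isRootTower_iff_hom p n (RootRing p A a) B).1 h
  · rintro ⟨a, w, hw, h⟩
    refine ⟨a, w.toAlgebra, ?_, h⟩
    let _ := w.toAlgebra
    exact IsScalarTower.of_algebraMap_eq fun x => (congrArg (fun φ : A →+* B => φ x) hw).symm

/-- Adjoining a root commutes with base change: the square is a pushout of commutative rings. -/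
theorem isPushout_adjoinRoot {A A' : CommRingCat.{u}} (g : A ⟶ A') (q : A[X]) (q' : A'[X])
    (hq : q.map g.hom = q') :
    IsPushout (CommRingCat.ofHom (AdjoinRoot.of q)) g
      (CommRingCat.ofHom (AdjoinRoot.map g.hom q q' (hq ▸ dvd_rfl)))
      (CommRingCat.ofHom (AdjoinRoot.of q')) := by
  subst hq
  have w : CommRingCat.ofHom (AdjoinRoot.of q) ≫
      CommRingCat.ofHom (AdjoinRoot.map g.hom q (q.map g.hom) dvd_rfl) =
      g ≫ CommRingCat.ofHom (AdjoinRoot.of (q.map g.hom)) := by
    ext x
    simp
  refine IsPushout.of_isColimit' ⟨w⟩ ?_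
  have key : ∀ s : PushoutCocone (CommRingCat.ofHom (AdjoinRoot.of q)) g,
      (q.map g.hom).eval₂ s.inr.hom (s.inl.hom (AdjoinRoot.root q)) = 0 := by
    intro s
    have h2 : s.inr.hom.comp g.hom = s.inl.hom.comp (AdjoinRoot.of q) := by
      have := s.condition
      ext x
      have h3 := congrArg (fun k => k.hom x) this
      simpa using h3.symm
    rw [Polynomial.eval₂_map, h2, ← Polynomial.hom_eval₂, AdjoinRoot.eval₂_root, map_zero]
  refine PushoutCocone.IsColimit.mk _
    (fun s => CommRingCat.ofHom
      (AdjoinRoot.lift s.inr.hom (s.inl.hom (AdjoinRoot.root q)) (key s))) ?_ ?_ ?_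
  · intro s
    ext : 1
    apply AdjoinRoot.ringHom_ext
    · ext x
      have h3 := congrArg (fun k => k.hom x) s.condition
      simpa using h3.symm
    · simp
  · intro s
    ext x
    simp
  · intro s m h1 h2
    ext : 1
    apply AdjoinRoot.ringHom_ext
    · ext x
      have h3 := congrArg (fun k => k.hom x) h2
      simpa using h3
    · have h3 := congrArg (fun k => k.hom (AdjoinRoot.root q)) h1
      simpa using h3

/-- Root towers are stable under pushouts. -/
theorem isRootTowerHom_of_isPushout (p : ℕ) : ∀ (n : ℕ) {A B A' B' : CommRingCat.{u}} (f : A ⟶ B)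
    (g : A ⟶ A') (g' : B ⟶ B') (f' : A' ⟶ B'), IsPushout f g g' f' →
    IsRootTowerHom p n f.hom → IsRootTowerHom p n f'.hom
  | 0, A, B, A', B', f, g, g', f', H, h => by
    rw [isRootTowerHom_zero_iff] at h ⊢
    have : IsIso f := by
      rw [ConcreteCategory.isIso_iff_bijective]
      exact h
    have : IsIso f' := H.isIso_inr_of_isIso
    exact ConcreteCategory.bijective_of_isIso f'
  | n + 1, A, B, A', B', f, g, g', f', H, h => by
    rw [isRootTowerHom_succ_iff] at h ⊢
    obtain ⟨a, w, hw, hn⟩ := h
    have hq : (X ^ p - C a : (A : Type u)[X]).map g.hom = X ^ p - C (g.hom a) := by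
      simp
    have t := isPushout_adjoinRoot g (X ^ p - C a) (X ^ p - C (g.hom a)) hq
    set u : A ⟶ CommRingCat.of (RootRing p A a) := CommRingCat.ofHom (AdjoinRoot.of _) with hu
    set u' : A' ⟶ CommRingCat.of (RootRing p A' (g.hom a)) :=
      CommRingCat.ofHom (AdjoinRoot.of _) with hu'
    set hh : CommRingCat.of (RootRing p A a) ⟶ CommRingCat.of (RootRing p A' (g.hom a)) :=
      CommRingCat.ofHom (AdjoinRoot.map g.hom _ _ (hq ▸ dvd_rfl)) with hhh
    let wc : CommRingCat.of (RootRing p A a) ⟶ B := CommRingCat.ofHom w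
    have huw : u ≫ wc = f := by
      ext x
      exact congrArg (fun φ : (A : Type u) →+* B => φ x) hw
    have hcond : u ≫ (wc ≫ g') = g ≫ f' := by
      rw [← Category.assoc, huw, H.w]
    let w' : CommRingCat.of (RootRing p A' (g.hom a)) ⟶ B' := t.desc (wc ≫ g') f' hcond
    have h1 : hh ≫ w' = wc ≫ g' := t.inl_desc _ _ _
    have h2 : u' ≫ w' = f' := t.inr_desc _ _ _
    have H' : IsPushout (u ≫ wc) g g' (u' ≫ w') := by
      rw [huw, h2]
      exact H
    have Hr : IsPushout wc hh g' w' := H'.of_left h1.symm t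
    refine ⟨g.hom a, w'.hom, ?_, isRootTowerHom_of_isPushout p n wc hh g' w' Hr hn⟩
    ext x
    exact congrArg (fun k => k.hom x) h2

end Groth.Agent.H74.RootTower
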