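import Groth.Agent.H74.FinSyntPres
import Groth.Agent.H74.RootTowerBC
import Groth.Agent.S2846
import Groth.Agent.H39.FlatSmoothSynt
import Groth.Agent.H47.Synt.Scheme

set_option autoImplicit false
universe u

/-!
# Quasi-étale morphisms are syntomic
-/

namespace Groth.Agent.H74.QuietSynt

open CategoryTheory CategoryTheory.Limits AlgebraicGeometry Quiet Polynomial
open Groth.Agent.H74.RootTower Groth.Agent.H47.Synt

theorem isSyntomicMor_comp {X Y Z : Scheme.{u}} (f : X ⟶ Y) (g : Y ⟶ Z)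
    (hf : Synt.IsSyntomicMor f) (hg : Synt.IsSyntomicMor g) : Synt.IsSyntomicMor (f ≫ g) :=
  (Groth.Agent.H47.CI.isCIMorphism_iff_isSyntomicMor (f ≫ g)).mp
    (Groth.Agent.S2846.result f g
      ((Groth.Agent.H47.CI.isCIMorphism_iff_isSyntomicMor f).mpr hf)
      ((Groth.Agent.H47.CI.isCIMorphism_iff_isSyntomicMor g).mpr hg))

theorem isSyntomicMor_of_etale {X Y : Scheme.{u}} (e : Y ⟶ X) [Etale e] :
    Synt.IsSyntomicMor e :=
  Groth.Agent.H39.FlatSmoothSynt.isSyntomicMor_of_flat_of_smooth_over e (𝟙 X) e (by simp)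

/-- `A[x]/(x^p - a)` is a syntomic `A`-algebra. -/
theorem isSyntomic_rootRing (p : ℕ) (hp : 0 < p) (A : Type u) [CommRing A] (a : A) :
    Synt.IsSyntomic A (RootRing p A a) := by
  have hmonic : (X ^ p - C a : A[X]).Monic := monic_X_pow_sub_C a hp.ne'
  have : Module.Finite A (RootRing p A a) := hmonic.finite_adjoinRoot
  let F : Fin 1 → MvPolynomial (Fin 1) A := fun _ => MvPolynomial.X 0 ^ p - MvPolynomial.C a
  let ε := MvPolynomial.uniqueAlgEquiv A (Fin 1)
  have hε : Ideal.span {(X ^ p - C a : A[X])} =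
      (Ideal.span (Set.range F)).map (ε : MvPolynomial (Fin 1) A →+* A[X]) := by
    have hrange : Set.range F = {MvPolynomial.X 0 ^ p - MvPolynomial.C a} := by
      ext z
      simp [F]
    have hεq : (ε : MvPolynomial (Fin 1) A →+* A[X]) (MvPolynomial.X 0 ^ p - MvPolynomial.C a) =
        X ^ p - C a := by
      simp [ε]
    rw [hrange, Ideal.map_span, Set.image_singleton, hεq]
  let e : Synt.RelGCIRing A 1 1 F ≃ₐ[A] RootRing p A a :=
    Ideal.quotientEquivAlg (Ideal.span (Set.range F)) (Ideal.span {(X ^ p - C a : A[X])}) ε hε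
  exact Groth.Agent.H74.FinSyntPres.isSyntomic_of_equiv 1 F e.symm

theorem isSyntomicMor_specMap_of_isRootTowerHom (p : ℕ) (hp : 0 < p) :
    ∀ (n : ℕ) {A B : CommRingCat.{u}} (φ : A ⟶ B), IsRootTowerHom p n φ.hom →
      Synt.IsSyntomicMor (Spec.map φ)
  | 0, A, B, φ, h => by
    rw [isRootTowerHom_zero_iff] at h
    have : IsIso φ := by
      rw [ConcreteCategory.isIso_iff_bijective]
      exact h
    exact isSyntomicMor_of_etale _
  | n + 1, A, B, φ, h => by
    rw [isRootTowerHom_succ_iff] at h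
    obtain ⟨a, w, hw, hn⟩ := h
    have hφ : φ = CommRingCat.ofHom (AdjoinRoot.of (X ^ p - C a : (A : Type u)[X])) ≫
        CommRingCat.ofHom w := by
      refine CommRingCat.hom_ext ?_
      exact hw.symm
    rw [hφ, Spec.map_comp]
    refine isSyntomicMor_comp _ _ (isSyntomicMor_specMap_of_isRootTowerHom p hp n _ hn) ?_
    rw [isSyntomicMor_iff, HasRingHomProperty.Spec_iff (P := SyntMor)]
    exact syntHom_algebraMap_iff.2 (isSyntomic_rootRing p hp A a)

theorem isSyntomicMor_of_isPthRoot (p : ℕ) (hp : 0 < p) {X Y : Scheme.{u}} (r : Y ⟶ X)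
    (hr : IsPthRoot p r) : Synt.IsSyntomicMor r := by
  rw [isSyntomicMor_iff,
    HasRingHomProperty.iff_exists_appLE (P := SyntMor)
      syntHom_stableUnderCompositionWithLocalizationAwaySource]
  intro y
  obtain ⟨U, hyU, hUaff, n, hn⟩ := hr (r y)
  replace hn : IsRootTowerHom p n (r.app U.1).hom := hn
  refine ⟨U, ⟨r ⁻¹ᵁ U.1, hUaff⟩, hyU, le_rfl, ?_⟩
  rw [Scheme.Hom.appLE_eq_app]
  have h1 := isSyntomicMor_specMap_of_isRootTowerHom p hp n (r.app U.1) hn
  rwa [isSyntomicMor_iff, HasRingHomProperty.Spec_iff (P := SyntMor)] at h1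

theorem isSyntomicMor_of_isQuiet (p : ℕ) (hp : 0 < p) {X Y : Scheme.{u}} (f : Y ⟶ X)
    (hf : Quiet.IsQuiet p f) : Synt.IsSyntomicMor f := by
  choose V Y' r e hyV hr he hc using hf
  rw [isSyntomicMor_iff]
  refine IsZariskiLocalAtSource.of_iSup_eq_top (P := SyntMor) V ?_ ?_
  · rw [eq_top_iff]
    intro y _
    exact TopologicalSpace.Opens.mem_iSup.2 ⟨y, hyV y⟩
  · intro y
    rw [← hc y, ← isSyntomicMor_iff]
    have := he y
    exact isSyntomicMor_comp _ _ (isSyntomicMor_of_isPthRoot p hp _ (hr y))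
      (isSyntomicMor_of_etale _)

end Groth.Agent.H74.QuietSynt
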