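import Groth.Agent.H74.QuietCompMain
import Groth.Agent.H87.EtThickD
import Mathlib.AlgebraicGeometry.Morphisms.ClosedImmersion

set_option autoImplicit false
universe u

/-!
# Quasi-étale morphisms lift along thickenings
-/

namespace Groth.Agent.H74.QuietThick

open CategoryTheory CategoryTheory.Limits AlgebraicGeometry Quiet Polynomial
open Groth.Agent.H74.RootTower Groth.Agent.H74.QuietTower Groth.Agent.H74.QuietComp

theorem adjoinRoot_map_surjective {R S : Type u} [CommRing R] [CommRing S] (f : R →+* S)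
    (hf : Function.Surjective f) (q : R[X]) (q' : S[X]) (h : q' ∣ q.map f) :
    Function.Surjective (AdjoinRoot.map f q q' h) := by
  intro x
  obtain ⟨P, rfl⟩ := AdjoinRoot.mk_surjective x
  obtain ⟨P', rfl⟩ := Polynomial.map_surjective f hf P
  refine ⟨AdjoinRoot.mk q P', ?_⟩
  rw [AdjoinRoot.map, AdjoinRoot.lift_mk, ← Polynomial.eval₂_map, ← AdjoinRoot.aeval_eq,
    Polynomial.aeval_def]
  rfl

/-- Root towers lift along surjections. -/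
theorem exists_lift_tower (p : ℕ) : ∀ (n : ℕ) {R R' D' : CommRingCat.{u}} (π : R ⟶ R')
    (c : R' ⟶ D'), Function.Surjective π.hom → IsRootTowerHom p n c.hom →
    ∃ (D : CommRingCat.{u}) (c' : R ⟶ D) (π' : D ⟶ D'),
      IsRootTowerHom p n c'.hom ∧ IsPushout π c' c π'
  | 0, R, R', D', π, c, _, hc => by
    rw [isRootTowerHom_zero_iff] at hc
    have hiso : IsIso c := by
      rw [ConcreteCategory.isIso_iff_bijective]
      exact hc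
    refine ⟨R, 𝟙 R, π ≫ c, ?_, IsPushout.of_vert_isIso ⟨by simp⟩⟩
    rw [isRootTowerHom_zero_iff]
    exact Function.bijective_id
  | n + 1, R, R', D', π, c, hπ, hc => by
    rw [isRootTowerHom_succ_iff] at hc
    obtain ⟨a', w, hw, hn⟩ := hc
    obtain ⟨a, rfl⟩ := hπ a'
    have hq : (X ^ p - C a : (R : Type u)[X]).map π.hom = X ^ p - C (π.hom a) := by
      simp
    have hdvd : (X ^ p - C (π.hom a) : (R' : Type u)[X]) ∣
        (X ^ p - C a : (R : Type u)[X]).map π.hom := hq ▸ dvd_rfl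
    let π₁ : CommRingCat.of (RootRing p R a) ⟶ CommRingCat.of (RootRing p R' (π.hom a)) :=
      CommRingCat.ofHom (AdjoinRoot.map π.hom _ _ hdvd)
    have t : IsPushout (CommRingCat.ofHom (AdjoinRoot.of (X ^ p - C a))) π π₁
        (CommRingCat.ofHom (AdjoinRoot.of (X ^ p - C (π.hom a)))) :=
      isPushout_adjoinRoot π (X ^ p - C a) (X ^ p - C (π.hom a)) hq
    have hπ₁ : Function.Surjective π₁.hom := adjoinRoot_map_surjective π.hom hπ _ _ hdvd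
    obtain ⟨D, c₁, π', hc₁, H⟩ := exists_lift_tower p n π₁ (CommRingCat.ofHom w) hπ₁ hn
    refine ⟨D, CommRingCat.ofHom (AdjoinRoot.of (X ^ p - C a)) ≫ c₁, π', ?_, ?_⟩
    · rw [isRootTowerHom_succ_iff]
      exact ⟨a, c₁.hom, rfl, hc₁⟩
    · have hc' : CommRingCat.ofHom (AdjoinRoot.of (X ^ p - C (π.hom a))) ≫ CommRingCat.ofHom w =
          c := by
        refine CommRingCat.hom_ext ?_
        exact hw
      rw [← hc']
      exact t.flip.paste_vert H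

/-- The spectrum of a root tower is an extraction of `p`-th roots. -/
theorem isPthRoot_specMap (p n : ℕ) {A B : CommRingCat.{u}} (φ : A ⟶ B)
    (hφ : IsRootTowerHom p n φ.hom) : IsPthRoot p (Spec.map φ) := by
  intro x
  refine ⟨⟨⊤, isAffineOpen_top _⟩, trivial, isAffineOpen_top (Spec B), n, ?_⟩
  change IsRootTowerHom p n (Spec.map φ).appTop.hom
  have key : (Spec.map φ).appTop = (Scheme.ΓSpecIso A).hom ≫ φ ≫ (Scheme.ΓSpecIso B).inv := by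
    rw [← Category.assoc, ← Scheme.ΓSpecIso_naturality, Category.assoc, Iso.hom_inv_id,
      Category.comp_id]
  rw [key]
  refine isRootTowerHom_comp_of_bijective_left p n (Scheme.ΓSpecIso A).hom.hom _
    (ConcreteCategory.bijective_of_isIso (Scheme.ΓSpecIso A).hom) ?_
  exact isRootTowerHom_comp_of_bijective_right p n φ.hom (Scheme.ΓSpecIso B).inv.hom hφ
    (ConcreteCategory.bijective_of_isIso (Scheme.ΓSpecIso B).inv)

theorem exists_isQuiet_isPullback_of_thickening (p : ℕ) {T U U' : Scheme.{u}}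
    (i : U ⟶ T) [IsClosedImmersion i] [Surjective i] (f' : U' ⟶ U)
    (hf' : Quiet.IsQuiet p f') (u : U') :
    ∃ (V : U'.Opens) (T' : Scheme.{u}) (q : T' ⟶ T) (j : (V : Scheme.{u}) ⟶ T'),
      u ∈ V ∧ Quiet.IsQuiet p q ∧ IsPullback j (V.ι ≫ f') q i := by
  obtain ⟨V₀, Y', r, e, huV₀, hr, he, hc⟩ := hf' u
  obtain ⟨Yt, h, j₀, hh, Hpb⟩ := Groth.Agent.H87.EtThick.exists_etale_lift i e
  have hj₀cl : IsClosedImmersion j₀ :=
    MorphismProperty.of_isPullback (P := @IsClosedImmersion) Hpb.flip inferInstance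
  have hj₀s : Surjective j₀ :=
    MorphismProperty.of_isPullback (P := @Surjective) Hpb.flip inferInstance
  set u₀ : V₀ := ⟨u, huV₀⟩ with hu₀
  obtain ⟨Y'₀, hy'Y'₀, hY'₀aff, n, hn⟩ := hr (r u₀)
  replace hn : IsRootTowerHom p n (r.app Y'₀.1).hom := hn
  have hhomeo : IsHomeomorph j₀ :=
    isHomeomorph_iff_isEmbedding_surjective.mpr ⟨j₀.isClosedEmbedding.isEmbedding, j₀.surjective⟩
  let O : Yt.Opens := ⟨j₀ '' Y'₀.1, hhomeo.isOpenMap _ Y'₀.1.isOpen⟩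
  have hO : j₀ (r u₀) ∈ O := ⟨_, hy'Y'₀, rfl⟩
  obtain ⟨Yt₁, hYt₁aff, hyYt₁, hYt₁le⟩ :
      ∃ Yt₁ : Yt.Opens, IsAffineOpen Yt₁ ∧ j₀ (r u₀) ∈ Yt₁ ∧ Yt₁ ≤ O := by
    obtain ⟨_, ⟨Yt₁, hYt₁aff, rfl⟩, hy, hle⟩ :=
      Yt.isBasis_affineOpens.exists_subset_of_mem_open hO O.isOpen
    exact ⟨Yt₁, hYt₁aff, hy, hle⟩
  have hY'₁aff : IsAffineOpen (j₀ ⁻¹ᵁ Yt₁) := hYt₁aff.preimage j₀
  have hY'₁le : j₀ ⁻¹ᵁ Yt₁ ≤ Y'₀.1 := by
    intro y hy
    obtain ⟨y₀, hy₀, hy₀'⟩ := hYt₁le hy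
    have : y₀ = y := j₀.isClosedEmbedding.injective hy₀'
    exact this ▸ hy₀
  have Hid : IsPullback (𝟙 (V₀ : Scheme.{u})) r r (𝟙 Y') := IsPullback.of_horiz_isIso ⟨by simp⟩
  obtain ⟨hDaff, hn'⟩ := isRootTowerHom_app_of_isPullback p r (𝟙 Y') r (𝟙 _) Hid Y'₀.2 hY'₀aff
    hn hY'₁aff (by
      intro x hx
      exact hY'₁le hx)
  have hπ : Function.Surjective (j₀.app Yt₁).hom := j₀.app_surjective Yt₁ hYt₁aff
  obtain ⟨D, c', π', hc', H⟩ := exists_lift_tower p n (j₀.app Yt₁) (r.app (j₀ ⁻¹ᵁ Yt₁)) hπ hn'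
  have S1 := isPullback_SpecMap_of_isPushout c' (j₀.app Yt₁) π' (r.app (j₀ ⁻¹ᵁ Yt₁)) H.flip
  have S2 : IsPullback (Spec.map (j₀.app Yt₁)) hY'₁aff.fromSpec hYt₁aff.fromSpec j₀ := by
    refine IsOpenImmersion.isPullback _ _ _ _ ?_ ?_
    · have := IsAffineOpen.SpecMap_appLE_fromSpec j₀ hYt₁aff hY'₁aff le_rfl
      rw [Scheme.Hom.appLE_eq_app] at this
      exact this.symm
    · rw [IsAffineOpen.opensRange_fromSpec, IsAffineOpen.opensRange_fromSpec]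
  have S123 := (S1.paste_vert S2).paste_vert Hpb
  let ψ : ((V₀.ι ''ᵁ (r ⁻¹ᵁ (j₀ ⁻¹ᵁ Yt₁)) : U'.Opens) : Scheme.{u}) ⟶
      Spec Γ((V₀ : Scheme.{u}), r ⁻¹ᵁ (j₀ ⁻¹ᵁ Yt₁)) :=
    (V₀.ι.isoImage (r ⁻¹ᵁ (j₀ ⁻¹ᵁ Yt₁))).inv ≫ hDaff.isoSpec.hom
  have hleft : ψ ≫ (Spec.map (r.app (j₀ ⁻¹ᵁ Yt₁)) ≫ hY'₁aff.fromSpec) ≫ e =
      (V₀.ι ''ᵁ (r ⁻¹ᵁ (j₀ ⁻¹ᵁ Yt₁))).ι ≫ f' := by
    have h1 := IsAffineOpen.SpecMap_appLE_fromSpec r hY'₁aff hDaff le_rfl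
    rw [Scheme.Hom.appLE_eq_app] at h1
    rw [h1]
    simp only [ψ, Category.assoc]
    rw [IsAffineOpen.isoSpec_hom_fromSpec_assoc, hc, Scheme.Hom.isoImage_inv_ι_assoc]
  refine ⟨V₀.ι ''ᵁ (r ⁻¹ᵁ (j₀ ⁻¹ᵁ Yt₁)), Spec D, (Spec.map c' ≫ hYt₁aff.fromSpec) ≫ h,
    ψ ≫ Spec.map π', ⟨u₀, hyYt₁, rfl⟩, ?_, ?_⟩
  · intro t
    have : IsIso (⊤ : (Spec D).Opens).ι := (inferInstance : IsIso (Spec D).topIso.hom)
    refine ⟨⊤, Spec Γ(Yt, Yt₁), (⊤ : (Spec D).Opens).ι ≫ Spec.map c', hYt₁aff.fromSpec ≫ h,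
      trivial, isPthRoot_iso_comp p _ _ (isPthRoot_specMap p n c' hc'), inferInstance, ?_⟩
    simp
  · have hsq : IsPullback ψ ((V₀.ι ''ᵁ (r ⁻¹ᵁ (j₀ ⁻¹ᵁ Yt₁))).ι ≫ f')
        ((Spec.map (r.app (j₀ ⁻¹ᵁ Yt₁)) ≫ hY'₁aff.fromSpec) ≫ e) (𝟙 U) :=
      IsPullback.of_horiz_isIso ⟨by rw [hleft, Category.comp_id]⟩
    have := hsq.paste_horiz S123
    rwa [Category.id_comp] at this

end Groth.Agent.H74.QuietThick
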