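import Groth.Prelude.Def_FrobAlg
import Mathlib.RingTheory.Etale.Basic
import Mathlib.RingTheory.Unramified.Finite
import Mathlib.RingTheory.Flat.FaithfullyFlat.Descent
import Mathlib.RingTheory.Flat.FaithfullyFlat.Algebra
import Mathlib.RingTheory.Spectrum.Prime.Homeomorph
import Mathlib.RingTheory.Kaehler.Basic
import Mathlib.RingTheory.Smooth.Flat
import Mathlib.RingTheory.RingHom.Etale

set_option autoImplicit false
universe u v

namespace Groth.Agent.H74.RelFrobAlg

open FrobAlg TensorProduct

section Basic

variable (p : ℕ) [Fact p.Prime] (A : Type u) [CommRing A] [CharP A p] (B : Type v) [CommRing B]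
  [Algebra A B] [CharP B p]

theorem relFrob_tmul (b : B) (a : Twist p A) :
    relFrob p A B (b ⊗ₜ[A] a) = b ^ p * algebraMap A B ((toTwist p A).symm a) := by
  simp only [relFrob, RingHom.coe_comp, Function.comp_apply, AlgHom.toRingHom_eq_coe,
    RingHom.coe_coe, Algebra.TensorProduct.lift_tmul]
  rfl

theorem relFrob_tmul_one (b : B) : relFrob p A B (b ⊗ₜ[A] 1) = b ^ p := by
  rw [relFrob_tmul]
  have : (toTwist p A).symm (1 : Twist p A) = 1 := map_one _
  rw [this, map_one, mul_one]

theorem natCast_baseChange_eq_zero : ((p : ℕ) : BaseChange p A B) = 0 := by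
  have h := map_natCast (Algebra.TensorProduct.includeLeftRingHom : B →+* B ⊗[A] Twist p A) p
  rw [← h, CharP.cast_eq_zero, map_zero]

theorem nontrivial_baseChange : Nontrivial (BaseChange p A B) := by
  have : Nontrivial B := CharP.nontrivial_of_char_ne_one (R := B) (Fact.out : p.Prime).ne_one
  exact (relFrob p A B).domain_nontrivial

theorem charP_baseChange : CharP (BaseChange p A B) p := by
  have := nontrivial_baseChange p A B
  exact (CharP.charP_iff_prime_eq_zero (Fact.out : p.Prime)).2 (natCast_baseChange_eq_zero p A B)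

/-- `x ^ p = relFrob x ⊗ 1` in the Frobenius twist. -/
theorem pow_p_eq (x : BaseChange p A B) : x ^ p = (relFrob p A B x) ⊗ₜ[A] (1 : Twist p A) := by
  have := charP_baseChange p A B
  induction x using TensorProduct.induction_on with
  | zero => rw [zero_pow (Fact.out : p.Prime).ne_zero, map_zero, TensorProduct.zero_tmul]
  | tmul b a =>
    rw [Algebra.TensorProduct.tmul_pow, relFrob_tmul]
    have h1 : a ^ p = ((toTwist p A).symm a) • (1 : Twist p A) := by
      rw [Algebra.smul_def, mul_one, algebraMap_twist, map_pow, RingEquiv.apply_symm_apply]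
    rw [h1, TensorProduct.tmul_smul, TensorProduct.smul_tmul', Algebra.smul_def, mul_comm]
  | add x y hx hy => rw [add_pow_char, hx, hy, map_add, TensorProduct.add_tmul]

end Basic

section Radicial

variable {C : Type u} {B : Type v} [CommRing C] [CommRing B] [Algebra C B]

theorem ker_lmul'_le_of_radicial
    (hext : ∀ (L : Type v) [Field L] (α β : B →+* L),
      α.comp (algebraMap C B) = β.comp (algebraMap C B) → α = β)
    (P : Ideal (B ⊗[C] B)) [P.IsPrime] :
    RingHom.ker (Algebra.TensorProduct.lmul' C (S := B)).toRingHom ≤ P := by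
  let L := P.ResidueField
  let π : B ⊗[C] B →+* L := algebraMap _ L
  have hαβ : π.comp (Algebra.TensorProduct.includeLeftRingHom) =
      π.comp (Algebra.TensorProduct.includeRight : B →ₐ[C] B ⊗[C] B).toRingHom := by
    apply hext
    ext c
    simp only [RingHom.comp_apply, Algebra.TensorProduct.includeLeftRingHom_apply,
      AlgHom.toRingHom_eq_coe, RingHom.coe_coe, Algebra.TensorProduct.includeRight_apply]
    congr 1
    rw [Algebra.algebraMap_eq_smul_one, TensorProduct.smul_tmul]
  have h1 : RingHom.ker (Algebra.TensorProduct.lmul' C (S := B)).toRingHom =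
      KaehlerDifferential.ideal C B := rfl
  rw [h1, ← KaehlerDifferential.span_range_eq_ideal, Ideal.span_le]
  rintro _ ⟨s, rfl⟩
  have h2 := RingHom.congr_fun hαβ s
  simp only [RingHom.comp_apply, Algebra.TensorProduct.includeLeftRingHom_apply,
    AlgHom.toRingHom_eq_coe, RingHom.coe_coe, Algebra.TensorProduct.includeRight_apply] at h2
  show (1 : B) ⊗ₜ[C] s - s ⊗ₜ[C] (1 : B) ∈ P
  rw [← Ideal.algebraMap_residueField_eq_zero, map_sub, sub_eq_zero]
  exact h2.symm

theorem lmul'_injective_of_radicial [Algebra.EssFiniteType C B] [Algebra.FormallyUnramified C B]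
    (hext : ∀ (L : Type v) [Field L] (α β : B →+* L),
      α.comp (algebraMap C B) = β.comp (algebraMap C B) → α = β) :
    Function.Injective (Algebra.TensorProduct.lmul' C (S := B)) := by
  set t := Algebra.FormallyUnramified.elem C B with ht
  have hker : ∀ z ∈ KaehlerDifferential.ideal C B, z * t = 0 := by
    intro z hz
    rw [← KaehlerDifferential.span_range_eq_ideal] at hz
    refine Submodule.span_induction ?_ ?_ ?_ ?_ hz
    · rintro _ ⟨s, rfl⟩
      exact Algebra.FormallyUnramified.one_tmul_sub_tmul_one_mul_elem s
    · rw [zero_mul]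
    · intro x y _ _ hx hy
      rw [add_mul, hx, hy, add_zero]
    · intro a x _ hx
      rw [smul_eq_mul, mul_assoc, hx, mul_zero]
  have hnil : IsNilpotent (1 - t) := by
    rw [← mem_nilradical, nilradical_eq_sInf, Ideal.mem_sInf]
    intro P hP
    have : P.IsPrime := hP
    apply ker_lmul'_le_of_radicial hext P
    rw [RingHom.mem_ker]
    change Algebra.TensorProduct.lmul' C (S := B) (1 - t) = 0
    rw [map_sub, map_one, ht, Algebra.FormallyUnramified.lmul_elem, sub_self]
  have hunit : IsUnit t := by
    have := hnil.isUnit_one_sub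
    rwa [sub_sub_cancel] at this
  rw [injective_iff_map_eq_zero]
  intro z hz
  have hz' : z ∈ KaehlerDifferential.ideal C B := hz
  exact hunit.mul_left_eq_zero.mp (hker z hz')

theorem bijective_of_etale_of_radicial' [Algebra.Etale C B]
    (hs : Function.Surjective (PrimeSpectrum.comap (algebraMap C B)))
    (hext : ∀ (L : Type v) [Field L] (α β : B →+* L),
      α.comp (algebraMap C B) = β.comp (algebraMap C B) → α = β) :
    Function.Bijective (algebraMap C B) := by
  set m : B ⊗[C] B →ₐ[C] B := Algebra.TensorProduct.lmul' C (S := B) with hm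
  have hmi : Function.Injective m := lmul'_injective_of_radicial hext
  have hFlat : Module.Flat C B := inferInstance
  have hFF : Module.FaithfullyFlat C B := Module.FaithfullyFlat.of_comap_surjective hs
  apply Module.FaithfullyFlat.bijective_of_tensorProduct (S := B)
  have hcomp : ∀ b : B, m (algebraMap B (B ⊗[C] B) b) = b := by
    intro b
    simp [hm, Algebra.TensorProduct.algebraMap_apply]
  constructor
  · intro b₁ b₂ h
    rw [← hcomp b₁, ← hcomp b₂, h]
  · intro z
    refine ⟨m z, hmi ?_⟩
    rw [hcomp]

end Radicial

section Cancel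

universe u₁ u₂ u₃

theorem etale_of_comp {R : Type u₁} {A : Type u₂} {B : Type u₃} [CommRing R] [CommRing A]
    [CommRing B] (f : R →+* A) (g : A →+* B)
    (hf : f.Etale) (hgf : (g.comp f).Etale) : g.Etale := by
  algebraize [f, g, g.comp f]
  exact Algebra.Etale.of_restrictScalars R A B

theorem etale_comp {R : Type u₁} {A : Type u₂} {B : Type u₃} [CommRing R] [CommRing A]
    [CommRing B] (f : R →+* A) (g : A →+* B)
    (hf : f.Etale) (hg : g.Etale) : (g.comp f).Etale := by
  algebraize [f, g, g.comp f]
  exact Algebra.Etale.comp R A B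

end Cancel

section Etale

variable (p : ℕ) [Fact p.Prime] (P : Type u) [CommRing P] [CharP P p] (B' : Type v) [CommRing B']
  [Algebra P B'] [CharP B' p]

theorem relFrob_comp_algebraMap_twist :
    (relFrob p P B').comp (algebraMap (Twist p P) (BaseChange p P B')) =
      (algebraMap P B').comp ((toTwist p P).symm : Twist p P →+* P) := by
  ext a
  simp only [RingHom.comp_apply]
  change relFrob p P B' ((1 : B') ⊗ₜ[P] a) = _
  rw [relFrob_tmul, one_pow, one_mul]
  rfl

/-- The relative Frobenius of an étale algebra is bijective. -/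
theorem relFrob_bijective_of_etale [Algebra.Etale P B'] :
    Function.Bijective (relFrob p P B') := by
  have h1 : Algebra.Etale (Twist p P) (BaseChange p P B') :=
    Algebra.Etale.of_equiv (Algebra.TensorProduct.commRight P (Twist p P) B')
  have hg : (algebraMap (Twist p P) (BaseChange p P B')).Etale := RingHom.etale_algebraMap.2 h1
  have hfg : ((relFrob p P B').comp (algebraMap (Twist p P) (BaseChange p P B'))).Etale := by
    rw [relFrob_comp_algebraMap_twist]
    exact etale_comp _ _
      (RingHom.Etale.of_bijective (f := ((toTwist p P).symm : Twist p P →+* P))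
        (toTwist p P).symm.bijective)
      (RingHom.etale_algebraMap.2 (inferInstance : Algebra.Etale P B'))
  have hf : (relFrob p P B').Etale := etale_of_comp _ _ hg hfg
  let algT : Algebra (BaseChange p P B') B' := (relFrob p P B').toAlgebra
  have h3 : Algebra.Etale (BaseChange p P B') B' := hf
  have hpB : ∀ L : Type v, ∀ [Field L], ∀ α : B' →+* L, CharP L p := by
    intro L _ α
    have hpL : (p : L) = 0 := by
      have : (p : L) = α (p : B') := by rw [map_natCast]
      rw [this, CharP.cast_eq_zero, map_zero]
    exact (CharP.charP_iff_prime_eq_zero (Fact.out : p.Prime)).2 hpL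
  apply bijective_of_etale_of_radicial' (C := BaseChange p P B') (B := B')
  · refine (PrimeSpectrum.isHomeomorph_comap (relFrob p P B')
      (fun x => ⟨p, (Fact.out : p.Prime).pos, x ⊗ₜ 1, relFrob_tmul_one p P B' x⟩) ?_).surjective
    intro x hx
    rw [RingHom.mem_ker] at hx
    refine mem_nilradical.2 ⟨p, ?_⟩
    rw [pow_p_eq, hx, TensorProduct.zero_tmul]
  · intro L _ α β hαβ
    have := hpB L α
    ext x
    have h4 : α (x ^ p) = β (x ^ p) := by
      have := RingHom.congr_fun hαβ (x ⊗ₜ 1)
      simp only [RingHom.comp_apply] at this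
      change α (relFrob p P B' (x ⊗ₜ 1)) = β (relFrob p P B' (x ⊗ₜ 1)) at this
      rwa [relFrob_tmul_one] at this
    rw [map_pow, map_pow] at h4
    exact frobenius_inj L p h4

end Etale

end Groth.Agent.H74.RelFrobAlg
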