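import Groth.Agent.H74.RootTowerBC
import Groth.Agent.H74.RelFrobAlg

set_option autoImplicit false
universe u

/-!
# Root towers: composition, and descent of étale algebras along root towers

* `isRootTowerHom_comp`: a tower of `m` extractions followed by a tower of `n` extractions is a
  tower of `m + n` extractions.
* `exists_isPushout_etale`: in characteristic `p`, every étale algebra over the top of a root tower
  `A → B` is the base change of an étale `A`-algebra (topological invariance of the étale site for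
  the universal homeomorphism `Spec B → Spec A`, made explicit through the relative Frobenius).
-/

namespace Groth.Agent.H74.QuietTower

open Polynomial Quiet CategoryTheory CategoryTheory.Limits FrobAlg TensorProduct
open Groth.Agent.H74.RootTower

section Comp

variable (p : ℕ)

/-- Precomposing a root tower with a bijection gives a root tower. -/
theorem isRootTowerHom_comp_of_bijective_left (n : ℕ) {A A' B : Type u} [CommRing A] [CommRing A']
    [CommRing B] (ψ₁ : A →+* A') (ψ₂ : A' →+* B) (h₁ : Function.Bijective ψ₁)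
    (h₂ : IsRootTowerHom p n ψ₂) : IsRootTowerHom p n (ψ₂.comp ψ₁) := by
  let e : A ≃+* A' := RingEquiv.ofBijective ψ₁ h₁
  have hiso : IsIso (CommRingCat.ofHom (e.symm : A' →+* A)) :=
    (e.symm.toCommRingCatIso).isIso_hom
  have H : IsPushout (CommRingCat.ofHom ψ₂) (CommRingCat.ofHom (e.symm : A' →+* A))
      (𝟙 (CommRingCat.of B)) (CommRingCat.ofHom (ψ₂.comp ψ₁)) := by
    refine IsPushout.of_vert_isIso ⟨?_⟩
    ext x
    change ψ₂ x = ψ₂ (ψ₁ (e.symm x))
    have : ψ₁ (e.symm x) = x := e.apply_symm_apply x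
    rw [this]
  exact isRootTowerHom_of_isPushout p n _ _ _ _ H h₂

/-- Postcomposing a root tower with a bijection gives a root tower. -/
theorem isRootTowerHom_comp_of_bijective_right (n : ℕ) {A B B' : Type u} [CommRing A] [CommRing B]
    [CommRing B'] (ψ₁ : A →+* B) (ψ₂ : B →+* B') (h₁ : IsRootTowerHom p n ψ₁)
    (h₂ : Function.Bijective ψ₂) : IsRootTowerHom p n (ψ₂.comp ψ₁) := by
  let e : B ≃+* B' := RingEquiv.ofBijective ψ₂ h₂
  have hiso : IsIso (CommRingCat.ofHom (e : B →+* B')) := (e.toCommRingCatIso).isIso_hom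
  have H : IsPushout (CommRingCat.ofHom ψ₁) (𝟙 (CommRingCat.of A))
      (CommRingCat.ofHom (e : B →+* B')) (CommRingCat.ofHom (ψ₂.comp ψ₁)) := by
    refine IsPushout.of_vert_isIso ⟨?_⟩
    ext x
    rfl
  exact isRootTowerHom_of_isPushout p n _ _ _ _ H h₁

/-- Root towers compose. -/
theorem isRootTowerHom_comp : ∀ (m n : ℕ) {A B C : Type u} [CommRing A] [CommRing B] [CommRing C]
    (ψ₁ : A →+* B) (ψ₂ : B →+* C), IsRootTowerHom p m ψ₁ → IsRootTowerHom p n ψ₂ →
    IsRootTowerHom p (m + n) (ψ₂.comp ψ₁)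
  | 0, n, A, B, C, _, _, _, ψ₁, ψ₂, h₁, h₂ => by
    rw [Nat.zero_add]
    exact isRootTowerHom_comp_of_bijective_left p n ψ₁ ψ₂ ((isRootTowerHom_zero_iff p ψ₁).1 h₁) h₂
  | m + 1, n, A, B, C, _, _, _, ψ₁, ψ₂, h₁, h₂ => by
    rw [isRootTowerHom_succ_iff] at h₁
    obtain ⟨a, w, hw, hm⟩ := h₁
    have hmn : m + 1 + n = (m + n) + 1 := by omega
    rw [hmn, isRootTowerHom_succ_iff]
    exact ⟨a, ψ₂.comp w, by rw [RingHom.comp_assoc, hw], isRootTowerHom_comp m n w ψ₂ hm h₂⟩

end Comp

section Elementary

variable (p : ℕ) [Fact p.Prime] (A : Type u) [CommRing A] [CharP A p] (a : A)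

/-- The ring map `A[x]/(x^p - a) → A`, `x ↦ a`, `c ↦ c^p`. -/
noncomputable def toBase : RootRing p A a →+* A :=
  AdjoinRoot.lift (frobenius A p) a (by
    rw [eval₂_sub, eval₂_pow, eval₂_X, eval₂_C, frobenius_def, sub_self])

theorem toBase_comp_of :
    (toBase p A a).comp (AdjoinRoot.of (X ^ p - C a : A[X])) = frobenius A p :=
  AdjoinRoot.lift_comp_of _

theorem of_comp_toBase [CharP (RootRing p A a) p] :
    (AdjoinRoot.of (X ^ p - C a : A[X])).comp (toBase p A a) = frobenius (RootRing p A a) p := by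
  apply AdjoinRoot.ringHom_ext
  · ext c
    simp only [RingHom.comp_apply, frobenius_def]
    have h1 : toBase p A a (AdjoinRoot.of (X ^ p - C a : A[X]) c) = c ^ p := by
      have := congrArg (fun φ : A →+* A => φ c) (toBase_comp_of p A a)
      simpa [frobenius_def] using this
    rw [h1, map_pow]
  · simp only [RingHom.comp_apply, frobenius_def]
    have h1 : toBase p A a (AdjoinRoot.root (X ^ p - C a : A[X])) = a := AdjoinRoot.lift_root _
    rw [h1]
    have h2 : (AdjoinRoot.mk (X ^ p - C a : A[X])) (X ^ p - C a) = 0 := AdjoinRoot.mk_self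
    rw [map_sub, map_pow, AdjoinRoot.mk_X, AdjoinRoot.mk_C, sub_eq_zero] at h2
    exact h2.symm

set_option linter.style.haveILetI false in
/-- Étale algebras over `A[x]/(x^p - a)` descend to `A` (characteristic `p`). -/
theorem exists_isPushout_etale_elementary (E : CommRingCat.{u}) [Nontrivial E]
    (β : CommRingCat.of (RootRing p A a) ⟶ E) (hβ : β.hom.Etale) :
    ∃ (E₀ : CommRingCat.{u}) (α : CommRingCat.of A ⟶ E₀) (γ : E₀ ⟶ E), α.hom.Etale ∧
      IsPushout (CommRingCat.ofHom (AdjoinRoot.of (X ^ p - C a : A[X]))) α β γ := by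
  have hnt₁ : Nontrivial (RootRing p A a) := β.hom.domain_nontrivial
  have hp₁ : ((p : ℕ) : RootRing p A a) = 0 := by
    have h := map_natCast (AdjoinRoot.of (X ^ p - C a : A[X])) p
    rw [← h, CharP.cast_eq_zero, map_zero]
  haveI hc₁ : CharP (RootRing p A a) p :=
    (CharP.charP_iff_prime_eq_zero (Fact.out : p.Prime)).2 hp₁
  haveI hcE : CharP E p := by
    refine (CharP.charP_iff_prime_eq_zero (Fact.out : p.Prime)).2 ?_
    have h := map_natCast β.hom p
    rw [← h]
    change β.hom ((p : ℕ) : RootRing p A a) = 0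
    rw [hp₁, map_zero]
  letI algE : Algebra (RootRing p A a) E := β.hom.toAlgebra
  haveI hetE : Algebra.Etale (RootRing p A a) E := hβ
  letI algφ : Algebra (RootRing p A a) A := (toBase p A a).toAlgebra
  -- the two tensor-product pushout squares
  have t := CommRingCat.isPushout_tensorProduct (RootRing p A a) A E
  have s₀ := CommRingCat.isPushout_tensorProduct (RootRing p A a) E (Twist p (RootRing p A a))
  set u' : CommRingCat.of A ⟶ CommRingCat.of (Twist p (RootRing p A a)) :=
    CommRingCat.ofHom ((toTwist p (RootRing p A a) : RootRing p A a →+* _).comp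
      (AdjoinRoot.of (X ^ p - C a : A[X]))) with hu'
  have hφu : CommRingCat.ofHom (algebraMap (RootRing p A a) A) ≫ u' =
      CommRingCat.ofHom (algebraMap (RootRing p A a) (Twist p (RootRing p A a))) := by
    refine CommRingCat.hom_ext (RingHom.ext fun x => ?_)
    change toTwist p (RootRing p A a) (AdjoinRoot.of (X ^ p - C a : A[X]) (toBase p A a x)) =
      algebraMap (RootRing p A a) (Twist p (RootRing p A a)) x
    rw [algebraMap_twist]
    have := congrArg (fun φ : RootRing p A a →+* RootRing p A a => φ x) (of_comp_toBase p A a)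
    simp only [RingHom.comp_apply, frobenius_def] at this
    rw [this]
  have hcomm : CommRingCat.ofHom (algebraMap (RootRing p A a) A) ≫ (u' ≫
      CommRingCat.ofHom (Algebra.TensorProduct.includeRight :
        Twist p (RootRing p A a) →ₐ[RootRing p A a] E ⊗[RootRing p A a] Twist p (RootRing p A a)).toRingHom) =
      CommRingCat.ofHom (algebraMap (RootRing p A a) E) ≫
        CommRingCat.ofHom (Algebra.TensorProduct.includeLeftRingHom :
          E →+* E ⊗[RootRing p A a] Twist p (RootRing p A a)) := by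
    rw [← Category.assoc, hφu]
    exact s₀.w.symm
  set ε := t.desc _ _ hcomm with hε
  have R1 := IsPushout.of_left (h₁₁ := CommRingCat.ofHom (algebraMap (RootRing p A a) A))
    (h₁₂ := u') (h₂₂ := ε) (by rw [hφu, t.inr_desc]; exact s₀.flip) (t.inl_desc _ _ hcomm).symm t
  -- the relative Frobenius isomorphism
  have hbij := Groth.Agent.H74.RelFrobAlg.relFrob_bijective_of_etale p (RootRing p A a) E
  let W : CommRingCat.of (E ⊗[RootRing p A a] Twist p (RootRing p A a)) ≅ E :=
    (RingEquiv.ofBijective (relFrob p (RootRing p A a) E) hbij).toCommRingCatIso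
  let τ : CommRingCat.of (Twist p (RootRing p A a)) ≅ CommRingCat.of (RootRing p A a) :=
    ((toTwist p (RootRing p A a)).symm).toCommRingCatIso
  refine ⟨CommRingCat.of (A ⊗[RootRing p A a] E),
    CommRingCat.ofHom (Algebra.TensorProduct.includeLeftRingHom : A →+* A ⊗[RootRing p A a] E),
    ε ≫ W.hom, ?_, R1.of_iso (Iso.refl _) τ (Iso.refl _) W ?_ ?_ ?_ ?_⟩
  · have h : (algebraMap A (A ⊗[RootRing p A a] E)).Etale :=
      RingHom.etale_algebraMap.2 inferInstance
    exact h
  · ext x
    rfl
  · rfl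
  · ext x
    change relFrob p (RootRing p A a) E ((1 : E) ⊗ₜ[RootRing p A a] x) =
      β.hom ((toTwist p (RootRing p A a)).symm x)
    rw [Groth.Agent.H74.RelFrobAlg.relFrob_tmul, one_pow, one_mul]
    rfl
  · rfl

end Elementary

section Main

variable (p : ℕ) [Fact p.Prime]

/-- **Étale algebras descend along root towers** (characteristic `p`): if `f : A → B` is a tower
of elementary `p`-th root extractions and `β : B → E` is étale, there are an étale `α : A → E₀`
and `γ : E₀ → E` making `E` the pushout of `f` and `α`. -/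
theorem exists_isPushout_etale : ∀ (n : ℕ) {A B E : CommRingCat.{u}} (f : A ⟶ B) (β : B ⟶ E),
    ((p : ℕ) : A) = 0 → Nontrivial E → IsRootTowerHom p n f.hom → β.hom.Etale →
    ∃ (E₀ : CommRingCat.{u}) (α : A ⟶ E₀) (γ : E₀ ⟶ E), α.hom.Etale ∧ IsPushout f α β γ
  | 0, A, B, E, f, β, _, _, hf, hβ => by
    rw [isRootTowerHom_zero_iff] at hf
    have hiso : IsIso f := by
      rw [ConcreteCategory.isIso_iff_bijective]
      exact hf
    refine ⟨E, f ≫ β, 𝟙 E, ?_, IsPushout.of_horiz_isIso ⟨by simp⟩⟩
    exact Groth.Agent.H74.RelFrobAlg.etale_comp _ _ (RingHom.Etale.of_bijective hf) hβ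
  | n + 1, A, B, E, f, β, hpA, hE, hf, hβ => by
    rw [isRootTowerHom_succ_iff] at hf
    obtain ⟨a, w, hw, hn⟩ := hf
    have hp₁ : ((p : ℕ) : RootRing p A a) = 0 := by
      have h := map_natCast (AdjoinRoot.of (X ^ p - C a : (A : Type u)[X])) p
      rw [← h, hpA, map_zero]
    obtain ⟨E₁, α₁, γ₁, hα₁, H₁⟩ := exists_isPushout_etale n
      (A := CommRingCat.of (RootRing p A a)) (CommRingCat.ofHom w) β hp₁ hE hn hβ
    have hE₁ : Nontrivial E₁ := γ₁.hom.domain_nontrivial
    have hA : Nontrivial A := (α₁.hom.comp (AdjoinRoot.of _)).domain_nontrivial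
    have hcA : CharP A p := (CharP.charP_iff_prime_eq_zero (Fact.out : p.Prime)).2 hpA
    obtain ⟨E₀, α, γ₀, hα, H₀⟩ := exists_isPushout_etale_elementary p A a E₁ α₁ hα₁
    refine ⟨E₀, α, γ₀ ≫ γ₁, hα, ?_⟩
    have hf' : CommRingCat.ofHom (AdjoinRoot.of (X ^ p - C a : (A : Type u)[X])) ≫
        CommRingCat.ofHom w = f := by
      refine CommRingCat.hom_ext ?_
      exact hw
    rw [← hf']
    exact H₀.paste_horiz H₁

end Main

end Groth.Agent.H74.QuietTower
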