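import Groth.Agent.H74.RelFrobSmooth
import Mathlib.RingTheory.FinitePresentation
import Mathlib.RingTheory.Finiteness.ModuleFinitePresentation
import Mathlib.RingTheory.Flat.EquationalCriterion
import Mathlib.RingTheory.IntegralClosure.IsIntegralClosure.Basic

set_option autoImplicit false
universe u v w

namespace Groth.Agent.H74.RelFrobFinite

open MvPolynomial FrobAlg TensorProduct Groth.Agent.H74.RelFrobAlg Groth.Agent.H74.RelFrobSmooth

section Finite

variable (p : ℕ) [Fact p.Prime] (A : Type u) [CommRing A] [CharP A p]
  (B : Type v) [CommRing B] [Algebra A B] [CharP B p]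

theorem isIntegral_relFrob : (relFrob p A B).IsIntegral := by
  intro b
  refine ⟨Polynomial.X ^ p - Polynomial.C (b ⊗ₜ[A] (1 : Twist p A)),
    Polynomial.monic_X_pow_sub_C _ (Fact.out : p.Prime).ne_zero, ?_⟩
  rw [Polynomial.eval₂_sub, Polynomial.eval₂_pow, Polynomial.eval₂_X, Polynomial.eval₂_C,
    relFrob_tmul_one, sub_self]

theorem finiteType_relFrob [Algebra.FiniteType A B] : (relFrob p A B).FiniteType := by
  refine RingHom.FiniteType.of_comp_finiteType
    (f := algebraMap (Twist p A) (BaseChange p A B)) ?_
  rw [relFrob_comp_algebraMap_twist]
  refine RingHom.FiniteType.comp ?_ (RingHom.FiniteType.of_surjective _ (toTwist p A).symm.surjective)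
  exact (RingHom.finiteType_algebraMap).2 inferInstance

theorem finite_relFrob [Algebra.FiniteType A B] : (relFrob p A B).Finite :=
  (isIntegral_relFrob p A B).to_finite (finiteType_relFrob p A B)

theorem finitePresentation_relFrob [Algebra.FinitePresentation A B] :
    (relFrob p A B).FinitePresentation := by
  refine RingHom.FinitePresentation.of_comp_finiteType
    (algebraMap (Twist p A) (BaseChange p A B)) ?_ ?_
  · rw [relFrob_comp_algebraMap_twist]
    refine RingHom.FinitePresentation.comp ?_
      (RingHom.FinitePresentation.of_surjective _ (toTwist p A).symm.surjective ?_)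
    · exact (RingHom.finitePresentation_algebraMap).2 inferInstance
    · have : RingHom.ker ((toTwist p A).symm : Twist p A →+* A) = ⊥ :=
        (RingHom.injective_iff_ker_eq_bot _).1 (toTwist p A).symm.injective
      rw [this]
      exact Submodule.fg_bot
  · rw [RingHom.finiteType_algebraMap]
    exact Algebra.FiniteType.equiv inferInstance
      (Algebra.TensorProduct.commRight A (Twist p A) B)

/-- The relative Frobenius of a smooth algebra makes `B` a finite projective module over its
Frobenius twist. -/
theorem finite_projective_of_smooth [Algebra.Smooth A B] :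
    letI := (relFrob p A B).toAlgebra
    Module.Finite (BaseChange p A B) B ∧ Module.Projective (BaseChange p A B) B := by
  letI := (relFrob p A B).toAlgebra
  have h1 : Module.Finite (BaseChange p A B) B := finite_relFrob p A B
  have h2 : Algebra.FinitePresentation (BaseChange p A B) B := finitePresentation_relFrob p A B
  have h3 : Module.Flat (BaseChange p A B) B := flat_relFrob_of_smooth p A B
  have h4 : Module.FinitePresentation (BaseChange p A B) B :=
    Module.FinitePresentation.of_finite_of_finitePresentation _ _
  exact ⟨h1, Module.Flat.projective_of_finitePresentation⟩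

end Finite

end Groth.Agent.H74.RelFrobFinite
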