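import Groth.Agent.H74.RelFrobPoly
import Mathlib.LinearAlgebra.DirectSum.Finsupp
import Mathlib.LinearAlgebra.TensorProduct.Tower

set_option autoImplicit false
universe u v

namespace Groth.Agent.H74.RelFrobFree

open MvPolynomial FrobAlg TensorProduct Groth.Agent.H74.RelFrobAlg Groth.Agent.H74.RelFrobPoly

section Main

variable (p : ℕ) [Fact p.Prime] {σ : Type*} [Fintype σ] [DecidableEq σ]
  (A : Type u) [CommRing A] [CharP A p] (B' : Type v) [CommRing B'] [Algebra A B']
  [Algebra (MvPolynomial σ A) B'] [IsScalarTower A (MvPolynomial σ A) B'] [CharP B' p]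

/-- `B' ⊗_{P,F} P ≃ ⨁ₑ B' ⊗_{A,F} A`. -/
noncomputable def xiInv :
    B' ⊗[MvPolynomial σ A] Twist p (MvPolynomial σ A) ≃ₗ[MvPolynomial σ A]
      ((σ → Fin p) →₀ B' ⊗[A] Twist p A) :=
  (TensorProduct.congr (LinearEquiv.refl (MvPolynomial σ A) B') (kappa p A).symm) ≪≫ₗ
    (TensorProduct.finsuppRight (MvPolynomial σ A) (MvPolynomial σ A) B'
      ((MvPolynomial σ A) ⊗[A] Twist p A) (σ → Fin p)) ≪≫ₗ
    Finsupp.mapRange.linearEquiv
      (TensorProduct.AlgebraTensorModule.cancelBaseChange A (MvPolynomial σ A) (MvPolynomial σ A)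
        B' (Twist p A))

theorem xiInv_tmul_kappa_single (b : B') (e : σ → Fin p)
    (s : (MvPolynomial σ A) ⊗[A] Twist p A) :
    xiInv p A B' (b ⊗ₜ kappa p A (Finsupp.single e s)) =
      Finsupp.single e (TensorProduct.AlgebraTensorModule.cancelBaseChange A (MvPolynomial σ A)
        (MvPolynomial σ A) B' (Twist p A) (b ⊗ₜ s)) := by
  simp only [xiInv, LinearEquiv.trans_apply, TensorProduct.congr_tmul, LinearEquiv.refl_apply,
    LinearEquiv.symm_apply_apply, TensorProduct.finsuppRight_tmul_single,
    Finsupp.mapRange.linearEquiv_apply, Finsupp.mapRange_single]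

/-- The additive map `(cₑ)ₑ ↦ ∑ₑ F_{B'/A}(cₑ) · x^e`. -/
noncomputable def ThetaHom : ((σ → Fin p) →₀ BaseChange p A B') →+ B' :=
  Finsupp.liftAddHom fun e =>
    (AddMonoidHom.mulRight (algebraMap (MvPolynomial σ A) B' (monomial (eF p e) 1))).comp
      (relFrob p A B').toAddMonoidHom

theorem ThetaHom_single (e : σ → Fin p) (w : BaseChange p A B') :
    ThetaHom p A B' (Finsupp.single e w) =
      relFrob p A B' w * algebraMap (MvPolynomial σ A) B' (monomial (eF p e) 1) := by
  simp [ThetaHom]

theorem key_tmul (b : B') (e : σ → Fin p) (q : MvPolynomial σ A) (a : Twist p A) :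
    relFrob p A B' (TensorProduct.AlgebraTensorModule.cancelBaseChange A (MvPolynomial σ A)
        (MvPolynomial σ A) B' (Twist p A) (b ⊗ₜ (q ⊗ₜ a))) *
        algebraMap (MvPolynomial σ A) B' (monomial (eF p e) 1) =
      relFrob p (MvPolynomial σ A) B' (b ⊗ₜ kappa p A (Finsupp.single e (q ⊗ₜ a))) := by
  rw [TensorProduct.AlgebraTensorModule.cancelBaseChange_tmul, relFrob_tmul, kappa_apply,
    kappaFun_single, relFrob_tmul, relFrob_tmul, RingEquiv.symm_apply_apply, map_mul, map_mul,
    map_pow, Algebra.smul_def, mul_pow,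
    IsScalarTower.algebraMap_apply A (MvPolynomial σ A) B']
  ring

theorem ThetaHom_xiInv (z : B' ⊗[MvPolynomial σ A] Twist p (MvPolynomial σ A)) :
    ThetaHom p A B' (xiInv p A B' z) = relFrob p (MvPolynomial σ A) B' z := by
  induction z using TensorProduct.induction_on with
  | zero => simp
  | add x y hx hy => rw [map_add, map_add, hx, hy, map_add]
  | tmul b t =>
    obtain ⟨c, rfl⟩ := (kappa p A).surjective t
    induction c using Finsupp.induction_linear with
    | zero => simp
    | add c d hc hd =>
      rw [map_add, TensorProduct.tmul_add, map_add, map_add, hc, hd, map_add]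
    | single e s =>
      induction s using TensorProduct.induction_on with
      | zero => simp
      | add s s' hs hs' =>
        rw [Finsupp.single_add, map_add, TensorProduct.tmul_add, map_add, map_add, hs, hs',
          map_add]
      | tmul q a => rw [xiInv_tmul_kappa_single, ThetaHom_single, key_tmul]

theorem ThetaHom_bijective [Algebra.Etale (MvPolynomial σ A) B'] :
    Function.Bijective (ThetaHom p (σ := σ) A B') := by
  have h : (ThetaHom p (σ := σ) A B' : _ → B') =
      (relFrob p (MvPolynomial σ A) B') ∘ (xiInv p A B').symm := by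
    funext c
    rw [Function.comp_apply, ← ThetaHom_xiInv, LinearEquiv.apply_symm_apply]
  rw [h]
  exact (relFrob_bijective_of_etale p (MvPolynomial σ A) B').comp (LinearEquiv.bijective _)

/-- If `B'` is étale over the polynomial ring `A[x_σ]`, then `B'` is free over its Frobenius twist
`B' ⊗_{A,F} A` (through the relative Frobenius), with basis the monomials `x^e`, `e : σ → Fin p`. -/
theorem nonempty_basis [Algebra.Etale (MvPolynomial σ A) B'] :
    letI := (relFrob p A B').toAlgebra
    Nonempty (Module.Basis (σ → Fin p) (BaseChange p A B') B') := by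
  letI := (relFrob p A B').toAlgebra
  let Θ : ((σ → Fin p) →₀ BaseChange p A B') →ₗ[BaseChange p A B'] B' :=
    Finsupp.linearCombination _ (fun e => algebraMap (MvPolynomial σ A) B' (monomial (eF p e) 1))
  have h : ∀ c, Θ c = ThetaHom p A B' c := by
    intro c
    induction c using Finsupp.induction_linear with
    | zero => simp
    | add c d hc hd => rw [map_add, map_add, hc, hd]
    | single e w =>
      rw [ThetaHom_single, Finsupp.linearCombination_single, Algebra.smul_def]
      rfl
  have hb : Function.Bijective Θ := by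
    have : (Θ : _ → B') = ThetaHom p A B' := funext h
    rw [this]
    exact ThetaHom_bijective p A B'
  exact ⟨Module.Basis.ofRepr (LinearEquiv.ofBijective Θ hb).symm⟩

end Main

end Groth.Agent.H74.RelFrobFree
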