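import Groth.Agent.H74.RelFrobAlg
import Mathlib.Algebra.MvPolynomial.Expand
import Mathlib.RingTheory.MvPolynomial.Expand
import Mathlib.RingTheory.MvPolynomial.Basic
import Mathlib.RingTheory.TensorProduct.MvPolynomial
import Mathlib.Data.Finsupp.Fintype

set_option autoImplicit false
universe u v

namespace Groth.Agent.H74.RelFrobPoly

open MvPolynomial

section Lam

variable (p : ℕ) (hp : p ≠ 0) {σ : Type*} [Fintype σ] [DecidableEq σ] (A : Type u) [CommRing A]

/-- The exponent vector associated to `e : σ → Fin p`. -/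
noncomputable def eF (e : σ → Fin p) : σ →₀ ℕ := Finsupp.equivFunOnFinite.symm (fun i => (e i : ℕ))

omit [DecidableEq σ] in
@[simp] theorem eF_apply (e : σ → Fin p) (i : σ) : eF p e i = (e i : ℕ) := rfl

/-- `Λ f = ∑ₑ expand p (f e) * x ^ e`. -/
noncomputable def Lam (f : (σ → Fin p) →₀ MvPolynomial σ A) : MvPolynomial σ A :=
  ∑ e : σ → Fin p, expand p (f e) * monomial (eF p e) 1

theorem Lam_add (f g : (σ → Fin p) →₀ MvPolynomial σ A) :
    Lam p A (f + g) = Lam p A f + Lam p A g := by
  simp only [Lam, Finsupp.add_apply, map_add, add_mul, Finset.sum_add_distrib]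

theorem Lam_single (e : σ → Fin p) (g : MvPolynomial σ A) :
    Lam p A (Finsupp.single e g) = expand p g * monomial (eF p e) 1 := by
  rw [Lam, Finset.sum_eq_single e]
  · rw [Finsupp.single_eq_same]
  · intro e' _ hne
    rw [Finsupp.single_eq_of_ne hne, map_zero, zero_mul]
  · intro h
    exact absurd (Finset.mem_univ e) h

omit [Fintype σ] [DecidableEq σ] in
theorem eq_of_dvd_sub {a b k : ℕ} (ha : a < p) (hb : b < p) (hle : b ≤ a + p * k)
    (hd : p ∣ a + p * k - b) : b = a := by
  obtain ⟨c, hc⟩ := hd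
  have h1 : a + p * k = b + p * c := by omega
  have h2 : (a + p * k) % p = (b + p * c) % p := by rw [h1]
  rw [Nat.add_mul_mod_self_left, Nat.add_mul_mod_self_left, Nat.mod_eq_of_lt ha,
    Nat.mod_eq_of_lt hb] at h2
  exact h2.symm

include hp in
theorem coeff_Lam (f : (σ → Fin p) →₀ MvPolynomial σ A) (e₀ : σ → Fin p) (m' : σ →₀ ℕ) :
    coeff (eF p e₀ + p • m') (Lam p A f) = coeff m' (f e₀) := by
  rw [Lam, coeff_sum, Finset.sum_eq_single e₀]
  · rw [coeff_mul_monomial', if_pos (by exact le_self_add), add_tsub_cancel_left,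
      coeff_expand_smul p hp, mul_one]
  · intro e _ hne
    rw [coeff_mul_monomial']
    split_ifs with hle
    · obtain ⟨i, hi⟩ : ∃ i, e i ≠ e₀ i := by
        by_contra hcon
        push Not at hcon
        exact hne (funext hcon)
      have hle_i : (e i : ℕ) ≤ (e₀ i : ℕ) + p * m' i := by
        have := hle i
        simpa using this
      have hnd : ¬ p ∣ (eF p e₀ + p • m' - eF p e) i := by
        rw [Finsupp.tsub_apply, Finsupp.add_apply, Finsupp.smul_apply, eF_apply, eF_apply,
          smul_eq_mul]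
        intro hdvd
        apply hi
        exact Fin.ext (eq_of_dvd_sub p (e₀ i).2 (e i).2 hle_i hdvd)
      rw [coeff_expand_of_not_dvd (p := p) (φ := f e) hnd, zero_mul]
    · rfl
  · intro h
    exact absurd (Finset.mem_univ e₀) h

omit [DecidableEq σ] in
include hp in
theorem exists_eq_eF_add (m : σ →₀ ℕ) : ∃ (e₀ : σ → Fin p) (m' : σ →₀ ℕ), m = eF p e₀ + p • m' := by
  refine ⟨fun i => ⟨m i % p, Nat.mod_lt _ (Nat.pos_of_ne_zero hp)⟩,
    Finsupp.equivFunOnFinite.symm (fun i => m i / p), ?_⟩
  ext i
  change m i = m i % p + p * (m i / p)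
  exact (Nat.mod_add_div (m i) p).symm

include hp in
theorem Lam_injective : Function.Injective (Lam p (σ := σ) A) := by
  intro f g hfg
  ext e₀ m'
  rw [← coeff_Lam p hp A f e₀ m', ← coeff_Lam p hp A g e₀ m', hfg]

include hp in
theorem Lam_surjective : Function.Surjective (Lam p (σ := σ) A) := by
  intro h
  induction h using MvPolynomial.induction_on' with
  | monomial m a =>
    obtain ⟨e₀, m', rfl⟩ := exists_eq_eF_add p hp m
    refine ⟨Finsupp.single e₀ (monomial m' a), ?_⟩
    rw [Lam_single, expand_monomial, monomial_mul, mul_one, add_comm]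
  | add f g hf hg =>
    obtain ⟨f', rfl⟩ := hf
    obtain ⟨g', rfl⟩ := hg
    exact ⟨f' + g', Lam_add p A f' g'⟩

end Lam

section Theta

open FrobAlg TensorProduct Groth.Agent.H74.RelFrobAlg

variable (p : ℕ) [Fact p.Prime] {σ : Type*} (A : Type u) [CommRing A] [CharP A p]

/-- The ring isomorphism `A[x] ⊗_{A,F} A ≃ A[x]`, `q ⊗ a ↦ a * q^{(F)}` (Frobenius applied to
the coefficients of `q`). -/
noncomputable def theta : (MvPolynomial σ A) ⊗[A] Twist p A ≃+* MvPolynomial σ A :=
  ((Algebra.TensorProduct.comm A (MvPolynomial σ A) (Twist p A)).toRingEquiv.trans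
    (MvPolynomial.algebraTensorAlgEquiv A (Twist p A)).toRingEquiv).trans
    (MvPolynomial.mapEquiv σ (toTwist p A).symm)

theorem theta_tmul (q : MvPolynomial σ A) (a : Twist p A) :
    theta p A (q ⊗ₜ[A] a) = C ((toTwist p A).symm a) * map (frobenius A p) q := by
  change MvPolynomial.map ((toTwist p A).symm : Twist p A →+* A)
    (MvPolynomial.algebraTensorAlgEquiv A (Twist p A)
      (Algebra.TensorProduct.comm A (MvPolynomial σ A) (Twist p A) (q ⊗ₜ[A] a))) = _
  rw [Algebra.TensorProduct.comm_tmul, algebraTensorAlgEquiv_tmul, MvPolynomial.smul_eq_C_mul,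
    map_mul, map_C, MvPolynomial.map_map]
  rfl

/-- The relative Frobenius of the polynomial ring is `expand p` after `theta`. -/
theorem relFrob_eq_expand_theta (t : (MvPolynomial σ A) ⊗[A] Twist p A) :
    relFrob p A (MvPolynomial σ A) t = expand p (theta p A t) := by
  induction t using TensorProduct.induction_on with
  | zero => simp
  | tmul q a =>
    rw [relFrob_tmul, theta_tmul, map_mul, expand_C, ← map_expand, map_frobenius_expand,
      MvPolynomial.algebraMap_eq, mul_comm]
  | add x y hx hy => rw [map_add, map_add, map_add, hx, hy]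

end Theta

section Kappa

open FrobAlg TensorProduct Groth.Agent.H74.RelFrobAlg

variable (p : ℕ) [Fact p.Prime] {σ : Type*} [Fintype σ] [DecidableEq σ]
  (A : Type u) [CommRing A] [CharP A p]

/-- Underlying function of `kappa`. -/
noncomputable def kappaFun (c : (σ → Fin p) →₀ (MvPolynomial σ A) ⊗[A] Twist p A) :
    Twist p (MvPolynomial σ A) :=
  toTwist p (MvPolynomial σ A)
    (∑ e : σ → Fin p, relFrob p A (MvPolynomial σ A) (c e) * monomial (eF p e) 1)

theorem kappaFun_eq (c : (σ → Fin p) →₀ (MvPolynomial σ A) ⊗[A] Twist p A) :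
    kappaFun p A c = toTwist p (MvPolynomial σ A)
      (Lam p A (c.mapRange (theta p A) (map_zero _))) := by
  rw [kappaFun, Lam]
  congr 1
  refine Finset.sum_congr rfl fun e _ => ?_
  rw [Finsupp.mapRange_apply, relFrob_eq_expand_theta]

theorem kappaFun_bijective : Function.Bijective (kappaFun p (σ := σ) A) := by
  have hp : p ≠ 0 := (Fact.out : p.Prime).ne_zero
  have h1 : kappaFun p (σ := σ) A = (toTwist p (MvPolynomial σ A)) ∘ (Lam p A) ∘
      (Finsupp.mapRange.addEquiv (theta p (σ := σ) A).toAddEquiv :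
        ((σ → Fin p) →₀ (MvPolynomial σ A) ⊗[A] Twist p A) ≃+ _) := by
    funext c
    rw [kappaFun_eq]
    rfl
  rw [h1]
  have hL : Function.Bijective (Lam p (σ := σ) A) :=
    ⟨Lam_injective p hp A, Lam_surjective p hp A⟩
  exact (toTwist p (MvPolynomial σ A)).bijective.comp (hL.comp (AddEquiv.bijective _))

theorem kappaFun_single (e : σ → Fin p) (t : (MvPolynomial σ A) ⊗[A] Twist p A) :
    kappaFun p A (Finsupp.single e t) = toTwist p (MvPolynomial σ A)
      (relFrob p A (MvPolynomial σ A) t * monomial (eF p e) 1) := by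
  rw [kappaFun, Finset.sum_eq_single e]
  · rw [Finsupp.single_eq_same]
  · intro e' _ hne
    rw [Finsupp.single_eq_of_ne hne, map_zero, zero_mul]
  · intro h
    exact absurd (Finset.mem_univ e) h

omit [Fintype σ] [DecidableEq σ] in
theorem smul_eq_tmul_one_mul (q : MvPolynomial σ A) (t : (MvPolynomial σ A) ⊗[A] Twist p A) :
    q • t = (q ⊗ₜ[A] (1 : Twist p A)) * t := by
  induction t using TensorProduct.induction_on with
  | zero => rw [smul_zero, mul_zero]
  | tmul a b => rw [TensorProduct.smul_tmul', Algebra.TensorProduct.tmul_mul_tmul, one_mul,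
      smul_eq_mul]
  | add x y hx hy => rw [smul_add, mul_add, hx, hy]

/-- The `P`-linear isomorphism `⨁ₑ (P ⊗_{A,F} A) ≃ P_F`, where `P = A[x]` acts on the target
through its Frobenius. -/
noncomputable def kappa :
    ((σ → Fin p) →₀ (MvPolynomial σ A) ⊗[A] Twist p A) ≃ₗ[MvPolynomial σ A]
      Twist p (MvPolynomial σ A) :=
  LinearEquiv.ofBijective
    { toFun := kappaFun p A
      map_add' := fun c d => by
        simp only [kappaFun, Finsupp.add_apply, map_add, add_mul, Finset.sum_add_distrib]
      map_smul' := fun q c => by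
        simp only [kappaFun, RingHom.id_apply, Finsupp.smul_apply]
        rw [Algebra.smul_def, algebraMap_twist, ← map_mul, Finset.mul_sum]
        congr 1
        refine Finset.sum_congr rfl fun e _ => ?_
        rw [smul_eq_tmul_one_mul, map_mul, relFrob_tmul_one, mul_assoc] }
    (kappaFun_bijective p A)

theorem kappa_apply (c : (σ → Fin p) →₀ (MvPolynomial σ A) ⊗[A] Twist p A) :
    kappa p A c = kappaFun p A c := rfl

end Kappa

end Groth.Agent.H74.RelFrobPoly
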