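import Groth.Agent.H74.RelFrobFinite
import Mathlib.RingTheory.Flat.Rank
import Mathlib.RingTheory.Localization.BaseChange
import Mathlib.RingTheory.Etale.Kaehler
import Mathlib.RingTheory.Smooth.StandardSmoothCotangent

set_option autoImplicit false
universe u v w

namespace Groth.Agent.H74.RelFrobRank

open MvPolynomial FrobAlg TensorProduct Groth.Agent.H74.RelFrobAlg Groth.Agent.H74.RelFrobSmooth
  Groth.Agent.H74.RelFrobFinite

section Abstract

variable {R S R' S' : Type*} [CommRing R] [CommRing S] [CommRing R'] [CommRing S']
  [Algebra R R'] [Algebra S S']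

/-- Rank of a finite flat ring map is compatible with localizing away from an element. -/
theorem finrank_of_isLocalization_away (φ : R →+* S) (φ' : R' →+* S')
    (hcomm : φ'.comp (algebraMap R R') = (algebraMap S S').comp φ) (h : R)
    [IsLocalization.Away h R'] [IsLocalization.Away (φ h) S']
    (hfin : φ.Finite) (hflat : φ.Flat) (x : PrimeSpectrum R') :
    φ'.finrank x = φ.finrank (PrimeSpectrum.comap (algebraMap R R') x) := by
  letI i1 : Algebra R S := φ.toAlgebra
  letI i3 : Algebra R' S' := φ'.toAlgebra
  letI i4 : Algebra R S' := ((algebraMap S S').comp φ).toAlgebra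
  haveI t1 : IsScalarTower R R' S' := IsScalarTower.of_algebraMap_eq' hcomm.symm
  haveI t2 : IsScalarTower R S S' := IsScalarTower.of_algebraMap_eq' rfl
  haveI l2 : IsLocalization (Algebra.algebraMapSubmonoid S (Submonoid.powers h)) S' := by
    have : Algebra.algebraMapSubmonoid S (Submonoid.powers h) = Submonoid.powers (φ h) := by
      simp only [Algebra.algebraMapSubmonoid, Submonoid.map_powers]
      rfl
    rw [this]
    infer_instance
  haveI hp : Algebra.IsPushout R S R' S' :=
    Algebra.isPushout_of_isLocalization (Submonoid.powers h) R' S S'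
  haveI : Module.Finite R S := hfin
  haveI : Module.Flat R S := hflat
  exact Algebra.rankAtStalk_eq_of_isPushout R S R' S' x

end Abstract

section Rank

variable (p : ℕ) [Fact p.Prime] (A : Type u) [CommRing A] [CharP A p]
  (B : Type v) [CommRing B] [Algebra A B] [CharP B p]
  (g : B) [CharP (Localization.Away g) p]

/-- The map `B ⊗_{A,F} A → B_g ⊗_{A,F} A`. -/
noncomputable abbrev locMap : BaseChange p A B →ₐ[A] BaseChange p A (Localization.Away g) :=
  Algebra.TensorProduct.map (IsScalarTower.toAlgHom A B (Localization.Away g))
    (AlgHom.id A (Twist p A))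

theorem isLocalization_away_pow (k : ℕ) (hk : k ≠ 0) :
    IsLocalization.Away (g ^ k) (Localization.Away g) := by
  obtain ⟨k, rfl⟩ := Nat.exists_eq_succ_of_ne_zero hk
  rw [pow_succ']
  refine IsLocalization.Away.mul_of_isUnit g (g ^ k) ?_
  rw [map_pow]
  exact (IsLocalization.Away.algebraMap_isUnit g).pow k

theorem isLocalization_away_locMap :
    letI : Algebra (BaseChange p A B) (BaseChange p A (Localization.Away g)) :=
      (locMap p A B g).toRingHom.toAlgebra
    IsLocalization.Away (g ⊗ₜ[A] (1 : Twist p A))
      (BaseChange p A (Localization.Away g)) := by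
  letI i2 : Algebra (BaseChange p A B) (BaseChange p A (Localization.Away g)) :=
    (locMap p A B g).toRingHom.toAlgebra
  haveI t2 : IsScalarTower B (BaseChange p A B) (BaseChange p A (Localization.Away g)) :=
    IsScalarTower.of_algebraMap_eq' (by
      ext b
      change (algebraMap B (Localization.Away g) b) ⊗ₜ[A] (1 : Twist p A) =
        locMap p A B g (b ⊗ₜ[A] (1 : Twist p A))
      rw [Algebra.TensorProduct.map_tmul]
      rfl)
  have H : (algebraMap (BaseChange p A B) (BaseChange p A (Localization.Away g))).comp
      (Algebra.TensorProduct.includeRight : Twist p A →ₐ[A] B ⊗[A] Twist p A).toRingHom =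
      (Algebra.TensorProduct.includeRight :
        Twist p A →ₐ[A] (Localization.Away g) ⊗[A] Twist p A).toRingHom := by
    ext a
    change locMap p A B g ((1 : B) ⊗ₜ[A] a) = (1 : Localization.Away g) ⊗ₜ[A] a
    rw [Algebra.TensorProduct.map_tmul, map_one]
    rfl
  have l1 : IsLocalization (Algebra.algebraMapSubmonoid (BaseChange p A B) (Submonoid.powers g))
      (BaseChange p A (Localization.Away g)) :=
    IsLocalization.tensorProduct_tensorProduct A (Twist p A) (Submonoid.powers g)
      (Localization.Away g) H
  have : Algebra.algebraMapSubmonoid (BaseChange p A B) (Submonoid.powers g) =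
      Submonoid.powers (g ⊗ₜ[A] (1 : Twist p A)) := by
    simp only [Algebra.algebraMapSubmonoid, Submonoid.map_powers]
    rfl
  rw [this] at l1
  exact l1

theorem finrank_away
    (hfin : (relFrob p A B).Finite) (hflat : (relFrob p A B).Flat)
    (x : PrimeSpectrum (BaseChange p A (Localization.Away g))) :
    (relFrob p A (Localization.Away g)).finrank x =
      (relFrob p A B).finrank (PrimeSpectrum.comap (locMap p A B g).toRingHom x) := by
  letI i2 : Algebra (BaseChange p A B) (BaseChange p A (Localization.Away g)) :=
    (locMap p A B g).toRingHom.toAlgebra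
  haveI l1 : IsLocalization.Away (g ⊗ₜ[A] (1 : Twist p A))
      (BaseChange p A (Localization.Away g)) := isLocalization_away_locMap p A B g
  haveI l2 : IsLocalization.Away (relFrob p A B (g ⊗ₜ[A] (1 : Twist p A)))
      (Localization.Away g) := by
    rw [relFrob_tmul_one]
    exact isLocalization_away_pow B g p (Fact.out : p.Prime).ne_zero
  exact finrank_of_isLocalization_away (relFrob p A B) (relFrob p A (Localization.Away g))
    (relFrob_natural' p A (IsScalarTower.toAlgHom A B (Localization.Away g)))
    (g ⊗ₜ[A] (1 : Twist p A)) hfin hflat x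

end Rank

section Final

variable (p : ℕ) [Fact p.Prime] (A : Type u) [CommRing A] [CharP A p]
  (B : Type v) [CommRing B] [Algebra A B] [CharP B p]

/-- The rank of the Kähler differentials of a localization of a smooth algebra. -/
theorem relDim_eq_of_rankAtStalk [Algebra.Smooth A B] (r : ℕ)
    (hr : ∀ q : PrimeSpectrum B, Module.rankAtStalk (R := B) (Ω[B⁄A]) q = r)
    (g : B) [Nontrivial (Localization.Away g)] (n : ℕ)
    [Algebra.IsStandardSmoothOfRelativeDimension n A (Localization.Away g)] : n = r := by
  obtain ⟨y⟩ : Nonempty (PrimeSpectrum (Localization.Away g)) := inferInstance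
  have hfe : Algebra.FormallyEtale B (Localization.Away g) :=
    Algebra.FormallyEtale.of_isLocalization (Submonoid.powers g)
  have hbc := KaehlerDifferential.isBaseChange_of_formallyEtale A B (Localization.Away g)
  have h1 := Module.rankAtStalk_isBaseChange hbc y
  rw [hr] at h1
  have hstd : Algebra.IsStandardSmooth A (Localization.Away g) :=
    Algebra.IsStandardSmoothOfRelativeDimension.isStandardSmooth n
  have h2 : Module.rank (Localization.Away g) (Ω[Localization.Away g⁄A]) = n :=
    Algebra.IsStandardSmoothOfRelativeDimension.rank_kaehlerDifferential n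
  have h3 : Module.finrank (Localization.Away g) (Ω[Localization.Away g⁄A]) = n :=
    Module.finrank_eq_of_rank_eq h2
  rw [Module.rankAtStalk_eq_finrank_of_free, h3] at h1
  simpa using h1

theorem span_tmul_one_eq_top (s : Set B) (hs : Ideal.span s = ⊤) :
    Ideal.span ((fun g : B => (g ⊗ₜ[A] (1 : Twist p A) : BaseChange p A B)) '' s) = ⊤ := by
  have h := Ideal.map_span (Algebra.TensorProduct.includeLeftRingHom :
    B →+* B ⊗[A] Twist p A) s
  rw [hs, Ideal.map_top] at h
  rw [h]
  rfl

/-- The relative Frobenius of a smooth algebra of relative dimension `r` has rank `p ^ r`. -/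
theorem finrank_relFrob_of_smooth [Algebra.Smooth A B] (r : ℕ)
    (hr : ∀ q : PrimeSpectrum B, Module.rankAtStalk (R := B) (Ω[B⁄A]) q = r)
    (q : PrimeSpectrum (BaseChange p A B)) : (relFrob p A B).finrank q = p ^ r := by
  obtain ⟨s, hs, hstd⟩ := Algebra.Smooth.exists_span_eq_top_isStandardSmooth A B
  -- choose `g ∈ s` with `g ⊗ 1 ∉ q`
  obtain ⟨g, hgs, hgq⟩ : ∃ g ∈ s, (g ⊗ₜ[A] (1 : Twist p A) : BaseChange p A B) ∉ q.asIdeal := by
    by_contra hcon
    push Not at hcon
    have hle : Ideal.span ((fun g : B => (g ⊗ₜ[A] (1 : Twist p A) : BaseChange p A B)) '' s) ≤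
        q.asIdeal := by
      rw [Ideal.span_le]
      rintro _ ⟨g, hg, rfl⟩
      exact hcon g hg
    rw [span_tmul_one_eq_top p A B s hs] at hle
    exact q.isPrime.ne_top (top_le_iff.mp hle)
  -- `B_g` is nontrivial
  have hnt : Nontrivial (Localization.Away g) := by
    rw [← not_subsingleton_iff_nontrivial,
      IsLocalization.subsingleton_iff (M := Submonoid.powers g) (S := Localization.Away g)]
    rintro ⟨k, hk⟩
    apply hgq
    have hk' : g ^ k = 0 := hk
    have h0 : (g ⊗ₜ[A] (1 : Twist p A) : BaseChange p A B) ^ k = 0 := by
      rw [Algebra.TensorProduct.tmul_pow, hk', TensorProduct.zero_tmul]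
    exact q.isPrime.mem_of_pow_mem k (h0 ▸ q.asIdeal.zero_mem)
  have hchar : CharP (Localization.Away g) p := charP_of_algebra p B
  have hstd' := hstd g hgs
  obtain ⟨n, hn⟩ : ∃ n, Algebra.IsStandardSmoothOfRelativeDimension n A (Localization.Away g) := by
    obtain ⟨ι, σ, _, _, ⟨P⟩⟩ := Algebra.IsStandardSmooth.out (R := A) (S := Localization.Away g)
    exact ⟨_, ⟨ι, σ, inferInstance, inferInstance, P, rfl⟩⟩
  have hnr : n = r := relDim_eq_of_rankAtStalk A B r hr g n
  -- a prime of `B_g^(p)` over `q`
  obtain ⟨x, hx⟩ : ∃ x : PrimeSpectrum (BaseChange p A (Localization.Away g)),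
      PrimeSpectrum.comap (locMap p A B g).toRingHom x = q := by
    letI i2 : Algebra (BaseChange p A B) (BaseChange p A (Localization.Away g)) :=
      (locMap p A B g).toRingHom.toAlgebra
    haveI l1 : IsLocalization.Away (g ⊗ₜ[A] (1 : Twist p A))
        (BaseChange p A (Localization.Away g)) := isLocalization_away_locMap p A B g
    have hrange := PrimeSpectrum.localization_away_comap_range
      (BaseChange p A (Localization.Away g)) (g ⊗ₜ[A] (1 : Twist p A) : BaseChange p A B)
    have hq : q ∈ Set.range (PrimeSpectrum.comap
        (algebraMap (BaseChange p A B) (BaseChange p A (Localization.Away g)))) := by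
      rw [hrange]
      exact hgq
    exact hq
  have hfp := finite_projective_of_smooth p A B
  have h1 := finrank_away p A B g (finite_relFrob p A B) (flat_relFrob_of_smooth p A B) x
  rw [hx] at h1
  rw [← h1]
  -- the rank of a free module
  obtain ⟨b⟩ := nonempty_basis_of_isStandardSmoothOfRelativeDimension p A (Localization.Away g) n
  have hntR := nontrivial_baseChange p A (Localization.Away g)
  letI := (relFrob p A (Localization.Away g)).toAlgebra
  change Module.rankAtStalk (R := BaseChange p A (Localization.Away g)) (Localization.Away g) x = _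
  have : Module.Free (BaseChange p A (Localization.Away g)) (Localization.Away g) :=
    Module.Free.of_basis b
  rw [Module.rankAtStalk_eq_finrank_of_free, Module.finrank_eq_card_basis b, hnr]
  simp

end Final

end Groth.Agent.H74.RelFrobRank
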