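import Groth.Agent.H74.RelFrobFree
import Mathlib.RingTheory.RingHom.Flat
import Mathlib.RingTheory.RingHom.StandardSmooth
import Mathlib.RingTheory.Smooth.StandardSmoothOfFree
import Mathlib.RingTheory.Flat.Localization

set_option autoImplicit false
universe u v w

namespace Groth.Agent.H74.RelFrobSmooth

open MvPolynomial FrobAlg TensorProduct Groth.Agent.H74.RelFrobAlg Groth.Agent.H74.RelFrobPoly
  Groth.Agent.H74.RelFrobFree

section Natural

variable (p : ℕ) [Fact p.Prime] (A : Type u) [CommRing A] [CharP A p]
  {B : Type v} [CommRing B] [Algebra A B] [CharP B p]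
  {B₁ : Type w} [CommRing B₁] [Algebra A B₁] [CharP B₁ p]

/-- The relative Frobenius is natural in the algebra. -/
theorem relFrob_natural (f : B →ₐ[A] B₁) (x : BaseChange p A B) :
    relFrob p A B₁ (Algebra.TensorProduct.map f (AlgHom.id A (Twist p A)) x) =
      f (relFrob p A B x) := by
  induction x using TensorProduct.induction_on with
  | zero => simp
  | tmul b a =>
    rw [Algebra.TensorProduct.map_tmul, relFrob_tmul, relFrob_tmul, map_mul, map_pow,
      AlgHom.commutes, AlgHom.id_apply]
  | add x y hx hy => rw [map_add, map_add, hx, hy, map_add, map_add]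

theorem relFrob_natural' (f : B →ₐ[A] B₁) :
    (relFrob p A B₁).comp
      (Algebra.TensorProduct.map f (AlgHom.id A (Twist p A))).toRingHom =
      f.toRingHom.comp (relFrob p A B) :=
  RingHom.ext (relFrob_natural p A f)

/-- If the relative Frobenius of `B₁` is flat and `B → B₁` is flat then
`B^(p) → B → B₁` is flat. -/
theorem flat_comp_relFrob (f : B →ₐ[A] B₁) (hf : f.toRingHom.Flat)
    (h₁ : (relFrob p A B₁).Flat) : (f.toRingHom.comp (relFrob p A B)).Flat := by
  rw [← relFrob_natural']
  refine RingHom.Flat.comp ?_ h₁
  exact RingHom.Flat.tensorProductMap (R := A) (S := A) hf (RingHom.Flat.id _)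

end Natural

section StdSmooth

variable (p : ℕ) [Fact p.Prime] (A : Type u) [CommRing A] [CharP A p]
  (B' : Type v) [CommRing B'] [Algebra A B'] [CharP B' p]

/-- For a standard smooth algebra of relative dimension `n`, the relative Frobenius makes `B'`
free of rank `p ^ n` over its Frobenius twist. -/
theorem nonempty_basis_of_isStandardSmoothOfRelativeDimension (n : ℕ)
    [Algebra.IsStandardSmoothOfRelativeDimension n A B'] :
    letI := (relFrob p A B').toAlgebra
    Nonempty (Module.Basis (Fin n → Fin p) (BaseChange p A B') B') := by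
  obtain ⟨ψ, hψ⟩ := Algebra.IsStandardSmoothOfRelativeDimension.exists_etale_mvPolynomial n A B'
  letI : Algebra (MvPolynomial (Fin n) A) B' := ψ.toRingHom.toAlgebra
  haveI : IsScalarTower A (MvPolynomial (Fin n) A) B' :=
    IsScalarTower.of_algebraMap_eq' ψ.comp_algebraMap.symm
  haveI : Algebra.Etale (MvPolynomial (Fin n) A) B' := hψ
  exact nonempty_basis p A B'

theorem flat_relFrob_of_isStandardSmooth [Algebra.IsStandardSmooth A B'] :
    (relFrob p A B').Flat := by
  obtain ⟨n, hn⟩ : ∃ n, Algebra.IsStandardSmoothOfRelativeDimension n A B' := by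
    obtain ⟨ι, σ, _, _, ⟨P⟩⟩ := Algebra.IsStandardSmooth.out (R := A) (S := B')
    exact ⟨_, ⟨ι, σ, inferInstance, inferInstance, P, rfl⟩⟩
  obtain ⟨b⟩ := nonempty_basis_of_isStandardSmoothOfRelativeDimension p A B' n
  letI := (relFrob p A B').toAlgebra
  have : Module.Free (BaseChange p A B') B' := Module.Free.of_basis b
  exact (inferInstance : Module.Flat (BaseChange p A B') B')

end StdSmooth

section Smooth

variable (p : ℕ) [Fact p.Prime] (A : Type u) [CommRing A] [CharP A p]
  (B : Type v) [CommRing B] [Algebra A B] [CharP B p]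

theorem charP_of_algebra {B₁ : Type w} [CommRing B₁] [Algebra B B₁] [Nontrivial B₁] :
    CharP B₁ p := by
  refine (CharP.charP_iff_prime_eq_zero (Fact.out : p.Prime)).2 ?_
  have h := map_natCast (algebraMap B B₁) p
  rw [← h, CharP.cast_eq_zero, map_zero]

/-- The relative Frobenius of a smooth algebra is flat. -/
theorem flat_relFrob_of_smooth [Algebra.Smooth A B] : (relFrob p A B).Flat := by
  obtain ⟨s, hs, hstd⟩ := Algebra.Smooth.exists_span_eq_top_isStandardSmooth A B
  letI algRB : Algebra (BaseChange p A B) B := (relFrob p A B).toAlgebra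
  change Module.Flat (BaseChange p A B) B
  refine Module.flat_of_isLocalized_span (R := BaseChange p A B) (S := B) (M := B) s hs
    (fun r => Localization.Away r.1) (fun r => Algebra.linearMap B (Localization.Away r.1)) ?_
  intro r
  rw [← RingHom.flat_algebraMap_iff,
    IsScalarTower.algebraMap_eq (BaseChange p A B) B (Localization.Away r.1)]
  change ((algebraMap B (Localization.Away r.1)).comp (relFrob p A B)).Flat
  by_cases hnt : Nontrivial (Localization.Away r.1)
  · have hchar : CharP (Localization.Away r.1) p := charP_of_algebra p B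
    have hstd' := hstd r.1 r.2
    have hloc : (IsScalarTower.toAlgHom A B (Localization.Away r.1)).toRingHom.Flat := by
      change (algebraMap B (Localization.Away r.1)).Flat
      rw [RingHom.flat_algebraMap_iff]
      exact IsLocalization.flat _ (Submonoid.powers r.1)
    exact flat_comp_relFrob p A (IsScalarTower.toAlgHom A B (Localization.Away r.1)) hloc
      (flat_relFrob_of_isStandardSmooth p A _)
  · have : Subsingleton (Localization.Away r.1) := not_nontrivial_iff_subsingleton.mp hnt
    delta RingHom.Flat
    infer_instance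

end Smooth

end Groth.Agent.H74.RelFrobSmooth
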