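import Mathlib

/-!
# Powers of the companion matrix `!![0,-1;1,ξ+ξ⁻¹]` in `SL₂`
-/

namespace Groth.Agent.H74

universe u v

section

variable {K : Type u} {L : Type v} [Field K] [Field L] [Algebra K L]

/-- Diagonalisation over `L`: for `M = !![0,-1;1,2c]` with `2c = ξ + ξ⁻¹`, `ξ² ≠ 1`,
`(M^m).map = P * diag(ξ^m, ξ^-m) * P⁻¹`; we record the consequences we need. -/
theorem sl2_companion_pow (M : Matrix.SpecialLinearGroup (Fin 2) K) (c : K)
    (hM : (M : Matrix (Fin 2) (Fin 2) K) = !![0, -1; 1, 2 * c]) (ξ : L) (hξ0 : ξ ≠ 0)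
    (hξ2 : ξ ^ 2 ≠ 1) (hc : algebraMap K L (2 * c) = ξ + ξ⁻¹) (m : ℕ) :
    (M ^ m = 1 ↔ ξ ^ m = 1) ∧
    (ξ ^ m = -1 → ((M ^ m : Matrix.SpecialLinearGroup (Fin 2) K) : Matrix (Fin 2) (Fin 2) K) = -1) := by
  classical
  let ML : Matrix (Fin 2) (Fin 2) L := !![0, -1; 1, ξ + ξ⁻¹]
  have hML : (M : Matrix (Fin 2) (Fin 2) K).map (algebraMap K L) = ML := by
    rw [hM]
    ext i j
    fin_cases i <;> fin_cases j <;> simp [ML, ← hc]
  let P : Matrix (Fin 2) (Fin 2) L := !![1, 1; -ξ, -ξ⁻¹]
  let D : Matrix (Fin 2) (Fin 2) L := Matrix.diagonal ![ξ, ξ⁻¹]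
  have hPdet : P.det ≠ 0 := by
    simp only [P, Matrix.det_fin_two_of]
    intro h
    apply hξ2
    have : ξ * ξ = 1 := by
      field_simp at h
      linear_combination h
    rw [pow_two, this]
  have hMP : ML * P = P * D := by
    ext i j
    fin_cases i <;> fin_cases j <;>
      simp [ML, P, D, Matrix.mul_apply, Fin.sum_univ_two, Matrix.diagonal] <;> field_simp <;> ring
  have hpow : ∀ m : ℕ, ML ^ m * P = P * D ^ m := by
    intro m
    induction m with
    | zero => simp
    | succ m ih => rw [pow_succ', Matrix.mul_assoc, ih, ← Matrix.mul_assoc, hMP, Matrix.mul_assoc, ← pow_succ']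
  have hPunit : IsUnit P := (Matrix.isUnit_iff_isUnit_det P).2 (isUnit_iff_ne_zero.2 hPdet)
  have hDpow : ∀ m : ℕ, D ^ m = Matrix.diagonal ![ξ ^ m, (ξ⁻¹) ^ m] := by
    intro m
    simp only [D, Matrix.diagonal_pow]
    congr 1
    ext i; fin_cases i <;> simp
  have hinj : Function.Injective (fun X : Matrix (Fin 2) (Fin 2) K => X.map (algebraMap K L)) :=
    Matrix.map_injective (algebraMap K L).injective
  have hmap : ∀ m : ℕ, ((M ^ m : Matrix.SpecialLinearGroup (Fin 2) K) :
      Matrix (Fin 2) (Fin 2) K).map (algebraMap K L) = ML ^ m := by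
    intro m
    rw [Matrix.SpecialLinearGroup.coe_pow, Matrix.map_pow, hML]
  constructor
  · have h1 : M ^ m = 1 ↔ ML ^ m = 1 := by
      constructor
      · intro h
        rw [← hmap, h]
        simp
      · intro h
        apply Matrix.SpecialLinearGroup.ext
        intro i j
        rw [Matrix.SpecialLinearGroup.coe_one]
        refine congrFun (congrFun ?_ i) j
        apply hinj
        simp only
        rw [hmap, h]
        simp
    rw [h1]
    constructor
    · intro h
      have h2 := hpow m
      rw [h, Matrix.one_mul] at h2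
      have h3 : D ^ m = 1 := by
        obtain ⟨u, hu⟩ := hPunit
        have : (u : Matrix (Fin 2) (Fin 2) L) * 1 = u * D ^ m := by rw [hu, Matrix.mul_one]; exact h2
        exact (Units.mul_right_inj u).1 this |>.symm
      rw [hDpow] at h3
      have h4 := congrFun (congrFun h3 0) 0
      simpa using h4
    · intro h
      have h3 : D ^ m = 1 := by
        rw [hDpow, inv_pow, h]
        ext i j
        fin_cases i <;> fin_cases j <;> simp
      have h2 := hpow m
      rw [h3, Matrix.mul_one] at h2
      obtain ⟨u, hu⟩ := hPunit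
      have : ML ^ m * (u : Matrix (Fin 2) (Fin 2) L) = 1 * u := by rw [hu, Matrix.one_mul]; exact h2
      exact (Units.mul_left_inj u).1 this
  · intro h
    have h3 : D ^ m = -1 := by
      rw [hDpow, inv_pow, h]
      ext i j
      fin_cases i <;> fin_cases j <;> simp [Matrix.diagonal, Matrix.neg_apply]
    have h2 := hpow m
    rw [h3] at h2
    have h4 : ML ^ m = -1 := by
      obtain ⟨u, hu⟩ := hPunit
      have : ML ^ m * (u : Matrix (Fin 2) (Fin 2) L) = (-1) * u := by
        rw [hu, h2]; simp
      exact (Units.mul_left_inj u).1 this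
    apply hinj
    simp only
    rw [hmap, h4]
    ext i j
    fin_cases i <;> fin_cases j <;> simp [Matrix.neg_apply]

end

end Groth.Agent.H74
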