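import Groth.Agent.H74.CircCoprime

/-!
# Spanning trees and circuits via edge subsets (helper74)
-/

open Finset

namespace Groth.Agent.H74.SpanTree

universe u
variable {V E : Type u} [Fintype V] [Fintype E] [DecidableEq V] [DecidableEq E]

open LabGraph DualGr Groth.Agent.H74.CircCoprime

omit [Fintype V] [Fintype E] [DecidableEq V] [DecidableEq E] in
theorem adj_sub_iff (ends : E → V × V) (T : Finset E) (u w : V) :
    Adj (fun e : T => ends e.1) u w ↔ AdjIn ends T u w := by
  constructor
  · rintro ⟨⟨e, he⟩, h⟩; exact ⟨e, he, h⟩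
  · rintro ⟨e, he, h⟩; exact ⟨⟨e, he⟩, h⟩

omit [Fintype V] [Fintype E] [DecidableEq V] [DecidableEq E] in
theorem reach_sub_iff (ends : E → V × V) (T : Finset E) (u w : V) :
    Relation.ReflTransGen (Adj (fun e : T => ends e.1)) u w ↔ ReachIn ends T u w := by
  have : Adj (fun e : T => ends e.1) = AdjIn ends T := by
    funext a b; exact propext (adj_sub_iff ends T a b)
  unfold ReachIn
  rw [this]

omit [Fintype V] [Fintype E] [DecidableEq V] [DecidableEq E] in
theorem connected_sub_iff (ends : E → V × V) (T : Finset E) :
    Connected (fun e : T => ends e.1) ↔ Nonempty V ∧ ∀ u w, ReachIn ends T u w := by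
  unfold Connected
  simp only [reach_sub_iff]

omit [Fintype V] [Fintype E] [DecidableEq E] in
theorem endCount_map (ends : E → V × V) (T : Finset E) (C' : Finset T) (v : V) :
    endCount ends (C'.map (Function.Embedding.subtype _)) v =
      endCount (fun e : T => ends e.1) C' v := by
  simp only [endCount, Finset.sum_map, Function.Embedding.coe_subtype]
  rfl

omit [Fintype V] [Fintype E] in
/-- A circuit of the subgraph is a circuit of the graph. -/
theorem isCircuit_map (ends : E → V × V) (T : Finset E) (C' : Finset T)
    (h : IsCircuit (fun e : T => ends e.1) C') :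
    IsCircuit ends (C'.map (Function.Embedding.subtype _)) := by
  classical
  obtain ⟨hne, heven, hmin⟩ := h
  refine ⟨hne.map, fun v => by rw [endCount_map]; exact heven v, ?_⟩
  intro C'' hss hne''
  have hsub : ∀ x ∈ C'', x ∈ T := by
    intro x hx
    have := hss.subset hx
    rw [Finset.mem_map] at this
    obtain ⟨y, _, rfl⟩ := this
    exact y.2
  have hback : (C''.subtype (· ∈ T)).map (Function.Embedding.subtype _) = C'' :=
    Finset.subtype_map_of_mem hsub
  have hss' : C''.subtype (· ∈ T) ⊂ C' := by
    rw [← Finset.map_ssubset_map (f := Function.Embedding.subtype _), hback]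
    exact hss
  have hne' : (C''.subtype (· ∈ T)).Nonempty := by
    rw [← Finset.map_nonempty (f := Function.Embedding.subtype _), hback]
    exact hne''
  obtain ⟨v, hv⟩ := hmin _ hss' hne'
  refine ⟨v, ?_⟩
  rw [← hback, endCount_map]
  exact hv

omit [Fintype V] [Fintype E] in
/-- A circuit of the graph inside `T` is a circuit of the subgraph. -/
theorem isCircuit_subtype (ends : E → V × V) (T : Finset E) (C : Finset E) (hCT : C ⊆ T)
    (h : IsCircuit ends C) : IsCircuit (fun e : T => ends e.1) (C.subtype (· ∈ T)) := by
  classical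
  obtain ⟨hne, heven, hmin⟩ := h
  have hback : (C.subtype (· ∈ T)).map (Function.Embedding.subtype _) = C :=
    Finset.subtype_map_of_mem hCT
  refine ⟨?_, ?_, ?_⟩
  · rw [← Finset.map_nonempty (f := Function.Embedding.subtype _), hback]; exact hne
  · intro v
    rw [← endCount_map, hback]; exact heven v
  · intro C'' hss hne''
    have hss' : C''.map (Function.Embedding.subtype _) ⊂ C := by
      rw [← hback, Finset.map_ssubset_map]; exact hss
    obtain ⟨v, hv⟩ := hmin _ hss' hne''.map
    exact ⟨v, by rw [← endCount_map]; exact hv⟩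

omit [Fintype V] [Fintype E] in
theorem isForest_sub_iff (ends : E → V × V) (T : Finset E) :
    IsForest (fun e : T => ends e.1) ↔ ∀ C, C ⊆ T → ¬ IsCircuit ends C := by
  constructor
  · intro h C hCT hC
    exact h _ (isCircuit_subtype ends T C hCT hC)
  · intro h C' hC'
    refine h _ ?_ (isCircuit_map ends T C' hC')
    intro x hx
    rw [Finset.mem_map] at hx
    obtain ⟨y, _, rfl⟩ := hx
    exact y.2

omit [Fintype V] [Fintype E] [DecidableEq V] [DecidableEq E] in
theorem adjIn_symm (ends : E → V × V) (F : Finset E) {u w : V} (h : AdjIn ends F u w) :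
    AdjIn ends F w u := by
  obtain ⟨e, he, h | h⟩ := h
  · exact ⟨e, he, Or.inr h⟩
  · exact ⟨e, he, Or.inl h⟩

omit [Fintype V] [Fintype E] [DecidableEq V] [DecidableEq E] in
theorem reachIn_symm (ends : E → V × V) (F : Finset E) {u w : V} (h : ReachIn ends F u w) :
    ReachIn ends F w u := by
  induction h with
  | refl => exact Relation.ReflTransGen.refl
  | tail _ hbc ih =>
    exact Relation.ReflTransGen.head (adjIn_symm ends F hbc) ih

omit [Fintype V] [Fintype E] [DecidableEq V] in
/-- An edge whose endpoints are joined by other edges can be removed without changing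
reachability. -/
theorem reroute (ends : E → V × V) (F : Finset E) (e₁ : E)
    (h₁ : ReachIn ends (F.erase e₁) (ends e₁).2 (ends e₁).1) {u w : V}
    (h : ReachIn ends F u w) : ReachIn ends (F.erase e₁) u w := by
  induction h with
  | refl => exact Relation.ReflTransGen.refl
  | @tail b c _ hbc ih =>
    obtain ⟨e, heF, he⟩ := hbc
    by_cases hee : e = e₁
    · subst hee
      rcases he with he | he
      · -- ends e = (b, c): need b → c, we have path from c=.2 to b=.1
        have h2 : ReachIn ends (F.erase e) b c := by
          have := reachIn_symm ends _ h₁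
          rw [he] at this
          exact this
        exact Relation.ReflTransGen.trans ih h2
      · have h2 : ReachIn ends (F.erase e) b c := by
          have := h₁
          rw [he] at this
          exact this
        exact Relation.ReflTransGen.trans ih h2
    · exact ih.tail ⟨e, Finset.mem_erase.mpr ⟨hee, heF⟩, he⟩

/-- A connected edge set contains a connected edge set without circuits. -/
theorem exists_tree_subset (ends : E → V × V) (F : Finset E)
    (hF : ∀ u w, ReachIn ends F u w) :
    ∃ T, T ⊆ F ∧ (∀ u w, ReachIn ends T u w) ∧ ∀ C, C ⊆ T → ¬ IsCircuit ends C := by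
  classical
  let PP := F.powerset.filter (fun T => ∀ u w, ReachIn ends T u w)
  have hFP : F ∈ PP := by
    simp only [PP, Finset.mem_filter, Finset.mem_powerset]
    exact ⟨subset_rfl, hF⟩
  obtain ⟨T, hT, hmin⟩ := Finset.exists_min_image PP Finset.card ⟨F, hFP⟩
  simp only [PP, Finset.mem_filter, Finset.mem_powerset] at hT
  refine ⟨T, hT.1, hT.2, ?_⟩
  intro C hCT hC
  obtain ⟨⟨e₁, he₁⟩, heven, -⟩ := hC
  have h1 := reachIn_of_even ends C heven e₁ he₁
  have h2 : ReachIn ends (T.erase e₁) (ends e₁).2 (ends e₁).1 :=
    reachIn_mono ends (Finset.erase_subset_erase e₁ hCT) h1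
  have hconn : ∀ u w, ReachIn ends (T.erase e₁) u w := fun u w => reroute ends T e₁ h2 (hT.2 u w)
  have hmem : T.erase e₁ ∈ PP := by
    simp only [PP, Finset.mem_filter, Finset.mem_powerset]
    exact ⟨(Finset.erase_subset _ _).trans hT.1, hconn⟩
  have := hmin _ hmem
  have hlt := Finset.card_erase_lt_of_mem (hCT he₁)
  omega

/-- S14804. -/
theorem mem_circuit_iff (ends : E → V × V) (hG : Connected ends) (v : V) :
    (∃ C : Finset E, IsCircuit ends C ∧ endCount ends C v ≠ 0) ↔
      ∃ T : Finset E, IsSpanningTree ends T ∧
        ∃ e : E, e ∉ T ∧ ((ends e).1 = v ∨ (ends e).2 = v) := by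
  classical
  constructor
  · rintro ⟨C, hC, hv⟩
    obtain ⟨e₀, he₀, hne⟩ := Finset.exists_ne_zero_of_sum_ne_zero hv
    have hend : (ends e₀).1 = v ∨ (ends e₀).2 = v := by
      by_contra hcon
      rw [not_or] at hcon
      simp [hcon.1, hcon.2] at hne
    have h1 := reachIn_of_even ends C hC.2.1 e₀ he₀
    have h2 : ReachIn ends (Finset.univ.erase e₀) (ends e₀).2 (ends e₀).1 :=
      reachIn_mono ends (Finset.erase_subset_erase e₀ (Finset.subset_univ C)) h1
    have hconn : ∀ u w, ReachIn ends (Finset.univ.erase e₀) u w := fun u w =>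
      reroute ends Finset.univ e₀ h2 (reachIn_univ ends (hG.2 u w))
    obtain ⟨T, hTF, hTconn, hTno⟩ := exists_tree_subset ends _ hconn
    refine ⟨T, ⟨(connected_sub_iff ends T).mpr ⟨hG.1, hTconn⟩,
      (isForest_sub_iff ends T).mpr hTno⟩, e₀, ?_, hend⟩
    intro h
    exact (Finset.notMem_erase e₀ Finset.univ) (hTF h)
  · rintro ⟨T, ⟨hTc, hTf⟩, e, heT, hend⟩
    have hTconn := ((connected_sub_iff ends T).mp hTc).2
    have hTno := (isForest_sub_iff ends T).mp hTf
    obtain ⟨γ, hγ0, hγ⟩ := exists_chain ends T (hTconn (ends e).2 (ends e).1)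
    obtain ⟨C, hCF, hC⟩ := exists_circuit_of_odd_cycle ends (insert e T) (γ + Pi.single e 1)
      (by
        intro e' he'
        rw [Finset.mem_insert, not_or] at he'
        simp [hγ0 e' he'.2, he'.1])
      (by
        intro w
        rw [boundary_add, hγ, boundary_single]
        simp only [Pi.sub_apply]; ring)
      e (by simp [hγ0 e heT])
    have heC : e ∈ C := by
      by_contra hcon
      apply hTno C _ hC
      intro x hx
      have := hCF hx
      rw [Finset.mem_insert] at this
      rcases this with rfl | h
      · exact absurd hx hcon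
      · exact h
    refine ⟨C, hC, ?_⟩
    intro h0
    simp only [endCount] at h0
    rw [Finset.sum_eq_zero_iff] at h0
    have := h0 e heC
    rcases hend with h | h <;> simp [h] at this

end Groth.Agent.H74.SpanTree
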