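import Mathlib
import Groth.Prelude.Def_PolLaw2

/-!
# Coordinates on a split algebra, over all test algebras

`A → B` commutative rings, `T` an `A`-algebra and `ε : T ⊗[A] B ≃ₐ[T] (Fin d → T)` a splitting. For every commutative
semiring `R` which is an `A`-algebra and a `T`-algebra compatibly, `R ⊗[A] B` has coordinates `χ R i : R ⊗[A] B →ₐ[R] R`
and points `pt R c = ∑ i, c i • v_i`, inverse to each other.
-/

set_option autoImplicit false
set_option linter.style.haveILetI false
set_option linter.unusedSectionVars false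
universe u
open scoped TensorProduct

namespace Groth.Agent.H74.SplitLaw

variable {A B T : Type u} [CommRing A] [CommRing B] [Algebra A B] [CommRing T] [Algebra A T] {d : ℕ}
  (ε : T ⊗[A] B ≃ₐ[T] (Fin d → T))

/-- the `i`-th point of `B` with values in `T` -/
noncomputable def s (i : Fin d) : B →ₐ[A] T :=
  (((Pi.evalAlgHom T (fun _ : Fin d => T) i).comp ε.toAlgHom).restrictScalars A).comp
    Algebra.TensorProduct.includeRight

theorem s_apply (i : Fin d) (b : B) : s ε i b = ε ((1 : T) ⊗ₜ[A] b) i := rfl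

/-- the `i`-th idempotent -/
noncomputable def v (i : Fin d) : T ⊗[A] B := ε.symm (Pi.single i 1)

theorem eps_v (i : Fin d) : ε (v ε i) = Pi.single i 1 := by simp [v]

section Test

variable (R : Type u) [CommSemiring R] [Algebra A R] [Algebra T R] [IsScalarTower A T R]

/-- the `i`-th coordinate -/
noncomputable def χ (i : Fin d) : R ⊗[A] B →ₐ[R] R :=
  Algebra.TensorProduct.lift (Algebra.ofId R R) ((IsScalarTower.toAlgHom A T R).comp (s ε i))
    (fun _ _ => Commute.all _ _)

theorem χ_tmul (i : Fin d) (r : R) (b : B) :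
    χ ε R i (r ⊗ₜ[A] b) = r * algebraMap T R (s ε i b) := by
  rw [χ, Algebra.TensorProduct.lift_tmul]
  rfl

/-- `T ⊗ B → R ⊗ B` -/
noncomputable def jR : T ⊗[A] B →ₐ[A] R ⊗[A] B :=
  Algebra.TensorProduct.map (IsScalarTower.toAlgHom A T R) (AlgHom.id A B)

theorem jR_tmul (t : T) (b : B) : jR (A := A) (B := B) R (t ⊗ₜ[A] b) = algebraMap T R t ⊗ₜ[A] b := by
  rw [jR, Algebra.TensorProduct.map_tmul]
  rfl

theorem jR_smul (t : T) (y : T ⊗[A] B) :
    jR (A := A) (B := B) R (t • y) = algebraMap T R t • jR R y := by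
  induction y using TensorProduct.induction_on with
  | zero => simp
  | tmul t' b =>
    rw [TensorProduct.smul_tmul', jR_tmul, jR_tmul, TensorProduct.smul_tmul', smul_eq_mul, map_mul,
      smul_eq_mul]
  | add a b ha hb => rw [smul_add, map_add, ha, hb, map_add, smul_add]

theorem χ_jR (k : Fin d) (y : T ⊗[A] B) : χ ε R k (jR R y) = algebraMap T R (ε y k) := by
  induction y using TensorProduct.induction_on with
  | zero => simp
  | tmul t b =>
    rw [jR_tmul, χ_tmul, s_apply, ← map_mul]
    congr 1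
    have : t ⊗ₜ[A] b = t • ((1 : T) ⊗ₜ[A] b) := by
      rw [TensorProduct.smul_tmul', smul_eq_mul, mul_one]
    rw [this, map_smul, Pi.smul_apply, smul_eq_mul]
  | add a b ha hb => rw [map_add, map_add, ha, hb, map_add, Pi.add_apply, map_add]

/-- the idempotents over `R` -/
noncomputable def vR (i : Fin d) : R ⊗[A] B := jR R (v ε i)

theorem χ_vR (k i : Fin d) : χ ε R k (vR ε R i) = if i = k then 1 else 0 := by
  rw [vR, χ_jR, eps_v]
  by_cases h : i = k
  · subst h; simp
  · rw [if_neg h, Pi.single_eq_of_ne (Ne.symm h), map_zero]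

theorem one_tmul_eq (b : B) : (1 : T) ⊗ₜ[A] b = ∑ i, s ε i b • v ε i := by
  apply ε.injective
  funext k
  rw [map_sum, Finset.sum_apply]
  simp_rw [map_smul, eps_v, Pi.smul_apply, smul_eq_mul]
  rw [Finset.sum_eq_single k]
  · simp [s_apply]
  · intro i _ hik
    rw [Pi.single_eq_of_ne (Ne.symm hik), mul_zero]
  · intro h; exact absurd (Finset.mem_univ k) h

/-- the point with given coordinates -/
noncomputable def pt (c : Fin d → R) : R ⊗[A] B := ∑ i, c i • vR ε R i

theorem χ_pt (k : Fin d) (c : Fin d → R) : χ ε R k (pt ε R c) = c k := by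
  rw [pt, map_sum]
  simp_rw [map_smul, χ_vR, smul_eq_mul]
  rw [Finset.sum_eq_single k]
  · simp
  · intro i _ hik
    rw [if_neg hik, mul_zero]
  · intro h; exact absurd (Finset.mem_univ k) h

theorem eq_pt (x : R ⊗[A] B) : x = pt ε R (fun i => χ ε R i x) := by
  induction x using TensorProduct.induction_on with
  | zero => simp [pt]
  | tmul r b =>
    have h1 : r ⊗ₜ[A] b = r • jR (A := A) (B := B) R ((1 : T) ⊗ₜ[A] b) := by
      rw [jR_tmul, map_one, TensorProduct.smul_tmul', smul_eq_mul, mul_one]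
    have h2 : ∀ i, χ ε R i (r ⊗ₜ[A] b) = r * algebraMap T R (s ε i b) :=
      fun i => χ_tmul ε R i r b
    simp only [pt, h2]
    rw [h1, one_tmul_eq ε b, map_sum, Finset.smul_sum]
    refine Finset.sum_congr rfl fun i _ => ?_
    rw [jR_smul, smul_smul]
    rfl
  | add a b ha hb =>
    have : pt ε R (fun i => χ ε R i (a + b)) = pt ε R (fun i => χ ε R i a) + pt ε R (fun i => χ ε R i b) := by
      simp only [pt, map_add, add_smul, Finset.sum_add_distrib]
    rw [this, ← ha, ← hb]

theorem ext_χ {x y : R ⊗[A] B} (h : ∀ k, χ ε R k x = χ ε R k y) : x = y := by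
  rw [eq_pt ε R x, eq_pt ε R y]
  congr 1
  funext k
  exact h k

theorem pt_one : pt ε R (1 : Fin d → R) = 1 := by
  apply ext_χ ε R
  intro k
  rw [χ_pt, map_one, Pi.one_apply]

theorem pt_mul (c c' : Fin d → R) : pt ε R (c * c') = pt ε R c * pt ε R c' := by
  apply ext_χ ε R
  intro k
  rw [χ_pt, map_mul, χ_pt, χ_pt, Pi.mul_apply]

/-- `pt` as a monoid homomorphism -/
noncomputable def ptHom : (Fin d → R) →* R ⊗[A] B where
  toFun := pt ε R
  map_one' := pt_one ε R
  map_mul' := pt_mul ε R

theorem pt_eq_prod (c : Fin d → R) : pt ε R c = ∏ i, pt ε R (Pi.mulSingle i (c i)) := by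
  have h := map_prod (ptHom ε R) (fun i => Pi.mulSingle i (c i)) Finset.univ
  rw [Finset.univ_prod_mulSingle] at h
  exact h

theorem smul_one_eq_pt (r : R) : r • (1 : R ⊗[A] B) = pt ε R (fun _ => r) := by
  apply ext_χ ε R
  intro k
  rw [χ_pt, map_smul, map_one, smul_eq_mul, mul_one]

end Test

section Nat

variable {R R' : Type u} [CommSemiring R] [Algebra A R] [Algebra T R] [IsScalarTower A T R]
  [CommSemiring R'] [Algebra A R'] [Algebra T R'] [IsScalarTower A T R']

theorem χ_map (φ : R →ₐ[T] R') (k : Fin d) (x : R ⊗[A] B) :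
    χ ε R' k (Algebra.TensorProduct.map (φ.restrictScalars A) (AlgHom.id A B) x) = φ (χ ε R k x) := by
  induction x using TensorProduct.induction_on with
  | zero => simp
  | tmul r b =>
    rw [Algebra.TensorProduct.map_tmul, χ_tmul, χ_tmul, map_mul, AlgHom.commutes]
    rfl
  | add a b ha hb => rw [map_add, map_add, ha, hb, map_add, map_add]

theorem map_pt (φ : R →ₐ[T] R') (c : Fin d → R) :
    Algebra.TensorProduct.map (φ.restrictScalars A) (AlgHom.id A B) (pt ε R c) =
      pt ε R' (fun i => φ (c i)) := by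
  apply ext_χ ε R'
  intro k
  rw [χ_map, χ_pt, χ_pt]

end Nat

end Groth.Agent.H74.SplitLaw
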