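import Mathlib
import Groth.Prelude.Def_PolLaw2
import Groth.Agent.H74.SplitLawA

/-!
# Multiplicative laws on a split algebra

`val G R x`: the value of a law `B → A` over `R`, as an element of `R`. For a splitting `ε` of `T ⊗ B` the law is a product
of one-variable polynomials `Q ε G i ∈ T[X]` in the coordinates (`val_eq`).
-/

set_option autoImplicit false
set_option linter.style.haveILetI false
set_option linter.unusedSectionVars false
universe u
open scoped TensorProduct

namespace Groth.Agent.H74.SplitLaw

variable {A B T : Type u} [CommRing A] [CommRing B] [Algebra A B] [CommRing T] [Algebra A T] {d : ℕ}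
  (ε : T ⊗[A] B ≃ₐ[T] (Fin d → T)) (G : PolLaw.MulLaw A B A d)

section Val

variable (R : Type u) [CommSemiring R] [Algebra A R]

/-- the value of the law over `R`, in `R` -/
noncomputable def val (x : R ⊗[A] B) : R := Algebra.TensorProduct.rid A R R (G.law.toFun' R x)

theorem toFun'_eq (x : R ⊗[A] B) : G.law.toFun' R x = val G R x ⊗ₜ[A] (1 : A) := by
  apply (Algebra.TensorProduct.rid A R R).injective
  rw [val, Algebra.TensorProduct.rid_tmul, one_smul]

theorem val_one : val G R 1 = 1 := by
  rw [val, (G.mult R).1, map_one]

theorem val_mul (x y : R ⊗[A] B) : val G R (x * y) = val G R x * val G R y := by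
  rw [val, (G.mult R).2, map_mul]
  rfl

/-- `val` as a monoid homomorphism -/
noncomputable def valHom : R ⊗[A] B →* R where
  toFun := val G R
  map_one' := val_one G R
  map_mul' := val_mul G R

theorem val_smul (r : R) (x : R ⊗[A] B) : val G R (r • x) = r ^ d * val G R x := by
  rw [val, G.homog R r x, map_smul, smul_eq_mul]
  rfl

theorem rid_rTensor {R' : Type u} [CommSemiring R'] [Algebra A R'] (φ : R →ₐ[A] R') (z : R ⊗[A] A) :
    Algebra.TensorProduct.rid A R' R' (φ.toLinearMap.rTensor A z) =
      φ (Algebra.TensorProduct.rid A R R z) := by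
  induction z using TensorProduct.induction_on with
  | zero => simp
  | tmul r a =>
    rw [LinearMap.rTensor_tmul, Algebra.TensorProduct.rid_tmul, Algebra.TensorProduct.rid_tmul,
      map_smul]
    rfl
  | add a b ha hb => rw [map_add, map_add, ha, hb, map_add, map_add]

theorem val_map {R' : Type u} [CommSemiring R'] [Algebra A R'] (φ : R →ₐ[A] R') (x : R ⊗[A] B) :
    val G R' (Algebra.TensorProduct.map φ (AlgHom.id A B) x) = φ (val G R x) := by
  rw [val, val, ← PolLaw.rTensor_algHom_apply, ← G.law.isCompat_apply', rid_rTensor]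

end Val

section Q

/-- the one-variable polynomial of the `i`-th factor -/
noncomputable def Q (i : Fin d) : Polynomial T :=
  val G (Polynomial T) (pt ε (Polynomial T) (Pi.mulSingle i Polynomial.X))

variable (R : Type u) [CommSemiring R] [Algebra A R] [Algebra T R] [IsScalarTower A T R]

theorem val_pt_mulSingle (i : Fin d) (r : R) :
    val G R (pt ε R (Pi.mulSingle i r)) = Polynomial.aeval r (Q ε G i) := by
  have h := map_pt ε (Polynomial.aeval (R := T) r) (Pi.mulSingle i Polynomial.X)
  have h2 : (fun k => Polynomial.aeval (R := T) r ((Pi.mulSingle i Polynomial.X : Fin d → Polynomial T) k)) =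
      Pi.mulSingle i r := by
    funext k
    by_cases hk : k = i
    · subst hk; simp
    · rw [Pi.mulSingle_eq_of_ne hk, Pi.mulSingle_eq_of_ne hk, map_one]
  rw [h2] at h
  rw [← h, val_map, Q]
  rfl

theorem val_pt (c : Fin d → R) : val G R (pt ε R c) = ∏ i, Polynomial.aeval (c i) (Q ε G i) := by
  rw [pt_eq_prod]
  have h := map_prod (valHom G R) (fun i => pt ε R (Pi.mulSingle i (c i))) Finset.univ
  refine h.trans ?_
  refine Finset.prod_congr rfl fun i _ => ?_
  exact val_pt_mulSingle ε G R i (c i)

theorem val_eq (x : R ⊗[A] B) : val G R x = ∏ i, Polynomial.aeval (χ ε R i x) (Q ε G i) := by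
  conv_lhs => rw [eq_pt ε R x]
  exact val_pt ε G R _

end Q

end Groth.Agent.H74.SplitLaw
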