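import Mathlib
import Groth.Prelude.Def_PolLaw2
import Groth.Agent.H74.SplitLawB
import Groth.Agent.S13697

/-!
# A multiplicative law of degree `d` on a split algebra of rank `d` with nil kernel is the product of the coordinates
-/

set_option autoImplicit false
set_option linter.style.haveILetI false
set_option linter.unusedSectionVars false
universe u
open scoped TensorProduct
open Polynomial

namespace Groth.Agent.H74.SplitLaw

variable {A B T : Type u} [CommRing A] [CommRing B] [Algebra A B] [CommRing T] [Algebra A T] {d : ℕ}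
  (ε : T ⊗[A] B ≃ₐ[T] (Fin d → T)) (G : PolLaw.MulLaw A B A d)

theorem aeval_one_Q (i : Fin d) : aeval (1 : T) (Q ε G i) = 1 := by
  rw [← val_pt_mulSingle ε G T i 1, Pi.mulSingle_one, pt_one, val_one]

theorem aeval_mul_Q (R : Type u) [CommSemiring R] [Algebra A R] [Algebra T R] [IsScalarTower A T R]
    (i : Fin d) (r r' : R) :
    aeval (r * r') (Q ε G i) = aeval r (Q ε G i) * aeval r' (Q ε G i) := by
  rw [← val_pt_mulSingle ε G R i, ← val_pt_mulSingle ε G R i, ← val_pt_mulSingle ε G R i, ← val_mul,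
    ← pt_mul, ← Pi.mulSingle_mul]

theorem Q_mul_C (i : Fin d) : Q ε G i * C ((Q ε G i).coeff 0) = C ((Q ε G i).coeff 0) := by
  have h := aeval_mul_Q ε G (Polynomial T) i X 0
  rw [mul_zero, aeval_X_left_apply] at h
  have h0 : aeval (0 : Polynomial T) (Q ε G i) = C ((Q ε G i).coeff 0) := by
    rw [aeval_def, eval₂_at_zero]
    rfl
  rw [h0] at h
  exact h.symm

theorem coeff_mul_coeff_zero (i : Fin d) (k : ℕ) :
    (Q ε G i).coeff k * (Q ε G i).coeff 0 = if k = 0 then (Q ε G i).coeff 0 else 0 := by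
  have h := congrArg (fun p => p.coeff k) (Q_mul_C ε G i)
  simp only [coeff_mul_C, coeff_C] at h
  exact h

theorem Q_expand (i : Fin d) : expand T 2 (Q ε G i) = Q ε G i * Q ε G i := by
  have h := aeval_mul_Q ε G (Polynomial T) i X X
  rw [aeval_X_left_apply] at h
  rw [← h, ← pow_two, ← expand_aeval, aeval_X_left_apply]

theorem prod_Q : ∏ i, Q ε G i = X ^ d := by
  have h := val_pt ε G (Polynomial T) (fun _ => X)
  rw [← smul_one_eq_pt, val_smul, val_one, mul_one] at h
  rw [h]
  refine Finset.prod_congr rfl fun i _ => ?_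
  rw [aeval_X_left_apply]

theorem aeval_shift (p : Polynomial T) (c : T) (h : ∀ k, k ≠ 0 → p.coeff k * c = 0)
    (R : Type u) [CommSemiring R] [Algebra T R] (ξ ω : R) :
    aeval (ξ + ω * algebraMap T R c) p = aeval ξ p := by
  have hq : ∀ k : ℕ, ∃ q : R, (ξ + ω * algebraMap T R c) ^ k = ξ ^ k + algebraMap T R c * q := by
    intro k
    induction k with
    | zero => exact ⟨0, by simp⟩
    | succ k ih =>
      obtain ⟨q, hq⟩ := ih
      refine ⟨q * ξ + ξ ^ k * ω + algebraMap T R c * q * ω, ?_⟩
      rw [pow_succ, hq]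
      ring
  rw [aeval_eq_sum_range, aeval_eq_sum_range]
  refine Finset.sum_congr rfl fun k _ => ?_
  by_cases hk : k = 0
  · subst hk; simp
  · obtain ⟨q, hq⟩ := hq k
    rw [hq, smul_add, Algebra.smul_def (p.coeff k) (algebraMap T R c * q), ← mul_assoc, ← map_mul,
      h k hk, map_zero, zero_mul, add_zero]

theorem mem_kerBC (i : Fin d) : (Q ε G i).coeff 0 • v ε i ∈ PolLaw.kerBC G.law T := by
  intro R _ _ _ _ x w
  rw [toFun'_eq, toFun'_eq]
  congr 1
  rw [val_eq ε G R, val_eq ε G R]
  refine Finset.prod_congr rfl fun k _ => ?_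
  have hχ : χ ε R k (x + w * Algebra.TensorProduct.map (IsScalarTower.toAlgHom A T R) (AlgHom.id A B)
      ((Q ε G i).coeff 0 • v ε i)) =
      χ ε R k x + χ ε R k w * algebraMap T R ((Q ε G i).coeff 0 * (Pi.single i (1 : T) : Fin d → T) k) := by
    rw [map_add, map_mul]
    congr 2
    have := χ_jR ε R k ((Q ε G i).coeff 0 • v ε i)
    have e1 : ε ((Q ε G i).coeff 0 • v ε i) k = (Q ε G i).coeff 0 * (Pi.single i (1 : T) : Fin d → T) k := by
      rw [map_smul, eps_v, Pi.smul_apply, smul_eq_mul]
    rw [e1] at this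
    exact this
  rw [hχ]
  by_cases hk : k = i
  · subst hk
    rw [Pi.single_eq_same, mul_one]
    apply aeval_shift
    intro l hl
    rw [coeff_mul_coeff_zero, if_neg hl]
  · rw [Pi.single_eq_of_ne hk, mul_zero, map_zero, mul_zero, add_zero]

theorem eq_zero_of_nilpotent_of_idem {S : Type*} [CommRing S] (a : S) (h1 : IsNilpotent a)
    (h2 : a * a = a) : a = 0 := by
  obtain ⟨n, hn⟩ := h1
  have : ∀ m : ℕ, a ^ (m + 1) = a := by
    intro m
    induction m with
    | zero => simp
    | succ m ih => rw [pow_succ, ih, h2]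
  cases n with
  | zero =>
    rw [pow_zero] at hn
    rw [← mul_one a, hn, mul_zero]
  | succ n => rw [← this n, hn]

theorem coeff_zero_Q (hker : PolLaw.ker G.law ≤ nilradical B) (i : Fin d) : (Q ε G i).coeff 0 = 0 := by
  apply eq_zero_of_nilpotent_of_idem
  · have h1 := mem_kerBC ε G i
    have h2 : PolLaw.kerBC G.law T ≤ nilradical (T ⊗[A] B) := by
      refine Ideal.le_radical.trans ?_
      rw [Groth.Agent.S13697.result G T]
      have h3 : (PolLaw.ker G.law).map (Algebra.TensorProduct.includeRight : B →ₐ[A] T ⊗[A] B) ≤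
          nilradical (T ⊗[A] B) := by
        rw [Ideal.map_le_iff_le_comap]
        intro b hb
        have := hker hb
        rw [Ideal.mem_comap, mem_nilradical]
        exact IsNilpotent.map (mem_nilradical.1 this) _
      refine (Ideal.radical_mono h3).trans ?_
      rw [nilradical, Ideal.radical_idem]
    have h3 : IsNilpotent ((Q ε G i).coeff 0 • v ε i) := mem_nilradical.1 (h2 h1)
    have h4 := IsNilpotent.map h3 ((Pi.evalAlgHom T (fun _ : Fin d => T) i).comp ε.toAlgHom)
    have h5 : ((Pi.evalAlgHom T (fun _ : Fin d => T) i).comp ε.toAlgHom) ((Q ε G i).coeff 0 • v ε i) =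
        (Q ε G i).coeff 0 := by
      rw [map_smul, AlgHom.comp_apply]
      show (Q ε G i).coeff 0 • (ε (v ε i)) i = _
      rw [eps_v, Pi.single_eq_same, smul_eq_mul, mul_one]
    rw [h5] at h4
    exact h4
  · have := coeff_mul_coeff_zero ε G i 0
    rw [if_pos rfl] at this
    exact this

theorem Q_eq_X (hker : PolLaw.ker G.law ≤ nilradical B) (i : Fin d) : Q ε G i = X := by
  have h0 := coeff_zero_Q ε G hker
  -- divide by X
  have hdiv : ∀ j, Q ε G j = divX (Q ε G j) * X := by
    intro j
    have := divX_mul_X_add (Q ε G j)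
    rw [h0 j, map_zero, add_zero] at this
    exact this.symm
  have hprod : (∏ j, divX (Q ε G j)) * X ^ d = 1 * X ^ d := by
    rw [one_mul]
    calc (∏ j, divX (Q ε G j)) * X ^ d = ∏ j, (divX (Q ε G j) * X) := by
          rw [Finset.prod_mul_distrib, Finset.prod_const, Finset.card_univ, Fintype.card_fin]
      _ = ∏ j, Q ε G j := Finset.prod_congr rfl (fun j _ => (hdiv j).symm)
      _ = X ^ d := prod_Q ε G
  have hone : ∏ j, divX (Q ε G j) = 1 := (monic_X_pow d).isRegular.right hprod
  have hunit : IsUnit (divX (Q ε G i)) :=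
    isUnit_of_dvd_one (hone ▸ Finset.dvd_prod_of_mem _ (Finset.mem_univ i))
  have hnil : ∀ k, 2 ≤ k → IsNilpotent ((Q ε G i).coeff k) := by
    intro k hk
    have := (Polynomial.coeff_isUnit_isNilpotent_of_isUnit hunit).2 (k - 1) (by omega)
    rw [coeff_divX] at this
    have hk' : k - 1 + 1 = k := by omega
    rw [hk'] at this
    exact this
  have hdeg : (Q ε G i).natDegree ≤ 1 := by
    by_contra hcon
    rw [not_le] at hcon
    have hn := hnil _ hcon
    have hexp : (expand T 2 (Q ε G i)).coeff ((Q ε G i).natDegree * 2) =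
        (Q ε G i * Q ε G i).coeff ((Q ε G i).natDegree * 2) := by rw [Q_expand]
    rw [coeff_expand_mul (by norm_num : 0 < 2), mul_two, coeff_mul_degree_add_degree] at hexp
    have hlead : (Q ε G i).leadingCoeff = 0 :=
      eq_zero_of_nilpotent_of_idem _ hn hexp.symm
    rw [leadingCoeff_eq_zero] at hlead
    rw [hlead, natDegree_zero] at hcon
    omega
  have h1 := eq_X_add_C_of_natDegree_le_one hdeg
  rw [h0 i, map_zero, add_zero] at h1
  have h2 := aeval_one_Q ε G i
  rw [h1, map_mul, aeval_C, aeval_X, mul_one] at h2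
  have h3 : (Q ε G i).coeff 1 = 1 := h2
  rw [h1, h3, map_one, one_mul]

theorem val_eq_prod (hker : PolLaw.ker G.law ≤ nilradical B)
    (R : Type u) [CommSemiring R] [Algebra A R] [Algebra T R] [IsScalarTower A T R] (x : R ⊗[A] B) :
    val G R x = ∏ i, χ ε R i x := by
  rw [val_eq ε G R]
  refine Finset.prod_congr rfl fun i _ => ?_
  rw [Q_eq_X ε G hker, aeval_X]

end Groth.Agent.H74.SplitLaw
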