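import Mathlib
import Groth.Prelude.Def_PolLaw2
import Groth.Agent.H74.SplitLawC
import Groth.Agent.H74.NormDetC
import Groth.Agent.H14.TraceForm

/-!
# The norm law of a finite étale free algebra: trivial kernel and uniqueness
-/

set_option autoImplicit false
set_option linter.style.haveILetI false
set_option linter.unusedSectionVars false
universe u
open scoped TensorProduct
open Polynomial

namespace Groth.Agent.H74.SplitLaw

section Trace

variable {A B : Type u} [CommRing A] [CommRing B] [Algebra A B] [Module.Free A B] [Module.Finite A B]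

theorem norm_one_add_X_tmul_coeff_one (c : B) :
    (Algebra.norm (Polynomial A) ((1 : Polynomial A ⊗[A] B) + (X : Polynomial A) ⊗ₜ[A] c)).coeff 1 =
      Algebra.trace A B c := by
  classical
  let β := Module.Free.chooseBasis A B
  rw [Algebra.norm_eq_matrix_det (Algebra.TensorProduct.basis (Polynomial A) β),
    Algebra.trace_eq_matrix_trace β, ← Matrix.coeff_det_one_add_X_smul_one]
  congr 2
  ext i j : 1
  rw [Algebra.leftMulMatrix_eq_repr_mul, Algebra.TensorProduct.basis_apply, add_mul, one_mul,
    Algebra.TensorProduct.tmul_mul_tmul, mul_one, map_add, Algebra.TensorProduct.basis_repr_tmul,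
    Algebra.TensorProduct.basis_repr_tmul, Finsupp.add_apply, Finsupp.smul_apply, Finsupp.smul_apply,
    Finsupp.mapRange_apply, Finsupp.mapRange_apply, Matrix.add_apply, Matrix.smul_apply, Matrix.map_apply,
    Algebra.leftMulMatrix_eq_repr_mul, Module.Basis.repr_self, Matrix.one_apply, smul_eq_mul, smul_eq_mul,
    one_mul]
  congr 1
  by_cases h : i = j
  · subst h; simp
  · rw [if_neg h, Finsupp.single_eq_of_ne h, map_zero]

theorem ker_eq_bot [Algebra.Etale A B] {d : ℕ} (N : PolLaw.MulLaw A B A d)
    (hN : ∀ (S : Type u) [CommRing S] [Algebra A S] (x : S ⊗[A] B),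
      N.law.toFun' S x = Algebra.norm S x ⊗ₜ[A] (1 : A)) :
    PolLaw.ker N.law = ⊥ := by
  rw [eq_bot_iff]
  intro b hb
  have hbij := (Groth.Agent.H14.etale_iff_traceForm_bijective A B).1 inferInstance
  have : Algebra.traceForm A B b = Algebra.traceForm A B 0 := by
    apply LinearMap.ext
    intro b'
    rw [map_zero, LinearMap.zero_apply, Algebra.traceForm_apply]
    have h := @hb (Polynomial A) CommRing.toCommSemiring _ 1 ((X : Polynomial A) ⊗ₜ[A] b')
    rw [hN, hN, Algebra.TensorProduct.tmul_mul_tmul, mul_one, map_one] at h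
    have h2 := congrArg (Algebra.TensorProduct.rid A (Polynomial A) (Polynomial A)) h
    rw [Algebra.TensorProduct.rid_tmul, Algebra.TensorProduct.rid_tmul, one_smul, one_smul] at h2
    have h3 := norm_one_add_X_tmul_coeff_one (A := A) (b' * b)
    rw [h2, coeff_one] at h3
    rw [mul_comm, ← h3]
    simp
  have := hbij.1 this
  simpa using this

end Trace

section Unique

variable {A B T : Type u} [CommRing A] [CommRing B] [Algebra A B] [CommRing T] [Algebra A T] {d : ℕ}
  (ε : T ⊗[A] B ≃ₐ[T] (Fin d → T))

include ε in
theorem eq_of_split [Module.FaithfullyFlat A T] (F N : PolLaw.MulLaw A B A d)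
    (hF : PolLaw.ker F.law ≤ nilradical B) (hN : PolLaw.ker N.law ≤ nilradical B) : F = N := by
  apply PolLaw.MulLaw.ext
  apply Groth.Agent.H74.NormDetC.law_ext_poly
  intro n x
  rw [toFun'_eq, toFun'_eq]
  congr 1
  have hinj : Function.Injective
      (Algebra.TensorProduct.includeRight : MvPolynomial (Fin n) A →ₐ[A] T ⊗[A] MvPolynomial (Fin n) A) :=
    Module.FaithfullyFlat.tensorProduct_mk_injective (A := A) (B := T) (MvPolynomial (Fin n) A)
  apply hinj
  rw [← val_map, ← val_map, val_eq_prod ε F hF, val_eq_prod ε N hN]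

end Unique

end Groth.Agent.H74.SplitLaw
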