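import Mathlib

/-!
# The "vector bundle" algebra of an idempotent matrix

For an idempotent matrix `E` over `A`, the `A`-algebra `A[Y] / ((1 - E)ᵀ Y)` is smooth over `A`,
has a retraction to `A` and is generated by the `Y`'s, which satisfy `Y = Eᵀ Y`.
-/

set_option autoImplicit false
set_option linter.style.haveILetI false

open MvPolynomial

universe u

namespace Groth.Agent.H74.SymRetC

variable {A : Type u} [CommRing A] {N : ℕ} (E : Matrix (Fin N) (Fin N) A)

/-- the linear forms `∑ k, (1 - E) k j * Y k` -/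
noncomputable def ell (j : Fin N) : MvPolynomial (Fin N) A :=
  ∑ k, C ((1 - E) k j) * X k

/-- the algebra `A[Y] / ((1 - E)ᵀ Y)` -/
abbrev CRing : Type u := MvPolynomial (Fin N) A ⧸ Ideal.span (Set.range (ell E))

/-- the classes of the variables -/
noncomputable def yv (k : Fin N) : CRing E := Ideal.Quotient.mk _ (X k)

theorem mk_ell (j : Fin N) :
    (Ideal.Quotient.mk (Ideal.span (Set.range (ell E))) (ell E j) : CRing E) = 0 :=
  Ideal.Quotient.eq_zero_iff_mem.mpr (Ideal.subset_span ⟨j, rfl⟩)

theorem algebraMap_eq (a : A) :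
    algebraMap A (CRing E) a = Ideal.Quotient.mk _ (C a) := rfl

theorem ell_eq (j : Fin N) : ell E j = X j - ∑ k, C (E k j) * X k := by
  unfold ell
  simp only [Matrix.sub_apply, map_sub, sub_mul, Finset.sum_sub_distrib]
  congr 1
  simp only [Matrix.one_apply, apply_ite (C : A →+* MvPolynomial (Fin N) A), map_one, map_zero,
    ite_mul, one_mul, zero_mul]
  rw [Finset.sum_ite_eq' Finset.univ j]
  simp

theorem yv_eq (j : Fin N) :
    yv E j = ∑ k, algebraMap A (CRing E) (E k j) * yv E k := by
  have h := mk_ell E j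
  rw [ell_eq, map_sub, sub_eq_zero, map_sum] at h
  unfold yv
  rw [h]
  refine Finset.sum_congr rfl fun k _ => ?_
  rw [map_mul]
  rfl

theorem adjoin_yv : Algebra.adjoin A (Set.range (yv E)) = ⊤ := by
  rw [eq_top_iff]
  rintro x -
  obtain ⟨p, rfl⟩ := Ideal.Quotient.mk_surjective x
  induction p using MvPolynomial.induction_on with
  | C a => exact Subalgebra.algebraMap_mem _ a
  | add p q hp hq =>
    rw [map_add]
    exact Subalgebra.add_mem _ hp hq
  | mul_X p i hp =>
    rw [map_mul]
    exact Subalgebra.mul_mem _ hp (Algebra.subset_adjoin ⟨i, rfl⟩)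

/-- the retraction `Y ↦ 0` -/
noncomputable def retr : CRing E →ₐ[A] A :=
  Ideal.Quotient.liftₐ _ (aeval (fun _ : Fin N => (0 : A))) (by
    intro a ha
    refine Submodule.span_induction ?_ ?_ ?_ ?_ ha
    · rintro _ ⟨j, rfl⟩
      simp [ell]
    · exact map_zero _
    · intro x y _ _ hx hy
      rw [map_add, hx, hy, add_zero]
    · intro c x _ hx
      rw [smul_eq_mul, map_mul, hx, mul_zero])

instance finitePresentation : Algebra.FinitePresentation A (CRing E) :=
  Algebra.FinitePresentation.quotient (Submodule.fg_span (Set.finite_range (ell E)))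

theorem formallySmooth (hE : E * E = E) : Algebra.FormallySmooth A (CRing E) := by
  apply Algebra.FormallySmooth.of_comp_surjective
  intro B _ _ I hI f
  choose b hb using fun k => Ideal.Quotient.mk_surjective (f (yv E k))
  let b' : Fin N → B := fun j => ∑ k, algebraMap A B (E k j) * b k
  let g₀ : MvPolynomial (Fin N) A →ₐ[A] B := aeval b'
  have hE0 : E * (1 - E) = 0 := by rw [Matrix.mul_sub, Matrix.mul_one, hE, sub_self]
  have hg₀ : ∀ j, g₀ (ell E j) = 0 := by
    intro j
    have h1 : g₀ (ell E j) = ∑ i, algebraMap A B ((E * (1 - E)) i j) * b i := by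
      simp only [g₀, ell, map_sum, map_mul, aeval_C, aeval_X, b', Matrix.mul_apply,
        Finset.mul_sum, Finset.sum_mul]
      rw [Finset.sum_comm]
      refine Finset.sum_congr rfl fun i _ => Finset.sum_congr rfl fun k _ => ?_
      ring
    rw [h1, hE0]
    simp
  have hker : ∀ a ∈ Ideal.span (Set.range (ell E)), g₀ a = 0 := by
    intro a ha
    refine Submodule.span_induction ?_ ?_ ?_ ?_ ha
    · rintro _ ⟨j, rfl⟩
      exact hg₀ j
    · exact map_zero _
    · intro x y _ _ hx hy
      rw [map_add, hx, hy, add_zero]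
    · intro c x _ hx
      rw [smul_eq_mul, map_mul, hx, mul_zero]
  refine ⟨Ideal.Quotient.liftₐ _ g₀ hker, ?_⟩
  apply Ideal.Quotient.algHom_ext
  apply MvPolynomial.algHom_ext
  intro j
  change Ideal.Quotient.mk I (g₀ (X j)) = f (yv E j)
  simp only [g₀, aeval_X, b', map_sum, map_mul, hb]
  rw [yv_eq E j, map_sum]
  refine Finset.sum_congr rfl fun k _ => ?_
  rw [map_mul, AlgHom.commutes]
  rfl

theorem smooth (hE : E * E = E) : Algebra.Smooth A (CRing E) :=
  ⟨formallySmooth E hE, inferInstance⟩

end Groth.Agent.H74.SymRetC
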