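import Mathlib
import Groth.Prelude.Def_RegImm
import Groth.Agent.H46.SyntConormal
import Groth.Agent.H74.SyntLiftRank

/-!
# Presentation data for a syntomic algebra: generators of the kernel and a lifted idempotent
-/

set_option autoImplicit false
set_option linter.style.haveILetI false

open TensorProduct

universe u

namespace Groth.Agent.H74.SymRetData

theorem exists_data {R A : Type u} [CommRing R] [CommRing A] [Algebra R A]
    (h : Synt.IsSyntomic R A) :
    ∃ (n N : ℕ) (β : MvPolynomial (Fin n) R →ₐ[R] A) (hβ : Function.Surjective β)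
      (j : Fin N → MvPolynomial (Fin n) R)
      (et : Matrix (Fin N) (Fin N) (MvPolynomial (Fin n) R)),
      RingHom.ker β.toRingHom = Ideal.span (Set.range j) ∧
      (∀ l, j l - ∑ m, j m * et m l ∈ Ideal.span (Set.range j) ^ 2) ∧
      (∀ a b, (et * et - et) a b ∈ Ideal.span (Set.range j)) ∧
      (∀ (κ : Type u) [Field κ] [Algebra A κ],
        ((et.map β).map (algebraMap A κ)).rank =
          Module.finrank κ (κ ⊗[A] (Algebra.Extension.ofSurjective β hβ).Cotangent)) := by
  classical
  obtain ⟨n, β, hβ, hfg⟩ := h.2.1.out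
  obtain ⟨N, j, hj⟩ := Submodule.fg_iff_exists_fin_generating_family.mp hfg
  have hj' : Ideal.span (Set.range j) = RingHom.ker β.toRingHom := hj
  let P := Algebra.Extension.ofSurjective β hβ
  have hPker : P.ker = RingHom.ker β.toRingHom := by
    ext x
    rfl
  have hjmem0 : ∀ l, j l ∈ RingHom.ker β.toRingHom := by
    intro l
    rw [← hj']
    exact Ideal.subset_span ⟨l, rfl⟩
  have hjmem : ∀ l, j l ∈ P.ker := hjmem0
  haveI : Module.Projective A P.Cotangent :=
    Groth.Agent.H46.SyntConormal.projective_cotangent R A h n β hβ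
  let v : Fin N → P.Cotangent := fun l => Algebra.Extension.Cotangent.mk ⟨j l, hjmem l⟩
  let π : (Fin N → A) →ₗ[A] P.Cotangent := Fintype.linearCombination A v
  have hspan : Submodule.span A (Set.range v) = ⊤ :=
    Algebra.Extension.Cotangent.span_eq_top_of_span_eq_ker (P := P) j (by rw [hPker]; exact hj')
  have hπ : Function.Surjective π := by
    rw [← LinearMap.range_eq_top, Fintype.range_linearCombination, hspan]
  obtain ⟨s, hs⟩ := Module.projective_lifting_property π LinearMap.id hπ
  let eb : Matrix (Fin N) (Fin N) A := Groth.Agent.H74.SyntLiftRank.idem π s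
  have heb : eb * eb = eb := Groth.Agent.H74.SyntLiftRank.idem_mul_idem π s hs
  choose et het using fun a b => hβ (eb a b)
  have hetmap : (Matrix.of et).map β = eb := by
    ext a b
    exact het a b
  refine ⟨n, N, β, hβ, j, Matrix.of et, hj'.symm, ?_, ?_, ?_⟩
  · intro l
    rw [hj', ← hPker]
    have hz : (j l - ∑ m, j m * Matrix.of et m l) ∈ P.ker := by
      rw [hPker]
      refine Ideal.sub_mem _ (hjmem0 l) (Ideal.sum_mem _ fun m _ => ?_)
      exact Ideal.mul_mem_right _ _ (hjmem0 m)
    refine (Algebra.Extension.Cotangent.mk_eq_zero_iff (P := P) ⟨_, hz⟩).mp ?_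
    let rr : Fin N → P.Ring := fun m => et m l
    have hsub : (⟨j l - ∑ m, j m * Matrix.of et m l, hz⟩ : P.ker) =
        ⟨j l, hjmem l⟩ - ∑ m, rr m • (⟨j m, hjmem m⟩ : P.ker) := by
      apply Subtype.ext
      rw [Submodule.coe_sub, Submodule.coe_sum]
      simp only [Submodule.coe_smul, smul_eq_mul, Matrix.of_apply]
      congr 1
      exact Finset.sum_congr rfl fun m _ => mul_comm _ _
    rw [hsub, map_sub, map_sum]
    have hsm : ∀ m, Algebra.Extension.Cotangent.mk (P := P)
        (rr m • (⟨j m, hjmem m⟩ : P.ker)) = eb m l • v m := by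
      intro m
      rw [map_smul, ← het m l]
      exact (algebraMap_smul A (rr m) (v m))
    simp only [hsm]
    have h3 := Groth.Agent.H74.SyntLiftRank.pi_col_idem π s hs l
    have h4 : π (fun m => eb m l) = ∑ m, eb m l • v m := by
      rw [Fintype.linearCombination_apply]
    have h5 : π (Pi.single l 1) = v l := by
      rw [Fintype.linearCombination_apply_single, one_smul]
    rw [← h4, h3, h5, sub_self]
  · intro a b
    rw [hj']
    change β ((Matrix.of et * Matrix.of et - Matrix.of et) a b) = 0
    rw [Matrix.sub_apply, map_sub, sub_eq_zero]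
    have h1 : β ((Matrix.of et * Matrix.of et) a b) = (eb * eb) a b := by
      rw [Matrix.mul_apply, Matrix.mul_apply, map_sum]
      refine Finset.sum_congr rfl fun c _ => ?_
      rw [map_mul]
      change β (et a c) * β (et c b) = _
      rw [het, het]
    rw [h1, heb]
    exact (het a b).symm
  · intro κ _ _
    rw [hetmap]
    exact Groth.Agent.H74.SyntLiftRank.rank_idem_map π s hs κ

end Groth.Agent.H74.SymRetData
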