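import Mathlib
import Groth.Agent.H74.SymRetC

/-!
# Dimension of the fibres of `A[Y] / ((1 - E)ᵀ Y)` over `A`
-/

set_option autoImplicit false
set_option linter.style.haveILetI false

open MvPolynomial TensorProduct

universe u

namespace Groth.Agent.H74.SymRetDim

open Groth.Agent.H74.SymRetC

variable {A : Type u} [CommRing A] {N : ℕ} (E : Matrix (Fin N) (Fin N) A)

/-- The fibre ring of `A[Y] / ((1 - E)ᵀ Y)` at a field `κ` has dimension at most the rank of
`E` over `κ`. -/
theorem ringKrullDim_tensor_le (κ : Type u) [Field κ] [Algebra A κ] :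
    ringKrullDim (κ ⊗[A] CRing E) ≤ (((E.map (algebraMap A κ)).rank : ℕ) : WithBot ℕ∞) := by
  classical
  set Eb : Matrix (Fin N) (Fin N) κ := E.map (algebraMap A κ) with hEb
  let w : Fin N → κ ⊗[A] CRing E := fun j => (1 : κ) ⊗ₜ[A] yv E j
  let L : (Fin N → κ) →ₗ[κ] κ ⊗[A] CRing E := Fintype.linearCombination κ w
  have hLapp : ∀ v, L v = ∑ j, v j • w j := fun v => Fintype.linearCombination_apply κ w v
  have hw : ∀ j, w j = ∑ k, Eb k j • w k := by
    intro j
    change (1 : κ) ⊗ₜ[A] yv E j = _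
    rw [yv_eq E j, TensorProduct.tmul_sum]
    refine Finset.sum_congr rfl fun k _ => ?_
    rw [← Algebra.smul_def, TensorProduct.tmul_smul, TensorProduct.smul_tmul', hEb,
      Matrix.map_apply, Algebra.smul_def, mul_one, TensorProduct.smul_tmul', smul_eq_mul, mul_one]
  have hL : ∀ v, L v = L (Eb.mulVec v) := by
    intro v
    rw [hLapp, hLapp]
    calc ∑ j, v j • w j = ∑ j, ∑ k, (Eb k j * v j) • w k := by
          refine Finset.sum_congr rfl fun j _ => ?_
          rw [hw j, Finset.smul_sum]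
          refine Finset.sum_congr rfl fun k _ => ?_
          rw [smul_smul, mul_comm]
      _ = ∑ k, ∑ j, (Eb k j * v j) • w k := Finset.sum_comm
      _ = ∑ k, Eb.mulVec v k • w k := by
          refine Finset.sum_congr rfl fun k _ => ?_
          rw [← Finset.sum_smul]
          rfl
  let W : Submodule κ (Fin N → κ) := LinearMap.range Eb.mulVecLin
  have hd : Module.finrank κ W = Eb.rank := rfl
  let bW : Module.Basis (Fin Eb.rank) κ W := Module.finBasisOfFinrankEq κ W hd
  let Θ : MvPolynomial (Fin Eb.rank) κ →ₐ[κ] κ ⊗[A] CRing E := aeval (fun i => L (bW i))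
  have hW : ∀ x ∈ W, L x ∈ Θ.range := by
    intro x hx
    have h1 := bW.sum_repr ⟨x, hx⟩
    have h2 : x = ∑ i, bW.repr ⟨x, hx⟩ i • (bW i : Fin N → κ) := by
      have h3 := congrArg (Subtype.val) h1
      simp only [Submodule.coe_sum, Submodule.coe_smul] at h3
      exact h3.symm
    rw [h2, map_sum]
    refine Subalgebra.sum_mem _ fun i _ => ?_
    rw [map_smul]
    refine Subalgebra.smul_mem _ ?_ _
    exact ⟨X i, by simp [Θ]⟩
  have hsurj : Function.Surjective Θ := by
    rw [← AlgHom.range_eq_top, eq_top_iff,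
      ← Algebra.TensorProduct.adjoin_one_tmul_image_eq_top (A := κ) _ (adjoin_yv E)]
    apply Algebra.adjoin_le
    rintro _ ⟨_, ⟨j, rfl⟩, rfl⟩
    change w j ∈ Θ.range
    have h1 : w j = L (Pi.single j 1) := by
      rw [hLapp]
      simp [Pi.single_apply]
    rw [h1, hL]
    exact hW _ ⟨_, rfl⟩
  calc ringKrullDim (κ ⊗[A] CRing E) ≤ ringKrullDim (MvPolynomial (Fin Eb.rank) κ) :=
        ringKrullDim_le_of_surjective Θ.toRingHom hsurj
    _ = ((Eb.rank : ℕ) : WithBot ℕ∞) := by
        rw [MvPolynomial.ringKrullDim_of_isNoetherianRing, ringKrullDim_eq_zero_of_field]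
        simp

end Groth.Agent.H74.SymRetDim
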