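import Mathlib
import Groth.Prelude.Def_RegImm
import Groth.Prelude.Def_Flat
import Groth.Agent.H74.SymRetDim
import Groth.Agent.H74.SyntLiftRank
import Groth.Agent.H46.SyntLocal
import Groth.Agent.H46.RelGCIOpenIdeal
import Groth.Agent.H51.FibCompMain
import Groth.Agent.H17.Chev.FibreLocal

/-!
# Fibre dimension of `Spec A[Y]/((1 - E)ᵀ Y) → Spec R` for `A` syntomic over `R`
-/

set_option autoImplicit false
set_option linter.style.haveILetI false

open MvPolynomial TensorProduct AlgebraicGeometry CategoryTheory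

universe u

namespace Groth.Agent.H74.SymRetFib

open Groth.Agent.H74.SymRetC

section Transport

variable (R : Type u) [CommRing R] {S S' : Type u} [CommRing S] [CommRing S'] [Algebra R S]
  [Algebra R S']

/-- transport of the local fibre dimension along an open immersion of spectra -/
theorem fibreDimAt_eq_of_isOpenImmersion (φ : S →ₐ[R] S')
    [IsOpenImmersion (Spec.map (CommRingCat.ofHom φ.toRingHom))] (t : PrimeSpectrum S') :
    FlatMor.fibreDimAt (Spec.map (CommRingCat.ofHom (algebraMap R S')))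
      (show ↥(Spec (CommRingCat.of S')) from t) =
    FlatMor.fibreDimAt (Spec.map (CommRingCat.ofHom (algebraMap R S)))
      (show ↥(Spec (CommRingCat.of S)) from PrimeSpectrum.comap φ.toRingHom t) := by
  have hc : Spec.map (CommRingCat.ofHom (algebraMap R S')) ≫ 𝟙 _ =
      Spec.map (CommRingCat.ofHom φ.toRingHom) ≫ Spec.map (CommRingCat.ofHom (algebraMap R S)) := by
    rw [Category.comp_id, ← Spec.map_comp, ← CommRingCat.ofHom_comp]
    congr 2
    exact φ.comp_algebraMap.symm
  exact Groth.Agent.H17.Chev.fibreDimAt_eq_of_isOpenImmersion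
    (Spec.map (CommRingCat.ofHom (algebraMap R S))) (Spec.map (CommRingCat.ofHom (algebraMap R S')))
    (Spec.map (CommRingCat.ofHom φ.toRingHom)) (𝟙 _) Function.injective_id hc t

/-- transport along an isomorphism -/
theorem fibreDimAt_eq_of_algEquiv (e : S ≃ₐ[R] S') (t : PrimeSpectrum S') :
    FlatMor.fibreDimAt (Spec.map (CommRingCat.ofHom (algebraMap R S')))
      (show ↥(Spec (CommRingCat.of S')) from t) =
    FlatMor.fibreDimAt (Spec.map (CommRingCat.ofHom (algebraMap R S)))
      (show ↥(Spec (CommRingCat.of S)) from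
        PrimeSpectrum.comap (e : S →ₐ[R] S').toRingHom t) := by
  haveI : IsIso (CommRingCat.ofHom (e : S →ₐ[R] S').toRingHom) :=
    inferInstanceAs (IsIso e.toRingEquiv.toCommRingCatIso.hom)
  exact fibreDimAt_eq_of_isOpenImmersion R (e : S →ₐ[R] S') t

end Transport

section Beta

variable {R A : Type u} [CommRing R] [CommRing A] [Algebra R A]

/-- the local fibre dimension of a syntomic algebra in terms of the conormal module of a
presentation -/
theorem fibreDimAt_le_sub (h : Synt.IsSyntomic R A) (n : ℕ)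
    (β : MvPolynomial (Fin n) R →ₐ[R] A) (hβ : Function.Surjective β) (𝔭 : PrimeSpectrum A) :
    Module.finrank 𝔭.asIdeal.ResidueField
        (𝔭.asIdeal.ResidueField ⊗[A] (Algebra.Extension.ofSurjective β hβ).Cotangent) ≤ n ∧
    FlatMor.fibreDimAt (Spec.map (CommRingCat.ofHom (algebraMap R A)))
      (show ↥(Spec (CommRingCat.of A)) from 𝔭) ≤
      ((n - Module.finrank 𝔭.asIdeal.ResidueField
        (𝔭.asIdeal.ResidueField ⊗[A] (Algebra.Extension.ofSurjective β hβ).Cotangent) : ℕ) :
          WithBot ℕ∞) := by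
  haveI : Algebra.FinitePresentation R A := h.2.1
  obtain ⟨g, hg, n₁, c₁, F₁, hF₁, ⟨e⟩⟩ := Groth.Agent.H46.SyntLocal.main R A h 𝔭.asIdeal
  have hg' : algebraMap A 𝔭.asIdeal.ResidueField g ≠ 0 := by
    rw [ne_eq, Ideal.algebraMap_residueField_eq_zero]
    exact hg
  have hrk := Groth.Agent.H74.SyntLiftRank.finrank_tensor_cotangent R A n β hβ g n₁ c₁ F₁ hF₁ e
    𝔭.asIdeal.ResidueField hg'
  have hmem : 𝔭 ∈ Set.range (PrimeSpectrum.comap (algebraMap A (Localization.Away g))) := by
    rw [PrimeSpectrum.localization_away_comap_range (Localization.Away g) g]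
    exact hg
  obtain ⟨t, ht⟩ := hmem
  obtain ⟨hc, hle⟩ := Groth.Agent.H46.RelGCIOpenIdeal.fibreDimAt_le_of_equiv R
    (Localization.Away g) e t (n₁ - c₁) (c₁ ≤ n₁) hF₁
  haveI : IsOpenImmersion (Spec.map (CommRingCat.ofHom
      (IsScalarTower.toAlgHom R A (Localization.Away g)).toRingHom)) :=
    inferInstanceAs (IsOpenImmersion (Spec.map (CommRingCat.ofHom
      (algebraMap A (Localization.Away g)))))
  have htr := fibreDimAt_eq_of_isOpenImmersion R
    (IsScalarTower.toAlgHom R A (Localization.Away g)) t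
  have ht' : PrimeSpectrum.comap (IsScalarTower.toAlgHom R A (Localization.Away g)).toRingHom t =
      𝔭 := ht
  rw [ht'] at htr
  refine ⟨by omega, ?_⟩
  rw [← htr]
  refine hle.trans (le_of_eq ?_)
  congr 1
  have : n₁ - c₁ = n - Module.finrank 𝔭.asIdeal.ResidueField
      (𝔭.asIdeal.ResidueField ⊗[A] (Algebra.Extension.ofSurjective β hβ).Cotangent) := by omega
  exact_mod_cast this

end Beta

section Main

variable {R A : Type u} [CommRing R] [CommRing A] [Algebra R A]

/-- the fibres of `Spec A[Y]/((1 - E)ᵀ Y) → Spec R` have local dimension at most the number of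
variables of a presentation of `A` whose conormal module has the rank of `E` -/
theorem fibreDimAt_CRing_le (h : Synt.IsSyntomic R A) (n N : ℕ)
    (β : MvPolynomial (Fin n) R →ₐ[R] A) (hβ : Function.Surjective β)
    (E : Matrix (Fin N) (Fin N) A)
    (hrank : ∀ (κ : Type u) [Field κ] [Algebra A κ], (E.map (algebraMap A κ)).rank =
      Module.finrank κ (κ ⊗[A] (Algebra.Extension.ofSurjective β hβ).Cotangent))
    (q : PrimeSpectrum (CRing E)) :
    FlatMor.fibreDimAt (Spec.map (CommRingCat.ofHom (algebraMap R (CRing E))))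
      (show ↥(Spec (CommRingCat.of (CRing E))) from q) ≤ ((n : ℕ) : WithBot ℕ∞) := by
  haveI : Algebra.FinitePresentation R A := h.2.1
  let f := Spec.map (CommRingCat.ofHom (algebraMap A (CRing E)))
  let g := Spec.map (CommRingCat.ofHom (algebraMap R A))
  have hfg : f ≫ g = Spec.map (CommRingCat.ofHom (algebraMap R (CRing E))) := by
    rw [← Spec.map_comp, ← CommRingCat.ofHom_comp, ← IsScalarTower.algebraMap_eq]
  haveI : LocallyOfFiniteType f := by
    rw [HasRingHomProperty.Spec_iff (P := @LocallyOfFiniteType)]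
    exact RingHom.finiteType_algebraMap.mpr inferInstance
  haveI : LocallyOfFiniteType g := by
    rw [HasRingHomProperty.Spec_iff (P := @LocallyOfFiniteType)]
    exact RingHom.finiteType_algebraMap.mpr inferInstance
  have h1 := (Groth.Agent.H51.fibreDimAt_comp_le f g
    (show ↥(Spec (CommRingCat.of (CRing E))) from q)).1
  rw [hfg] at h1
  obtain ⟨h2, -⟩ := Groth.Agent.H46.RelGCIOpenIdeal.fibreDimAt_le_ringKrullDim A (CRing E) q
  haveI : q.asIdeal.IsPrime := q.isPrime
  have h3 := Groth.Agent.H74.SymRetDim.ringKrullDim_tensor_le E (q.asIdeal.under A).ResidueField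
  let 𝔭 : PrimeSpectrum A := PrimeSpectrum.comap (algebraMap A (CRing E)) q
  obtain ⟨h4, h5⟩ := fibreDimAt_le_sub h n β hβ 𝔭
  rw [← hrank] at h4 h5
  refine h1.trans ?_
  have h6 : FlatMor.fibreDimAt f (show ↥(Spec (CommRingCat.of (CRing E))) from q) ≤
      (((E.map (algebraMap A 𝔭.asIdeal.ResidueField)).rank : ℕ) : WithBot ℕ∞) := h2.trans h3
  have h7 : FlatMor.fibreDimAt g (f.base (show ↥(Spec (CommRingCat.of (CRing E))) from q)) ≤
      ((n - (E.map (algebraMap A 𝔭.asIdeal.ResidueField)).rank : ℕ) : WithBot ℕ∞) := h5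
  refine (add_le_add h6 h7).trans (le_of_eq ?_)
  have : (E.map (algebraMap A 𝔭.asIdeal.ResidueField)).rank +
      (n - (E.map (algebraMap A 𝔭.asIdeal.ResidueField)).rank) = n := by omega
  exact_mod_cast congrArg (fun m : ℕ => (m : WithBot ℕ∞)) this

end Main

end Groth.Agent.H74.SymRetFib
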