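import Mathlib

/-!
# An ideal-theoretic lemma for the smooth retract of a syntomic algebra

`I₀ = (f)` an ideal of `T`, `Et` a matrix which is idempotent modulo `I₀` and such that
`f ≡ f · Et` modulo `I₀²`, `y` arbitrary elements.  With `D = 1 - Et`, `lin j = ∑ i, D i j * y i`
and `gen j = f j + ∑ i, (D * D) i j * y i`, the ideal `J = I₀ + (lin)` satisfies
`(gen) ≤ J ≤ (gen) + J²`.
-/

set_option autoImplicit false

open Matrix

namespace Groth.Agent.H74.SymRetIdeal

variable {T : Type*} [CommRing T] {N : ℕ}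

/-- the linear forms `∑ i, (1 - Et) i j * y i` -/
def lin (Et : Matrix (Fin N) (Fin N) T) (y : Fin N → T) (j : Fin N) : T :=
  ∑ i, (1 - Et) i j * y i

/-- the new generators `f j + ∑ i, ((1 - Et) * (1 - Et)) i j * y i` -/
def gen (f : Fin N → T) (Et : Matrix (Fin N) (Fin N) T) (y : Fin N → T) (j : Fin N) : T :=
  f j + ∑ i, ((1 - Et) * (1 - Et)) i j * y i

theorem gen_eq (f : Fin N → T) (Et : Matrix (Fin N) (Fin N) T) (y : Fin N → T) (j : Fin N) :
    gen f Et y j = f j + ∑ k, (1 - Et) k j * lin Et y k := by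
  unfold gen lin
  congr 1
  simp_rw [Matrix.mul_apply, Finset.sum_mul, Finset.mul_sum]
  rw [Finset.sum_comm]
  refine Finset.sum_congr rfl fun k _ => Finset.sum_congr rfl fun i _ => ?_
  ring

theorem sum_gen_mul (f : Fin N → T) (Et : Matrix (Fin N) (Fin N) T) (y : Fin N → T) (l : Fin N) :
    ∑ j, gen f Et y j * Et j l =
      ∑ j, f j * Et j l + ∑ k, lin Et y k * ((1 - Et) * Et) k l := by
  simp_rw [gen_eq, add_mul, Finset.sum_add_distrib, Matrix.mul_apply, Finset.sum_mul,
    Finset.mul_sum]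
  congr 1
  rw [Finset.sum_comm]
  refine Finset.sum_congr rfl fun k _ => Finset.sum_congr rfl fun i _ => ?_
  ring

theorem sum_mul_lin (Et : Matrix (Fin N) (Fin N) T) (y : Fin N → T) (j : Fin N) :
    ∑ k, Et k j * lin Et y k = ∑ i, ((1 - Et) * Et) i j * y i := by
  unfold lin
  simp_rw [Matrix.mul_apply, Finset.sum_mul, Finset.mul_sum]
  rw [Finset.sum_comm]
  refine Finset.sum_congr rfl fun k _ => Finset.sum_congr rfl fun i _ => ?_
  ring

theorem lin_eq (f : Fin N → T) (Et : Matrix (Fin N) (Fin N) T) (y : Fin N → T) (j : Fin N) :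
    lin Et y j = gen f Et y j - f j + ∑ i, ((1 - Et) * Et) i j * y i := by
  rw [← sum_mul_lin, gen_eq]
  have h : ∑ k, (1 - Et) k j * lin Et y k = lin Et y j - ∑ k, Et k j * lin Et y k := by
    simp_rw [Matrix.sub_apply, sub_mul, Finset.sum_sub_distrib, Matrix.one_apply, ite_mul,
      one_mul, zero_mul]
    rw [Finset.sum_ite_eq' Finset.univ j]
    simp
  rw [h]
  ring

theorem one_sub_mul_self (Et : Matrix (Fin N) (Fin N) T) :
    (1 - Et) * Et = -(Et * Et - Et) := by
  rw [Matrix.sub_mul, Matrix.one_mul]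
  abel

/-- The main statement. -/
theorem main (f y : Fin N → T) (Et : Matrix (Fin N) (Fin N) T)
    (hidem : ∀ a b, (Et * Et - Et) a b ∈ Ideal.span (Set.range f))
    (hrel : ∀ l, f l - ∑ m, f m * Et m l ∈ Ideal.span (Set.range f) ^ 2) :
    (∀ j, gen f Et y j ∈ Ideal.span (Set.range f) ⊔ Ideal.span (Set.range (lin Et y))) ∧
      Ideal.span (Set.range f) ⊔ Ideal.span (Set.range (lin Et y)) ≤
        Ideal.span (Set.range (gen f Et y)) ⊔
          (Ideal.span (Set.range f) ⊔ Ideal.span (Set.range (lin Et y))) ^ 2 := by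
  set I₀ := Ideal.span (Set.range f) with hI₀
  set L := Ideal.span (Set.range (lin Et y)) with hL
  set G := Ideal.span (Set.range (gen f Et y)) with hG
  have hfI : ∀ j, f j ∈ I₀ := fun j => Ideal.subset_span ⟨j, rfl⟩
  have hlL : ∀ j, lin Et y j ∈ L := fun j => Ideal.subset_span ⟨j, rfl⟩
  have hgG : ∀ j, gen f Et y j ∈ G := fun j => Ideal.subset_span ⟨j, rfl⟩
  have hDE : ∀ a b, ((1 - Et) * Et) a b ∈ I₀ := by
    intro a b
    rw [one_sub_mul_self, Matrix.neg_apply]
    exact neg_mem (hidem a b)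
  refine ⟨fun j => ?_, ?_⟩
  · rw [gen_eq]
    refine add_mem (Ideal.mem_sup_left (hfI j)) (Ideal.mem_sup_right ?_)
    exact Ideal.sum_mem _ fun k _ => Ideal.mul_mem_left _ _ (hlL k)
  · -- first the `f l`
    have hf : ∀ l, f l ∈ G ⊔ (I₀ ⊔ L) ^ 2 := by
      intro l
      have h1 : f l = ∑ j, gen f Et y j * Et j l - ∑ k, lin Et y k * ((1 - Et) * Et) k l +
          (f l - ∑ m, f m * Et m l) := by
        rw [sum_gen_mul]
        ring
      rw [h1]
      refine add_mem (sub_mem ?_ ?_) ?_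
      · exact Ideal.mem_sup_left
          (Ideal.sum_mem _ fun j _ => Ideal.mul_mem_right _ _ (hgG j))
      · refine Ideal.mem_sup_right (Ideal.sum_mem _ fun k _ => ?_)
        rw [pow_two]
        exact Ideal.mul_mem_mul (Ideal.mem_sup_right (hlL k)) (Ideal.mem_sup_left (hDE k l))
      · exact Ideal.mem_sup_right (Ideal.pow_right_mono le_sup_left 2 (hrel l))
    have hI₀le : I₀ ≤ G ⊔ (I₀ ⊔ L) ^ 2 := by
      rw [hI₀, Ideal.span_le]
      rintro _ ⟨l, rfl⟩
      exact hf l
    refine sup_le hI₀le ?_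
    rw [hL, Ideal.span_le]
    rintro _ ⟨j, rfl⟩
    change lin Et y j ∈ G ⊔ (I₀ ⊔ L) ^ 2
    rw [lin_eq f]
    refine add_mem (sub_mem (Ideal.mem_sup_left (hgG j)) (hf j)) ?_
    exact Ideal.sum_mem _ fun i _ => Ideal.mul_mem_right _ _ (hI₀le (hDE i j))

end Groth.Agent.H74.SymRetIdeal
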