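import Mathlib
import Groth.Agent.H74.SymRetIdeal
import Groth.Agent.H74.SymRetC
import Groth.Agent.H87.SmoothQuotC
import Groth.Agent.H74.SymRetAway

/-!
# A presentation of `A[Y] / ((1 - E)ᵀ Y)` over `R` with as many relations as `Y`-variables
-/

set_option autoImplicit false
set_option linter.style.haveILetI false

open MvPolynomial

universe u

namespace Groth.Agent.H74.SymRetPres

open Groth.Agent.H74.SymRetC Groth.Agent.H74.SymRetIdeal

variable {R A : Type u} [CommRing R] [CommRing A] [Algebra R A] {n N : ℕ}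
  (β : MvPolynomial (Fin n) R →ₐ[R] A)
  (j : Fin N → MvPolynomial (Fin n) R) (et : Matrix (Fin N) (Fin N) (MvPolynomial (Fin n) R))

/-- the inclusion `R[x] → R[x, y]` -/
noncomputable abbrev inc : MvPolynomial (Fin n) R →ₐ[R] MvPolynomial (Fin (n + N)) R :=
  rename (Fin.castAdd N)

/-- the `y` variables -/
noncomputable abbrev yT (k : Fin N) : MvPolynomial (Fin (n + N)) R := X (Fin.natAdd n k)

/-- the generators of the kernel of `β`, in `R[x, y]` -/
noncomputable abbrev fT (l : Fin N) : MvPolynomial (Fin (n + N)) R := inc (N := N) (j l)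

/-- the matrix `et` in `R[x, y]` -/
noncomputable abbrev EtT : Matrix (Fin N) (Fin N) (MvPolynomial (Fin (n + N)) R) :=
  et.map (inc (N := N))

/-- the `N` relations -/
noncomputable abbrev genT : Fin N → MvPolynomial (Fin (n + N)) R :=
  gen (fT j) (EtT et) (yT (n := n) (R := R))

/-- the surjection `R[x, y] → A[Y] / ((1 - E)ᵀ Y)` -/
noncomputable def Phi : MvPolynomial (Fin (n + N)) R →ₐ[R] CRing (et.map β) :=
  aeval (Fin.append (fun i => algebraMap A (CRing (et.map β)) (β (X i))) (yv (et.map β)))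

theorem Phi_inc (p : MvPolynomial (Fin n) R) :
    Phi β et (inc (N := N) p) = algebraMap A (CRing (et.map β)) (β p) := by
  have h : (Phi β et).comp (inc (N := N)) =
      (IsScalarTower.toAlgHom R A (CRing (et.map β))).comp β := by
    apply MvPolynomial.algHom_ext
    intro i
    simp only [AlgHom.comp_apply, inc, rename_X, Phi, aeval_X, Fin.append_left]
    rfl
  exact DFunLike.congr_fun h p

theorem Phi_yT (k : Fin N) : Phi β et (yT k) = yv (et.map β) k := by
  simp only [Phi, yT, aeval_X, Fin.append_right]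

theorem Phi_surjective (hβ : Function.Surjective β) : Function.Surjective (Phi β et) := by
  intro x
  have hx : x ∈ Algebra.adjoin A (Set.range (yv (et.map β))) := by
    rw [adjoin_yv]; trivial
  refine Algebra.adjoin_induction ?_ ?_ ?_ ?_ hx
  · rintro _ ⟨k, rfl⟩
    exact ⟨yT k, Phi_yT β et k⟩
  · intro a
    obtain ⟨p, rfl⟩ := hβ a
    exact ⟨inc (N := N) p, Phi_inc β et p⟩
  · rintro _ _ _ _ ⟨a, rfl⟩ ⟨b, rfl⟩
    exact ⟨a + b, map_add _ _ _⟩
  · rintro _ _ _ _ ⟨a, rfl⟩ ⟨b, rfl⟩
    exact ⟨a * b, map_mul _ _ _⟩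

theorem Phi_one_sub (a b : Fin N) :
    Phi β et ((1 - EtT et) a b) = algebraMap A (CRing (et.map β)) ((1 - et.map β) a b) := by
  have h : (1 - EtT et) a b = inc (N := N) ((1 - et) a b) := by
    simp only [Matrix.sub_apply, Matrix.map_apply, map_sub, Matrix.one_apply]
    split_ifs <;> simp
  rw [h, Phi_inc]
  congr 1
  simp only [Matrix.sub_apply, Matrix.map_apply, map_sub, Matrix.one_apply]
  split_ifs <;> simp

theorem Phi_lin (l : Fin N) : Phi β et (lin (EtT et) (yT (n := n) (R := R)) l) = 0 := by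
  unfold lin
  simp only [map_sum, map_mul, Phi_one_sub, Phi_yT]
  have h := mk_ell (et.map β) l
  unfold ell at h
  rw [map_sum] at h
  simp only [map_mul] at h
  exact h

theorem Phi_fT (hker : RingHom.ker β.toRingHom = Ideal.span (Set.range j)) (l : Fin N) :
    Phi β et (fT j l) = 0 := by
  rw [fT, Phi_inc]
  have : j l ∈ RingHom.ker β.toRingHom := by
    rw [hker]; exact Ideal.subset_span ⟨l, rfl⟩
  rw [RingHom.mem_ker] at this
  change β (j l) = 0 at this
  rw [this, map_zero]

/-- the ideal `J'` -/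
noncomputable abbrev JT : Ideal (MvPolynomial (Fin (n + N)) R) :=
  Ideal.span (Set.range (fT j)) ⊔ Ideal.span (Set.range (lin (EtT et) (yT (n := n) (R := R))))

theorem JT_le_ker (hker : RingHom.ker β.toRingHom = Ideal.span (Set.range j)) :
    JT j et ≤ RingHom.ker (Phi β et).toRingHom := by
  refine sup_le ?_ ?_
  · rw [Ideal.span_le]
    rintro _ ⟨l, rfl⟩
    exact Phi_fT β j et hker l
  · rw [Ideal.span_le]
    rintro _ ⟨l, rfl⟩
    exact Phi_lin β et l

theorem ker_le_JT (hβ : Function.Surjective β)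
    (hker : RingHom.ker β.toRingHom = Ideal.span (Set.range j)) :
    RingHom.ker (Phi β et).toRingHom ≤ JT j et := by
  -- the inverse map
  let mkJ : MvPolynomial (Fin (n + N)) R →ₐ[R] (MvPolynomial (Fin (n + N)) R ⧸ JT j et) :=
    Ideal.Quotient.mkₐ R (JT j et)
  have hle : RingHom.ker β.toRingHom ≤ RingHom.ker (mkJ.comp (inc (N := N))).toRingHom := by
    intro p hp
    rw [hker] at hp
    rw [RingHom.mem_ker]
    change Ideal.Quotient.mk (JT j et) (inc (N := N) p) = 0
    rw [Ideal.Quotient.eq_zero_iff_mem]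
    refine Ideal.mem_sup_left ?_
    have : Ideal.span (Set.range (fT j)) = (Ideal.span (Set.range j)).map (inc (N := N)) := by
      rw [Ideal.map_span, ← Set.range_comp]
      rfl
    rw [this]
    exact Ideal.mem_map_of_mem _ hp
  let ψA : A →ₐ[R] (MvPolynomial (Fin (n + N)) R ⧸ JT j et) :=
    AlgHom.liftOfSurjective β hβ (mkJ.comp (inc (N := N))) hle
  have hψA : ∀ p, ψA (β p) = Ideal.Quotient.mk (JT j et) (inc (N := N) p) := fun p =>
    AlgHom.liftOfSurjective_apply β hβ _ hle p
  let Ψ₀ : MvPolynomial (Fin N) A →+* (MvPolynomial (Fin (n + N)) R ⧸ JT j et) :=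
    eval₂Hom ψA.toRingHom (fun k => Ideal.Quotient.mk (JT j et) (yT k))
  have hΨ₀C : ∀ a, Ψ₀ (C a) = ψA a := fun a => eval₂Hom_C _ _ a
  have hΨ₀X : ∀ k, Ψ₀ (X k) = Ideal.Quotient.mk (JT j et) (yT k) := fun k => eval₂Hom_X' _ _ k
  have hone : ∀ a b, ψA ((1 - et.map β) a b) =
      Ideal.Quotient.mk (JT j et) ((1 - EtT et) a b) := by
    intro a b
    have h1 : (1 - et.map β) a b = β ((1 - et) a b) := by
      simp only [Matrix.sub_apply, Matrix.map_apply, map_sub, Matrix.one_apply]
      split_ifs <;> simp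
    have h2 : (1 - EtT et) a b = inc (N := N) ((1 - et) a b) := by
      simp only [Matrix.sub_apply, Matrix.map_apply, map_sub, Matrix.one_apply]
      split_ifs <;> simp
    rw [h1, h2, hψA]
  have hΨ₀ell : ∀ l, Ψ₀ (ell (et.map β) l) = 0 := by
    intro l
    unfold ell
    simp only [map_sum, map_mul, hΨ₀C, hΨ₀X, hone]
    have : lin (EtT et) (yT (n := n) (R := R)) l ∈ JT j et :=
      Ideal.mem_sup_right (Ideal.subset_span ⟨l, rfl⟩)
    have h3 := Ideal.Quotient.eq_zero_iff_mem.mpr this
    unfold lin at h3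
    rw [map_sum] at h3
    simp only [map_mul] at h3
    exact h3
  have hΨ₀ker : ∀ a ∈ Ideal.span (Set.range (ell (et.map β))), Ψ₀ a = 0 := by
    intro a ha
    refine Submodule.span_induction ?_ ?_ ?_ ?_ ha
    · rintro _ ⟨l, rfl⟩
      exact hΨ₀ell l
    · exact map_zero _
    · intro x y _ _ hx hy
      rw [map_add, hx, hy, add_zero]
    · intro c x _ hx
      rw [smul_eq_mul, map_mul, hx, mul_zero]
  let Ψ : CRing (et.map β) →+* (MvPolynomial (Fin (n + N)) R ⧸ JT j et) :=
    Ideal.Quotient.lift _ Ψ₀ hΨ₀ker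
  have hΨmk : ∀ a, Ψ (Ideal.Quotient.mk _ a) = Ψ₀ a := fun a => Ideal.Quotient.lift_mk _ _ _
  have hcomp : Ψ.comp (Phi β et).toRingHom = Ideal.Quotient.mk (JT j et) := by
    apply MvPolynomial.ringHom_ext
    · intro r
      simp only [RingHom.comp_apply, AlgHom.toRingHom_eq_coe, RingHom.coe_coe]
      rw [← MvPolynomial.algebraMap_eq, AlgHom.commutes,
        IsScalarTower.algebraMap_apply R A (CRing (et.map β)), SymRetC.algebraMap_eq, hΨmk, hΨ₀C,
        AlgHom.commutes]
      rfl
    · intro i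
      simp only [RingHom.comp_apply, AlgHom.toRingHom_eq_coe, RingHom.coe_coe]
      induction i using Fin.addCases with
      | left i =>
        have h1 : (X (Fin.castAdd N i) : MvPolynomial (Fin (n + N)) R) = inc (N := N) (X i) := by
          simp [inc]
        rw [h1, Phi_inc, SymRetC.algebraMap_eq, hΨmk, hΨ₀C, hψA]
      | right k =>
        have h1 : (X (Fin.natAdd n k) : MvPolynomial (Fin (n + N)) R) = yT k := rfl
        rw [h1, Phi_yT]
        change Ψ (Ideal.Quotient.mk _ (X k)) = _
        rw [hΨmk, hΨ₀X]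
  intro t ht
  rw [RingHom.mem_ker] at ht
  have h1 := congrArg (fun F => F t) hcomp
  simp only [RingHom.comp_apply] at h1
  rw [ht, map_zero] at h1
  exact Ideal.Quotient.eq_zero_iff_mem.mp h1.symm

/-- The presentation: `A[Y] / ((1 - E)ᵀ Y)` is a basic open of `R[x, y] / (gen)`. -/
theorem exists_equiv (hβ : Function.Surjective β)
    (hker : RingHom.ker β.toRingHom = Ideal.span (Set.range j))
    (hrel : ∀ l, j l - ∑ m, j m * et m l ∈ Ideal.span (Set.range j) ^ 2)
    (hidem : ∀ a b, (et * et - et) a b ∈ Ideal.span (Set.range j)) :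
    ∃ g : MvPolynomial (Fin (n + N)) R,
      Nonempty (Localization.Away (Ideal.Quotient.mk (Ideal.span (Set.range (genT j et))) g)
        ≃ₐ[R] CRing (et.map β)) := by
  classical
  have hspan : Ideal.span (Set.range (fT j)) = (Ideal.span (Set.range j)).map (inc (N := N)) := by
    rw [Ideal.map_span, ← Set.range_comp]
    rfl
  have hidemT : ∀ a b, (EtT et * EtT et - EtT et) a b ∈ Ideal.span (Set.range (fT j)) := by
    intro a b
    have h1 : (EtT et * EtT et - EtT et) a b = inc (N := N) ((et * et - et) a b) := by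
      simp only [Matrix.sub_apply, Matrix.mul_apply, Matrix.map_apply, map_sub, map_sum, map_mul]
    rw [h1, hspan]
    exact Ideal.mem_map_of_mem _ (hidem a b)
  have hrelT : ∀ l, fT j l - ∑ m, fT j m * EtT et m l ∈ Ideal.span (Set.range (fT j)) ^ 2 := by
    intro l
    have h1 : fT j l - ∑ m, fT j m * EtT et m l = inc (N := N) (j l - ∑ m, j m * et m l) := by
      simp only [fT, Matrix.map_apply, map_sub, map_sum, map_mul]
    rw [h1, hspan, ← Ideal.map_pow]
    exact Ideal.mem_map_of_mem _ (hrel l)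
  obtain ⟨hgen, hle⟩ := SymRetIdeal.main (fT j) (yT (n := n) (R := R)) (EtT et) hidemT hrelT
  have hkerΦ : RingHom.ker (Phi β et).toRingHom = JT j et :=
    le_antisymm (ker_le_JT β j et hβ hker) (JT_le_ker β j et hker)
  have hK : Ideal.span (Set.range (genT j et)) ≤ RingHom.ker (Phi β et).toRingHom := by
    rw [hkerΦ, Ideal.span_le]
    rintro _ ⟨l, rfl⟩
    exact hgen l
  -- Nakayama
  let s : Finset (MvPolynomial (Fin (n + N)) R) :=
    Finset.univ.image (fT j) ∪ Finset.univ.image (lin (EtT et) (yT (n := n) (R := R)))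
  have hs : (s : Set (MvPolynomial (Fin (n + N)) R)) =
      Set.range (fT j) ∪ Set.range (lin (EtT et) (yT (n := n) (R := R))) := by
    simp [s]
  have hJs : JT j et = Ideal.span (s : Set (MvPolynomial (Fin (n + N)) R)) := by
    rw [hs, Ideal.span_union]
  obtain ⟨g₁, hg₁, hg₁K⟩ := Groth.Agent.H87.SmoothQuot.exists_mul_mem_of_le_sq_sup (JT j et)
    (Ideal.span (Set.range (genT j et))) s (by rw [hJs]; exact Ideal.subset_span)
    (by rw [← hJs]; exact le_sup_left) (by rw [sup_comm]; exact hle)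
  obtain ⟨e⟩ := Groth.Agent.H74.SymRetAway.exists_algEquiv_away R (Phi β et)
    (Phi_surjective β et hβ) (Ideal.span (Set.range (genT j et))) hK g₁ 1
    (fun x hx => hg₁K x (by rw [← hkerΦ]; exact hx))
  have hΦg : Phi β et (g₁ * 1) = 1 := by
    rw [mul_one]
    have : g₁ - 1 ∈ RingHom.ker (Phi β et).toRingHom := by rw [hkerΦ]; exact hg₁
    rw [RingHom.mem_ker] at this
    change Phi β et (g₁ - 1) = 0 at this
    rwa [map_sub, map_one, sub_eq_zero] at this
  refine ⟨g₁ * 1, ⟨e.trans ?_⟩⟩
  rw [hΦg]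
  exact (IsLocalization.atOne (CRing (et.map β)) (Localization.Away (1 : CRing (et.map β)))).symm.restrictScalars R

end Groth.Agent.H74.SymRetPres
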