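import Mathlib
import Groth.Prelude.Def_RegImm
import Groth.Agent.H74.SymRetData
import Groth.Agent.H74.SymRetPres
import Groth.Agent.H74.SymRetFib
import Groth.Agent.H46.RelGCIOpen
import Groth.Agent.H46.RelGCIAway

/-!
# A syntomic algebra is a retract of a smooth algebra which is a relative global complete
intersection over the base
-/

set_option autoImplicit false
set_option linter.style.haveILetI false

open MvPolynomial TensorProduct AlgebraicGeometry CategoryTheory

universe u

namespace Groth.Agent.H74.SymRetMain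

open Groth.Agent.H74.SymRetC Groth.Agent.H74.SymRetPres

theorem main {R A : Type u} [CommRing R] [CommRing A] [Algebra R A]
    (h : Synt.IsSyntomic R A) :
    ∃ (n c : ℕ) (F : Fin c → MvPolynomial (Fin n) R), Synt.IsRelGCI R n c F ∧
      Module.Flat R (Synt.RelGCIRing R n c F) ∧
      ∃ (_ : Algebra A (Synt.RelGCIRing R n c F)) (_ : IsScalarTower R A (Synt.RelGCIRing R n c F)),
        Algebra.Smooth A (Synt.RelGCIRing R n c F) ∧
        ∃ ρ : Synt.RelGCIRing R n c F →ₐ[R] A,
          ∀ a : A, ρ (algebraMap A (Synt.RelGCIRing R n c F) a) = a := by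
  classical
  obtain ⟨n, N, β, hβ, j, et, hker, hrel, hidem, hrank⟩ := Groth.Agent.H74.SymRetData.exists_data h
  haveI hflatA : Module.Flat R A := h.1
  -- the idempotent matrix
  have hE : et.map β * et.map β = et.map β := by
    have h1 : (et * et - et).map β = 0 := by
      ext a b
      have h2 : (et * et - et) a b ∈ RingHom.ker β.toRingHom := by
        rw [hker]; exact hidem a b
      rw [RingHom.mem_ker] at h2
      simpa using h2
    have h3 : (et * et - et).map β = et.map β * et.map β - et.map β := by
      rw [Matrix.map_sub (f := β) (fun a b => map_sub β a b), Matrix.map_mul]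
    rw [h3, sub_eq_zero] at h1
    exact h1
  haveI hsm : Algebra.Smooth A (CRing (et.map β)) := SymRetC.smooth (et.map β) hE
  obtain ⟨g, ⟨e⟩⟩ := SymRetPres.exists_equiv β j et hβ hker hrel hidem
  -- the dimension hypothesis
  have hg : ∀ q : PrimeSpectrum (Synt.RelGCIRing R (n + N) N (genT j et)),
      Ideal.Quotient.mk (Ideal.span (Set.range (genT j et))) g ∉ q.asIdeal →
      FlatMor.fibreDimAt (Spec.map (CommRingCat.ofHom
        (algebraMap R (Synt.RelGCIRing R (n + N) N (genT j et)))))
        (show ↥(Spec (CommRingCat.of (Synt.RelGCIRing R (n + N) N (genT j et)))) from q) ≤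
          ((n + N - N : ℕ) : WithBot ℕ∞) := by
    intro q hq
    have hmem : q ∈ Set.range (PrimeSpectrum.comap (algebraMap
        (Synt.RelGCIRing R (n + N) N (genT j et))
        (Localization.Away (Ideal.Quotient.mk (Ideal.span (Set.range (genT j et))) g)))) := by
      rw [PrimeSpectrum.localization_away_comap_range _
        (Ideal.Quotient.mk (Ideal.span (Set.range (genT j et))) g)]
      exact hq
    obtain ⟨t, ht⟩ := hmem
    haveI : IsOpenImmersion (Spec.map (CommRingCat.ofHom
        (IsScalarTower.toAlgHom R (Synt.RelGCIRing R (n + N) N (genT j et))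
          (Localization.Away (Ideal.Quotient.mk (Ideal.span (Set.range (genT j et))) g))).toRingHom)) :=
      inferInstanceAs (IsOpenImmersion (Spec.map (CommRingCat.ofHom
        (algebraMap (Synt.RelGCIRing R (n + N) N (genT j et))
          (Localization.Away (Ideal.Quotient.mk (Ideal.span (Set.range (genT j et))) g))))))
    have htr := SymRetFib.fibreDimAt_eq_of_isOpenImmersion R
      (IsScalarTower.toAlgHom R (Synt.RelGCIRing R (n + N) N (genT j et))
        (Localization.Away (Ideal.Quotient.mk (Ideal.span (Set.range (genT j et))) g))) t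
    have ht' : PrimeSpectrum.comap (IsScalarTower.toAlgHom R
        (Synt.RelGCIRing R (n + N) N (genT j et))
        (Localization.Away (Ideal.Quotient.mk (Ideal.span (Set.range (genT j et))) g))).toRingHom t =
        q := ht
    rw [ht'] at htr
    rw [← htr, SymRetFib.fibreDimAt_eq_of_algEquiv R e.symm t, Nat.add_sub_cancel]
    exact SymRetFib.fibreDimAt_CRing_le h n N β hβ (et.map β) hrank _
  have hGCI := Groth.Agent.H46.RelGCIOpen.isRelGCI_ext R (n + N) N (genT j et)
    (Nat.le_add_left N n) g hg
  -- the total isomorphism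
  let Ψ : CRing (et.map β) ≃ₐ[R] Synt.RelGCIRing R (n + N + 1) (N + 1)
      (Groth.Agent.H46.RelGCIAway.ext (n + N) N (genT j et) g) :=
    e.symm.trans (Groth.Agent.H46.RelGCIAway.equiv (n + N) N (genT j et) g)
  letI algA : Algebra A (Synt.RelGCIRing R (n + N + 1) (N + 1)
      (Groth.Agent.H46.RelGCIAway.ext (n + N) N (genT j et) g)) :=
    ((Ψ : CRing (et.map β) →+* _).comp (algebraMap A (CRing (et.map β)))).toAlgebra
  have halg : ∀ a : A, algebraMap A (Synt.RelGCIRing R (n + N + 1) (N + 1)
      (Groth.Agent.H46.RelGCIAway.ext (n + N) N (genT j et) g)) a =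
      Ψ (algebraMap A (CRing (et.map β)) a) := fun a => rfl
  haveI tower : IsScalarTower R A (Synt.RelGCIRing R (n + N + 1) (N + 1)
      (Groth.Agent.H46.RelGCIAway.ext (n + N) N (genT j et) g)) :=
    IsScalarTower.of_algebraMap_eq fun r => by
      rw [halg, ← IsScalarTower.algebraMap_apply R A (CRing (et.map β)), AlgEquiv.commutes]
  let ΨA : CRing (et.map β) ≃ₐ[A] Synt.RelGCIRing R (n + N + 1) (N + 1)
      (Groth.Agent.H46.RelGCIAway.ext (n + N) N (genT j et) g) :=
    AlgEquiv.ofRingEquiv (f := Ψ.toRingEquiv) (fun a => rfl)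
  refine ⟨n + N + 1, N + 1, Groth.Agent.H46.RelGCIAway.ext (n + N) N (genT j et) g, hGCI, ?_,
    algA, tower, Algebra.Smooth.of_equiv ΨA, ?_⟩
  · haveI : Module.Flat R (CRing (et.map β)) := Module.Flat.trans R A (CRing (et.map β))
    exact Module.Flat.of_linearEquiv Ψ.symm.toLinearEquiv
  · refine ⟨((retr (et.map β)).restrictScalars R).comp (Ψ.symm : _ →ₐ[R] CRing (et.map β)), ?_⟩
    intro a
    rw [halg]
    change retr (et.map β) (Ψ.symm (Ψ (algebraMap A (CRing (et.map β)) a))) = a
    rw [AlgEquiv.symm_apply_apply, AlgHom.commutes]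
    rfl

end Groth.Agent.H74.SymRetMain
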