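import Mathlib
import Groth.Agent.H46.SyntLift
import Groth.Agent.H46.RelGCIFlat
import Groth.Agent.H47.Synt.Transport

/-!
# Core local step for lifting syntomic algebras

* `nonempty_algEquiv_away`: identification of `B/IB` for a localization `B` of `S`, given a
  surjection `S → A₀` whose kernel is `I S` up to an element.
* `isRelGCI_of_algEquiv`: transfer of `IsRelGCI` along an isomorphism of presented algebras.
* `exists_isSyntomic_away`: if `B` has a presentation by `a` variables and `c` equations and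
  `B/IB` is a relative global complete intersection over `R/I` of the same relative dimension, then
  `B_h` is syntomic over `R` for some `h ≡ 1` modulo `I B`.
-/

set_option autoImplicit false
set_option linter.style.haveILetI false

open TensorProduct

universe u

namespace Groth.Agent.H74.SyntLiftCore

section Away

variable {R : Type u} [CommRing R] (I : Ideal R) {A₀ : Type u} [CommRing A₀] [Algebra (R ⧸ I) A₀]
  {S : Type u} [CommRing S] [Algebra R S]

theorem nonempty_algEquiv_away (φ : S →+* A₀) (hφ : Function.Surjective φ)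
    (hφR : ∀ r, φ (algebraMap R S r) = algebraMap (R ⧸ I) A₀ (Ideal.Quotient.mk I r))
    (u g₁ : S) (hg₁ : g₁ ∣ u)
    (hker : ∀ x, φ x = 0 → g₁ * x ∈ I.map (algebraMap R S))
    (B : Type u) [CommRing B] [Algebra S B] [Algebra R B] [IsScalarTower R S B]
    [IsLocalization.Away u B]
    (A₀' : Type u) [CommRing A₀'] [Algebra A₀ A₀'] [Algebra (R ⧸ I) A₀']
    [IsScalarTower (R ⧸ I) A₀ A₀'] [IsLocalization.Away (φ u) A₀'] :
    Nonempty ((B ⧸ I.map (algebraMap R B)) ≃ₐ[R ⧸ I] A₀') := by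
  have hgu : IsUnit (((algebraMap A₀ A₀').comp φ) u) :=
    IsLocalization.Away.algebraMap_isUnit (φ u)
  let Φ : B →+* A₀' := IsLocalization.Away.lift u hgu
  have hΦ : ∀ a, Φ (algebraMap S B a) = algebraMap A₀ A₀' (φ a) :=
    fun a => IsLocalization.Away.lift_eq u hgu a
  have hΦR : ∀ r, Φ (algebraMap R B r) = algebraMap (R ⧸ I) A₀' (Ideal.Quotient.mk I r) := by
    intro r
    rw [IsScalarTower.algebraMap_apply R S B, hΦ, hφR,
      ← IsScalarTower.algebraMap_apply (R ⧸ I) A₀ A₀']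
  have hIΦ : ∀ x ∈ I.map (algebraMap R B), Φ x = 0 := by
    have : I.map (algebraMap R B) ≤ RingHom.ker Φ := by
      rw [Ideal.map_le_iff_le_comap]
      intro r hr
      rw [Ideal.mem_comap, RingHom.mem_ker, hΦR, Ideal.Quotient.eq_zero_iff_mem.mpr hr, map_zero]
    exact fun x hx => this hx
  let Φb : B ⧸ I.map (algebraMap R B) →+* A₀' := Ideal.Quotient.lift _ Φ hIΦ
  have huB : IsUnit (algebraMap S B u) := IsLocalization.Away.algebraMap_isUnit u
  have hg₁B : IsUnit (algebraMap S B g₁) := by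
    obtain ⟨c, hc⟩ := hg₁
    rw [hc, map_mul] at huB
    exact isUnit_of_mul_isUnit_left huB
  have hbij : Function.Bijective Φb := by
    constructor
    · rw [injective_iff_map_eq_zero]
      intro xb hxb
      obtain ⟨x, rfl⟩ := Ideal.Quotient.mk_surjective xb
      change Φ x = 0 at hxb
      rw [Ideal.Quotient.eq_zero_iff_mem]
      obtain ⟨a, ⟨_, m, rfl⟩, rfl⟩ := IsLocalization.exists_mk'_eq (Submonoid.powers u) x
      have h1 : IsLocalization.mk' B a (⟨u ^ m, m, rfl⟩ : Submonoid.powers u) *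
          algebraMap S B (u ^ m) = algebraMap S B a :=
        IsLocalization.mk'_spec B a (⟨u ^ m, m, rfl⟩ : Submonoid.powers u)
      have h2 : algebraMap A₀ A₀' (φ a) = 0 := by
        rw [← hΦ, ← h1, map_mul, hxb, zero_mul]
      obtain ⟨⟨_, e, rfl⟩, he⟩ :=
        (IsLocalization.map_eq_zero_iff (Submonoid.powers (φ u)) A₀' (φ a)).mp h2
      have h2' : φ (u ^ e * a) = 0 := by
        rw [map_mul, map_pow]
        exact he
      have h3 : algebraMap S B (g₁ * (u ^ e * a)) ∈ I.map (algebraMap R B) := by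
        have h4 : (I.map (algebraMap R S)).map (algebraMap S B) = I.map (algebraMap R B) := by
          rw [Ideal.map_map, ← IsScalarTower.algebraMap_eq]
        rw [← h4]
        exact Ideal.mem_map_of_mem _ (hker _ h2')
      rw [map_mul, map_mul] at h3
      have h5 : algebraMap S B a ∈ I.map (algebraMap R B) := by
        have h6 := (Ideal.unit_mul_mem_iff_mem _ hg₁B).mp h3
        have h7 : IsUnit (algebraMap S B (u ^ e)) := by
          rw [map_pow]; exact huB.pow e
        exact (Ideal.unit_mul_mem_iff_mem _ h7).mp h6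
      rw [← h1] at h5
      have h6 : IsUnit (algebraMap S B (u ^ m)) := by
        rw [map_pow]; exact huB.pow m
      exact (Ideal.mul_unit_mem_iff_mem _ h6).mp h5
    · intro y
      obtain ⟨x, ⟨_, m, rfl⟩, rfl⟩ := IsLocalization.exists_mk'_eq (Submonoid.powers (φ u)) y
      obtain ⟨a, rfl⟩ := hφ x
      refine ⟨Ideal.Quotient.mk _ (IsLocalization.mk' B a (⟨u ^ m, m, rfl⟩ : Submonoid.powers u)), ?_⟩
      change Φ (IsLocalization.mk' B a (⟨u ^ m, m, rfl⟩ : Submonoid.powers u)) = _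
      rw [IsLocalization.eq_mk'_iff_mul_eq]
      have h1 : IsLocalization.mk' B a (⟨u ^ m, m, rfl⟩ : Submonoid.powers u) *
          algebraMap S B (u ^ m) = algebraMap S B a :=
        IsLocalization.mk'_spec B a (⟨u ^ m, m, rfl⟩ : Submonoid.powers u)
      change Φ _ * algebraMap A₀ A₀' (φ u ^ m) = _
      rw [← map_pow, ← hΦ, ← map_mul, h1, hΦ]
  refine ⟨AlgEquiv.ofRingEquiv (f := RingEquiv.ofBijective Φb hbij) ?_⟩
  intro x
  obtain ⟨r, rfl⟩ := Ideal.Quotient.mk_surjective x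
  exact hΦR r

end Away

section Transfer

variable (k : Type u) [CommRing k]

theorem isRelGCI_of_algEquiv (n₁ c₁ : ℕ) (F₁ : Fin c₁ → MvPolynomial (Fin n₁) k)
    (n₂ c₂ : ℕ) (F₂ : Fin c₂ → MvPolynomial (Fin n₂) k)
    (e : Synt.RelGCIRing k n₁ c₁ F₁ ≃ₐ[k] Synt.RelGCIRing k n₂ c₂ F₂)
    (h₂ : Synt.IsRelGCI k n₂ c₂ F₂) (hnum : c₁ + n₂ = c₂ + n₁) :
    Synt.IsRelGCI k n₁ c₁ F₁ := by
  intro p hnt
  let E : p.asIdeal.Fiber (Synt.RelGCIRing k n₁ c₁ F₁) ≃ₐ[p.asIdeal.ResidueField]
      p.asIdeal.Fiber (Synt.RelGCIRing k n₂ c₂ F₂) :=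
    Algebra.TensorProduct.congr AlgEquiv.refl e
  have hnt2 : Nontrivial (p.asIdeal.Fiber (Synt.RelGCIRing k n₂ c₂ F₂)) :=
    @Function.Injective.nontrivial _ _ hnt _ E.injective
  obtain ⟨hle, hdim⟩ := h₂ p hnt2
  refine ⟨by omega, ?_⟩
  have hE := ringKrullDim_eq_of_ringEquiv (R := p.asIdeal.Fiber (Synt.RelGCIRing k n₁ c₁ F₁))
    (S := p.asIdeal.Fiber (Synt.RelGCIRing k n₂ c₂ F₂)) E.toRingEquiv
  rw [hE, hdim]
  have : n₂ - c₂ = n₁ - c₁ := by omega
  rw [this]

end Transfer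

section Core

variable (R : Type u) [CommRing R] (I : Ideal R)

/-- If `B ≅ R[x_1..x_a]/(G_1..G_c)` and `B/IB` is a relative global complete intersection over
`R/I` with `m` variables and `c₀` equations, `a - c = m - c₀`, then `B_h` is syntomic over `R` for
some `h ≡ 1` modulo `I B`. -/
theorem exists_isSyntomic_away (B : Type u) [CommRing B] [Algebra R B]
    (a c : ℕ) (G : Fin c → MvPolynomial (Fin a) R) (eB : B ≃ₐ[R] Synt.RelGCIRing R a c G)
    (m c₀ : ℕ) (F₀ : Fin c₀ → MvPolynomial (Fin m) (R ⧸ I)) (h₀ : Synt.IsRelGCI (R ⧸ I) m c₀ F₀)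
    (e₀ : (B ⧸ I.map (algebraMap R B)) ≃ₐ[R ⧸ I] Synt.RelGCIRing (R ⧸ I) m c₀ F₀)
    (hnum : c + m = c₀ + a) :
    ∃ h : B, h - 1 ∈ I.map (algebraMap R B) ∧ Synt.IsSyntomic R (Localization.Away h) := by
  -- the reduction of the presentation of `B`
  let e1 : Synt.RelGCIRing (R ⧸ I) a c (fun i => MvPolynomial.map (Ideal.Quotient.mk I) (G i))
      ≃ₐ[R ⧸ I] (R ⧸ I) ⊗[R] Synt.RelGCIRing R a c G :=
    Groth.Agent.H46.RelGCIOpenIdeal.bcEquiv R a c G (R ⧸ I)
  let e2 : (R ⧸ I) ⊗[R] Synt.RelGCIRing R a c G ≃ₐ[R ⧸ I] (R ⧸ I) ⊗[R] B :=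
    Algebra.TensorProduct.congr (AlgEquiv.refl (R := R ⧸ I) (A₁ := R ⧸ I)) eB.symm
  let e3 : (R ⧸ I) ⊗[R] B ≃ₐ[R ⧸ I] (B ⧸ I.map (algebraMap R B)) :=
    (Algebra.TensorProduct.quotIdealMapEquivQuotTensor B I).symm
  have hI : Synt.IsRelGCI (R ⧸ I) a c (fun i => MvPolynomial.map (Ideal.Quotient.mk I) (G i)) :=
    isRelGCI_of_algEquiv (R ⧸ I) a c _ m c₀ F₀ (e1.trans (e2.trans (e3.trans e₀))) h₀ hnum
  obtain ⟨h', hh', hRel', ⟨e4⟩⟩ := Groth.Agent.H46.RelGCIOpenIdeal.main R a c G I hI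
  set y : Synt.RelGCIRing R a c G := Ideal.Quotient.mk (Ideal.span (Set.range G)) h' with hy
  have hsy : Synt.IsSyntomic R (Localization.Away y) :=
    Groth.Agent.H47.Synt.isSyntomic_of_algEquiv e4.symm
      (Groth.Agent.H46.RelGCIFlat.isSyntomic _ _ _ _ hRel')
  refine ⟨eB.symm y, ?_, ?_⟩
  · -- `eB.symm y ≡ 1`
    have h1 : y - 1 ∈ I.map (algebraMap R (Synt.RelGCIRing R a c G)) := by
      rw [← Ideal.Quotient.eq_zero_iff_mem, map_sub, map_one, hh', sub_self]
    have h2 : (I.map (algebraMap R (Synt.RelGCIRing R a c G))).map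
        (eB.symm : Synt.RelGCIRing R a c G →+* B) = I.map (algebraMap R B) := by
      rw [Ideal.map_map]
      congr 1
      ext r
      simp
    rw [← h2]
    have h3 := Ideal.mem_map_of_mem (eB.symm : Synt.RelGCIRing R a c G →+* B) h1
    simpa using h3
  · have H : Submonoid.map eB.symm (Submonoid.powers y) = Submonoid.powers (eB.symm y) := by
      rw [Submonoid.map_powers]
    let e5 : Localization.Away y ≃ₐ[R] Localization.Away (eB.symm y) :=
      IsLocalization.algEquivOfAlgEquiv (Localization.Away y) (Localization.Away (eB.symm y))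
        eB.symm H
    exact Groth.Agent.H47.Synt.isSyntomic_of_algEquiv e5 hsy

end Core

end Groth.Agent.H74.SyntLiftCore
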