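import Mathlib
import Groth.Agent.H74.SyntLiftRank

/-!
# Presentation data for a syntomic algebra over `R ⧸ I`
-/

set_option autoImplicit false
set_option linter.style.haveILetI false

open TensorProduct

universe u

namespace Groth.Agent.H74.SyntLiftData

variable {R : Type u} [CommRing R] (I : Ideal R) {A₀ : Type u} [CommRing A₀] [Algebra (R ⧸ I) A₀]

/-- the composite `R[x] → (R/I)[x] → A₀` -/
noncomputable def psi {n : ℕ} (ψb : MvPolynomial (Fin n) (R ⧸ I) →ₐ[R ⧸ I] A₀) :
    MvPolynomial (Fin n) R →+* A₀ :=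
  ψb.toRingHom.comp (MvPolynomial.map (Ideal.Quotient.mk I))

theorem psi_apply {n : ℕ} (ψb : MvPolynomial (Fin n) (R ⧸ I) →ₐ[R ⧸ I] A₀)
    (x : MvPolynomial (Fin n) R) : psi I ψb x = ψb (MvPolynomial.map (Ideal.Quotient.mk I) x) := rfl

theorem psi_C {n : ℕ} (ψb : MvPolynomial (Fin n) (R ⧸ I) →ₐ[R ⧸ I] A₀) (r : R) :
    psi I ψb (MvPolynomial.C r) = algebraMap (R ⧸ I) A₀ (Ideal.Quotient.mk I r) := by
  rw [psi_apply, MvPolynomial.map_C, ← MvPolynomial.algebraMap_eq, AlgHom.commutes]

theorem psi_surjective {n : ℕ} (ψb : MvPolynomial (Fin n) (R ⧸ I) →ₐ[R ⧸ I] A₀)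
    (hψb : Function.Surjective ψb) : Function.Surjective (psi I ψb) :=
  hψb.comp (MvPolynomial.map_surjective _ Ideal.Quotient.mk_surjective)

theorem ker_map_mk (n : ℕ) :
    RingHom.ker (MvPolynomial.map (Ideal.Quotient.mk I) :
      MvPolynomial (Fin n) R →+* MvPolynomial (Fin n) (R ⧸ I)) = I.map MvPolynomial.C := by
  rw [MvPolynomial.ker_map, Ideal.mk_ker]

/-- pulling back membership along `R[x] → (R/I)[x]` -/
theorem mem_sup_of_map_mem {n : ℕ} (L : Ideal (MvPolynomial (Fin n) R))
    (x : MvPolynomial (Fin n) R)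
    (hx : MvPolynomial.map (Ideal.Quotient.mk I) x ∈
      L.map (MvPolynomial.map (Ideal.Quotient.mk I))) :
    x ∈ L ⊔ I.map MvPolynomial.C := by
  obtain ⟨y, hy, hyx⟩ := (Ideal.mem_map_iff_of_surjective _
    (MvPolynomial.map_surjective _ Ideal.Quotient.mk_surjective)).mp hx
  have h1 : x - y ∈ I.map MvPolynomial.C := by
    rw [← ker_map_mk I n, RingHom.mem_ker, map_sub, hyx, sub_self]
  have h2 : x = y + (x - y) := by ring
  rw [h2]
  exact Submodule.add_mem_sup hy h1

theorem exists_data (h : Synt.IsSyntomic (R ⧸ I) A₀) :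
    ∃ (n N : ℕ) (ψb : MvPolynomial (Fin n) (R ⧸ I) →ₐ[R ⧸ I] A₀) (hψb : Function.Surjective ψb)
      (j : Fin N → MvPolynomial (Fin n) R) (et : Matrix (Fin N) (Fin N) (MvPolynomial (Fin n) R)),
      (∀ l, j l ∈ RingHom.ker (psi I ψb)) ∧
      RingHom.ker (psi I ψb) ≤ Ideal.span (Set.range j) ⊔ I.map MvPolynomial.C ∧
      (∀ l, j l - ∑ m, j m * et m l ∈ RingHom.ker (psi I ψb) ^ 2 ⊔ I.map MvPolynomial.C) ∧
      (∀ a b, (et * et - et) a b ∈ RingHom.ker (psi I ψb)) ∧
      (∀ (κ : Type u) [Field κ] [Algebra A₀ κ],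
        ((et.map (psi I ψb)).map (algebraMap A₀ κ)).rank =
          Module.finrank κ (κ ⊗[A₀] (Algebra.Extension.ofSurjective ψb hψb).Cotangent)) := by
  classical
  obtain ⟨n, ψb, hψb, hfg⟩ := h.2.1.out
  obtain ⟨N, jb, hjb⟩ := Submodule.fg_iff_exists_fin_generating_family.mp hfg
  let ρ : MvPolynomial (Fin n) R →+* MvPolynomial (Fin n) (R ⧸ I) :=
    MvPolynomial.map (Ideal.Quotient.mk I)
  have hρ : Function.Surjective ρ := MvPolynomial.map_surjective _ Ideal.Quotient.mk_surjective
  let P := Algebra.Extension.ofSurjective ψb hψb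
  have hPker : P.ker = RingHom.ker ψb.toRingHom := by
    ext x
    rfl
  have hjbmem0 : ∀ l, jb l ∈ RingHom.ker ψb.toRingHom := by
    intro l
    rw [← hjb]
    exact Submodule.subset_span ⟨l, rfl⟩
  have hjbmem : ∀ l, jb l ∈ P.ker := hjbmem0
  haveI : Module.Projective A₀ P.Cotangent :=
    Groth.Agent.H46.SyntConormal.projective_cotangent (R ⧸ I) A₀ h n ψb hψb
  let v : Fin N → P.Cotangent := fun l => Algebra.Extension.Cotangent.mk ⟨jb l, hjbmem l⟩
  let π : (Fin N → A₀) →ₗ[A₀] P.Cotangent := Fintype.linearCombination A₀ v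
  have hspan : Submodule.span A₀ (Set.range v) = ⊤ :=
    Algebra.Extension.Cotangent.span_eq_top_of_span_eq_ker (P := P) jb (by rw [hPker]; exact hjb)
  have hπ : Function.Surjective π := by
    rw [← LinearMap.range_eq_top, Fintype.range_linearCombination, hspan]
  obtain ⟨s, hs⟩ := Module.projective_lifting_property π LinearMap.id hπ
  let eb : Matrix (Fin N) (Fin N) A₀ := Groth.Agent.H74.SyntLiftRank.idem π s
  have heb : eb * eb = eb := Groth.Agent.H74.SyntLiftRank.idem_mul_idem π s hs
  choose j hj using fun l => hρ (jb l)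
  choose et het using fun a b => psi_surjective I ψb hψb (eb a b)
  have hetmap : (Matrix.of et).map (psi I ψb) = eb := by
    ext a b
    exact het a b
  have hkerψ : RingHom.ker (psi I ψb) = (RingHom.ker ψb.toRingHom).comap ρ := by
    ext x
    rfl
  have hmapker : (RingHom.ker (psi I ψb)).map ρ = RingHom.ker ψb.toRingHom := by
    rw [hkerψ, Ideal.map_comap_of_surjective ρ hρ]
  refine ⟨n, N, ψb, hψb, j, Matrix.of et, ?_, ?_, ?_, ?_, ?_⟩
  · intro l
    rw [RingHom.mem_ker, psi_apply, hj l]
    have := hjbmem l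
    rw [hPker] at this
    exact this
  · intro x hx
    apply mem_sup_of_map_mem I
    have h1 : ρ x ∈ RingHom.ker ψb.toRingHom := hx
    rw [← hjb] at h1
    rw [Ideal.map_span]
    have h2 : ρ '' Set.range j = Set.range jb := by
      rw [← Set.range_comp]
      congr 1
      funext l
      exact hj l
    rw [h2]
    exact h1
  · intro l
    apply mem_sup_of_map_mem I
    rw [Ideal.map_pow, hmapker]
    -- the element of the kernel
    have hz : ρ (j l - ∑ m, j m * Matrix.of et m l) ∈ P.ker := by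
      rw [hPker, map_sub, map_sum]
      refine Ideal.sub_mem _ ?_ (Ideal.sum_mem _ fun m _ => ?_)
      · rw [hj l]; have := hjbmem l; rwa [hPker] at this
      · rw [map_mul, hj m]
        have := hjbmem m
        rw [hPker] at this
        exact Ideal.mul_mem_right _ _ this
    refine (Algebra.Extension.Cotangent.mk_eq_zero_iff (P := P) ⟨_, hz⟩).mp ?_
    -- compute the class
    let rr : Fin N → P.Ring := fun m => ρ (et m l)
    have hsub : (⟨ρ (j l - ∑ m, j m * Matrix.of et m l), hz⟩ : P.ker) =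
        ⟨jb l, hjbmem l⟩ - ∑ m, rr m • (⟨jb m, hjbmem m⟩ : P.ker) := by
      apply Subtype.ext
      rw [Submodule.coe_sub, Submodule.coe_sum]
      simp only [Submodule.coe_smul, smul_eq_mul, map_sub, map_sum, map_mul, hj, Matrix.of_apply]
      congr 1
      exact Finset.sum_congr rfl fun m _ => mul_comm _ _
    rw [hsub, map_sub, map_sum]
    have hsm : ∀ m, Algebra.Extension.Cotangent.mk (P := P)
        (rr m • (⟨jb m, hjbmem m⟩ : P.ker)) = eb m l • v m := by
      intro m
      rw [map_smul, ← het m l]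
      exact (algebraMap_smul A₀ (rr m) (v m))
    simp only [hsm]
    have h3 := Groth.Agent.H74.SyntLiftRank.pi_col_idem π s hs l
    have h4 : π (fun m => eb m l) = ∑ m, eb m l • v m := by
      rw [Fintype.linearCombination_apply]
    have h5 : π (Pi.single l 1) = v l := by
      rw [Fintype.linearCombination_apply_single, one_smul]
    rw [← h4, h3, h5, sub_self]
  · intro a b
    rw [RingHom.mem_ker, Matrix.sub_apply, map_sub, sub_eq_zero]
    have h1 : psi I ψb ((Matrix.of et * Matrix.of et) a b) = (eb * eb) a b := by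
      rw [Matrix.mul_apply, Matrix.mul_apply, map_sum]
      refine Finset.sum_congr rfl fun c _ => ?_
      rw [map_mul]
      change psi I ψb (et a c) * psi I ψb (et c b) = _
      rw [het, het]
    rw [h1, heb]
    exact (het a b).symm
  · intro κ _ _
    rw [hetmap]
    exact Groth.Agent.H74.SyntLiftRank.rank_idem_map π s hs κ

end Groth.Agent.H74.SyntLiftData
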