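import Mathlib
import Groth.Agent.H46.SyntomicLocal
import Groth.Agent.H47.Synt.Local
import Groth.Agent.H47.Synt.Transport
import Groth.Agent.H3.AwayQuot

/-!
# Localization bookkeeping for syntomic algebras
-/

set_option autoImplicit false
set_option linter.style.haveILetI false

universe u

namespace Groth.Agent.H74.SyntLiftLoc

variable {R : Type u} [CommRing R] {S : Type u} [CommRing S] [Algebra R S]

/-- `S_h` syntomic implies `S_{h g}` syntomic. -/
theorem isSyntomic_away_mul (h g : S) (hh : Synt.IsSyntomic R (Localization.Away h)) :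
    Synt.IsSyntomic R (Localization.Away (h * g)) := by
  have h1 : Synt.IsSyntomic R (Localization.Away (algebraMap S (Localization.Away h) g)) :=
    Groth.Agent.H47.Synt.isSyntomic_away hh _
  let e : Localization.Away (algebraMap S (Localization.Away h) g) ≃ₐ[S]
      Localization.Away (h * g) :=
    IsLocalization.algEquiv (Submonoid.powers (h * g)) _ _
  exact Groth.Agent.H47.Synt.isSyntomic_of_algEquiv (e.restrictScalars R) h1

/-- Transport of a syntomic basic open of a localization `B = S_u` back to `S`. -/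
theorem exists_isSyntomic_away_of_localization (u : S) (B : Type u) [CommRing B] [Algebra S B]
    [Algebra R B] [IsScalarTower R S B] [IsLocalization.Away u B] (hB : B)
    (hsynt : Synt.IsSyntomic R (Localization.Away hB)) (𝔭 : Ideal S) [𝔭.IsPrime] (hu : u ∉ 𝔭)
    (h1 : hB - 1 ∈ 𝔭.map (algebraMap S B)) :
    ∃ h : S, h ∉ 𝔭 ∧ Synt.IsSyntomic R (Localization.Away h) := by
  obtain ⟨e, a, ha⟩ := IsLocalization.Away.surj u hB
  -- `hB * u^e = a`
  have huB : IsUnit (algebraMap S B u) := IsLocalization.Away.algebraMap_isUnit u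
  have hassoc : Associated hB (algebraMap S B a) := by
    rw [← ha]
    obtain ⟨w, hw⟩ := huB.pow e
    exact ⟨w, by rw [hw]⟩
  haveI : IsLocalization.Away (u * a) (Localization.Away hB) :=
    IsLocalization.Away.mul_of_associated u a hB hassoc.symm
  let e1 : Localization.Away (u * a) ≃ₐ[S] Localization.Away hB :=
    IsLocalization.algEquiv (Submonoid.powers (u * a)) _ _
  refine ⟨u * a, ?_, Groth.Agent.H47.Synt.isSyntomic_of_algEquiv (e1.restrictScalars R).symm hsynt⟩
  intro hmem
  rcases Ideal.IsPrime.mem_or_mem inferInstance hmem with hu' | ha'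
  · exact hu hu'
  · have h2 : algebraMap S B a ∈ 𝔭.map (algebraMap S B) := Ideal.mem_map_of_mem _ ha'
    have h3 : hB ∈ 𝔭.map (algebraMap S B) := by
      obtain ⟨w, hw⟩ := hassoc.symm
      rw [← hw]
      exact Ideal.mul_mem_right _ _ h2
    have h4 : (1 : B) ∈ 𝔭.map (algebraMap S B) := by
      have : (1 : B) = hB - (hB - 1) := by ring
      rw [this]
      exact Ideal.sub_mem _ h3 h1
    have h5 : 𝔭.map (algebraMap S B) = ⊤ := (Ideal.eq_top_iff_one _).mpr h4
    have hdisj : Disjoint (Submonoid.powers u : Set S) (𝔭 : Set S) := by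
      rw [Set.disjoint_left]
      rintro _ ⟨m, rfl⟩ hm
      exact hu (Ideal.IsPrime.mem_of_pow_mem inferInstance m hm)
    exact (IsLocalization.map_algebraMap_ne_top_iff_disjoint (Submonoid.powers u) B 𝔭).mpr hdisj h5

/-- If every point of `V(J)` has a syntomic basic open neighbourhood, then `S_g` is syntomic for
some `g ≡ 1` modulo `J` and then for all multiples of `g`. -/
theorem exists_isSyntomic_away_of_forall (J : Ideal S)
    (H : ∀ 𝔭 : Ideal S, 𝔭.IsPrime → J ≤ 𝔭 →
      ∃ h : S, h ∉ 𝔭 ∧ Synt.IsSyntomic R (Localization.Away h)) :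
    ∃ g₂ : S, g₂ - 1 ∈ J ∧ ∀ g : S, g₂ ∣ g → Synt.IsSyntomic R (Localization.Away g) := by
  classical
  let Hs : Set S := {h | Synt.IsSyntomic R (Localization.Away h)}
  let U : Set (PrimeSpectrum S) := (PrimeSpectrum.zeroLocus Hs)ᶜ
  have hU : IsOpen U := (PrimeSpectrum.isClosed_zeroLocus Hs).isOpen_compl
  have hJU : PrimeSpectrum.zeroLocus (J : Set S) ⊆ U := by
    intro 𝔭 h𝔭 hmem
    obtain ⟨h, hh, hs⟩ := H 𝔭.asIdeal 𝔭.isPrime h𝔭
    exact hh (hmem hs)
  obtain ⟨g₂, hg₂, hg₂U⟩ := Groth.Agent.H3.AwayQuot.exists_basicOpen_subset J U hU hJU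
  refine ⟨g₂, hg₂, ?_⟩
  rintro g ⟨g', rfl⟩
  -- `g₂ ∈ radical (span Hs)`
  have hrad : g₂ ∈ (Ideal.span Hs).radical := by
    rw [← PrimeSpectrum.vanishingIdeal_zeroLocus_eq_radical, PrimeSpectrum.mem_vanishingIdeal]
    intro 𝔭 h𝔭
    by_contra hg
    have h1 : 𝔭 ∈ U := hg₂U hg
    apply h1
    rw [PrimeSpectrum.zeroLocus_span] at h𝔭
    exact h𝔭
  obtain ⟨M, hM⟩ := hrad
  let A := Localization.Away (g₂ * g')
  let Hs' : Set A := algebraMap S A '' Hs
  have hunit : IsUnit (algebraMap S A g₂) := by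
    have h1 : IsUnit (algebraMap S A (g₂ * g')) := IsLocalization.Away.algebraMap_isUnit _
    rw [map_mul] at h1
    exact isUnit_of_mul_isUnit_left h1
  have htop : Ideal.span Hs' = ⊤ := by
    have h1 : algebraMap S A (g₂ ^ M) ∈ Ideal.span Hs' := by
      rw [← Ideal.map_span]
      exact Ideal.mem_map_of_mem _ hM
    rw [map_pow] at h1
    exact Ideal.eq_top_of_isUnit_mem _ h1 (hunit.pow M)
  obtain ⟨s, hsH, hs⟩ := (Ideal.span_eq_top_iff_finite Hs').mp htop
  refine Groth.Agent.H46.isSyntomic_of_span R A s hs fun x hx => ?_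
  obtain ⟨h, hh, rfl⟩ := hsH hx
  have h1 : Synt.IsSyntomic R (Localization.Away (h * (g₂ * g'))) :=
    isSyntomic_away_mul h (g₂ * g') hh
  let e : Localization.Away (algebraMap S A h) ≃ₐ[S] Localization.Away (h * (g₂ * g')) :=
    IsLocalization.algEquiv (Submonoid.powers (h * (g₂ * g'))) _ _
  exact Groth.Agent.H47.Synt.isSyntomic_of_algEquiv (e.restrictScalars R).symm h1

end Groth.Agent.H74.SyntLiftLoc
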