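import Mathlib

/-!
# Local generators of the ideal cut out by an idempotent matrix

For an idempotent matrix `E` over `T`, a row vector `j` and a prime `𝔮`, the ideal generated by the
entries of `j ᵥ* E` is generated, near `𝔮`, by `rank (E mod 𝔮)` of these entries.
-/

set_option autoImplicit false
set_option linter.style.haveILetI false

universe u

namespace Groth.Agent.H74.SyntLiftNak

open Matrix

variable {T : Type u} [CommRing T] {N : ℕ}

/-- choose columns of a matrix over a field spanning the column space -/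
theorem exists_cols {κ : Type u} [Field κ] (M : Matrix (Fin N) (Fin N) κ) :
    ∃ Λ : Fin M.rank → Fin N,
      Submodule.span κ (Set.range fun i => M.col (Λ i)) = Submodule.span κ (Set.range M.col) := by
  classical
  obtain ⟨b, hb, hspan, hLI⟩ := exists_linearIndependent κ (Set.range M.col)
  haveI : Finite b := Set.Finite.subset (Set.finite_range _) hb
  haveI : Fintype b := Fintype.ofFinite b
  have hcard : Fintype.card b = M.rank := by
    rw [Matrix.rank_eq_finrank_span_cols, ← hspan]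
    have := finrank_span_eq_card hLI
    rw [Subtype.range_coe_subtype, Set.ofPred_mem_eq] at this
    exact this.symm
  let eq : Fin M.rank ≃ b := (Fintype.equivFinOfCardEq hcard).symm
  choose idx hidx using fun x : b => hb x.2
  refine ⟨fun i => idx (eq i), ?_⟩
  rw [← hspan]
  congr 1
  ext x
  constructor
  · rintro ⟨i, rfl⟩
    change M.col (idx (eq i)) ∈ b
    rw [hidx]
    exact (eq i).2
  · intro hx
    refine ⟨eq.symm ⟨x, hx⟩, ?_⟩
    change M.col (idx (eq (eq.symm ⟨x, hx⟩))) = x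
    rw [Equiv.apply_symm_apply, hidx]

theorem sum_mul_sum_ite {L ι : Type*} [CommRing L] [Fintype ι] (f : Fin N → L) (ct : ι → L)
    (Λ : ι → Fin N) :
    ∑ x, f x * ∑ i, (if x = Λ i then ct i else 0) = ∑ i, ct i * f (Λ i) := by
  simp_rw [Finset.mul_sum]
  rw [Finset.sum_comm]
  refine Finset.sum_congr rfl fun i _ => ?_
  simp [mul_comm]

/-- Near a prime `𝔮`, the ideal generated by the entries of `j ᵥ* E` (`E` idempotent) is generated
by `rank (E mod 𝔮)` of them. -/
theorem exists_gens (E : Matrix (Fin N) (Fin N) T) (hE : E * E = E) (j : Fin N → T)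
    (𝔮 : Ideal T) [𝔮.IsPrime] :
    ∃ (Λ : Fin (E.map (algebraMap T 𝔮.ResidueField)).rank → Fin N) (t : T), t ∉ 𝔮 ∧
      ∀ l, t * (j ᵥ* E) l ∈ Ideal.span (Set.range fun i => (j ᵥ* E) (Λ i)) := by
  classical
  let L := Localization.AtPrime 𝔮
  let κ := 𝔮.ResidueField
  let res : L →+* κ := IsLocalRing.residue L
  have hres : ∀ x : T, algebraMap T κ x = res (algebraMap T L x) := fun x => rfl
  set Ebar := E.map (algebraMap T κ) with hEbar
  obtain ⟨Λ, hΛ⟩ := exists_cols Ebar
  refine ⟨Λ, ?_⟩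
  let EL : Matrix (Fin N) (Fin N) L := E.map (algebraMap T L)
  have hEL : EL * EL = EL := by
    change E.map (algebraMap T L) * E.map (algebraMap T L) = E.map (algebraMap T L)
    rw [← Matrix.map_mul, hE]
  let jL : Fin N → L := fun l => algebraMap T L (j l)
  let k : Fin N → T := j ᵥ* E
  have hkL : ∀ l, (jL ᵥ* EL) l = algebraMap T L (k l) := by
    intro l
    change ∑ m, algebraMap T L (j m) * algebraMap T L (E m l) = algebraMap T L (∑ m, j m * E m l)
    rw [map_sum]
    simp only [map_mul]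
  let KL : Ideal L := Ideal.span (Set.range (jL ᵥ* EL))
  let K'L : Ideal L := Ideal.span (Set.range fun i => (jL ᵥ* EL) (Λ i))
  have hKL : KL ≤ K'L := by
    refine Submodule.le_of_le_smul_of_le_jacobson_bot (I := IsLocalRing.maximalIdeal L)
      (Submodule.fg_span (Set.finite_range _))
      (le_of_eq (IsLocalRing.jacobson_eq_maximalIdeal ⊥ bot_ne_top).symm) ?_
    change KL ≤ K'L ⊔ IsLocalRing.maximalIdeal L • KL
    rw [Ideal.span_le]
    rintro _ ⟨l₀, rfl⟩
    have hmem : Ebar.col l₀ ∈ Submodule.span κ (Set.range fun i => Ebar.col (Λ i)) := by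
      rw [hΛ]
      exact Submodule.subset_span ⟨l₀, rfl⟩
    obtain ⟨c, hc⟩ := (Submodule.mem_span_range_iff_exists_fun κ).mp hmem
    choose ct hct using fun i => IsLocalRing.residue_surjective (R := L) (c i)
    let y : Fin N → L := fun m => (if m = l₀ then 1 else 0) - ∑ i, ct i * (if m = Λ i then 1 else 0)
    let w : Fin N → L := EL *ᵥ y
    have hw : ∀ m, w m = EL m l₀ - ∑ i, ct i * EL m (Λ i) := by
      intro m
      change ∑ a, EL m a * ((if a = l₀ then 1 else 0) - ∑ i, ct i * (if a = Λ i then 1 else 0)) = _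
      simp only [mul_sub, Finset.sum_sub_distrib, mul_ite, mul_one, mul_zero,
        Finset.sum_ite_eq', Finset.mem_univ, if_true]
      rw [sum_mul_sum_ite]
    have hwm : ∀ m, w m ∈ IsLocalRing.maximalIdeal L := by
      intro m
      rw [← IsLocalRing.residue_eq_zero_iff, hw, map_sub, map_sum]
      simp only [map_mul, hct]
      have h1 : ∀ a b, IsLocalRing.residue L (EL a b) = Ebar a b := fun a b => rfl
      simp only [h1]
      have h2 := congrFun hc m
      simp only [Finset.sum_apply, Pi.smul_apply, Matrix.col_apply, smul_eq_mul] at h2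
      rw [← h2, sub_self]
    have hdot1 : (jL ᵥ* EL) ⬝ᵥ y = (jL ᵥ* EL) l₀ - ∑ i, ct i * (jL ᵥ* EL) (Λ i) := by
      change ∑ a, (jL ᵥ* EL) a * ((if a = l₀ then 1 else 0) -
        ∑ i, ct i * (if a = Λ i then 1 else 0)) = _
      simp only [mul_sub, Finset.sum_sub_distrib, mul_ite, mul_one, mul_zero,
        Finset.sum_ite_eq', Finset.mem_univ, if_true]
      rw [sum_mul_sum_ite]
    have hdot2 : (jL ᵥ* EL) ⬝ᵥ y = (jL ᵥ* EL) ⬝ᵥ w := by
      change (jL ᵥ* EL) ⬝ᵥ y = (jL ᵥ* EL) ⬝ᵥ (EL *ᵥ y)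
      rw [Matrix.dotProduct_mulVec (jL ᵥ* EL) EL y, Matrix.vecMul_vecMul, hEL]
    have hdot3 : (jL ᵥ* EL) ⬝ᵥ w ∈ IsLocalRing.maximalIdeal L • KL := by
      change ∑ m, (jL ᵥ* EL) m * w m ∈ _
      refine Ideal.sum_mem _ fun m _ => ?_
      rw [mul_comm, smul_eq_mul]
      exact Ideal.mul_mem_mul (hwm m) (Ideal.subset_span ⟨m, rfl⟩)
    have heq : (jL ᵥ* EL) l₀ = ∑ i, ct i * (jL ᵥ* EL) (Λ i) + (jL ᵥ* EL) ⬝ᵥ w := by
      rw [← hdot2, hdot1]
      ring
    rw [heq]
    refine Submodule.add_mem_sup ?_ hdot3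
    exact Ideal.sum_mem _ fun i _ => Ideal.mul_mem_left _ _ (Ideal.subset_span ⟨i, rfl⟩)
  -- descend to `T`
  let K' : Ideal T := Ideal.span (Set.range fun i => k (Λ i))
  have hset : (Set.range fun i => (jL ᵥ* EL) (Λ i)) =
      algebraMap T L '' (Set.range fun i => k (Λ i)) := by
    ext x
    constructor
    · rintro ⟨i, rfl⟩
      exact ⟨k (Λ i), ⟨i, rfl⟩, (hkL (Λ i)).symm⟩
    · rintro ⟨_, ⟨i, rfl⟩, rfl⟩
      exact ⟨i, hkL (Λ i)⟩
  have hK'L : K'L = K'.map (algebraMap T L) := by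
    rw [Ideal.map_span, ← hset]
  have hl : ∀ l, ∃ t : T, t ∉ 𝔮 ∧ t * k l ∈ K' := by
    intro l
    have h1 : algebraMap T L (k l) ∈ K'.map (algebraMap T L) := by
      rw [← hK'L, ← hkL]
      exact hKL (Ideal.subset_span ⟨l, rfl⟩)
    obtain ⟨⟨a, m⟩, ham⟩ := (IsLocalization.mem_map_algebraMap_iff 𝔮.primeCompl L).mp h1
    rw [← map_mul] at ham
    obtain ⟨c, hc⟩ := (IsLocalization.eq_iff_exists 𝔮.primeCompl L).mp ham
    refine ⟨c * m, 𝔮.primeCompl.mul_mem c.2 m.2, ?_⟩
    have : (c * m : T) * k l = c * (a : T) := by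
      rw [← hc]
      ring
    rw [this]
    exact Ideal.mul_mem_left _ _ a.2
  choose t ht htk using hl
  refine ⟨∏ l, t l, ?_, fun l => ?_⟩
  · intro hmem
    obtain ⟨l, -, hl⟩ := (Ideal.IsPrime.prod_mem_iff).mp hmem
    exact ht l hl
  · have : (∏ l', t l') = (∏ l' ∈ Finset.univ.erase l, t l') * t l := by
      rw [Finset.prod_erase_mul _ _ (Finset.mem_univ l)]
    rw [this, mul_assoc]
    exact Ideal.mul_mem_left _ _ (htk l)

end Groth.Agent.H74.SyntLiftNak
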