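import Mathlib
import Groth.Prelude.Def_RegImm
import Groth.Agent.H91.MvPolyStdSmooth

/-!
# Presentations of quotients of algebras étale over a polynomial ring
-/

set_option autoImplicit false
set_option linter.style.haveILetI false

universe u

namespace Groth.Agent.H74.SyntLiftPres

theorem range_append {α : Type*} {m n : ℕ} (f : Fin m → α) (g : Fin n → α) :
    Set.range (Fin.append f g) = Set.range f ∪ Set.range g := by
  ext x
  constructor
  · rintro ⟨i, rfl⟩
    induction i using Fin.addCases with
    | left i => rw [Fin.append_left]; exact Or.inl ⟨i, rfl⟩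
    | right i => rw [Fin.append_right]; exact Or.inr ⟨i, rfl⟩
  · rintro (⟨i, rfl⟩ | ⟨i, rfl⟩)
    · exact ⟨Fin.castAdd n i, Fin.append_left f g i⟩
    · exact ⟨Fin.natAdd m i, Fin.append_right f g i⟩

/-- The quotient of a finitely presented algebra by finitely many elements, as an explicit
quotient of a polynomial ring. -/
theorem nonempty_quot_equiv {R T' : Type u} [CommRing R] [CommRing T'] [Algebra R T']
    (a b r : ℕ) (α : MvPolynomial (Fin a) R →ₐ[R] T') (hα : Function.Surjective α)
    (rel : Fin b → MvPolynomial (Fin a) R) (hker : RingHom.ker α = Ideal.span (Set.range rel))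
    (kt : Fin r → MvPolynomial (Fin a) R) :
    Nonempty ((T' ⧸ Ideal.span (Set.range fun i => α (kt i))) ≃ₐ[R]
      Synt.RelGCIRing R a (b + r) (Fin.append rel kt)) := by
  let K' : Ideal T' := Ideal.span (Set.range fun i => α (kt i))
  let Φ : MvPolynomial (Fin a) R →ₐ[R] T' ⧸ K' := (Ideal.Quotient.mkₐ R K').comp α
  have hΦ : Function.Surjective Φ := (Ideal.Quotient.mkₐ_surjective R K').comp hα
  have hkerΦ : RingHom.ker Φ = Ideal.span (Set.range (Fin.append rel kt)) := by
    have h1 : RingHom.ker Φ = K'.comap α := by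
      ext x
      rw [RingHom.mem_ker, Ideal.mem_comap]
      change Ideal.Quotient.mk K' (α x) = 0 ↔ _
      rw [Ideal.Quotient.eq_zero_iff_mem]
    have hset : (Set.range fun i => α (kt i)) = α '' Set.range kt := by
      ext x
      constructor
      · rintro ⟨i, rfl⟩
        exact ⟨kt i, ⟨i, rfl⟩, rfl⟩
      · rintro ⟨_, ⟨i, rfl⟩, rfl⟩
        exact ⟨i, rfl⟩
    have h2 : K' = (Ideal.span (Set.range kt)).map α := by
      rw [Ideal.map_span]
      change Ideal.span (Set.range fun i => α (kt i)) = _
      rw [hset]
    rw [h1, h2, Ideal.comap_map_of_surjective α hα, range_append, Ideal.span_union, sup_comm]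
    congr 1
  exact ⟨((Ideal.quotientEquivAlgOfEq R hkerΦ.symm).trans
    (Ideal.quotientKerAlgEquivOfSurjective hΦ)).symm⟩

/-- An algebra étale over a polynomial ring in `n` variables has a presentation with `b + n`
variables and `b` relations. -/
theorem exists_presentation_of_etale {R T' : Type u} [CommRing R] [CommRing T'] [Algebra R T']
    (n : ℕ) [Algebra (MvPolynomial (Fin n) R) T'] [IsScalarTower R (MvPolynomial (Fin n) R) T']
    [Algebra.Etale (MvPolynomial (Fin n) R) T'] :
    ∃ (b : ℕ) (α : MvPolynomial (Fin (b + n)) R →ₐ[R] T') (rel : Fin b → MvPolynomial (Fin (b + n)) R),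
      Function.Surjective α ∧ RingHom.ker α = Ideal.span (Set.range rel) := by
  haveI : Algebra.IsStandardSmoothOfRelativeDimension 0 (MvPolynomial (Fin n) R) T' :=
    Algebra.Etale.iff_isStandardSmoothOfRelativeDimension_zero.mp inferInstance
  haveI h : Algebra.IsStandardSmoothOfRelativeDimension (0 + n) R T' :=
    Algebra.IsStandardSmoothOfRelativeDimension.trans n 0 R (MvPolynomial (Fin n) R) T'
  obtain ⟨ι, σ, _, _, Pr, hP⟩ := h.out
  have hle : Nat.card σ ≤ Nat.card ι := Nat.card_le_card_of_injective Pr.map Pr.map_inj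
  have hcard : Nat.card ι = Nat.card σ + n := by
    have : Nat.card ι - Nat.card σ = 0 + n := hP
    omega
  let e : Fin (Nat.card σ + n) ≃ ι := (finCongr hcard.symm).trans (Finite.equivFin ι).symm
  let f : Fin (Nat.card σ) ≃ σ := (Finite.equivFin σ).symm
  let P' := Pr.toPresentation.reindex e f
  refine ⟨Nat.card σ, MvPolynomial.aeval P'.val, P'.relation, P'.aeval_val_surjective, ?_⟩
  rw [P'.span_range_relation_eq_ker, Algebra.Generators.ker_eq_ker_aeval_val]

end Groth.Agent.H74.SyntLiftPres
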