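import Mathlib
import Groth.Agent.H74.SyntLiftData
import Groth.Agent.H74.SyntLiftNak
import Groth.Agent.H74.SyntLiftPres
import Groth.Agent.H74.SyntLiftCore
import Groth.Agent.H74.SyntLiftLoc

/-!
# The local step: syntomic near a point of `V(J)`
-/

set_option autoImplicit false
set_option linter.style.haveILetI false
set_option linter.unusedSectionVars false

open TensorProduct

universe u

namespace Groth.Agent.H74.SyntLiftAt

open Groth.Agent.H74.SyntLiftData

variable {R : Type u} [CommRing R] (I : Ideal R) {A₀ : Type u} [CommRing A₀] [Algebra (R ⧸ I) A₀]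
  {n N : ℕ} {T : Type u} [CommRing T] [Algebra (MvPolynomial (Fin n) R) T] [Algebra R T]
  [IsScalarTower R (MvPolynomial (Fin n) R) T]

set_option maxHeartbeats 1600000 in
theorem core (h : Synt.IsSyntomic (R ⧸ I) A₀)
    (ψb : MvPolynomial (Fin n) (R ⧸ I) →ₐ[R ⧸ I] A₀) (hψb : Function.Surjective ψb)
    (j : Fin N → MvPolynomial (Fin n) R)
    (et : Matrix (Fin N) (Fin N) (MvPolynomial (Fin n) R))
    (hrank : ∀ (κ : Type u) [Field κ] [Algebra A₀ κ],
      ((et.map (psi I ψb)).map (algebraMap A₀ κ)).rank =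
        Module.finrank κ (κ ⊗[A₀] (Algebra.Extension.ofSurjective ψb hψb).Cotangent))
    [Algebra.Etale (MvPolynomial (Fin n) R) T]
    (E : Matrix (Fin N) (Fin N) T) (hE : E * E = E)
    (hEG : ∀ a b, E a b - algebraMap (MvPolynomial (Fin n) R) T (et a b) ∈
      (RingHom.ker (psi I ψb)).map (algebraMap (MvPolynomial (Fin n) R) T))
    (K : Ideal T) (hK : K = Ideal.span (Set.range
      (Matrix.vecMul (fun m => algebraMap (MvPolynomial (Fin n) R) T (j m)) E)))
    (φ : T ⧸ K →+* A₀) (hφ : Function.Surjective φ)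
    (hφP : ∀ p, φ (algebraMap (MvPolynomial (Fin n) R) (T ⧸ K) p) = psi I ψb p)
    (hφ0 : ∀ x, φ x = 0 ↔
      x ∈ (RingHom.ker (psi I ψb)).map (algebraMap (MvPolynomial (Fin n) R) (T ⧸ K)))
    (g₁ : T ⧸ K)
    (hg₁ : g₁ - 1 ∈ (RingHom.ker (psi I ψb)).map (algebraMap (MvPolynomial (Fin n) R) (T ⧸ K)))
    (hg₁J : ∀ x ∈ (RingHom.ker (psi I ψb)).map (algebraMap (MvPolynomial (Fin n) R) (T ⧸ K)),
      g₁ * x ∈ I.map (algebraMap R (T ⧸ K)))
    (𝔭 : Ideal (T ⧸ K)) [𝔭.IsPrime]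
    (h𝔭 : (RingHom.ker (psi I ψb)).map (algebraMap (MvPolynomial (Fin n) R) (T ⧸ K)) ≤ 𝔭) :
    ∃ hh : T ⧸ K, hh ∉ 𝔭 ∧ Synt.IsSyntomic R (Localization.Away hh) := by
  classical
  -- the prime of `T`
  let 𝔮 : Ideal T := 𝔭.comap (Ideal.Quotient.mk K)
  haveI : 𝔮.IsPrime := Ideal.comap_isPrime _ _
  let κ := 𝔮.ResidueField
  obtain ⟨r, hr⟩ : ∃ r : ℕ, r = (E.map (algebraMap T 𝔮.ResidueField)).rank := ⟨_, rfl⟩
  have hgens := Groth.Agent.H74.SyntLiftNak.exists_gens E hE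
    (fun m => algebraMap (MvPolynomial (Fin n) R) T (j m)) 𝔮
  rw [← hr] at hgens
  obtain ⟨Λ, t, ht, htk⟩ := hgens
  set k : Fin N → T :=
    Matrix.vecMul (fun m => algebraMap (MvPolynomial (Fin n) R) T (j m)) E with hk
  have hK𝔮 : K ≤ 𝔮 := by
    intro x hx
    change Ideal.Quotient.mk K x ∈ 𝔭
    rw [Ideal.Quotient.eq_zero_iff_mem.mpr hx]
    exact zero_mem _
  have hJ𝔮 : (RingHom.ker (psi I ψb)).map (algebraMap (MvPolynomial (Fin n) R) T) ≤ 𝔮 := by
    rw [Ideal.map_le_iff_le_comap]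
    intro p hp
    change Ideal.Quotient.mk K (algebraMap (MvPolynomial (Fin n) R) T p) ∈ 𝔭
    exact h𝔭 (Ideal.mem_map_of_mem _ hp)
  -- the character `χ : A₀ → κ`
  let χS : T ⧸ K →+* κ := Ideal.Quotient.lift K (algebraMap T κ) (fun x hx =>
    Ideal.algebraMap_residueField_eq_zero.mpr (hK𝔮 hx))
  have hχS : ∀ x, χS x = 0 ↔ x ∈ 𝔭 := by
    intro x
    obtain ⟨y, rfl⟩ := Ideal.Quotient.mk_surjective x
    change algebraMap T κ y = 0 ↔ _
    rw [Ideal.algebraMap_residueField_eq_zero]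
    rfl
  have hkerφ : RingHom.ker φ ≤ RingHom.ker χS := by
    intro x hx
    rw [RingHom.mem_ker] at hx ⊢
    rw [hχS]
    exact h𝔭 ((hφ0 x).mp hx)
  let χ : A₀ →+* κ := RingHom.liftOfRightInverse φ (Function.surjInv hφ)
    (Function.rightInverse_surjInv hφ) ⟨χS, hkerφ⟩
  have hχφ : ∀ x, χ (φ x) = χS x := fun x =>
    RingHom.liftOfRightInverse_comp_apply φ _ _ ⟨χS, hkerφ⟩ x
  letI algκ : Algebra A₀ κ := χ.toAlgebra
  have hχψ : ∀ p, χ (psi I ψb p) = algebraMap T κ (algebraMap (MvPolynomial (Fin n) R) T p) := by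
    intro p
    rw [← hφP, hχφ]
    rfl
  have hrk : r = Module.finrank κ
      (κ ⊗[A₀] (Algebra.Extension.ofSurjective ψb hψb).Cotangent) := by
    rw [← hrank κ, hr]
    congr 1
    ext a b
    change algebraMap T κ (E a b) = χ (psi I ψb (et a b))
    rw [hχψ, ← sub_eq_zero, ← map_sub, Ideal.algebraMap_residueField_eq_zero]
    exact hJ𝔮 (hEG a b)
  -- the element `u₁ = g₁ t`
  let tS : T ⧸ K := Ideal.Quotient.mk K t
  have htS : tS ∉ 𝔭 := ht
  have hg₁𝔭 : g₁ ∉ 𝔭 := by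
    intro hmem
    apply Ideal.IsPrime.ne_top (inferInstance : 𝔭.IsPrime)
    rw [Ideal.eq_top_iff_one]
    have h1 := Ideal.sub_mem _ hmem (h𝔭 hg₁)
    rwa [sub_sub_cancel] at h1
  let u₁ : T ⧸ K := g₁ * tS
  have hu₁ : u₁ ∉ 𝔭 := fun hmem =>
    (Ideal.IsPrime.mem_or_mem inferInstance hmem).elim hg₁𝔭 htS
  -- the localized syntomic algebra and the chart
  let A₁ := Localization.Away (φ u₁)
  have hA₁ : Synt.IsSyntomic (R ⧸ I) A₁ := Groth.Agent.H47.Synt.isSyntomic_away h (φ u₁)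
  have hχu₁ : IsUnit (χ (φ u₁)) := by
    rw [hχφ, isUnit_iff_ne_zero, Ne, hχS]
    exact hu₁
  let χ₁ : A₁ →+* κ := IsLocalization.Away.lift (φ u₁) hχu₁
  have hχ₁ : ∀ a, χ₁ (algebraMap A₀ A₁ a) = χ a := fun a =>
    IsLocalization.Away.lift_eq (φ u₁) hχu₁ a
  let q₁ : Ideal A₁ := RingHom.ker χ₁
  haveI : q₁.IsPrime := RingHom.ker_isPrime χ₁
  obtain ⟨g', hg', m, c₀, F₀, hRel₀, ⟨e₀⟩⟩ := Groth.Agent.H46.SyntLocal.main (R ⧸ I) A₁ hA₁ q₁
  obtain ⟨ee, x₀, hx₀⟩ := IsLocalization.Away.surj (φ u₁) g'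
  have huA₁ : IsUnit (algebraMap A₀ A₁ (φ u₁)) := IsLocalization.Away.algebraMap_isUnit _
  have hassoc : Associated (algebraMap A₀ A₁ x₀) g' := by
    rw [← hx₀]
    obtain ⟨w, hw⟩ := huA₁.pow ee
    refine Associated.symm ⟨w, ?_⟩
    rw [hw]
  have hχx₀ : χ x₀ ≠ 0 := by
    rw [← hχ₁, ← hx₀, map_mul]
    refine mul_ne_zero (fun h0 => hg' h0) ?_
    rw [map_pow, hχ₁]
    exact pow_ne_zero _ hχu₁.ne_zero
  obtain ⟨xS, hxS⟩ := hφ x₀
  have hxS𝔭 : xS ∉ 𝔭 := by
    rw [← hχS, ← hχφ, hxS]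
    exact hχx₀
  let u : T ⧸ K := u₁ * xS
  have hu : u ∉ 𝔭 := fun hmem =>
    (Ideal.IsPrime.mem_or_mem inferInstance hmem).elim hu₁ hxS𝔭
  have hφu : φ u = φ u₁ * x₀ := by rw [map_mul, hxS]
  let A' := Localization.Away g'
  haveI locA' : IsLocalization.Away (φ u) A' := by
    rw [hφu]
    exact IsLocalization.Away.mul_of_associated (φ u₁) x₀ g' hassoc
  -- lifts to `T`
  obtain ⟨g₁T, hg₁T⟩ := Ideal.Quotient.mk_surjective g₁
  obtain ⟨xT, hxT⟩ := Ideal.Quotient.mk_surjective xS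
  let uT : T := g₁T * t * xT
  have huT : Ideal.Quotient.mk K uT = u := by
    change Ideal.Quotient.mk K (g₁T * t * xT) = g₁ * tS * xS
    rw [map_mul, map_mul, hg₁T, hxT]
  let T' := Localization.Away uT
  haveI : Algebra.Etale T T' := Algebra.Etale.of_isLocalizationAway uT
  haveI : Algebra.Etale (MvPolynomial (Fin n) R) T' :=
    Algebra.Etale.comp (MvPolynomial (Fin n) R) T T'
  let K' : Ideal T' := K.map (algebraMap T T')
  let B := T' ⧸ K'
  haveI towB : IsScalarTower R (T ⧸ K) B := IsScalarTower.of_algebraMap_eq fun x => by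
    rw [IsScalarTower.algebraMap_apply R T (T ⧸ K), IsScalarTower.algebraMap_apply R T' B,
      IsScalarTower.algebraMap_apply R T T']
    rfl
  haveI locB : IsLocalization.Away u B := by
    have h1 : Algebra.algebraMapSubmonoid (T ⧸ K) (Submonoid.powers uT) = Submonoid.powers u := by
      rw [← huT]
      exact Submonoid.map_powers _ _
    have h2 : IsLocalization (Algebra.algebraMapSubmonoid (T ⧸ K) (Submonoid.powers uT)) B :=
      inferInstance
    rw [h1] at h2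
    exact h2
  -- the presentation of `B`
  obtain ⟨b, α, rel, hα, hker⟩ :=
    Groth.Agent.H74.SyntLiftPres.exists_presentation_of_etale (R := R) (T' := T') n
  have htunit : IsUnit (algebraMap T T' t) := by
    have h1 : IsUnit (algebraMap T T' uT) := IsLocalization.Away.algebraMap_isUnit uT
    change IsUnit (algebraMap T T' (g₁T * t * xT)) at h1
    rw [map_mul, map_mul] at h1
    exact isUnit_of_mul_isUnit_right (isUnit_of_mul_isUnit_left h1)
  have hK' : K' = Ideal.span (Set.range fun i => algebraMap T T' (k (Λ i))) := by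
    apply le_antisymm
    · change K.map (algebraMap T T') ≤ _
      rw [hK, Ideal.map_span, Ideal.span_le]
      rintro _ ⟨_, ⟨l, rfl⟩, rfl⟩
      have h1 : algebraMap T T' (t * k l) ∈
          Ideal.span (Set.range fun i => algebraMap T T' (k (Λ i))) := by
        have h2 : (Ideal.span (Set.range fun i => k (Λ i))).map (algebraMap T T') =
            Ideal.span (Set.range fun i => algebraMap T T' (k (Λ i))) := by
          rw [Ideal.map_span, ← Set.range_comp]
          rfl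
        rw [← h2]
        exact Ideal.mem_map_of_mem _ (htk l)
      rw [map_mul] at h1
      exact (Ideal.unit_mul_mem_iff_mem _ htunit).mp h1
    · rw [Ideal.span_le]
      rintro _ ⟨i, rfl⟩
      apply Ideal.mem_map_of_mem
      rw [hK]
      exact Ideal.subset_span ⟨Λ i, rfl⟩
  choose kt hkt using fun i => hα (algebraMap T T' (k (Λ i)))
  obtain ⟨eB₀⟩ := Groth.Agent.H74.SyntLiftPres.nonempty_quot_equiv (b + n) b r α hα rel hker kt
  have hK'' : K' = Ideal.span (Set.range fun i => α (kt i)) := by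
    rw [hK']
    congr 2
    funext i
    exact (hkt i).symm
  let eB : B ≃ₐ[R] Synt.RelGCIRing R (b + n) (b + r) (Fin.append rel kt) :=
    (Ideal.quotientEquivAlgOfEq R hK'').trans eB₀
  -- identification of `B / I B`
  have hφR : ∀ x, φ (algebraMap R (T ⧸ K) x) =
      algebraMap (R ⧸ I) A₀ (Ideal.Quotient.mk I x) := by
    intro x
    rw [IsScalarTower.algebraMap_apply R (MvPolynomial (Fin n) R) (T ⧸ K), hφP,
      MvPolynomial.algebraMap_eq, psi_C]
  obtain ⟨emod⟩ := Groth.Agent.H74.SyntLiftCore.nonempty_algEquiv_away I φ hφ hφR u g₁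
    ⟨tS * xS, by change g₁ * tS * xS = _; ring⟩
    (fun x hx => hg₁J x ((hφ0 x).mp hx)) B A'
  -- the numerical identity
  haveI : Algebra.FinitePresentation (R ⧸ I) A₀ := h.2.1
  have hχu : algebraMap A₀ κ (φ u) ≠ 0 := by
    change χ (φ u) ≠ 0
    rw [hχφ, Ne, hχS]
    exact hu
  let eloc : Localization.Away (φ u) ≃ₐ[A₀] A' :=
    IsLocalization.algEquiv (Submonoid.powers (φ u)) _ _
  have hcount := Groth.Agent.H74.SyntLiftRank.finrank_tensor_cotangent (R ⧸ I) A₀ n ψb hψb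
    (φ u) m c₀ F₀ hRel₀ ((eloc.restrictScalars (R ⧸ I)).trans e₀) κ hχu
  have hnum : (b + r) + m = c₀ + (b + n) := by
    rw [← hrk] at hcount
    omega
  obtain ⟨hB, hB1, hBs⟩ := Groth.Agent.H74.SyntLiftCore.exists_isSyntomic_away R I B (b + n)
    (b + r) (Fin.append rel kt) eB m c₀ F₀ hRel₀ (emod.trans e₀) hnum
  refine Groth.Agent.H74.SyntLiftLoc.exists_isSyntomic_away_of_localization u B hB hBs 𝔭 hu ?_
  have hle : I.map (algebraMap R B) ≤ 𝔭.map (algebraMap (T ⧸ K) B) := by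
    rw [IsScalarTower.algebraMap_eq R (T ⧸ K) B, ← Ideal.map_map]
    apply Ideal.map_mono
    rw [Ideal.map_le_iff_le_comap]
    intro x hx
    rw [Ideal.mem_comap]
    apply h𝔭
    rw [← hφ0, hφR, Ideal.Quotient.eq_zero_iff_mem.mpr hx, map_zero]
  exact hle hB1

end Groth.Agent.H74.SyntLiftAt
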