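import Mathlib
import Groth.Agent.H74.SyntLiftData
import Groth.Agent.H74.SyntLiftNak
import Groth.Agent.H74.SyntLiftPres
import Groth.Agent.H74.SyntLiftCore
import Groth.Agent.H74.SyntLiftLoc
import Groth.Agent.H74.SyntLiftAt
import Groth.Agent.H87.SmoothQuotF

/-!
# Syntomic algebras lift along `R → R ⧸ I`
-/

set_option autoImplicit false
set_option linter.style.haveILetI false
set_option linter.unusedSectionVars false

open TensorProduct

universe u

namespace Groth.Agent.H74.SyntLiftMain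

open Groth.Agent.H74.SyntLiftData

section Sq

variable {R : Type u} [CommRing R] {n N : ℕ}
  {T : Type u} [CommRing T] [Algebra (MvPolynomial (Fin n) R) T] [Algebra R T]
  [IsScalarTower R (MvPolynomial (Fin n) R) T]

theorem map_le_sq_sup (I : Ideal R) (J₀ : Ideal (MvPolynomial (Fin n) R))
    (j : Fin N → MvPolynomial (Fin n) R) (hj : ∀ l, j l ∈ J₀)
    (hgen : J₀ ≤ Ideal.span (Set.range j) ⊔ I.map MvPolynomial.C)
    (et : Matrix (Fin N) (Fin N) (MvPolynomial (Fin n) R))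
    (hD3 : ∀ l, j l - ∑ m, j m * et m l ∈ J₀ ^ 2 ⊔ I.map MvPolynomial.C)
    (E : Matrix (Fin N) (Fin N) T)
    (hEG : ∀ a b, E a b - algebraMap (MvPolynomial (Fin n) R) T (et a b) ∈
      J₀.map (algebraMap (MvPolynomial (Fin n) R) T))
    (K : Ideal T) (hK : K = Ideal.span (Set.range
      (Matrix.vecMul (fun m => algebraMap (MvPolynomial (Fin n) R) T (j m)) E))) :
    J₀.map (algebraMap (MvPolynomial (Fin n) R) (T ⧸ K)) ≤
      (J₀.map (algebraMap (MvPolynomial (Fin n) R) (T ⧸ K))) ^ 2 ⊔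
        I.map (algebraMap R (T ⧸ K)) := by
  obtain ⟨JA, hJA⟩ : ∃ JA : Ideal (T ⧸ K),
    JA = J₀.map (algebraMap (MvPolynomial (Fin n) R) (T ⧸ K)) := ⟨_, rfl⟩
  obtain ⟨IA, hIA⟩ : ∃ IA : Ideal (T ⧸ K), IA = I.map (algebraMap R (T ⧸ K)) := ⟨_, rfl⟩
  rw [← hJA, ← hIA]
  have hIC : (I.map MvPolynomial.C).map (algebraMap (MvPolynomial (Fin n) R) (T ⧸ K)) = IA := by
    rw [Ideal.map_map, hIA]
    congr 1
    rw [IsScalarTower.algebraMap_eq R (MvPolynomial (Fin n) R) (T ⧸ K)]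
    rfl
  have hmapsup : ∀ q ∈ J₀ ^ 2 ⊔ I.map MvPolynomial.C,
      algebraMap (MvPolynomial (Fin n) R) (T ⧸ K) q ∈ JA ^ 2 ⊔ IA := by
    intro q hq
    have h1 : (J₀ ^ 2 ⊔ I.map MvPolynomial.C).map
        (algebraMap (MvPolynomial (Fin n) R) (T ⧸ K)) = JA ^ 2 ⊔ IA := by
      rw [Ideal.map_sup, Ideal.map_pow, hIC, hJA]
    rw [← h1]
    exact Ideal.mem_map_of_mem _ hq
  have hk0 : ∀ l, Ideal.Quotient.mk K
      (∑ m, algebraMap (MvPolynomial (Fin n) R) T (j m) * E m l) = 0 := by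
    intro l
    rw [Ideal.Quotient.eq_zero_iff_mem, hK]
    exact Ideal.subset_span ⟨l, rfl⟩
  have hEJA : ∀ m l, algebraMap (MvPolynomial (Fin n) R) (T ⧸ K) (et m l) -
      Ideal.Quotient.mk K (E m l) ∈ JA := by
    intro m l
    have h1 : algebraMap (MvPolynomial (Fin n) R) (T ⧸ K) (et m l) -
        Ideal.Quotient.mk K (E m l) =
        Ideal.Quotient.mk K (algebraMap (MvPolynomial (Fin n) R) T (et m l) - E m l) := by
      rw [map_sub]
      rfl
    rw [h1]
    have h2 : JA = (J₀.map (algebraMap (MvPolynomial (Fin n) R) T)).map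
        (Ideal.Quotient.mk K) := by
      rw [Ideal.map_map, hJA]
      rfl
    rw [h2]
    apply Ideal.mem_map_of_mem
    rw [← neg_sub, neg_mem_iff]
    exact hEG m l
  have hjA : ∀ l, algebraMap (MvPolynomial (Fin n) R) (T ⧸ K) (j l) ∈ JA ^ 2 ⊔ IA := by
    intro l
    have h0 : ∑ m, algebraMap (MvPolynomial (Fin n) R) (T ⧸ K) (j m) *
        Ideal.Quotient.mk K (E m l) = 0 := by
      have h0' := hk0 l
      rw [map_sum] at h0'
      simp only [map_mul] at h0'
      exact h0'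
    have h1 : algebraMap (MvPolynomial (Fin n) R) (T ⧸ K) (j l) =
        algebraMap (MvPolynomial (Fin n) R) (T ⧸ K) (j l - ∑ m, j m * et m l) +
        ∑ m, algebraMap (MvPolynomial (Fin n) R) (T ⧸ K) (j m) *
          (algebraMap (MvPolynomial (Fin n) R) (T ⧸ K) (et m l) -
            Ideal.Quotient.mk K (E m l)) := by
      rw [map_sub, map_sum]
      simp only [map_mul, mul_sub, Finset.sum_sub_distrib]
      rw [h0, sub_zero]
      ring
    rw [h1]
    refine Ideal.add_mem _ (hmapsup _ (hD3 l)) (Ideal.sum_mem _ fun m _ => ?_)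
    apply Ideal.mem_sup_left
    rw [pow_two]
    refine Ideal.mul_mem_mul ?_ (hEJA m l)
    rw [hJA]
    exact Ideal.mem_map_of_mem _ (hj m)
  rw [hJA, Ideal.map_le_iff_le_comap]
  intro p hp
  rw [Ideal.mem_comap]
  have h1 : algebraMap (MvPolynomial (Fin n) R) (T ⧸ K) p ∈
      (Ideal.span (Set.range j) ⊔ I.map MvPolynomial.C).map
        (algebraMap (MvPolynomial (Fin n) R) (T ⧸ K)) := Ideal.mem_map_of_mem _ (hgen hp)
  rw [Ideal.map_sup, hIC, Ideal.map_span] at h1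
  rw [← hJA]
  have h2 : Ideal.span (algebraMap (MvPolynomial (Fin n) R) (T ⧸ K) '' Set.range j) ⊔ IA ≤
      JA ^ 2 ⊔ IA := by
    refine sup_le ?_ le_sup_right
    rw [Ideal.span_le]
    rintro _ ⟨_, ⟨l, rfl⟩, rfl⟩
    exact hjA l
  exact h2 h1

end Sq

section Main

variable {R : Type u} [CommRing R] (I : Ideal R) {A₀ : Type u} [CommRing A₀] [Algebra (R ⧸ I) A₀]

/-- Syntomic algebras lift along `R → R ⧸ I`. -/
theorem exists_syntomic_lift (h : Synt.IsSyntomic (R ⧸ I) A₀) :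
    ∃ (A : Type u) (_ : CommRing A) (_ : Algebra R A), Synt.IsSyntomic R A ∧
      Nonempty ((A ⧸ I.map (algebraMap R A)) ≃ₐ[R ⧸ I] A₀) := by
  classical
  obtain ⟨n, N, ψb, hψb, j, et, hj, hgen, hD3, hidem, hrank⟩ := exists_data I h
  have hψ := psi_surjective I ψb hψb
  have hψC := psi_C I ψb
  let ebar : Matrix (Fin N) (Fin N) (MvPolynomial (Fin n) R ⧸ RingHom.ker (psi I ψb)) :=
    fun a b => Ideal.Quotient.mk _ (et a b)
  have hebar : ebar * ebar = ebar := by
    ext a b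
    rw [Matrix.mul_apply]
    change ∑ c, Ideal.Quotient.mk _ (et a c) * Ideal.Quotient.mk _ (et c b) =
      Ideal.Quotient.mk _ (et a b)
    simp only [← map_mul]
    rw [← map_sum, ← Matrix.mul_apply, ← sub_eq_zero, ← map_sub, Ideal.Quotient.eq_zero_iff_mem]
    exact hidem a b
  obtain ⟨T, _, _, hTet, hbij, E, hE, hEmap⟩ :=
    Groth.Agent.H11.EtaleProjLift.exists_etale_lift_idem_matrix (RingHom.ker (psi I ψb)) N ebar
      hebar
  letI : Algebra R T :=
    ((algebraMap (MvPolynomial (Fin n) R) T).comp (algebraMap R (MvPolynomial (Fin n) R))).toAlgebra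
  haveI : IsScalarTower R (MvPolynomial (Fin n) R) T := IsScalarTower.of_algebraMap_eq fun _ => rfl
  have hEG : ∀ a b, E a b - algebraMap (MvPolynomial (Fin n) R) T (et a b) ∈
      (RingHom.ker (psi I ψb)).map (algebraMap (MvPolynomial (Fin n) R) T) := by
    intro a b
    have h4 := congrFun (congrFun hEmap a) b
    simp only [Matrix.map_apply] at h4
    exact Ideal.Quotient.eq.mp h4
  obtain ⟨K, hK⟩ : ∃ K : Ideal T, K = Ideal.span (Set.range
      (Matrix.vecMul (fun m => algebraMap (MvPolynomial (Fin n) R) T (j m)) E)) := ⟨_, rfl⟩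
  have hKJ : K ≤ (RingHom.ker (psi I ψb)).map (algebraMap (MvPolynomial (Fin n) R) T) := by
    rw [hK, Ideal.span_le]
    rintro _ ⟨l, rfl⟩
    change ∑ m, algebraMap (MvPolynomial (Fin n) R) T (j m) * E m l ∈ _
    exact Ideal.sum_mem _ fun m _ => Ideal.mul_mem_right _ _ (Ideal.mem_map_of_mem _ (hj m))
  obtain ⟨φ, hφsurj, hφP, hφ0⟩ :=
    Groth.Agent.H87.SmoothQuot.exists_phi (psi I ψb) hψ hbij K hKJ
  -- Nakayama
  have hsq := map_le_sq_sup I (RingHom.ker (psi I ψb)) j hj hgen et hD3 E hEG K hK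
  let s : Finset (T ⧸ K) :=
    Finset.univ.image fun l => algebraMap (MvPolynomial (Fin n) R) (T ⧸ K) (j l)
  have hs1 : ((s : Finset (T ⧸ K)) : Set (T ⧸ K)) ⊆
      (RingHom.ker (psi I ψb)).map (algebraMap (MvPolynomial (Fin n) R) (T ⧸ K)) := by
    intro x hx
    obtain ⟨l, -, rfl⟩ := Finset.mem_image.mp (Finset.mem_coe.mp hx)
    exact Ideal.mem_map_of_mem _ (hj l)
  have hs2 : (RingHom.ker (psi I ψb)).map (algebraMap (MvPolynomial (Fin n) R) (T ⧸ K)) ≤
      Ideal.span ((s : Finset (T ⧸ K)) : Set (T ⧸ K)) ⊔ I.map (algebraMap R (T ⧸ K)) := by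
    refine (Ideal.map_mono hgen).trans (le_of_eq ?_)
    rw [Ideal.map_sup, Ideal.map_span, Ideal.map_map, Finset.coe_image, Finset.coe_univ,
      Set.image_univ]
    congr 2
    · rw [← Set.range_comp]
      rfl
  obtain ⟨g₁, hg₁, hg₁J⟩ := Groth.Agent.H87.SmoothQuot.exists_mul_mem_of_le_sq_sup
    ((RingHom.ker (psi I ψb)).map (algebraMap (MvPolynomial (Fin n) R) (T ⧸ K)))
    (I.map (algebraMap R (T ⧸ K))) s hs1 hs2 hsq
  -- syntomic near `V(J)`
  obtain ⟨g₂, hg₂, hg₂S⟩ := Groth.Agent.H74.SyntLiftLoc.exists_isSyntomic_away_of_forall (R := R)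
    ((RingHom.ker (psi I ψb)).map (algebraMap (MvPolynomial (Fin n) R) (T ⧸ K)))
    (fun 𝔭 h𝔭 hle => by
      haveI := h𝔭
      exact Groth.Agent.H74.SyntLiftAt.core I h ψb hψb j et hrank E hE hEG K hK φ hφsurj hφP hφ0
        g₁ hg₁ hg₁J 𝔭 hle)
  refine ⟨Localization.Away (g₁ * g₂), inferInstance, inferInstance,
    hg₂S (g₁ * g₂) (Dvd.intro_left _ rfl), ?_⟩
  have hφR : ∀ r, φ (algebraMap R (T ⧸ K) r) =
      algebraMap (R ⧸ I) A₀ (Ideal.Quotient.mk I r) := by
    intro r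
    rw [IsScalarTower.algebraMap_apply R (MvPolynomial (Fin n) R) (T ⧸ K), hφP,
      MvPolynomial.algebraMap_eq, hψC]
  have hg : φ (g₁ * g₂) = 1 := by
    have h1 : g₁ * g₂ - 1 ∈
        (RingHom.ker (psi I ψb)).map (algebraMap (MvPolynomial (Fin n) R) (T ⧸ K)) := by
      have h2 : g₁ * g₂ - 1 = g₁ * (g₂ - 1) + (g₁ - 1) := by ring
      rw [h2]
      exact Ideal.add_mem _ (Ideal.mul_mem_left _ _ hg₂) hg₁
    have h3 := (hφ0 _).mpr h1
    rw [map_sub, map_one, sub_eq_zero] at h3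
    exact h3
  exact Groth.Agent.H87.SmoothQuot.exists_algEquiv_away I φ hφsurj hφR (g₁ * g₂) g₁ hg
    (Dvd.intro _ rfl) (fun x hx => hg₁J x ((hφ0 x).mp hx)) (Localization.Away (g₁ * g₂))

end Main

end Groth.Agent.H74.SyntLiftMain
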