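import Groth.Agent.H74.SpanTree
import Groth.Prelude.Def_W4c5modbuncurvesppStab

/-!
# Side sums on a tree (helper74)
-/

open Finset

namespace Groth.Agent.H74.TreeSide

universe u
variable {V E : Type u} [Fintype V] [Fintype E] [DecidableEq V] [DecidableEq E]

open LabGraph DualGr PhiStab Groth.Agent.H74.CircCoprime Groth.Agent.H74.SpanTree
  Groth.Agent.H74.Incidence

theorem mem_side_iff (ends : E → V × V) (e : E) (v : V) :
    v ∈ side ends e ↔ ReachIn ends (Finset.univ.erase e) (ends e).1 v := by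
  classical
  unfold side
  simp only [Finset.mem_filter, Finset.mem_univ, true_and]
  exact reach_sub_iff ends (Finset.univ.erase e) (ends e).1 v

/-- real boundary -/
def bdR (ends : E → V × V) (f : E → ℝ) (v : V) : ℝ :=
  ∑ e : E, ((if (ends e).2 = v then f e else 0) - (if (ends e).1 = v then f e else 0))

omit [DecidableEq E] in
theorem sum_bdR (ends : E → V × V) (f : E → ℝ) (S : Finset V) :
    ∑ v ∈ S, bdR ends f v =
      ∑ e : E, f e * ((if (ends e).2 ∈ S then 1 else 0) - (if (ends e).1 ∈ S then 1 else 0)) := by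
  simp only [bdR]
  rw [Finset.sum_comm]
  refine Finset.sum_congr rfl fun e _ => ?_
  rw [Finset.sum_sub_distrib, Finset.sum_ite_eq, Finset.sum_ite_eq]
  split_ifs <;> ring

theorem exists_sideSum (ends : E → V × V) (hT : IsTree ends) (c : E → ℝ) (c₀ : ℝ) :
    ∃ φ : V → ℝ, (∀ e : E, (∑ v ∈ side ends e, φ v) = c e) ∧ (∑ v : V, φ v) = c₀ := by
  classical
  obtain ⟨v₀⟩ := hT.1.1
  have hno : ∀ C : Finset E, ¬ IsCircuit ends C := hT.2
  set f : E → ℝ := fun e => -(c e - if v₀ ∈ side ends e then c₀ else 0) with hf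
  refine ⟨fun v => bdR ends f v + if v = v₀ then c₀ else 0, ?_, ?_⟩
  · intro e
    rw [Finset.sum_add_distrib, sum_bdR]
    have h1 : ∑ v ∈ side ends e, (if v = v₀ then c₀ else 0) =
        if v₀ ∈ side ends e then c₀ else 0 := by
      rw [Finset.sum_ite_eq']
    rw [h1]
    have ha : (ends e).1 ∈ side ends e := (mem_side_iff ends e _).mpr Relation.ReflTransGen.refl
    have hb : (ends e).2 ∉ side ends e := by
      rw [mem_side_iff]
      intro h
      have h' := reachIn_symm ends _ h
      refine not_reachIn_of_no_circuit ends (Finset.univ.erase e) e (Finset.notMem_erase _ _)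
        (fun C _ => hno C) h'
    rw [Finset.sum_eq_single e]
    · rw [if_pos ha, if_neg hb]
      simp only [hf]
      ring
    · intro e' _ hne
      have he' : e' ∈ Finset.univ.erase e := Finset.mem_erase.mpr ⟨hne, Finset.mem_univ _⟩
      have hiff : (ends e').1 ∈ side ends e ↔ (ends e').2 ∈ side ends e := by
        rw [mem_side_iff, mem_side_iff]
        exact reachIn_ends ends _ _ he'
      by_cases h : (ends e').1 ∈ side ends e
      · rw [if_pos h, if_pos (hiff.mp h)]; ring
      · rw [if_neg h, if_neg (fun h' => h (hiff.mpr h'))]; ring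
    · intro h; exact absurd (Finset.mem_univ _) h
  · rw [Finset.sum_add_distrib, sum_bdR]
    simp

theorem existsUnique_sideSum (ends : E → V × V) (hT : IsTree ends) (c : E → ℝ) (c₀ : ℝ) :
    ∃! φ : V → ℝ, (∀ e : E, (∑ v ∈ side ends e, φ v) = c e) ∧ (∑ v : V, φ v) = c₀ := by
  classical
  obtain ⟨v₀⟩ := hT.1.1
  let Φ : (V → ℝ) →ₗ[ℝ] ((E → ℝ) × ℝ) :=
    LinearMap.prod (LinearMap.pi (fun e => ∑ v ∈ side ends e, LinearMap.proj v))
      (∑ v : V, LinearMap.proj v)
  have hΦ : ∀ φ : V → ℝ, Φ φ = (fun e => ∑ v ∈ side ends e, φ v, ∑ v : V, φ v) := by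
    intro φ
    refine Prod.ext ?_ ?_
    · funext e
      simp [Φ, LinearMap.sum_apply]
    · simp [Φ, LinearMap.sum_apply]
  have hsurj : Function.Surjective Φ := by
    rintro ⟨c', c₀'⟩
    obtain ⟨φ, h1, h2⟩ := exists_sideSum ends hT c' c₀'
    refine ⟨φ, ?_⟩
    rw [hΦ]
    exact Prod.ext (funext h1) h2
  have hcard : Fintype.card V = Fintype.card E + 1 := by
    rw [card_edges_of_isTree ends hT v₀]
    have := Fintype.card_subtype_compl (fun v : V => v = v₀)
    simp only [Fintype.card_subtype_eq] at this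
    have hpos : 0 < Fintype.card V := Fintype.card_pos_iff.mpr ⟨v₀⟩
    have h2 : Fintype.card {v // v ≠ v₀} = Fintype.card V - 1 := by
      convert this using 2
    omega
  have hfin : Module.finrank ℝ (V → ℝ) = Module.finrank ℝ ((E → ℝ) × ℝ) := by
    rw [Module.finrank_prod, Module.finrank_fintype_fun_eq_card, Module.finrank_fintype_fun_eq_card,
      Module.finrank_self, hcard]
  have hinj : Function.Injective Φ :=
    (LinearMap.injective_iff_surjective_of_finrank_eq_finrank hfin).mpr hsurj
  obtain ⟨φ, h1, h2⟩ := exists_sideSum ends hT c c₀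
  refine ⟨φ, ⟨h1, h2⟩, ?_⟩
  rintro φ' ⟨h1', h2'⟩
  apply hinj
  rw [hΦ, hΦ]
  exact Prod.ext (funext fun e => (h1' e).trans (h1 e).symm) (h2'.trans h2.symm)

end Groth.Agent.H74.TreeSide
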