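import Mathlib

/-!
# Linearizations of the trivial principal bundle in a cartesian monoidal category (helper74)

Formal (Yoneda-style) facts about `X ⊗ G` for a group object `G`.
-/

open CategoryTheory MonoidalCategory CartesianMonoidalCategory MonObj GrpObj

namespace Groth.Agent.H74.TrivBundle

universe v u
variable {C : Type u} [Category.{v} C] [CartesianMonoidalCategory C] {G X : C} [GrpObj G]

/-- Two maps out of a product agree if they agree on all points. -/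
theorem hom_ext_points {Y : C} (f f' : X ⊗ G ⟶ Y)
    (h : ∀ (T : C) (x : T ⟶ X) (g : T ⟶ G), lift x g ≫ f = lift x g ≫ f') : f = f' := by
  have := h (X ⊗ G) (fst X G) (snd X G)
  simpa using this

theorem comp_lift_id_one {T : C} (x : T ⟶ X) :
    x ≫ lift (𝟙 X) (1 : X ⟶ G) = lift x 1 := by
  rw [comp_lift, Category.comp_id, MonObj.comp_one]

/-- An equivariant endomorphism over `X` is left multiplication by a map `X ⟶ G`. -/
theorem endo_eq (Φ : X ⊗ G ⟶ X ⊗ G) (h₁ : Φ ≫ fst X G = fst X G)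
    (h₂ : ∀ (T : C) (x : T ⟶ X) (g h : T ⟶ G),
      lift x (g * h) ≫ Φ ≫ snd X G = (lift x g ≫ Φ ≫ snd X G) * h)
    (T : C) (x : T ⟶ X) (g : T ⟶ G) :
    lift x g ≫ Φ = lift x ((x ≫ (lift (𝟙 X) 1 ≫ Φ ≫ snd X G)) * g) := by
  apply CartesianMonoidalCategory.hom_ext
  · rw [Category.assoc, h₁, lift_fst, lift_fst]
  · rw [Category.assoc, lift_snd]
    have h := h₂ T x 1 g
    rw [_root_.one_mul] at h
    rw [h]
    congr 1
    rw [← Category.assoc x, comp_lift_id_one]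

/-- The map attached to `ψ : X ⟶ G`. -/
def mulLeft (ψ : X ⟶ G) : X ⊗ G ⟶ X ⊗ G := lift (fst X G) ((fst X G ≫ ψ) * snd X G)

theorem lift_mulLeft (ψ : X ⟶ G) (T : C) (x : T ⟶ X) (g : T ⟶ G) :
    lift x g ≫ mulLeft ψ = lift x ((x ≫ ψ) * g) := by
  unfold mulLeft
  rw [comp_lift, MonObj.comp_mul, lift_fst, lift_snd, ← Category.assoc, lift_fst]

theorem mulLeft_mulLeft (ψ ψ' : X ⟶ G) : mulLeft ψ ≫ mulLeft ψ' = mulLeft (ψ' * ψ) := by
  apply hom_ext_points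
  intro T x g
  rw [← Category.assoc, lift_mulLeft, lift_mulLeft, lift_mulLeft, MonObj.comp_mul, _root_.mul_assoc]

theorem mulLeft_one : mulLeft (1 : X ⟶ G) = 𝟙 (X ⊗ G) := by
  apply hom_ext_points
  intro T x g
  rw [lift_mulLeft, MonObj.comp_one, _root_.one_mul, Category.comp_id]

theorem isIso_mulLeft (ψ : X ⟶ G) : IsIso (mulLeft ψ) :=
  ⟨mulLeft ψ⁻¹, by rw [mulLeft_mulLeft, _root_.inv_mul_cancel, mulLeft_one],
    by rw [mulLeft_mulLeft, _root_.mul_inv_cancel, mulLeft_one]⟩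

section action

variable {Γ : Type*} [Group Γ] (ρ : Γ → (X ⟶ X)) (hρ₁ : ρ 1 = 𝟙 X)
  (hρ : ∀ σ τ : Γ, ρ (σ * τ) = ρ σ ≫ ρ τ)

include hρ₁ hρ in
/-- S14880: the linearization attached to a cocycle. -/
theorem linearization_of_cocycle (φ : Γ → (X ⟶ G))
    (hφ : ∀ σ τ : Γ, φ (σ * τ) = φ σ * (ρ σ ≫ φ τ))
    (lam : Γ → (X ⊗ G ⟶ X ⊗ G))
    (hlam : ∀ (σ : Γ) (T : C) (x : T ⟶ X) (g : T ⟶ G),
      lift x g ≫ lam σ = lift (x ≫ ρ σ) ((x ≫ φ σ)⁻¹ * g)) :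
    lam 1 = 𝟙 (X ⊗ G) ∧ (∀ σ τ : Γ, lam (σ * τ) = lam σ ≫ lam τ) ∧
      (∀ σ : Γ, lam σ ≫ fst X G = fst X G ≫ ρ σ) ∧
      ∀ (σ : Γ) (T : C) (x : T ⟶ X) (g h : T ⟶ G),
        lift x (g * h) ≫ lam σ ≫ snd X G = (lift x g ≫ lam σ ≫ snd X G) * h := by
  have hφ1 : φ 1 = 1 := by
    have h := hφ 1 1
    rw [_root_.mul_one, hρ₁, Category.id_comp] at h
    exact (_root_.mul_eq_left.mp h.symm)
  refine ⟨?_, ?_, ?_, ?_⟩
  · apply hom_ext_points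
    intro T x g
    rw [hlam, hρ₁, hφ1, Category.comp_id, MonObj.comp_one, _root_.inv_one, _root_.one_mul, Category.comp_id]
  · intro σ τ
    apply hom_ext_points
    intro T x g
    rw [← Category.assoc, hlam, hlam, hlam, hρ, hφ, MonObj.comp_mul, _root_.mul_inv_rev, _root_.mul_assoc,
      Category.assoc, Category.assoc]
  · intro σ
    apply hom_ext_points
    intro T x g
    rw [← Category.assoc, hlam, lift_fst, ← Category.assoc, lift_fst]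
  · intro σ T x g h
    rw [← Category.assoc, hlam, lift_snd, ← Category.assoc, hlam, lift_snd, _root_.mul_assoc]

include hρ₁ hρ in
/-- S14881: every linearization comes from exactly one cocycle. -/
theorem existsUnique_cocycle (lam : Γ → (X ⊗ G ⟶ X ⊗ G))
    (hlam : ∀ σ τ : Γ, lam (σ * τ) = lam σ ≫ lam τ)
    (hfst : ∀ σ : Γ, lam σ ≫ fst X G = fst X G ≫ ρ σ)
    (hG : ∀ (σ : Γ) (T : C) (x : T ⟶ X) (g h : T ⟶ G),
      lift x (g * h) ≫ lam σ ≫ snd X G = (lift x g ≫ lam σ ≫ snd X G) * h) :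
    ∃! φ : Γ → (X ⟶ G), (∀ σ τ : Γ, φ (σ * τ) = φ σ * (ρ σ ≫ φ τ)) ∧
      ∀ (σ : Γ) (T : C) (x : T ⟶ X) (g : T ⟶ G),
        lift x g ≫ lam σ = lift (x ≫ ρ σ) ((x ≫ φ σ)⁻¹ * g) := by
  set ψ : Γ → (X ⟶ G) := fun σ => lift (𝟙 X) 1 ≫ lam σ ≫ snd X G with hψ
  have hform : ∀ (σ : Γ) (T : C) (x : T ⟶ X) (g : T ⟶ G),
      lift x g ≫ lam σ = lift (x ≫ ρ σ) ((x ≫ ψ σ) * g) := by
    intro σ T x g
    apply CartesianMonoidalCategory.hom_ext
    · rw [Category.assoc, hfst, ← Category.assoc, lift_fst, lift_fst]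
    · rw [Category.assoc, lift_snd]
      have h := hG σ T x 1 g
      rw [_root_.one_mul] at h
      rw [h]
      congr 1
      simp only [hψ]
      rw [← Category.assoc x, comp_lift_id_one]
  refine ⟨fun σ => (ψ σ)⁻¹, ⟨?_, ?_⟩, ?_⟩
  · intro σ τ
    have e1 : lift (𝟙 X) (1 : X ⟶ G) ≫ lam σ = lift (ρ σ) (ψ σ) := by
      rw [hform σ, Category.id_comp, Category.id_comp, _root_.mul_one]
    have h1 : ψ (σ * τ) = (ρ σ ≫ ψ τ) * ψ σ := by
      calc ψ (σ * τ) = lift (𝟙 X) 1 ≫ lam (σ * τ) ≫ snd X G := rfl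
        _ = (lift (𝟙 X) 1 ≫ lam σ) ≫ lam τ ≫ snd X G := by
          rw [hlam]; simp only [Category.assoc]
        _ = (lift (ρ σ) (ψ σ) ≫ lam τ) ≫ snd X G := by rw [e1]; simp only [Category.assoc]
        _ = (ρ σ ≫ ψ τ) * ψ σ := by rw [hform τ, lift_snd]
    simp only
    rw [h1, _root_.mul_inv_rev, GrpObj.comp_inv]
  · intro σ T x g
    rw [hform]
    simp only
    rw [GrpObj.comp_inv, _root_.inv_inv]
  · intro φ' ⟨_, hφ'⟩
    funext σ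
    have h := hφ' σ X (𝟙 X) 1
    have h2 : ψ σ = (φ' σ)⁻¹ := by
      simp only [hψ]
      rw [← Category.assoc, h, lift_snd, Category.id_comp, _root_.mul_one]
    rw [h2, _root_.inv_inv]

/-- S14882: isomorphism of linearizations ⇔ cohomologous cocycles. -/
theorem iso_iff_cohomologous (φ φ' : Γ → (X ⟶ G))
    (lam lam' : Γ → (X ⊗ G ⟶ X ⊗ G))
    (hlam : ∀ (σ : Γ) (T : C) (x : T ⟶ X) (g : T ⟶ G),
      lift x g ≫ lam σ = lift (x ≫ ρ σ) ((x ≫ φ σ)⁻¹ * g))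
    (hlam' : ∀ (σ : Γ) (T : C) (x : T ⟶ X) (g : T ⟶ G),
      lift x g ≫ lam' σ = lift (x ≫ ρ σ) ((x ≫ φ' σ)⁻¹ * g)) :
    (∃ Φ : X ⊗ G ⟶ X ⊗ G, IsIso Φ ∧ Φ ≫ fst X G = fst X G ∧
      (∀ (T : C) (x : T ⟶ X) (g h : T ⟶ G),
        lift x (g * h) ≫ Φ ≫ snd X G = (lift x g ≫ Φ ≫ snd X G) * h) ∧
      ∀ σ : Γ, lam σ ≫ Φ = Φ ≫ lam' σ) ↔
    ∃ ψ : X ⟶ G, ∀ σ : Γ, φ σ = ψ⁻¹ * φ' σ * (ρ σ ≫ ψ) := by
  constructor
  · rintro ⟨Φ, -, h₁, h₂, hint⟩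
    set ψ : X ⟶ G := lift (𝟙 X) 1 ≫ Φ ≫ snd X G with hψ
    have hΦ := endo_eq Φ h₁ h₂
    refine ⟨ψ, fun σ => ?_⟩
    have hΦ' : ∀ (T : C) (x : T ⟶ X) (g : T ⟶ G), lift x g ≫ Φ = lift x ((x ≫ ψ) * g) := hΦ
    have e1 : lift (𝟙 X) (1 : X ⟶ G) ≫ lam σ = lift (ρ σ) ((φ σ)⁻¹) := by
      rw [hlam, Category.id_comp, Category.id_comp, _root_.mul_one]
    have e2 : lift (𝟙 X) (1 : X ⟶ G) ≫ Φ = lift (𝟙 X) ψ := by
      rw [hΦ', Category.id_comp, _root_.mul_one]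
    have h : (ρ σ ≫ ψ) * (φ σ)⁻¹ = (φ' σ)⁻¹ * ψ := by
      calc (ρ σ ≫ ψ) * (φ σ)⁻¹ = (lift (ρ σ) ((φ σ)⁻¹) ≫ Φ) ≫ snd X G := by
            rw [hΦ', lift_snd]
        _ = lift (𝟙 X) (1 : X ⟶ G) ≫ (lam σ ≫ Φ) ≫ snd X G := by
            rw [← e1]; simp only [Category.assoc]
        _ = (lift (𝟙 X) ψ ≫ lam' σ) ≫ snd X G := by
            rw [hint σ, ← e2]; simp only [Category.assoc]
        _ = (φ' σ)⁻¹ * ψ := by
            rw [hlam', lift_snd, Category.id_comp]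
    -- h : (ρ σ ≫ ψ) * (φ σ)⁻¹ = (φ' σ)⁻¹ * ψ
    have h3 : φ σ = ψ⁻¹ * φ' σ * (ρ σ ≫ ψ) := by
      have h4 : (ρ σ ≫ ψ) = (φ' σ)⁻¹ * ψ * φ σ := by
        rw [← h, _root_.inv_mul_cancel_right]
      rw [h4]
      group
    exact h3
  · rintro ⟨ψ, hψ⟩
    refine ⟨mulLeft ψ, isIso_mulLeft ψ, ?_, ?_, ?_⟩
    · unfold mulLeft
      rw [lift_fst]
    · intro T x g h
      rw [← Category.assoc, lift_mulLeft, lift_snd, ← Category.assoc, lift_mulLeft, lift_snd,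
        _root_.mul_assoc]
    · intro σ
      apply hom_ext_points
      intro T x g
      rw [← Category.assoc, hlam, lift_mulLeft, ← Category.assoc, lift_mulLeft, hlam', hψ σ,
        Category.assoc]
      congr 1
      rw [MonObj.comp_mul, MonObj.comp_mul, GrpObj.comp_inv]
      group

end action

end Groth.Agent.H74.TrivBundle
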