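import Groth.Agent.H74.MorDescent
import Mathlib.AlgebraicGeometry.Morphisms.UniversallyInjective
import Mathlib.AlgebraicGeometry.Morphisms.Integral
import Mathlib.RingTheory.Kaehler.Basic

/-!
# Weak subintegral closure: the elementwise criterion (helper library, helper74)

For an integral ring extension `A ⊆ B` and a subalgebra `D ⊆ B`, `Spec D ⟶ Spec A` is a universal
homeomorphism iff `d ⊗ 1 - 1 ⊗ d` is nilpotent in `B ⊗[A] B` for every `d ∈ D`.
-/

set_option autoImplicit false

universe u

open CategoryTheory CategoryTheory.Limits AlgebraicGeometry TensorProduct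

namespace Groth.Agent.H74.WeakSubint

section Ring

variable {R S : Type u} [CommRing R] [CommRing S]

/-- `Spec` of a surjective ring map with nil kernel is surjective. -/
theorem surjective_SpecMap_of_ker_le_nilradical (φ : R →+* S) (hφ : Function.Surjective φ)
    (hker : RingHom.ker φ ≤ nilradical R) : Surjective (Spec.map (CommRingCat.ofHom φ)) := by
  constructor
  intro P
  have hP : RingHom.ker φ ≤ P.asIdeal := hker.trans (by
    rw [nilradical_eq_sInf]; exact sInf_le P.isPrime)
  have : P ∈ Set.range (PrimeSpectrum.comap φ) := by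
    rw [range_comap_of_surjective _ _ hφ]
    exact hP
  obtain ⟨Q, hQ⟩ := this
  exact ⟨Q, hQ⟩

/-- If `Spec φ` is surjective then the kernel of `φ` is nil. -/
theorem ker_le_nilradical_of_surjective_SpecMap (φ : R →+* S)
    (h : Surjective (Spec.map (CommRingCat.ofHom φ))) : RingHom.ker φ ≤ nilradical R := by
  intro x hx
  rw [mem_nilradical, nilpotent_iff_mem_prime]
  intro J hJ
  obtain ⟨Q, hQ⟩ := h.surj (⟨J, hJ⟩ : PrimeSpectrum R)
  have : J = Ideal.comap φ Q.asIdeal := congrArg PrimeSpectrum.asIdeal hQ.symm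
  rw [this, Ideal.mem_comap, (RingHom.mem_ker).mp hx]
  exact zero_mem _

/-- Nilpotency can be tested after a ring map which is surjective on spectra. -/
theorem isNilpotent_of_map_of_surjective_SpecMap (φ : R →+* S)
    (h : Surjective (Spec.map (CommRingCat.ofHom φ))) (x : R) (hx : IsNilpotent (φ x)) :
    IsNilpotent x := by
  rw [nilpotent_iff_mem_prime]
  intro J hJ
  obtain ⟨Q, hQ⟩ := h.surj (⟨J, hJ⟩ : PrimeSpectrum R)
  have : J = Ideal.comap φ Q.asIdeal := congrArg PrimeSpectrum.asIdeal hQ.symm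
  rw [this, Ideal.mem_comap]
  exact (nilpotent_iff_mem_prime.mp hx) _ Q.isPrime

end Ring

section Subalg

variable {A B : Type u} [CommRing A] [CommRing B] [Algebra A B]

/-- The map `D ⊗[A] D → B ⊗[A] B` induced by the inclusion of a subalgebra. -/
noncomputable def tmap (D : Subalgebra A B) : D ⊗[A] D →ₐ[A] B ⊗[A] B :=
  Algebra.TensorProduct.map D.val D.val

@[simp] theorem tmap_tmul (D : Subalgebra A B) (x y : D) :
    tmap D (x ⊗ₜ[A] y) = (x : B) ⊗ₜ[A] (y : B) := rfl

theorem surjective_SpecMap_algebraMap [Algebra.IsIntegral A B] (D : Subalgebra A B) :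
    Surjective (Spec.map (CommRingCat.ofHom (algebraMap D B))) := by
  have : Algebra.IsIntegral D B := Algebra.IsIntegral.tower_top (R := A)
  have : FaithfulSMul D B := (faithfulSMul_iff_algebraMap_injective D B).mpr
    Subtype.val_injective
  constructor
  intro P
  obtain ⟨Q, hQ⟩ := Algebra.IsIntegral.comap_surjective D B P
  exact ⟨Q, hQ⟩

theorem surjective_SpecMap_tmap [Algebra.IsIntegral A B] (D : Subalgebra A B) :
    Surjective (Spec.map (CommRingCat.ofHom (tmap D).toRingHom)) := by
  have hg : Surjective (Spec.map (CommRingCat.ofHom (algebraMap D B))) :=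
    surjective_SpecMap_algebraMap D
  have e₁ : Spec.map (CommRingCat.ofHom (algebraMap A B)) =
      Spec.map (CommRingCat.ofHom (algebraMap D B)) ≫
        Spec.map (CommRingCat.ofHom (algebraMap A D)) := by
    simp only [← Spec.map_comp, ← CommRingCat.ofHom_comp]
    rw [IsScalarTower.algebraMap_eq A D B]
  have hpm : Surjective (pullback.map (Spec.map (CommRingCat.ofHom (algebraMap A B)))
      (Spec.map (CommRingCat.ofHom (algebraMap A B)))
      (Spec.map (CommRingCat.ofHom (algebraMap A D)))
      (Spec.map (CommRingCat.ofHom (algebraMap A D)))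
      (Spec.map (CommRingCat.ofHom (algebraMap D B)))
      (Spec.map (CommRingCat.ofHom (algebraMap D B))) (𝟙 _) ((Category.comp_id _).trans e₁)
      ((Category.comp_id _).trans e₁)) :=
    MorphismProperty.pullbackMap (P := @Surjective) hg hg e₁ e₁
  have key : Spec.map (CommRingCat.ofHom (tmap D).toRingHom) ≫ (pullbackSpecIso A D D).inv =
      (pullbackSpecIso A B B).inv ≫ pullback.map (Spec.map (CommRingCat.ofHom (algebraMap A B)))
      (Spec.map (CommRingCat.ofHom (algebraMap A B)))
      (Spec.map (CommRingCat.ofHom (algebraMap A D)))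
      (Spec.map (CommRingCat.ofHom (algebraMap A D)))
      (Spec.map (CommRingCat.ofHom (algebraMap D B)))
      (Spec.map (CommRingCat.ofHom (algebraMap D B))) (𝟙 _) ((Category.comp_id _).trans e₁)
      ((Category.comp_id _).trans e₁) := by
    apply pullback.hom_ext
    · simp only [Category.assoc, pullbackSpecIso_inv_fst, pullback.lift_fst,
        pullbackSpecIso_inv_fst_assoc, ← Spec.map_comp, ← CommRingCat.ofHom_comp]
      congr 2
    · simp only [Category.assoc, pullbackSpecIso_inv_snd, pullback.lift_snd,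
        pullbackSpecIso_inv_snd_assoc, ← Spec.map_comp, ← CommRingCat.ofHom_comp]
      congr 2
  have h1 : Surjective (Spec.map (CommRingCat.ofHom (tmap D).toRingHom) ≫
      (pullbackSpecIso A D D).inv) := by
    rw [key]; infer_instance
  have : Spec.map (CommRingCat.ofHom (tmap D).toRingHom) =
      (Spec.map (CommRingCat.ofHom (tmap D).toRingHom) ≫ (pullbackSpecIso A D D).inv) ≫
        (pullbackSpecIso A D D).hom := by simp
  rw [this]; infer_instance

/-- If `Spec D ⟶ Spec A` is a universal homeomorphism, then `d ⊗ 1 - 1 ⊗ d` is nilpotent in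
`B ⊗[A] B` for all `d ∈ D`. -/
theorem isNilpotent_of_isUnivHomeo (D : Subalgebra A B)
    (h : FlatMor.IsUnivHomeo (Spec.map (CommRingCat.ofHom (algebraMap A D)))) (d : D) :
    IsNilpotent ((d : B) ⊗ₜ[A] (1 : B) - (1 : B) ⊗ₜ[A] (d : B)) := by
  have hUI : UniversallyInjective (Spec.map (CommRingCat.ofHom (algebraMap A D))) :=
    ((MorDescent.isUnivHomeo_iff _).mp h).1
  have hdiag : Surjective (pullback.diagonal (Spec.map (CommRingCat.ofHom (algebraMap A D)))) :=
    (UniversallyInjective.iff_diagonal _).mp hUI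
  rw [diagonal_SpecMap] at hdiag
  have hs : Surjective (Spec.map (CommRingCat.ofHom
      (Algebra.TensorProduct.lmul' A : D ⊗[A] D →ₐ[A] D).toRingHom)) := by
    have : Spec.map (CommRingCat.ofHom
        (Algebra.TensorProduct.lmul' A : D ⊗[A] D →ₐ[A] D).toRingHom) =
        (Spec.map (CommRingCat.ofHom
          (Algebra.TensorProduct.lmul' A : D ⊗[A] D →ₐ[A] D).toRingHom) ≫
          (pullbackSpecIso A D D).inv) ≫ (pullbackSpecIso A D D).hom := by simp
    rw [this]; infer_instance
  have hker := ker_le_nilradical_of_surjective_SpecMap _ hs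
  have hx : (d ⊗ₜ[A] (1 : D) - (1 : D) ⊗ₜ[A] d) ∈
      RingHom.ker (Algebra.TensorProduct.lmul' A : D ⊗[A] D →ₐ[A] D).toRingHom := by
    simp [RingHom.mem_ker]
  have h1 : IsNilpotent (d ⊗ₜ[A] (1 : D) - (1 : D) ⊗ₜ[A] d) := mem_nilradical.mp (hker hx)
  have h2 := h1.map (tmap D)
  simpa using h2

/-- If `d ⊗ 1 - 1 ⊗ d` is nilpotent in `B ⊗[A] B` for all `d ∈ D`, with `A ⊆ B` integral,
then `Spec D ⟶ Spec A` is a universal homeomorphism. -/
theorem isUnivHomeo_of_isNilpotent [Algebra.IsIntegral A B]
    (hinj : Function.Injective (algebraMap A B)) (D : Subalgebra A B)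
    (h : ∀ d : D, IsNilpotent ((d : B) ⊗ₜ[A] (1 : B) - (1 : B) ⊗ₜ[A] (d : B))) :
    FlatMor.IsUnivHomeo (Spec.map (CommRingCat.ofHom (algebraMap A D))) := by
  have hint : Algebra.IsIntegral A D :=
    ⟨fun d => (isIntegral_algHom_iff D.val Subtype.val_injective).mp
      (Algebra.IsIntegral.isIntegral (d : B))⟩
  have hinjD : Function.Injective (algebraMap A D) := by
    intro x y hxy
    apply hinj
    have := congrArg (algebraMap D B) hxy
    rwa [← IsScalarTower.algebraMap_apply, ← IsScalarTower.algebraMap_apply] at this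
  have : FaithfulSMul A D := (faithfulSMul_iff_algebraMap_injective A D).mpr hinjD
  have h1 : IsIntegralHom (Spec.map (CommRingCat.ofHom (algebraMap A D))) :=
    IsIntegralHom.SpecMap_iff.mpr (algebraMap_isIntegral_iff.mpr hint)
  have h2 : Surjective (Spec.map (CommRingCat.ofHom (algebraMap A D))) := by
    constructor
    intro P
    obtain ⟨Q, hQ⟩ := Algebra.IsIntegral.comap_surjective A D P
    exact ⟨Q, hQ⟩
  have h3 : UniversallyInjective (Spec.map (CommRingCat.ofHom (algebraMap A D))) := by
    rw [UniversallyInjective.iff_diagonal, diagonal_SpecMap]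
    have hker : RingHom.ker (Algebra.TensorProduct.lmul' A : D ⊗[A] D →ₐ[A] D).toRingHom ≤
        nilradical (D ⊗[A] D) := by
      change KaehlerDifferential.ideal A D ≤ _
      rw [← KaehlerDifferential.span_range_eq_ideal, Ideal.span_le]
      rintro _ ⟨s, rfl⟩
      change _ ∈ nilradical _
      rw [mem_nilradical]
      apply isNilpotent_of_map_of_surjective_SpecMap (tmap D).toRingHom
        (surjective_SpecMap_tmap D)
      have := (h s).neg
      simpa using this
    have : Surjective (Spec.map (CommRingCat.ofHom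
        (Algebra.TensorProduct.lmul' A : D ⊗[A] D →ₐ[A] D).toRingHom)) :=
      surjective_SpecMap_of_ker_le_nilradical _
        (fun x => ⟨x ⊗ₜ[A] 1, by simp⟩) hker
    infer_instance
  exact FrobBasic.isUnivHomeo_of _

variable (A B) in
/-- The subalgebra of those `x ∈ B` with `x ⊗ 1 - 1 ⊗ x` nilpotent in `B ⊗[A] B`. -/
def nilSub : Subalgebra A B where
  carrier := {x | x ⊗ₜ[A] (1 : B) - (1 : B) ⊗ₜ[A] x ∈ nilradical (B ⊗[A] B)}
  mul_mem' := by
    intro x y hx hy
    have : (x * y) ⊗ₜ[A] (1 : B) - (1 : B) ⊗ₜ[A] (x * y) =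
        (x ⊗ₜ[A] (1 : B)) * (y ⊗ₜ[A] (1 : B) - (1 : B) ⊗ₜ[A] y) +
          ((1 : B) ⊗ₜ[A] y) * (x ⊗ₜ[A] (1 : B) - (1 : B) ⊗ₜ[A] x) := by
      simp only [mul_sub, Algebra.TensorProduct.tmul_mul_tmul, mul_one, one_mul]
      rw [mul_comm y x]
      abel
    change _ ∈ nilradical _
    rw [this]
    exact add_mem (Ideal.mul_mem_left _ _ hy) (Ideal.mul_mem_left _ _ hx)
  one_mem' := by
    change _ ∈ nilradical _
    simp
  add_mem' := by
    intro x y hx hy
    have : (x + y) ⊗ₜ[A] (1 : B) - (1 : B) ⊗ₜ[A] (x + y) =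
        (x ⊗ₜ[A] (1 : B) - (1 : B) ⊗ₜ[A] x) + (y ⊗ₜ[A] (1 : B) - (1 : B) ⊗ₜ[A] y) := by
      rw [TensorProduct.add_tmul, TensorProduct.tmul_add]
      abel
    change _ ∈ nilradical _
    rw [this]
    exact add_mem hx hy
  zero_mem' := by
    change _ ∈ nilradical _
    simp
  algebraMap_mem' := by
    intro r
    change _ ∈ nilradical _
    have : (algebraMap A B r) ⊗ₜ[A] (1 : B) - (1 : B) ⊗ₜ[A] (algebraMap A B r) = 0 := by
      rw [Algebra.algebraMap_eq_smul_one, TensorProduct.smul_tmul, sub_self]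
    rw [this]
    exact zero_mem _

theorem mem_nilSub {x : B} :
    x ∈ nilSub A B ↔ IsNilpotent (x ⊗ₜ[A] (1 : B) - (1 : B) ⊗ₜ[A] x) := by
  change _ ∈ nilradical _ ↔ _
  rw [mem_nilradical]

theorem isUnivHomeo_nilSub [Algebra.IsIntegral A B] (hinj : Function.Injective (algebraMap A B)) :
    FlatMor.IsUnivHomeo (Spec.map (CommRingCat.ofHom (algebraMap A (nilSub A B)))) :=
  isUnivHomeo_of_isNilpotent hinj _ (fun d => mem_nilSub.mp d.2)

end Subalg

end Groth.Agent.H74.WeakSubint
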